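import Mathlib.LinearAlgebra.Isomorphisms
import Mathlib.Algebra.Exact.Basic

/-!
# Abstract comparison of two effaceable cohomological families (helper8)

`A i X`, `B i X` are modules over a common ring `S`, indexed by degrees `i` and "objects" `X : Obj`.
Each object `X` comes with an effacing sequence `X ↪ E X ↠ Q X`; only the following pieces of the
long exact sequences are needed: the maps `α i X : A i (E X) → A i (Q X)` and the connecting maps
`δ i X : A i (Q X) → A (i+1) X`, with `δ` surjective (as `A (i+1) (E X) = 0`), `ker δ = range α`,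
and `δ` injective in positive degrees (as `A i (E X) = 0` for `i > 0`).
-/

universe v w

namespace Groth.Agent.Helper8.LC

section Abstract

variable {S : Type*} [CommRing S] {Obj : Type w}
  (A B : ℕ → Obj → Type v)
  [∀ i X, AddCommGroup (A i X)] [∀ i X, Module S (A i X)]
  [∀ i X, AddCommGroup (B i X)] [∀ i X, Module S (B i X)]
  (E Q : Obj → Obj)
  (αA : ∀ i X, A i (E X) →ₗ[S] A i (Q X)) (δA : ∀ i X, A i (Q X) →ₗ[S] A (i + 1) X)
  (αB : ∀ i X, B i (E X) →ₗ[S] B i (Q X)) (δB : ∀ i X, B i (Q X) →ₗ[S] B (i + 1) X)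

theorem exists_equiv_of_effaceable
    (hA1 : ∀ X, Function.Exact (αA 0 X) (δA 0 X))
    (hA2 : ∀ i X, Function.Surjective (δA i X))
    (hA3 : ∀ i X, 0 < i → Function.Injective (δA i X))
    (hB1 : ∀ X, Function.Exact (αB 0 X) (δB 0 X))
    (hB2 : ∀ i X, Function.Surjective (δB i X))
    (hB3 : ∀ i X, 0 < i → Function.Injective (δB i X))
    (φ₀ : ∀ X, A 0 X ≃ₗ[S] B 0 X)
    (hφ : ∀ X x, φ₀ (Q X) (αA 0 X x) = αB 0 X (φ₀ (E X) x)) :
    ∀ i X, Nonempty (A i X ≃ₗ[S] B i X) := by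
  intro i
  induction i with
  | zero => exact fun X => ⟨φ₀ X⟩
  | succ i ih =>
    intro X
    rcases Nat.eq_zero_or_pos i with rfl | hi
    · -- degree one: cokernels
      have eA : (A 0 (Q X) ⧸ LinearMap.ker (δA 0 X)) ≃ₗ[S] A (0 + 1) X :=
        LinearMap.quotKerEquivOfSurjective _ (hA2 0 X)
      have eB : (B 0 (Q X) ⧸ LinearMap.ker (δB 0 X)) ≃ₗ[S] B (0 + 1) X :=
        LinearMap.quotKerEquivOfSurjective _ (hB2 0 X)
      have hkA : LinearMap.ker (δA 0 X) = LinearMap.range (αA 0 X) :=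
        (LinearMap.exact_iff.mp (hA1 X))
      have hkB : LinearMap.ker (δB 0 X) = LinearMap.range (αB 0 X) :=
        (LinearMap.exact_iff.mp (hB1 X))
      have hmap : (LinearMap.ker (δA 0 X)).map ((φ₀ (Q X) : A 0 (Q X) ≃ₗ[S] B 0 (Q X)) :
          A 0 (Q X) →ₗ[S] B 0 (Q X)) = LinearMap.ker (δB 0 X) := by
        rw [hkA, hkB]
        ext y
        constructor
        · rintro ⟨_, ⟨x, rfl⟩, rfl⟩
          exact ⟨φ₀ (E X) x, (hφ X x).symm⟩
        · rintro ⟨x, rfl⟩
          refine ⟨αA 0 X ((φ₀ (E X)).symm x), ⟨_, rfl⟩, ?_⟩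
          change φ₀ (Q X) _ = _
          rw [hφ, LinearEquiv.apply_symm_apply]
      exact ⟨eA.symm.trans ((Submodule.Quotient.equiv _ _ (φ₀ (Q X)) hmap).trans eB)⟩
    · have eA : A i (Q X) ≃ₗ[S] A (i + 1) X :=
        LinearEquiv.ofBijective (δA i X) ⟨hA3 i X hi, hA2 i X⟩
      have eB : B i (Q X) ≃ₗ[S] B (i + 1) X :=
        LinearEquiv.ofBijective (δB i X) ⟨hB3 i X hi, hB2 i X⟩
      obtain ⟨e⟩ := ih (Q X)
      exact ⟨eA.symm.trans (e.trans eB)⟩

end Abstract

end Groth.Agent.Helper8.LC
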