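import Groth.Agent.Lib.Helper8.LCBase
import Groth.Agent.Lib.Helper8.LCDelta

/-!
# Independence of the base ring for local cohomology (helper8)
-/

open CategoryTheory CategoryTheory.Limits Opposite Abelian Pointwise
universe u

namespace Groth.Agent.Helper8.LC

section InjEmb

/-- a chosen embedding into an injective module -/
structure InjEmb (R' : Type u) [CommRing R'] (N : Type u) [AddCommGroup N] [Module R' N] where
  E : Type u
  [acg : AddCommGroup E]
  [mod : Module R' E]
  [inj : Module.Injective R' E]
  f : N →ₗ[R'] E
  hf : Function.Injective f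

attribute [instance] InjEmb.acg InjEmb.mod InjEmb.inj

theorem nonempty_injEmb (R' : Type u) [CommRing R'] (N : Type u) [AddCommGroup N] [Module R' N] :
    Nonempty (InjEmb R' N) := by
  obtain ⟨E, _, _, _, f, hf⟩ := exists_injective_embedding (R := R') N
  exact ⟨⟨E, f, hf⟩⟩

/-- the chosen embedding -/
noncomputable def injEmb (R' : Type u) [CommRing R'] (N : Type u) [AddCommGroup N] [Module R' N] :
    InjEmb R' N := Classical.choice (nonempty_injEmb R' N)

end InjEmb

section Indep

variable (R : Type u) [CommRing R] (R' : Type u) [CommRing R'] [Algebra R R']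

/-- modules over `R'` with a compatible `R`-module structure -/
structure BMod where
  carrier : Type u
  [acg : AddCommGroup carrier]
  [modR' : Module R' carrier]
  [modR : Module R carrier]
  [tower : IsScalarTower R R' carrier]

attribute [instance] BMod.acg BMod.modR' BMod.modR BMod.tower

variable {R R'}

/-- the injective envelope object -/
noncomputable def BMod.E (X : BMod R R') : BMod R R' :=
  letI : Module R (injEmb R' X.carrier).E := Module.compHom _ (algebraMap R R')
  haveI : IsScalarTower R R' (injEmb R' X.carrier).E :=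
    ⟨fun r r' e => by
      change (r • r') • e = algebraMap R R' r • r' • e
      rw [Algebra.smul_def, mul_smul]⟩
  { carrier := (injEmb R' X.carrier).E }

instance (X : BMod R R') : Module.Injective R' X.E.carrier :=
  inferInstanceAs (Module.Injective R' (injEmb R' X.carrier).E)

/-- the embedding `X → E X` -/
noncomputable def BMod.emb (X : BMod R R') : X.carrier →ₗ[R'] X.E.carrier :=
  (injEmb R' X.carrier).f

theorem BMod.emb_injective (X : BMod R R') : Function.Injective X.emb :=
  (injEmb R' X.carrier).hf

/-- the cokernel object -/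
noncomputable def BMod.Q (X : BMod R R') : BMod R R' where
  carrier := X.E.carrier ⧸ LinearMap.range X.emb

/-- the projection `E X → Q X` -/
noncomputable def BMod.proj (X : BMod R R') : X.E.carrier →ₗ[R'] X.Q.carrier :=
  (LinearMap.range X.emb).mkQ

theorem BMod.isSES (X : BMod R R') : IsSES X.emb X.proj :=
  isSES_of_injective X.emb_injective

theorem BMod.isSES_restrict (X : BMod R R') :
    IsSES (X.emb.restrictScalars R) (X.proj.restrictScalars R) where
  inj := X.emb_injective
  exact := fun x => X.isSES.exact x
  surj := X.isSES.surj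

variable (I : Ideal R)

/-- `H^i_{IR'}(X)` regarded as an `R`-module -/
def HA (i : ℕ) (X : BMod R R') : Type u := H (I.map (algebraMap R R')) i X.carrier

noncomputable instance (i : ℕ) (X : BMod R R') : AddCommGroup (HA I i X) :=
  inferInstanceAs (AddCommGroup (H (I.map (algebraMap R R')) i X.carrier))

noncomputable instance (i : ℕ) (X : BMod R R') : Module R' (HA I i X) :=
  inferInstanceAs (Module R' (H (I.map (algebraMap R R')) i X.carrier))

noncomputable instance (i : ℕ) (X : BMod R R') : Module R (HA I i X) :=
  Module.compHom _ (algebraMap R R')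

theorem HA_smul_def (i : ℕ) (X : BMod R R') (r : R) (x : HA I i X) :
    r • x = algebraMap R R' r • x := rfl

/-- the identity `HA → H` -/
def HA.toH {i : ℕ} {X : BMod R R'} (x : HA I i X) : H (I.map (algebraMap R R')) i X.carrier := x

/-- restriction of scalars for linear maps between the `HA` -/
noncomputable def restrictHA {i j : ℕ} {X Y : BMod R R'}
    (φ : H (I.map (algebraMap R R')) i X.carrier →ₗ[R'] H (I.map (algebraMap R R')) j Y.carrier) :
    HA I i X →ₗ[R] HA I j Y where
  toFun := φ
  map_add' := φ.map_add
  map_smul' := fun r x => φ.map_smul (algebraMap R R' r) x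

theorem mem_gam_map_iff (X : BMod R R') (m : X.carrier) :
    m ∈ gam (I.map (algebraMap R R')) X.carrier ↔ m ∈ gam I X.carrier := by
  constructor
  · rintro ⟨n, hn⟩
    refine ⟨n, fun a ha => ?_⟩
    rw [← algebraMap_smul R' a m]
    apply hn
    rw [← Ideal.map_pow]
    exact Ideal.mem_map_of_mem _ ha
  · rintro ⟨n, hn⟩
    refine ⟨n, fun c hc => ?_⟩
    rw [← Ideal.map_pow] at hc
    refine Submodule.span_induction ?_ ?_ ?_ ?_ hc
    · rintro _ ⟨a, ha, rfl⟩
      rw [algebraMap_smul]
      exact hn a ha
    · exact zero_smul _ _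
    · intro x y _ _ hx hy
      rw [add_smul, hx, hy, add_zero]
    · intro r' x _ hx
      rw [smul_eq_mul, mul_smul, hx, smul_zero]

/-- the underlying element of `X` of a class in `H⁰_{IR'}(X)` -/
noncomputable def HA.val0 {X : BMod R R'} (x : HA I 0 X) : X.carrier :=
  (H0Equiv (I.map (algebraMap R R')) X.carrier x.toH : X.carrier)

theorem HA.val0_add {X : BMod R R'} (x y : HA I 0 X) :
    (x + y).val0 = x.val0 + y.val0 :=
  congrArg Subtype.val (map_add (H0Equiv (I.map (algebraMap R R')) X.carrier) x.toH y.toH)

theorem HA.val0_smul {X : BMod R R'} (r : R) (x : HA I 0 X) :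
    (r • x).val0 = r • x.val0 := by
  have h := congrArg Subtype.val
    (map_smul (H0Equiv (I.map (algebraMap R R')) X.carrier) (algebraMap R R' r) x.toH)
  refine Eq.trans h ?_
  exact algebraMap_smul R' r _

theorem HA.val0_mem {X : BMod R R'} (x : HA I 0 X) : x.val0 ∈ gam I X.carrier :=
  (mem_gam_map_iff I X _).mp (H0Equiv (I.map (algebraMap R R')) X.carrier x.toH).2

theorem HA.val0_injective {X : BMod R R'} : Function.Injective (HA.val0 I (X := X)) := by
  intro x y h
  exact (H0Equiv (I.map (algebraMap R R')) X.carrier).injective (Subtype.ext h)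

theorem HA.val0_surjective {X : BMod R R'} (m : X.carrier) (hm : m ∈ gam I X.carrier) :
    ∃ x : HA I 0 X, x.val0 = m := by
  refine ⟨(H0Equiv (I.map (algebraMap R R')) X.carrier).symm
    ⟨m, (mem_gam_map_iff I X _).mpr hm⟩, ?_⟩
  change ((H0Equiv (I.map (algebraMap R R')) X.carrier
    ((H0Equiv (I.map (algebraMap R R')) X.carrier).symm ⟨m, _⟩) : _) : X.carrier) = m
  rw [LinearEquiv.apply_symm_apply]

/-- the degree-zero comparison -/
noncomputable def phi0 (X : BMod R R') : HA I 0 X ≃ₗ[R] H I 0 X.carrier :=
  (LinearEquiv.ofBijective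
    ({ toFun := fun x => ⟨x.val0, x.val0_mem I⟩
       map_add' := fun x y => Subtype.ext (HA.val0_add I x y)
       map_smul' := fun r x => Subtype.ext (HA.val0_smul I r x) } : HA I 0 X →ₗ[R] gam I X.carrier)
    ⟨fun x y h => HA.val0_injective I
        (show HA.val0 I x = HA.val0 I y from congrArg (fun t : gam I X.carrier => (t : X.carrier)) h),
      fun ⟨m, hm⟩ => by
        obtain ⟨x, hx⟩ := HA.val0_surjective I m hm
        exact ⟨x, Subtype.ext hx⟩⟩).trans (H0Equiv I X.carrier).symm

theorem phi0_val (X : BMod R R') (x : HA I 0 X) :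
    (H0Equiv I X.carrier (phi0 I X x) : X.carrier) = x.val0 := by
  unfold phi0
  simp only [LinearEquiv.trans_apply, LinearEquiv.apply_symm_apply]
  rfl

variable [IsNoetherianRing R] [IsNoetherianRing R']

theorem exists_equiv_base (i : ℕ) (X : BMod R R') :
    Nonempty (HA I i X ≃ₗ[R] H I i X.carrier) := by
  refine exists_equiv_of_effaceable (S := R) (Obj := BMod R R')
    (fun i X => HA I i X) (fun i X => H I i X.carrier) BMod.E BMod.Q
    (fun i X => restrictHA I (Hmap (I.map (algebraMap R R')) i X.proj))
    (fun i X => restrictHA I (Hδ (I.map (algebraMap R R')) i X.isSES))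
    (fun i X => Hmap I i (X.proj.restrictScalars R))
    (fun i X => Hδ I i X.isSES_restrict)
    ?_ ?_ ?_ ?_ ?_ ?_ (phi0 I) ?_ i X
  · intro X
    exact X.isSES.exact_Hmap_δ (I.map (algebraMap R R')) 0
  · intro i X
    have : Subsingleton (H (I.map (algebraMap R R')) (i + 1) X.E.carrier) :=
      H_subsingleton_of_injective _ (i + 1) _ (by omega)
    exact X.isSES.δ_surjective (I.map (algebraMap R R')) i
  · intro i X hi
    have : Subsingleton (H (I.map (algebraMap R R')) i X.E.carrier) :=
      H_subsingleton_of_injective _ i _ hi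
    exact X.isSES.δ_injective (I.map (algebraMap R R')) i
  · intro X
    exact X.isSES_restrict.exact_Hmap_δ I 0
  · intro i X
    have : Subsingleton (H I (i + 1) X.E.carrier) :=
      H_subsingleton_of_injective_over (R' := R') I _ (i + 1) (by omega)
    exact X.isSES_restrict.δ_surjective I i
  · intro i X hi
    have : Subsingleton (H I i X.E.carrier) :=
      H_subsingleton_of_injective_over (R' := R') I _ i hi
    exact X.isSES_restrict.δ_injective I i
  · intro X x
    apply (H0Equiv I X.Q.carrier).injective
    apply Subtype.ext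
    rw [phi0_val, H0Equiv_naturality, phi0_val]
    exact H0Equiv_naturality (I.map (algebraMap R R')) X.proj x.toH

end Indep

end Groth.Agent.Helper8.LC
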