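import Groth.Agent.Lib.Helper8.LCLes3

/-!
# `H^1_{(b)}(N) ≃ coker(N → N_b)` (helper8)
-/

open CategoryTheory CategoryTheory.Limits Opposite Abelian
universe u

namespace Groth.Agent.Helper8.LC

variable {R : Type u} [CommRing R]

/-- transport along an equality of ideals -/
noncomputable def HcongrIdeal {I J : Ideal R} (h : I = J) (i : ℕ) (M : Type u) [AddCommGroup M]
    [Module R M] : H I i M ≃ₗ[R] H J i M := by
  subst h
  exact LinearEquiv.refl _ _

theorem gam_bot (N : Type u) [AddCommGroup N] [Module R N] : gam (⊥ : Ideal R) N = ⊤ := by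
  rw [eq_top_iff]
  intro m _
  refine ⟨1, fun c hc => ?_⟩
  rw [pow_one, Ideal.mem_bot] at hc
  rw [hc, zero_smul]

/-- `H⁰_0(N) ≃ N` -/
noncomputable def HBotZeroEquiv (N : Type u) [AddCommGroup N] [Module R N] :
    H (⊥ : Ideal R) 0 N ≃ₗ[R] N :=
  ((H0Equiv ⊥ N).trans (LinearEquiv.ofEq _ _ (gam_bot N))).trans Submodule.topEquiv

variable [IsNoetherianRing R]

/-- `coker(N → N_b) ≃ H^1_{(b)}(N)` -/
theorem nonempty_coker_mkLinearMap_equiv_H_one (b : R) (N : Type u) [AddCommGroup N] [Module R N] :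
    Nonempty ((LocalizedModule (Submonoid.powers b) N ⧸
        LinearMap.range (LocalizedModule.mkLinearMap (Submonoid.powers b) N)) ≃ₗ[R]
      H (Ideal.span {b}) 1 N) := by
  obtain ⟨e1⟩ := nonempty_coker_mkLinearMap_equiv_ker_Hθ (⊥ : Ideal R) b N 0
  have hsub : Subsingleton (H (⊥ : Ideal R) 1 N) :=
    IsTors.H_subsingleton ⊥ 1 (by omega) N (isTors_bot N)
  have hker : LinearMap.ker (Hθ (le_sup_left : (⊥ : Ideal R) ≤ ⊥ ⊔ Ideal.span {b}) (0 + 1) N) = ⊤ := by
    rw [eq_top_iff]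
    intro x _
    rw [LinearMap.mem_ker]
    exact Subsingleton.elim _ _
  let e0 := HBotZeroEquiv (R := R) N
  obtain ⟨e2⟩ := nonempty_coker_equiv_of_equiv
    (LocalizedModule.mkLinearMap (Submonoid.powers b) (H (⊥ : Ideal R) 0 N))
    (LocalizedModule.mkLinearMap (Submonoid.powers b) N) e0
    (LinearEquiv.ofBijective (locMap b e0.toLinearMap)
      ⟨locMap_injective b e0.injective, locMap_surjective b e0.surjective⟩)
    (fun m => locMap_mk b e0.toLinearMap m)
  exact ⟨((e2.symm.trans e1).trans ((LinearEquiv.ofEq _ _ hker).trans Submodule.topEquiv)).trans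
    (HcongrIdeal (bot_sup_eq _) 1 N)⟩

end Groth.Agent.Helper8.LC
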