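import Groth.Agent.Lib.Helper8.Gor6
import Groth.Agent.Lib.Helper8.LCIndep
import Groth.Agent.Lib.Helper8.LCLes4

/-!
# Gorenstein local rings modulo a regular element (helper8)
-/

set_option autoImplicit false
universe u

namespace Groth.Agent.Helper8.Gor

open IsLocalRing CategoryTheory Abelian Groth.Agent.Helper8 Groth.Agent.Helper8.LC
  Groth.Agent.Helper8.Canon Groth.Agent.Helper8.Uniq
open scoped Pointwise

section Reg

variable {A : Type u} [CommRing A] (I : Ideal A) {f : A}

/-- `I`-torsion of `T` versus `I`-torsion of the kernel of `f ∈ I` -/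
noncomputable def torsionKerEquiv (T : Type u) [AddCommGroup T] [Module A T] (hf : f ∈ I) :
    Submodule.torsionBySet A T (I : Set A) ≃ₗ[A]
      Submodule.torsionBySet A (LinearMap.ker (f • (LinearMap.id : T →ₗ[A] T))) (I : Set A) where
  toFun t := ⟨⟨t.1, by
    rw [LinearMap.mem_ker]
    exact (Submodule.mem_torsionBySet_iff _ _).mp t.2 ⟨f, hf⟩⟩, by
    rw [Submodule.mem_torsionBySet_iff]
    rintro ⟨a, ha⟩
    apply Subtype.ext
    exact (Submodule.mem_torsionBySet_iff _ _).mp t.2 ⟨a, ha⟩⟩
  map_add' _ _ := rfl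
  map_smul' _ _ := rfl
  invFun t := ⟨t.1.1, by
    rw [Submodule.mem_torsionBySet_iff]
    rintro ⟨a, ha⟩
    exact congrArg Subtype.val ((Submodule.mem_torsionBySet_iff _ _).mp t.2 ⟨a, ha⟩)⟩
  left_inv _ := rfl
  right_inv _ := rfl

/-- the socle of `H^{d+1}(M)` is the socle of `H^d(M/fM)` when `H^d(M) = 0` -/
noncomputable def socleEquiv (M : Type u) [AddCommGroup M] [Module A M] (hf : f ∈ I)
    (hreg : IsSMulRegular M f) (d : ℕ) (h0 : Subsingleton (H I d M)) :
    Submodule.torsionBySet A (H I (d + 1) M) (I : Set A) ≃ₗ[A]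
      Submodule.torsionBySet A (H I d (M ⧸ f • (⊤ : Submodule A M))) (I : Set A) :=
  (torsionKerEquiv I _ hf).trans (torsionBySetCongr (kerSMulEquivH I M f hreg d h0) (I : Set A))

end Reg

section Local

variable {A : Type u} [CommRing A] [IsLocalRing A] [IsNoetherianRing A] {f : A}

theorem socle_cond_iff_quot (hf : f ∈ maximalIdeal A) (hreg : IsSMulRegular A f) :
    (∃ d : ℕ, (∀ i : ℕ, i ≠ d → Subsingleton (H (maximalIdeal A) i A)) ∧
        IsSimpleModule A
          (Submodule.torsionBySet A (H (maximalIdeal A) d A) (maximalIdeal A : Set A))) ↔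
    (∃ d : ℕ, (∀ i : ℕ, i ≠ d →
          Subsingleton (H (maximalIdeal A) i (A ⧸ f • (⊤ : Submodule A A)))) ∧
        IsSimpleModule A
          (Submodule.torsionBySet A (H (maximalIdeal A) d (A ⧸ f • (⊤ : Submodule A A)))
            (maximalIdeal A : Set A))) := by
  have hH0 : Subsingleton (H (maximalIdeal A) 0 A) :=
    H_zero_subsingleton_of_regular (maximalIdeal A) A hf hreg
  constructor
  · rintro ⟨d, hvan, hsoc⟩
    have hnt : Nontrivial (H (maximalIdeal A) d A) := by
      have h1 : Nontrivial (Submodule.torsionBySet A (H (maximalIdeal A) d A)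
          (maximalIdeal A : Set A)) := IsSimpleModule.nontrivial A _
      obtain ⟨x, y, hxy⟩ := h1
      exact ⟨x.1, y.1, fun h => hxy (Subtype.ext h)⟩
    have hd0 : d ≠ 0 := by
      rintro rfl
      exact not_subsingleton _ hH0
    obtain ⟨d', rfl⟩ := Nat.exists_eq_succ_of_ne_zero hd0
    have hdim : ringKrullDim A = (d' + 1 : ℕ) := ringKrullDim_eq_of_vanishing A (d' + 1) hvan
    have hdimM : Module.supportDim A (QuotSMulTop f A) + 1 = ((d' + 1 : ℕ) : WithBot ℕ∞) := by
      rw [Module.supportDim_quotSMulTop_succ_eq_supportDim hreg hf,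
        Module.supportDim_self_eq_ringKrullDim, hdim]
    have hdimM' : Module.supportDim A (QuotSMulTop f A) ≤ (d' : WithBot ℕ∞) := by
      induction hh : Module.supportDim A (QuotSMulTop f A) with
      | bot => exact bot_le
      | coe x =>
        rw [hh] at hdimM
        have h2 : ((x + 1 : ℕ∞) : WithBot ℕ∞) = ((d' + 1 : ℕ∞) : WithBot ℕ∞) := by
          rw [WithBot.coe_add]
          simpa using hdimM
        have h3 : x + 1 = (d' + 1 : ℕ∞) := WithBot.coe_injective h2
        have h4 : x = d' := by
          have := ENat.add_left_injective_of_ne_top (ENat.one_ne_top) h3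
          exact this
        rw [h4]
        rfl
    have h0 : Subsingleton (H (maximalIdeal A) d' A) := hvan d' (Nat.ne_of_lt (Nat.lt_succ_self d'))
    refine ⟨d', fun i hi => ?_, ?_⟩
    · rcases lt_or_gt_of_ne hi with h | h
      · -- i < d'
        have hA1 : Subsingleton (H (maximalIdeal A) i A) := hvan i (by omega)
        have hA2 : Subsingleton (H (maximalIdeal A) (i + 1) A) := hvan (i + 1) (by omega)
        refine ⟨fun a b => ?_⟩
        have key : ∀ z : H (maximalIdeal A) i (A ⧸ f • (⊤ : Submodule A A)), z = 0 := by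
          intro z
          have hz : Hδ (maximalIdeal A) i (isSES_smul A hreg) z = 0 := Subsingleton.elim _ _
          obtain ⟨y, rfl⟩ := ((isSES_smul A hreg).exact_Hmap_δ (maximalIdeal A) i z).mp hz
          rw [Subsingleton.elim y 0, map_zero]
        rw [key a, key b]
      · -- i > d'
        apply H_subsingleton_of_supportDim_lt
        refine lt_of_le_of_lt hdimM' ?_
        exact_mod_cast h
    · exact IsSimpleModule.congr (socleEquiv (maximalIdeal A) A hf hreg d' h0).symm
  · rintro ⟨d', hvan', hsoc'⟩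
    have hvan : ∀ i : ℕ, i ≠ d' + 1 → Subsingleton (H (maximalIdeal A) i A) := by
      intro i hi
      rcases Nat.eq_zero_or_pos i with rfl | hpos
      · exact hH0
      · obtain ⟨j, rfl⟩ := Nat.exists_eq_succ_of_ne_zero (Nat.pos_iff_ne_zero.mp hpos)
        haveI : Subsingleton (H (maximalIdeal A) j (A ⧸ f • (⊤ : Submodule A A))) :=
          hvan' j (by omega)
        exact H_subsingleton_succ_of_regular (maximalIdeal A) j A hf hreg
    have h0 : Subsingleton (H (maximalIdeal A) d' A) := hvan d' (Nat.ne_of_lt (Nat.lt_succ_self d'))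
    refine ⟨d' + 1, hvan, ?_⟩
    exact IsSimpleModule.congr (socleEquiv (maximalIdeal A) A hf hreg d' h0)

end Local

section ChangeRing

variable {A B : Type u} [CommRing A] [CommRing B] [Algebra A B] [IsNoetherianRing A]
  [IsNoetherianRing B] (I : Ideal A) (X : BMod A B)

theorem subsingleton_H_map_iff (i : ℕ) :
    Subsingleton (H (I.map (algebraMap A B)) i X.carrier) ↔ Subsingleton (H I i X.carrier) := by
  obtain ⟨e⟩ := exists_equiv_base I i X
  exact e.toEquiv.subsingleton_congr

theorem isSimpleModule_socle_map_iff (hsurj : Function.Surjective (algebraMap A B)) (d : ℕ) :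
    IsSimpleModule B (Submodule.torsionBySet B (H (I.map (algebraMap A B)) d X.carrier)
      ((I.map (algebraMap A B) : Ideal B) : Set B)) ↔
    IsSimpleModule A (Submodule.torsionBySet A (H I d X.carrier) (I : Set A)) := by
  obtain ⟨e⟩ := exists_equiv_base I d X
  have e' := torsionBySetCongr e (I : Set A)
  haveI : RingHomSurjective (algebraMap A B) := ⟨hsurj⟩
  let l : Submodule.torsionBySet A (HA I d X) (I : Set A) →ₛₗ[algebraMap A B]
      Submodule.torsionBySet B (H (I.map (algebraMap A B)) d X.carrier)
        ((I.map (algebraMap A B) : Ideal B) : Set B) :=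
    { toFun := fun x => ⟨x.1, by
        rw [Submodule.mem_torsionBySet_iff]
        rintro ⟨b, hb⟩
        obtain ⟨a, ha, rfl⟩ := (Ideal.mem_map_iff_of_surjective _ hsurj).mp hb
        exact (Submodule.mem_torsionBySet_iff _ _).mp x.2 ⟨a, ha⟩⟩
      map_add' := fun _ _ => rfl
      map_smul' := fun _ _ => rfl }
  have hl : Function.Bijective l := by
    constructor
    · intro x y hxy
      have h : (l x).1 = (l y).1 := congrArg Subtype.val hxy
      exact Subtype.ext h
    · rintro ⟨y, hy⟩
      refine ⟨⟨y, ?_⟩, rfl⟩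
      rw [Submodule.mem_torsionBySet_iff]
      rintro ⟨a, ha⟩
      exact (Submodule.mem_torsionBySet_iff _ _).mp hy
        ⟨algebraMap A B a, Ideal.mem_map_of_mem _ ha⟩
  rw [← LinearMap.isSimpleModule_iff_of_bijective l hl]
  exact ⟨fun h => IsSimpleModule.congr e'.symm, fun h => IsSimpleModule.congr e'⟩

end ChangeRing

end Groth.Agent.Helper8.Gor
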