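import Groth.Agent.Lib.Helper8.LCFlat
import Groth.Agent.Lib.Helper8.LCIndep
import Mathlib.LinearAlgebra.TensorProduct.Pi

/-!
# Flat base change for local cohomology, part 2 (helper8)
-/

open CategoryTheory CategoryTheory.Limits Opposite Abelian Pointwise TensorProduct
universe u

namespace Groth.Agent.Helper8.LC

variable {R : Type u} [CommRing R] {R' : Type u} [CommRing R'] [Algebra R R']

section EquivBC

variable {M N : Type u} [AddCommGroup M] [Module R M] [AddCommGroup N] [Module R N]

variable (R') in
/-- base change of a linear equivalence -/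
noncomputable def equivBaseChange (e : M ≃ₗ[R] N) : R' ⊗[R] M ≃ₗ[R'] R' ⊗[R] N :=
  LinearEquiv.ofLinearMap (e.toLinearMap.baseChange R') (e.symm.toLinearMap.baseChange R')
    (by rw [← LinearMap.baseChange_comp]; simp)
    (by rw [← LinearMap.baseChange_comp]; simp)

theorem equivBaseChange_tmul (e : M ≃ₗ[R] N) (r' : R') (m : M) :
    equivBaseChange R' e (r' ⊗ₜ m) = r' ⊗ₜ e m := rfl

end EquivBC

section GamBC

variable (I : Ideal R) (X : Type u) [AddCommGroup X] [Module R X]

theorem baseChange_subtype_mem_gam (z : R' ⊗[R] gam I X) :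
    (gam I X).subtype.baseChange R' z ∈ gam (I.map (algebraMap R R')) (R' ⊗[R] X) := by
  induction z using TensorProduct.induction_on with
  | zero => rw [map_zero]; exact Submodule.zero_mem _
  | tmul r' γ =>
    obtain ⟨γ, n, hn⟩ := γ
    refine ⟨n, fun c hc => ?_⟩
    rw [← Ideal.map_pow] at hc
    rw [LinearMap.baseChange_tmul]
    change c • (r' ⊗ₜ[R] γ) = 0
    refine Submodule.span_induction ?_ ?_ ?_ ?_ hc
    · rintro _ ⟨a, ha, rfl⟩
      rw [algebraMap_smul_tmul, hn a ha, TensorProduct.tmul_zero]
    · exact zero_smul _ _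
    · intro x y _ _ hx hy
      rw [add_smul, hx, hy, add_zero]
    · intro s x _ hx
      rw [smul_eq_mul, mul_smul, hx, smul_zero]
  | add x y hx hy => rw [map_add]; exact Submodule.add_mem _ hx hy

/-- the comparison map `R' ⊗ Γ_I(X) → Γ_{IR'}(R' ⊗ X)` -/
noncomputable def gamBC : R' ⊗[R] gam I X →ₗ[R'] gam (I.map (algebraMap R R')) (R' ⊗[R] X) :=
  ((gam I X).subtype.baseChange R').codRestrict _ (baseChange_subtype_mem_gam I X)

theorem gamBC_val (z : R' ⊗[R] gam I X) :
    (gamBC (R' := R') I X z : R' ⊗[R] X) = (gam I X).subtype.baseChange R' z := rfl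

theorem gamBC_injective [Module.Flat R R'] : Function.Injective (gamBC (R' := R') I X) := by
  intro x y h
  have h1 := congrArg Subtype.val h
  rw [gamBC_val, gamBC_val] at h1
  exact Module.Flat.lTensor_preserves_injective_linearMap (M := R') (gam I X).subtype
    (gam I X).injective_subtype h1

theorem gamBC_surjective [IsNoetherianRing R] [Module.Flat R R'] :
    Function.Surjective (gamBC (R' := R') I X) := by
  classical
  rintro ⟨z, n, hn⟩
  obtain ⟨s, hs⟩ := (IsNoetherian.noetherian (I ^ n) : (I ^ n).FG)
  -- the map `x ↦ (a • x)_{a ∈ s}`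
  let ψ : X →ₗ[R] (s → X) := LinearMap.pi (fun a => (a : R) • (LinearMap.id : X →ₗ[R] X))
  have hker : LinearMap.ker ψ ≤ gam I X := by
    intro x hx
    refine ⟨n, fun c hc => ?_⟩
    rw [← hs] at hc
    refine Submodule.span_induction ?_ ?_ ?_ ?_ hc
    · intro a ha
      have := congrFun (LinearMap.mem_ker.mp hx) ⟨a, ha⟩
      exact this
    · exact zero_smul _ _
    · intro x' y' _ _ hx' hy'
      rw [add_smul, hx', hy', add_zero]
    · intro r x' _ hx'
      rw [smul_eq_mul, mul_smul, hx', smul_zero]
  have hz : ψ.lTensor R' z = 0 := by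
    apply (TensorProduct.piRight R R R' (fun _ : s => X)).injective
    rw [map_zero]
    funext a
    have key : ∀ w : R' ⊗[R] X, (TensorProduct.piRight R R R' (fun _ : s => X)) (ψ.lTensor R' w) a =
        algebraMap R R' (a : R) • w := by
      intro w
      induction w using TensorProduct.induction_on with
      | zero => simp
      | tmul r' x =>
        rw [LinearMap.lTensor_tmul, TensorProduct.piRight_apply, TensorProduct.piRightHom_tmul,
          algebraMap_smul_tmul]
        rfl
      | add x y hx hy => rw [map_add, map_add, Pi.add_apply, hx, hy, smul_add]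
    rw [key]
    apply hn
    rw [← Ideal.map_pow]
    apply Ideal.mem_map_of_mem
    rw [← hs]
    exact Ideal.subset_span a.2
  have hex := Module.Flat.lTensor_exact R' (LinearMap.exact_subtype_ker_map ψ)
  obtain ⟨w, hw⟩ := (hex z).mp hz
  refine ⟨(Submodule.inclusion hker).lTensor R' w, ?_⟩
  apply Subtype.ext
  rw [gamBC_val]
  change ((gam I X).subtype.lTensor R') ((Submodule.inclusion hker).lTensor R' w) = z
  rw [← LinearMap.comp_apply, ← LinearMap.lTensor_comp]
  exact hw

/-- `R' ⊗ Γ_I(X) ≃ Γ_{IR'}(R' ⊗ X)` -/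
noncomputable def gamBCEquiv [IsNoetherianRing R] [Module.Flat R R'] :
    (R' ⊗[R] gam I X) ≃ₗ[R'] gam (I.map (algebraMap R R')) (R' ⊗[R] X) :=
  LinearEquiv.ofBijective (gamBC I X) ⟨gamBC_injective I X, gamBC_surjective I X⟩

/-- the degree-zero comparison for flat base change -/
noncomputable def phi0BC [IsNoetherianRing R] [Module.Flat R R'] :
    (R' ⊗[R] H I 0 X) ≃ₗ[R'] H (I.map (algebraMap R R')) 0 (R' ⊗[R] X) :=
  (equivBaseChange R' (H0Equiv I X)).trans
    ((gamBCEquiv I X).trans (H0Equiv (I.map (algebraMap R R')) (R' ⊗[R] X)).symm)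

theorem phi0BC_val [IsNoetherianRing R] [Module.Flat R R'] (r' : R') (h : H I 0 X) :
    (H0Equiv (I.map (algebraMap R R')) (R' ⊗[R] X) (phi0BC (R' := R') I X (r' ⊗ₜ h)) :
      R' ⊗[R] X) = r' ⊗ₜ (H0Equiv I X h : X) := by
  unfold phi0BC
  simp only [LinearEquiv.trans_apply, LinearEquiv.apply_symm_apply]
  rfl

end GamBC

section Assembly

variable [IsNoetherianRing R] [IsNoetherianRing R'] [Module.Flat R R'] (I : Ideal R)

/-- objects: `R`-modules -/
structure RMod (R : Type u) [CommRing R] where
  carrier : Type u
  [acg : AddCommGroup carrier]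
  [mod : Module R carrier]

attribute [instance] RMod.acg RMod.mod

/-- injective envelope object -/
noncomputable def RMod.E (X : RMod R) : RMod R where
  carrier := (injEmb R X.carrier).E

instance (X : RMod R) : Module.Injective R X.E.carrier :=
  inferInstanceAs (Module.Injective R (injEmb R X.carrier).E)

/-- the embedding -/
noncomputable def RMod.emb (X : RMod R) : X.carrier →ₗ[R] X.E.carrier := (injEmb R X.carrier).f

/-- the cokernel object -/
noncomputable def RMod.Q (X : RMod R) : RMod R where
  carrier := X.E.carrier ⧸ LinearMap.range X.emb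

/-- the projection -/
noncomputable def RMod.proj (X : RMod R) : X.E.carrier →ₗ[R] X.Q.carrier :=
  (LinearMap.range X.emb).mkQ

omit [IsNoetherianRing R] in
theorem RMod.isSES (X : RMod R) : IsSES X.emb X.proj :=
  isSES_of_injective (injEmb R X.carrier).hf

theorem exists_equiv_baseChange (i : ℕ) (X : RMod R) :
    Nonempty ((R' ⊗[R] H I i X.carrier) ≃ₗ[R']
      H (I.map (algebraMap R R')) i (R' ⊗[R] X.carrier)) := by
  refine exists_equiv_of_effaceable (S := R') (Obj := RMod R)
    (fun i X => R' ⊗[R] H I i X.carrier)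
    (fun i X => H (I.map (algebraMap R R')) i (R' ⊗[R] X.carrier)) RMod.E RMod.Q
    (fun i X => (Hmap I i X.proj).baseChange R')
    (fun i X => (Hδ I i X.isSES).baseChange R')
    (fun i X => Hmap (I.map (algebraMap R R')) i (X.proj.baseChange R'))
    (fun i X => Hδ (I.map (algebraMap R R')) i (X.isSES.baseChange (R' := R')))
    ?_ ?_ ?_ ?_ ?_ ?_ (fun X => phi0BC I X.carrier) ?_ i X
  · intro X
    exact Module.Flat.lTensor_exact R' (X.isSES.exact_Hmap_δ I 0)
  · intro i X
    have : Subsingleton (H I (i + 1) X.E.carrier) :=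
      H_subsingleton_of_injective _ (i + 1) _ (by omega)
    exact LinearMap.lTensor_surjective R' (X.isSES.δ_surjective I i)
  · intro i X hi
    have : Subsingleton (H I i X.E.carrier) := H_subsingleton_of_injective _ i _ hi
    exact Module.Flat.lTensor_preserves_injective_linearMap _ (X.isSES.δ_injective I i)
  · intro X
    exact (X.isSES.baseChange (R' := R')).exact_Hmap_δ _ 0
  · intro i X
    have : Subsingleton (H (I.map (algebraMap R R')) (i + 1) (R' ⊗[R] X.E.carrier)) :=
      H_map_subsingleton_baseChange_of_injective I _ (i + 1) (by omega)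
    exact (X.isSES.baseChange (R' := R')).δ_surjective _ i
  · intro i X hi
    have : Subsingleton (H (I.map (algebraMap R R')) i (R' ⊗[R] X.E.carrier)) :=
      H_map_subsingleton_baseChange_of_injective I _ i hi
    exact (X.isSES.baseChange (R' := R')).δ_injective _ i
  · intro X x
    induction x using TensorProduct.induction_on with
    | zero => simp
    | tmul r' h =>
      apply (H0Equiv (I.map (algebraMap R R')) (R' ⊗[R] X.Q.carrier)).injective
      apply Subtype.ext
      rw [LinearMap.baseChange_tmul, phi0BC_val, H0Equiv_naturality, H0Equiv_naturality,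
        phi0BC_val, LinearMap.baseChange_tmul]
    | add x y hx hy => simp only [map_add, hx, hy]

end Assembly

end Groth.Agent.Helper8.LC
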