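import Groth.Agent.Lib.Helper8.LCArt

/-!
# Melkersson's lemma (local case) and Artinianness of top local cohomology (helper8)
-/

open CategoryTheory CategoryTheory.Limits Opposite Abelian Pointwise
universe u

namespace Groth.Agent.Helper8.LC

open IsLocalRing

variable {R : Type u} [CommRing R] [IsLocalRing R] [IsNoetherianRing R]

/-- if `N` is `r`-power torsion and `(0 :_N r)` lies in an Artinian submodule, then `N` is
`m`-power torsion -/
theorem isPowerTorsion_of_isArtinian_torsion (N : Type u) [AddCommGroup N] [Module R N] (r : R)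
    (S : Submodule R N) [IsArtinian R S] (hS : ∀ x : N, r • x = 0 → x ∈ S)
    (hr : ∀ x : N, ∃ k : ℕ, r ^ k • x = 0) : LocCoh.IsPowerTorsion (maximalIdeal R) N := by
  have hSt : LocCoh.IsPowerTorsion (maximalIdeal R) S :=
    Groth.Agent.S0315.powerTorsion_of_isArtinian R S
  have key : ∀ k : ℕ, ∀ x : N, r ^ k • x = 0 → ∃ j : ℕ, ∀ c ∈ maximalIdeal R ^ j, c • x = 0 := by
    intro k
    induction k with
    | zero =>
      intro x hx
      rw [pow_zero, one_smul] at hx
      exact ⟨0, fun c _ => by rw [hx, smul_zero]⟩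
    | succ k ih =>
      intro x hx
      obtain ⟨j, hj⟩ := ih (r • x) (by rw [← mul_smul, ← pow_succ]; exact hx)
      -- `P = m^j x ⊆ S`
      let P : Submodule R N := (maximalIdeal R ^ j) • Submodule.span R {x}
      have hPS : P ≤ S := by
        refine Submodule.smul_le.mpr ?_
        intro c hc y hy
        obtain ⟨t, rfl⟩ := Submodule.mem_span_singleton.mp hy
        apply hS
        rw [smul_comm, smul_comm r t x, smul_comm c t, hj c hc, smul_zero]
      have hPfg : P.FG :=
        Submodule.FG.smul (IsNoetherian.noetherian _) (Submodule.fg_span_singleton x)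
      have hPt : IsTors (maximalIdeal R) P := by
        intro p
        obtain ⟨n, hn⟩ := hSt ⟨p.1, hPS p.2⟩
        exact ⟨n, fun c hc => Subtype.ext (congrArg Subtype.val (hn c hc) :)⟩
      have hPfg' : (⊤ : Submodule R P).FG := by
        have : Module.Finite R P := Module.Finite.iff_fg.mpr hPfg
        exact Module.Finite.fg_top
      obtain ⟨j', hj'⟩ := IsTors.exists_pow_of_fg (maximalIdeal R) hPt hPfg'
      refine ⟨j' + j, ?_⟩
      have hle : maximalIdeal R ^ (j' + j) ≤
          LinearMap.ker (LinearMap.toSpanSingleton R N x) := by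
        rw [pow_add, Ideal.mul_le]
        intro d hd c hc
        rw [LinearMap.mem_ker, LinearMap.toSpanSingleton_apply, mul_smul]
        have hcx : c • x ∈ P :=
          Submodule.smul_mem_smul hc (Submodule.mem_span_singleton_self x)
        exact congrArg Subtype.val (hj' d hd ⟨c • x, hcx⟩)
      intro c hc
      have := hle hc
      rw [LinearMap.mem_ker, LinearMap.toSpanSingleton_apply] at this
      exact this
  intro x
  obtain ⟨k, hk⟩ := hr x
  exact key k x hk

/-- Melkersson's lemma over a Noetherian local ring -/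
theorem isArtinian_of_isArtinian_torsion (N : Type u) [AddCommGroup N] [Module R N] (r : R)
    (hrm : r ∈ maximalIdeal R) (S : Submodule R N) [IsArtinian R S]
    (hS : ∀ x : N, r • x = 0 → x ∈ S) (hr : ∀ x : N, ∃ k : ℕ, r ^ k • x = 0) :
    IsArtinian R N := by
  refine isArtinian_of_powerTorsion_of_torsionBy_le N
    (isPowerTorsion_of_isArtinian_torsion N r S hS hr) S ?_
  intro x hx
  apply hS
  rw [Submodule.mem_torsionBySet_iff] at hx
  exact hx ⟨r, hrm⟩

/-- a finite module of dimension `≤ 0` over a Noetherian local ring is `m`-power torsion -/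
theorem gam_eq_top_of_supportDim_le_zero (M : Type u) [AddCommGroup M] [Module R M]
    [Module.Finite R M] (hdim : Module.supportDim R M ≤ ((0 : ℕ) : WithBot ℕ∞)) :
    gam (maximalIdeal R) M = ⊤ := by
  by_contra hne
  have hM : ¬ Subsingleton (M ⧸ gam (maximalIdeal R) M) := by
    intro hs
    apply hne
    rw [eq_top_iff]
    intro x _
    have : (Submodule.Quotient.mk x : M ⧸ gam (maximalIdeal R) M) = 0 := Subsingleton.elim _ _
    exact (Submodule.Quotient.mk_eq_zero _).mp this
  obtain ⟨x, hxI, hx⟩ := exists_regular_of_gam_eq_bot (maximalIdeal R)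
    (M ⧸ gam (maximalIdeal R) M) (gam_quotient_gam _ M)
  have h1 : Module.supportDim R (QuotSMulTop x (M ⧸ gam (maximalIdeal R) M)) + 1 ≤
      Module.supportDim R (M ⧸ gam (maximalIdeal R) M) :=
    Module.supportDim_quotSMulTop_succ_le_of_notMem_minimalPrimes
      (fun _ => hx.notMem_of_mem_minimalPrimes)
  have h2 : Module.supportDim R (M ⧸ gam (maximalIdeal R) M) ≤ ((0 : ℕ) : WithBot ℕ∞) :=
    (Module.supportDim_le_of_surjective _ (Submodule.mkQ_surjective _)).trans hdim
  have h3 : Module.supportDim R (QuotSMulTop x (M ⧸ gam (maximalIdeal R) M)) = ⊥ := by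
    have h4 := h1.trans h2
    induction hh : Module.supportDim R (QuotSMulTop x (M ⧸ gam (maximalIdeal R) M)) with
    | bot => rfl
    | coe a =>
      exfalso
      rw [hh] at h4
      have h5 : a + 1 ≤ (0 : ℕ∞) := by exact_mod_cast h4
      simp at h5
  have h4 : Subsingleton (QuotSMulTop x (M ⧸ gam (maximalIdeal R) M)) :=
    (Module.supportDim_eq_bot_iff_subsingleton R _).mp h3
  -- Nakayama
  have h5 : x • (⊤ : Submodule R (M ⧸ gam (maximalIdeal R) M)) = ⊤ := by
    rw [eq_top_iff]
    intro y _
    have : (Submodule.Quotient.mk y : QuotSMulTop x (M ⧸ gam (maximalIdeal R) M)) = 0 :=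
      Subsingleton.elim _ _
    exact (Submodule.Quotient.mk_eq_zero _).mp this
  have h6 : (⊤ : Submodule R (M ⧸ gam (maximalIdeal R) M)) = ⊥ := by
    apply Submodule.eq_bot_of_le_smul_of_le_jacobson_bot (Ideal.span {x}) _ Module.Finite.fg_top
    · rw [Submodule.ideal_span_singleton_smul, h5]
    · rw [Ideal.span_singleton_le_iff_mem]
      exact (IsLocalRing.maximalIdeal_le_jacobson _) hxI
  apply hM
  refine ⟨fun y z => ?_⟩
  have hy : y ∈ (⊤ : Submodule R (M ⧸ gam (maximalIdeal R) M)) := Submodule.mem_top
  have hz : z ∈ (⊤ : Submodule R (M ⧸ gam (maximalIdeal R) M)) := Submodule.mem_top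
  rw [h6, Submodule.mem_bot] at hy hz
  rw [hy, hz]

/-- `H^n_a(M)` is Artinian when `dim M ≤ n` -/
theorem isArtinian_H_of_supportDim_le (a : Ideal R) : ∀ (n : ℕ) (M : Type u) [AddCommGroup M]
    [Module R M] [Module.Finite R M], Module.supportDim R M ≤ (n : WithBot ℕ∞) →
    IsArtinian R (H a n M) := by
  intro n
  induction n with
  | zero =>
    intro M _ _ _ hdim
    have hfin : Module.Finite R (H a 0 M) := finite_H_zero _ M
    have : IsNoetherian R (H a 0 M) := isNoetherian_of_isNoetherianRing_of_finite R _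
    apply (Groth.Agent.S0315.result R _).mpr
    refine ⟨?_, ?_⟩
    · intro x
      have h1 : ((H0Equiv a M x : gam a M) : M) ∈ gam (maximalIdeal R) M := by
        rw [gam_eq_top_of_supportDim_le_zero M hdim]; trivial
      obtain ⟨k, hk⟩ := h1
      refine ⟨k, fun c hc => ?_⟩
      apply (H0Equiv a M).injective
      apply Subtype.ext
      rw [map_smul, map_zero]
      exact hk c hc
    · have h1 : Module.Finite R ↥(LocCoh.torsionBy (maximalIdeal R) (H a 0 M)) := inferInstance
      exact Module.Finite.of_restrictScalars_finite R (R ⧸ maximalIdeal R) _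
  | succ n ih =>
    intro M _ _ _ hdim
    by_cases ha : a = ⊤
    · -- `H^i_⊤ = 0`
      have : Subsingleton (H a (n + 1) M) := by
        refine ⟨fun x y => ?_⟩
        have hz : ∀ z : H a (n + 1) M, z = 0 := by
          intro z
          obtain ⟨k, hk⟩ := H_exists_pow_smul_eq_zero a (n + 1) M z
          have := hk 1 (by rw [ha, Ideal.top_pow]; trivial)
          rwa [one_smul] at this
        rw [hz x, hz y]
      exact isArtinian_of_finite
    have ham : a ≤ maximalIdeal R := IsLocalRing.le_maximalIdeal ha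
    have hses' := isSES_subtype_mkQ (gam a M)
    have hsub : Subsingleton (H a (n + 1) (gam a M)) :=
      IsTors.H_subsingleton _ (n + 1) (by omega) _ (isTors_gam _)
    have hinj : Function.Injective (Hmap a (n + 1) (gam a M).mkQ) :=
      hses'.Hmap_g_injective _ (n + 1)
    suffices hsuff : IsArtinian R (H a (n + 1) (M ⧸ gam a M)) from
      isArtinian_of_injective _ hinj
    obtain ⟨r, hra, hr⟩ := exists_regular_of_gam_eq_bot a (M ⧸ gam a M) (gam_quotient_gam _ M)
    have h1 : Module.supportDim R (QuotSMulTop r (M ⧸ gam a M)) + 1 ≤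
        Module.supportDim R (M ⧸ gam a M) :=
      Module.supportDim_quotSMulTop_succ_le_of_notMem_minimalPrimes
        (fun _ => hr.notMem_of_mem_minimalPrimes)
    have h2 : Module.supportDim R (M ⧸ gam a M) ≤ ((n + 1 : ℕ) : WithBot ℕ∞) :=
      (Module.supportDim_le_of_surjective _ (Submodule.mkQ_surjective _)).trans hdim
    have h3 : Module.supportDim R (QuotSMulTop r (M ⧸ gam a M)) ≤ (n : WithBot ℕ∞) :=
      supportDim_le_of_succ_le h1 h2
    have hses := isSES_smul (M ⧸ gam a M) hr
    have hA : IsArtinian R (H a n ((M ⧸ gam a M) ⧸ r • (⊤ : Submodule R (M ⧸ gam a M)))) :=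
      ih (QuotSMulTop r (M ⧸ gam a M)) h3
    have hS : IsArtinian R (LinearMap.range (Hδ a n hses)) :=
      isArtinian_of_surjective _ (LinearMap.rangeRestrict _) (LinearMap.surjective_rangeRestrict _)
    refine isArtinian_of_isArtinian_torsion _ r (ham hra) (LinearMap.range (Hδ a n hses)) ?_ ?_
    · intro x hx
      have h4 : Hmap a (n + 1) (r • (LinearMap.id : (M ⧸ gam a M) →ₗ[R] _)) x = 0 := by
        rw [Hmap_smul_id]; exact hx
      exact (hses.exact_δ_Hmap _ n x).mp h4
    · intro x
      obtain ⟨k, hk⟩ := H_exists_pow_smul_eq_zero a (n + 1) _ x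
      exact ⟨k, hk _ (Ideal.pow_mem_pow hra k)⟩

end Groth.Agent.Helper8.LC
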