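import Groth.Agent.Lib.Lead.Depth22

/-!
# Depth of localizations: helpers for Faltings' annihilator theorem (helper8)
-/

set_option autoImplicit false
universe u

namespace Groth.Agent.Helper8.LC

open Pointwise IsLocalRing LocCoh Groth.Agent.Lead.Depth

variable {R : Type u} [CommRing R] [IsNoetherianRing R]

/-- the depth of `M_p` is unchanged when dividing by a submodule killed by some `y ∉ p` -/
theorem depth_localizedModule_quotient_eq (p : Ideal R) [p.IsPrime] {M : Type u}
    [AddCommGroup M] [Module R M] (G : Submodule R M) (y : R) (hy : y ∉ p)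
    (hG : ∀ g ∈ G, y • g = 0) :
    LocCoh.depth (Localization.AtPrime p) (LocalizedModule p.primeCompl (M ⧸ G)) =
      LocCoh.depth (Localization.AtPrime p) (LocalizedModule p.primeCompl M) := by
  symm
  have hsub : Subsingleton (LocalizedModule p.primeCompl G) :=
    subsingleton_localizedModule_of_smul_eq_zero p G y hy
      (fun g => Subtype.ext (hG g.1 g.2))
  have hsurj : Function.Surjective (LocalizedModule.map p.primeCompl G.mkQ) :=
    LocalizedModule.map_surjective p.primeCompl G.mkQ G.mkQ_surjective
  have hinj : Function.Injective (LocalizedModule.map p.primeCompl G.mkQ) := by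
    rw [injective_iff_map_eq_zero]
    intro z hz
    have hex := LocalizedModule.map_exact p.primeCompl G.subtype G.mkQ
      (LinearMap.exact_subtype_mkQ G)
    obtain ⟨w, rfl⟩ := (hex z).mp hz
    rw [Subsingleton.elim w 0, map_zero]
  exact depth_congr (LinearEquiv.ofBijective (LocalizedModule.map p.primeCompl G.mkQ)
    ⟨hinj, hsurj⟩)

/-- `depth (M/xM)_p + 1 = depth M_p` for `x ∈ p` regular on `M` (and `M_p ≠ 0`) -/
theorem depth_localizedModule_quotSMulTop_add_one (p : Ideal R) [p.IsPrime] (M : Type u)
    [AddCommGroup M] [Module R M] [Module.Finite R M]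
    [Nontrivial (LocalizedModule p.primeCompl M)] {x : R} (hxp : x ∈ p)
    (hx : IsSMulRegular M x) :
    LocCoh.depth (Localization.AtPrime p) (LocalizedModule p.primeCompl (QuotSMulTop x M)) + 1 =
      LocCoh.depth (Localization.AtPrime p) (LocalizedModule p.primeCompl M) := by
  have : Module.Finite (Localization.AtPrime p) (LocalizedModule p.primeCompl M) :=
    Module.Finite.of_isLocalizedModule p.primeCompl (LocalizedModule.mkLinearMap p.primeCompl M)
  rw [depth_congr (localizedQuotSMulTopEquiv p x M)]
  refine idealDepth_quotSMulTop_add_one (maximalIdeal (Localization.AtPrime p))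
    (LocalizedModule p.primeCompl M) (maximalIdeal_smul_top_ne_top _)
    (algebraMap R (Localization.AtPrime p) x) ?_ (isSMulRegular_localizedModule p x M hx)
  rw [← Localization.AtPrime.map_eq_maximalIdeal]
  exact Ideal.mem_map_of_mem _ hxp

/-- if `p ∈ Ass M` then `depth M_p = 0` -/
theorem depth_localizedModule_eq_zero_of_mem_associatedPrimes (p : Ideal R) [p.IsPrime]
    (M : Type u) [AddCommGroup M] [Module R M] [Module.Finite R M]
    (hp : p ∈ associatedPrimes R M) :
    LocCoh.depth (Localization.AtPrime p) (LocalizedModule p.primeCompl M) = 0 := by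
  have h1 := Module.associatedPrimes.mem_associatedPrimes_atPrime_of_mem_associatedPrimes hp
  have : Module.Finite (Localization.AtPrime p) (LocalizedModule p.primeCompl M) :=
    Module.Finite.of_isLocalizedModule p.primeCompl (LocalizedModule.mkLinearMap p.primeCompl M)
  have : Nontrivial (LocalizedModule p.primeCompl M) := by
    have h2 : (associatedPrimes (Localization.AtPrime p)
        (LocalizedModule p.primeCompl M)).Nonempty := ⟨_, h1⟩
    by_contra hcon
    rw [not_nontrivial_iff_subsingleton] at hcon
    rw [associatedPrimes.eq_empty_of_subsingleton] at h2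
    exact Set.not_nonempty_empty h2
  exact idealDepth_eq_zero_of_mem_associatedPrimes (LocalizedModule p.primeCompl M)
    (maximalIdeal (Localization.AtPrime p)) h1 (maximalIdeal_smul_top_ne_top _)

/-- if `depth M_p = 0` then `p ∈ Ass M` -/
theorem mem_associatedPrimes_of_depth_localizedModule_eq_zero (p : Ideal R) [p.IsPrime]
    (M : Type u) [AddCommGroup M] [Module R M] [Module.Finite R M]
    (h : LocCoh.depth (Localization.AtPrime p) (LocalizedModule p.primeCompl M) = 0) :
    p ∈ associatedPrimes R M := by
  set A := Localization.AtPrime p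
  set N := LocalizedModule p.primeCompl M
  have : Module.Finite A N :=
    Module.Finite.of_isLocalizedModule p.primeCompl (LocalizedModule.mkLinearMap p.primeCompl M)
  have hnt : Nontrivial N := by
    by_contra hcon
    rw [not_nontrivial_iff_subsingleton] at hcon
    rw [depth_eq_top_of_subsingleton] at h
    exact absurd h (by simp)
  have hnr : ∀ x ∈ maximalIdeal A, ¬ IsSMulRegular N x := by
    intro x hx hreg
    have h1 : ((1 : ℕ) : ℕ∞) ≤ LocCoh.depth A N := by
      have := le_idealDepth_of_isWeaklyRegular (maximalIdeal A) N [x]
        ((RingTheory.Sequence.isWeaklyRegular_cons_iff N x []).mpr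
          ⟨hreg, RingTheory.Sequence.IsWeaklyRegular.nil _ _⟩)
        (by intro r hr; rw [List.mem_singleton] at hr; rw [hr]; exact hx)
      rw [depth_def]
      simpa using this
    rw [h] at h1
    exact absurd h1 (by simp)
  obtain ⟨Q, hQ, hmQ⟩ := exists_le_associatedPrime_of_forall_not_regular N (maximalIdeal A) hnr
  have hQp : Q.IsPrime := hQ.isPrime
  have hQeq : Q = maximalIdeal A := le_antisymm (le_maximalIdeal hQp.ne_top) hmQ
  have h2 := Module.associatedPrimes.comap_mem_associatedPrimes_of_mem_associatedPrimes_of_isLocalizedModule_of_fg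
    p.primeCompl (LocalizedModule.mkLinearMap p.primeCompl M) Q hQ
    (IsNoetherian.noetherian _)
  rw [hQeq] at h2
  have h3 : Ideal.comap (algebraMap R A) (maximalIdeal A) = p :=
    IsLocalization.AtPrime.under_maximalIdeal A p
  rwa [h3] at h2

end Groth.Agent.Helper8.LC
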