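import Groth.Agent.Lib.Helper8.Matlis2
import Groth.Agent.Lib.Helper5.HS2
import Mathlib.RingTheory.AdicCompletion.Algebra

set_option autoImplicit false
universe u

namespace Groth.Agent.Helper8.Matlis

section Action

variable {A : Type u} [CommRing A] (I : Ideal A) {E : Type u} [AddCommGroup E] [Module A E]

theorem smul_eq_of_evalₐ_eq_of_le (â : AdicCompletion I A) {n k : ℕ} (hnk : n ≤ k) {r s : A}
    (hr : AdicCompletion.evalₐ I n â = Ideal.Quotient.mk _ r)
    (hs : AdicCompletion.evalₐ I k â = Ideal.Quotient.mk _ s) (e : E)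
    (hn : ∀ a ∈ I ^ n, a • e = 0) : r • e = s • e := by
  obtain ⟨x, rfl⟩ := AdicCompletion.mk_surjective I A â
  rw [AdicCompletion.evalₐ_mk] at hr hs
  have h1 : x.val n - r ∈ I ^ n := by
    rw [← Ideal.Quotient.eq]; exact hr
  have h2 : x.val k - s ∈ I ^ k := by
    rw [← Ideal.Quotient.eq]; exact hs
  have h3 : x.val k - x.val n ∈ I ^ n := by
    rw [← Ideal.Quotient.eq]; exact AdicCompletion.Ideal.mk_eq_mk I hnk x
  have h4 : r - s ∈ I ^ n := by
    have : r - s = -(x.val n - r) + -(x.val k - x.val n) + (x.val k - s) := by ring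
    rw [this]
    exact add_mem (add_mem (neg_mem h1) (neg_mem h3)) (Ideal.pow_le_pow_right hnk h2)
  have := hn _ h4
  rwa [sub_smul, sub_eq_zero] at this

theorem smul_eq_of_evalₐ_eq (â : AdicCompletion I A) {n k : ℕ} {r s : A}
    (hr : AdicCompletion.evalₐ I n â = Ideal.Quotient.mk _ r)
    (hs : AdicCompletion.evalₐ I k â = Ideal.Quotient.mk _ s) (e : E)
    (hn : ∀ a ∈ I ^ n, a • e = 0) (hk : ∀ a ∈ I ^ k, a • e = 0) : r • e = s • e := by
  rcases le_total n k with h | h
  · exact smul_eq_of_evalₐ_eq_of_le I â h hr hs e hn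
  · exact (smul_eq_of_evalₐ_eq_of_le I â h hs hr e hk).symm

variable {I}
variable (htors : LocCoh.IsPowerTorsion I E)

/-- the action of the completion on a power-torsion module. -/
noncomputable def act (â : AdicCompletion I A) (e : E) : E :=
  (Classical.choose (Ideal.Quotient.mk_surjective
    (AdicCompletion.evalₐ I (Classical.choose (htors e)) â))) • e

theorem act_eq (â : AdicCompletion I A) {n : ℕ} {r : A}
    (hr : AdicCompletion.evalₐ I n â = Ideal.Quotient.mk _ r) (e : E)
    (hn : ∀ a ∈ I ^ n, a • e = 0) : act htors â e = r • e :=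
  smul_eq_of_evalₐ_eq I â (Classical.choose_spec (Ideal.Quotient.mk_surjective
    (AdicCompletion.evalₐ I (Classical.choose (htors e)) â))).symm hr e
    (Classical.choose_spec (htors e)) hn

include htors in
theorem exists_common (e₁ e₂ : E) :
    ∃ n, (∀ a ∈ I ^ n, a • e₁ = 0) ∧ (∀ a ∈ I ^ n, a • e₂ = 0) := by
  obtain ⟨n₁, h₁⟩ := htors e₁
  obtain ⟨n₂, h₂⟩ := htors e₂
  exact ⟨max n₁ n₂, fun a ha => h₁ a (Ideal.pow_le_pow_right (le_max_left _ _) ha),
    fun a ha => h₂ a (Ideal.pow_le_pow_right (le_max_right _ _) ha)⟩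

/-- the action as a linear endomorphism. -/
noncomputable def actLin (â : AdicCompletion I A) : E →ₗ[A] E where
  toFun := act htors â
  map_add' e₁ e₂ := by
    obtain ⟨n, h₁, h₂⟩ := exists_common htors e₁ e₂
    obtain ⟨r, hr⟩ := Ideal.Quotient.mk_surjective (AdicCompletion.evalₐ I n â)
    rw [act_eq htors â hr.symm e₁ h₁, act_eq htors â hr.symm e₂ h₂,
      act_eq htors â hr.symm (e₁ + e₂) (fun a ha => by rw [smul_add, h₁ a ha, h₂ a ha, add_zero]),
      smul_add]
  map_smul' c e := by
    obtain ⟨n, h⟩ := htors e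
    obtain ⟨r, hr⟩ := Ideal.Quotient.mk_surjective (AdicCompletion.evalₐ I n â)
    rw [act_eq htors â hr.symm e h,
      act_eq htors â hr.symm (c • e) (fun a ha => by rw [smul_comm, h a ha, smul_zero]),
      RingHom.id_apply, smul_comm]

theorem actLin_apply (â : AdicCompletion I A) (e : E) : actLin htors â e = act htors â e := rfl

/-- the algebra map `Â → End(E)`. -/
noncomputable def Φ : AdicCompletion I A →ₐ[A] Module.End A E where
  toFun := actLin htors
  map_one' := by
    ext e
    obtain ⟨n, h⟩ := htors e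
    rw [actLin_apply, act_eq htors 1 (n := n) (r := 1) (by rw [map_one, map_one]) e h, one_smul]
    rfl
  map_mul' â b' := by
    ext e
    obtain ⟨n, h⟩ := htors e
    obtain ⟨r, hr⟩ := Ideal.Quotient.mk_surjective (AdicCompletion.evalₐ I n â)
    obtain ⟨s, hs⟩ := Ideal.Quotient.mk_surjective (AdicCompletion.evalₐ I n b')
    rw [Module.End.mul_apply, actLin_apply, actLin_apply, actLin_apply,
      act_eq htors (â * b') (n := n) (r := r * s) (by rw [map_mul, map_mul, hr, hs]) e h,
      act_eq htors b' hs.symm e h,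
      act_eq htors â hr.symm (s • e) (fun a ha => by rw [smul_comm, h a ha, smul_zero]), mul_smul]
  map_zero' := by
    ext e
    obtain ⟨n, h⟩ := htors e
    rw [actLin_apply, act_eq htors 0 (n := n) (r := 0) (by rw [map_zero, map_zero]) e h, zero_smul]
    rfl
  map_add' â b' := by
    ext e
    obtain ⟨n, h⟩ := htors e
    obtain ⟨r, hr⟩ := Ideal.Quotient.mk_surjective (AdicCompletion.evalₐ I n â)
    obtain ⟨s, hs⟩ := Ideal.Quotient.mk_surjective (AdicCompletion.evalₐ I n b')
    rw [LinearMap.add_apply, actLin_apply, actLin_apply, actLin_apply,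
      act_eq htors (â + b') (n := n) (r := r + s) (by rw [map_add, map_add, hr, hs]) e h,
      act_eq htors b' hs.symm e h, act_eq htors â hr.symm e h, add_smul]
  commutes' c := by
    ext e
    obtain ⟨n, h⟩ := htors e
    rw [actLin_apply, act_eq htors (algebraMap A _ c) (n := n) (r := c)
      (by rw [AlgHom.commutes]; rfl) e h]
    rfl

theorem Φ_apply (â : AdicCompletion I A) {n : ℕ} {r : A}
    (hr : AdicCompletion.evalₐ I n â = Ideal.Quotient.mk _ r) (e : E)
    (hn : ∀ a ∈ I ^ n, a • e = 0) : Φ htors â e = r • e :=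
  act_eq htors â hr e hn

end Action

section Bij

open IsLocalRing

variable {A : Type u} [CommRing A] [IsLocalRing A] [IsNoetherianRing A] {E : Type u}
  [AddCommGroup E] [Module A E] {f : ResidueField A →ₗ[A] E}

omit [IsNoetherianRing A] in
theorem isMaximal_of_pow_le (n : ℕ) (p : Ideal A) [p.IsPrime] (h : maximalIdeal A ^ n ≤ p) :
    p = maximalIdeal A :=
  le_antisymm (IsLocalRing.le_maximalIdeal (Ideal.IsPrime.ne_top inferInstance))
    (Ideal.IsPrime.le_of_pow_le h)

theorem isFiniteLength_quotient_pow (n : ℕ) : IsFiniteLength A (A ⧸ maximalIdeal A ^ n) := by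
  rw [Groth.Agent.Helper5.HS.isFiniteLength_iff_support]
  intro p hp
  rw [Module.support_eq_zeroLocus, Ideal.annihilator_quotient] at hp
  have : p.asIdeal = maximalIdeal A := isMaximal_of_pow_le n p.asIdeal hp
  rw [this]
  infer_instance

omit [IsLocalRing A] [IsNoetherianRing A] in
/-- the map `A/J → E` sending `1` to a `J`-torsion element. -/
noncomputable def ofTorsion (J : Ideal A) (e : E) (he : ∀ a ∈ J, a • e = 0) : (A ⧸ J) →ₗ[A] E :=
  (J : Submodule A A).liftQ (LinearMap.toSpanSingleton A E e) (by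
    intro b hb
    rw [LinearMap.mem_ker, LinearMap.toSpanSingleton_apply]
    exact he b hb)

omit [IsLocalRing A] [IsNoetherianRing A] in
theorem ofTorsion_mk (J : Ideal A) (e : E) (he : ∀ a ∈ J, a • e = 0) (r : A) :
    ofTorsion J e he (Ideal.Quotient.mk J r) = r • e := rfl

omit [IsNoetherianRing A] in
theorem mem_pow_of_forall_smul_eq_zero (hf : InjHull.IsInjectiveHull f) (n : ℕ) (r : A)
    (h : ∀ e : E, (∀ a ∈ maximalIdeal A ^ n, a • e = 0) → r • e = 0) :
    r ∈ maximalIdeal A ^ n := by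
  by_contra hr
  have hx : Ideal.Quotient.mk (maximalIdeal A ^ n) r ≠ 0 := by
    rwa [Ne, Ideal.Quotient.eq_zero_iff_mem]
  have hne : (LinearMap.applyₗ : (A ⧸ maximalIdeal A ^ n) →ₗ[A] _ →ₗ[A] E)
      (Ideal.Quotient.mk (maximalIdeal A ^ n) r) ≠ 0 := fun h0 =>
    hx ((injective_iff_map_eq_zero _).1 (applyₗ_injective hf (A ⧸ maximalIdeal A ^ n)) _ h0)
  apply hne
  ext g
  rw [LinearMap.applyₗ_apply_apply, LinearMap.zero_apply]
  have h2 : Ideal.Quotient.mk (maximalIdeal A ^ n) r = r • (1 : A ⧸ maximalIdeal A ^ n) := by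
    rw [Algebra.smul_def, mul_one]; rfl
  rw [h2, map_smul]
  apply h
  intro a ha
  rw [← map_smul]
  have : a • (1 : A ⧸ maximalIdeal A ^ n) = 0 := by
    rw [Algebra.smul_def, mul_one]
    exact Ideal.Quotient.eq_zero_iff_mem.2 ha
  rw [this, map_zero]

theorem exists_smul_eq (hf : InjHull.IsInjectiveHull f) (φ : E →ₗ[A] E) (n : ℕ) :
    ∃ r : A, ∀ e : E, (∀ a ∈ maximalIdeal A ^ n, a • e = 0) → φ e = r • e := by
  let ψ : ((A ⧸ maximalIdeal A ^ n) →ₗ[A] E) →ₗ[A] E :=
    φ ∘ₗ (LinearMap.applyₗ (1 : A ⧸ maximalIdeal A ^ n))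
  obtain ⟨x, hx⟩ := (applyₗ_bijective hf _ (isFiniteLength_quotient_pow n)).2 ψ
  obtain ⟨r, rfl⟩ := Ideal.Quotient.mk_surjective x
  refine ⟨r, fun e he => ?_⟩
  have h1 := LinearMap.congr_fun hx (ofTorsion _ e he)
  rw [LinearMap.applyₗ_apply_apply, ofTorsion_mk] at h1
  rw [h1]
  change φ e = φ (ofTorsion _ e he (Ideal.Quotient.mk _ 1))
  rw [ofTorsion_mk, one_smul]

theorem Φ_injective (hf : InjHull.IsInjectiveHull f) :
    Function.Injective (Φ (isPowerTorsion hf.toIsEssentialInj)) := by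
  rw [injective_iff_map_eq_zero]
  intro â hâ
  apply AdicCompletion.ext_evalₐ
  intro n
  obtain ⟨r, hr⟩ := Ideal.Quotient.mk_surjective (AdicCompletion.evalₐ (maximalIdeal A) n â)
  rw [map_zero, ← hr, Ideal.Quotient.eq_zero_iff_mem]
  apply mem_pow_of_forall_smul_eq_zero hf
  intro e he
  rw [← Φ_apply (isPowerTorsion hf.toIsEssentialInj) â hr.symm e he, hâ, LinearMap.zero_apply]

theorem Φ_surjective (hf : InjHull.IsInjectiveHull f) :
    Function.Surjective (Φ (isPowerTorsion hf.toIsEssentialInj)) := by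
  intro φ
  choose r hr using exists_smul_eq hf φ
  have hc : ∀ n, r n ≡ r (n + 1) [SMOD (maximalIdeal A ^ n • ⊤ : Submodule A A)] := by
    intro n
    rw [SModEq.sub_mem]
    have : r n - r (n + 1) ∈ maximalIdeal A ^ n := by
      apply mem_pow_of_forall_smul_eq_zero hf
      intro e he
      have he' : ∀ a ∈ maximalIdeal A ^ (n + 1), a • e = 0 := fun a ha =>
        he a (Ideal.pow_le_pow_right (Nat.le_succ n) ha)
      rw [sub_smul, ← hr n e he, ← hr (n + 1) e he', sub_self]
    simpa using this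
  let x : AdicCompletion.AdicCauchySequence (maximalIdeal A) A :=
    AdicCompletion.AdicCauchySequence.mk (maximalIdeal A) A r hc
  refine ⟨AdicCompletion.mk (maximalIdeal A) A x, ?_⟩
  ext e
  obtain ⟨n, hn⟩ := isPowerTorsion hf.toIsEssentialInj e
  rw [Φ_apply (isPowerTorsion hf.toIsEssentialInj) _ (AdicCompletion.evalₐ_mk _ n x) e hn]
  exact (hr n e hn).symm

/-- `End(E) ≃ Â` for `E` an injective hull of the residue field of a Noetherian local ring. -/
noncomputable def endEquiv (hf : InjHull.IsInjectiveHull f) :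
    Module.End A E ≃ₐ[A] AdicCompletion (maximalIdeal A) A :=
  (AlgEquiv.ofBijective (Φ (isPowerTorsion hf.toIsEssentialInj))
    ⟨Φ_injective hf, Φ_surjective hf⟩).symm

end Bij

end Groth.Agent.Helper8.Matlis
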