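import Groth.Agent.Lib.Helper8.RMod6

/-!
# The triangle `RHom_A(A/I, ω) → ω → Hom_A(I, E)[0]` for an ideal of finite length (helper8)
-/

set_option autoImplicit false

open CategoryTheory CategoryTheory.Limits Pretriangulated

universe u

namespace Groth.Agent.Helper8.RMod

open DerivedCategory Groth.Agent.Helper8.BiDual Groth.Agent.Helper3.HT

attribute [local instance] HasDerivedCategory.standard

variable {A : Type u} [CommRing A]

/-- an object of `D(A)` with cohomology only in degree `0` is its `H⁰` placed in degree `0` -/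
theorem nonempty_iso_inD_of_homology (X : Dual.D A) (N : Type u) [AddCommGroup N] [Module A N]
    (h0 : ∀ i : ℤ, i ≠ 0 → IsZero ((homologyFunctor (ModuleCat.{u} A) i).obj X))
    (e0 : (homologyFunctor (ModuleCat.{u} A) 0).obj X ≃ₗ[A] N) :
    Nonempty (X ≅ Dual.inD A N) := by
  have hge : X.IsGE 0 := (isGE_iff X 0).mpr (fun i hi => h0 i (by omega))
  have hle : X.IsLE 0 := (isLE_iff X 0).mpr (fun i hi => h0 i (by omega))
  obtain ⟨M0, ⟨e⟩⟩ := exists_iso_singleFunctor_obj_of_isGE_of_isLE X 0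
  let e1 : (homologyFunctor (ModuleCat.{u} A) 0).obj X ≅
      (homologyFunctor (ModuleCat.{u} A) 0).obj ((singleFunctor (ModuleCat.{u} A) 0).obj M0) :=
    (homologyFunctor (ModuleCat.{u} A) 0).mapIso e
  let e2 : (homologyFunctor (ModuleCat.{u} A) 0).obj ((singleFunctor (ModuleCat.{u} A) 0).obj M0) ≅
      M0 := (singleFunctorCompHomologyFunctorIso (ModuleCat.{u} A) 0).app M0
  let e3 : M0 ≅ ModuleCat.of A N := (e1 ≪≫ e2).symm ≪≫ e0.toModuleIso
  exact ⟨e ≪≫ (singleFunctor (ModuleCat.{u} A) 0).mapIso e3⟩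

/-- post-composition with an isomorphism as a linear equivalence -/
noncomputable def homCongrRight (X : Dual.D A) {Y Y' : Dual.D A} (e : Y ≅ Y') :
    (X ⟶ Y) ≃ₗ[A] (X ⟶ Y') :=
  LinearEquiv.ofLinearMap (Linear.rightComp A X e.hom) (Linear.rightComp A X e.inv)
    (by ext f; simp [Linear.rightComp]) (by ext f; simp [Linear.rightComp])

section Tri

variable [IsLocalRing A] [IsNoetherianRing A] (I : Ideal A)
  (R : Dual.D A ⥤ Dual.D (A ⧸ I)) (adj : DRing.restrictD (Ideal.Quotient.mk I) ⊣ R)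

include adj in
/-- the triangle `RHom_A(A/I, ω) → ω → Hom_A(I, E)[0] →` -/
theorem exists_triangle_finiteLength (ω : Dual.D A) (hω : Dual.IsDualizing A ω)
    (hn : Dual.IsNormalized A ω) (hIl : IsFiniteLength A I)
    (E : Type u) [AddCommGroup E] [Module A E] (f : IsLocalRing.ResidueField A →ₗ[A] E)
    (hf : InjHull.IsInjectiveHull f) :
    ∃ (u : (DRing.restrictD (Ideal.Quotient.mk I)).obj (R.obj ω) ⟶ ω)
      (v : ω ⟶ Dual.inD A (I →ₗ[A] E))
      (w : Dual.inD A (I →ₗ[A] E) ⟶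
        ((DRing.restrictD (Ideal.Quotient.mk I)).obj (R.obj ω))⟦(1 : ℤ)⟧),
      Triangle.mk u v w ∈ distTriang (Dual.D A) := by
  obtain ⟨J, a, b, e, hvan, hinj, hend, hext, hfinH⟩ := exists_model ω hω
  have hJ : ∀ n : ℤ, Injective (J.X n) := fun n =>
    (Module.injective_iff_injective_object A (J.X n)).mp (hinj n)
  have hses := Groth.Agent.Helper8.LC.isSES_subtype_mkQ I
  obtain ⟨δ, hδ⟩ := Z_triangle J hses.sc hses.shortExact hJ
  let e₁ := resRIso I R adj J a (fun i hi => hvan i (Or.inl hi)) hJ ω e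
  let e₂ : ω ≅ Z J (ModuleCat.of A A) := e.symm ≪≫ (ZunitIso J).symm
  -- the third vertex
  have hH : ∀ i : ℤ, (homologyFunctor (ModuleCat.{u} A) i).obj (Z J (ModuleCat.of A I)) ≃ₗ[A]
      (Dual.inD A I ⟶ ω⟦i⟧) := fun i =>
    (nonempty_homology_Z_equiv J a b hvan hinj (ModuleCat.of A I) i).some.trans
      (homCongrRight _ ((shiftFunctor (Dual.D A) i).mapIso e))
  have h0 : ∀ i : ℤ, i ≠ 0 →
      IsZero ((homologyFunctor (ModuleCat.{u} A) i).obj (Z J (ModuleCat.of A I))) := by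
    intro i hi
    have hsub : Subsingleton (Dual.inD A I ⟶ ω⟦i⟧) :=
      Groth.Agent.Helper8.DArt.subsingleton_hom_of_isFiniteLength (ω⟦i⟧) (hn i hi) I hIl
    have : Subsingleton ((homologyFunctor (ModuleCat.{u} A) i).obj (Z J (ModuleCat.of A I))) :=
      (hH i).toEquiv.subsingleton
    exact ModuleCat.isZero_of_subsingleton _
  obtain ⟨eF⟩ := Groth.Agent.Helper8.FLD.nonempty_F_equiv_hom ω hω hn hf I hIl
  obtain ⟨e₃'⟩ := nonempty_iso_inD_of_homology (Z J (ModuleCat.of A I)) (I →ₗ[A] E) h0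
    (((hH 0).trans (Groth.Agent.Helper8.BiDual.shiftZeroEquiv _ _)).trans eF)
  have hT := distinguished_of_isos _ _ _ hδ e₁ e₂ e₃'.symm
  exact ⟨_, _, _, hT⟩

end Tri

end Groth.Agent.Helper8.RMod
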