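import Groth.Agent.Lib.Helper8.BiDual9

/-!
# Bounded injective models of dualizing complexes and `RHom(κ, ω)` (helper8)
-/

set_option autoImplicit false

open CategoryTheory CategoryTheory.Limits Pretriangulated

universe u

namespace Groth.Agent.Helper8.BiDual

open DerivedCategory

attribute [local instance] HasDerivedCategory.standard

variable {A : Type u} [CommRing A]

/-- a bounded complex of injectives representing a dualizing complex -/
theorem exists_model (ω : Dual.D A) (hω : Dual.IsDualizing A ω) :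
    ∃ (J : DRing.Cx A) (a b : ℤ) (_ : Q.obj J ≅ ω),
      DRing.VanishesOutside J a b ∧ DRing.TermwiseInjective J ∧
      Function.Bijective (fun x : A => x • 𝟙 (Q.obj J)) ∧
      (∀ i : ℤ, i ≠ 0 → ∀ f : Q.obj J ⟶ (Q.obj J)⟦i⟧, f = 0) ∧
      ∀ i : ℤ, Module.Finite A ((homologyFunctor (ModuleCat.{u} A) i).obj (Q.obj J)) := by
  obtain ⟨a, b, hab⟩ := hω.finite_injective_dimension
  have hamp : DRing.HasInjAmplitudeIn A a b ω :=
    Groth.Agent.Helper11.DC.injAmp_of_hom_quotient_eq_zero ω a b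
      (fun I i hi g => @Subsingleton.elim _ (hab (A ⧸ I) i hi) g 0)
  obtain ⟨J, hvan, hinj, ⟨e⟩⟩ := hamp
  have hconj : ∀ x : A, x • 𝟙 (Q.obj J) = e.hom ≫ (x • 𝟙 ω) ≫ e.inv := by
    intro x
    rw [Linear.smul_comp, Linear.comp_smul, Category.id_comp, e.hom_inv_id]
  refine ⟨J, a, b, e, hvan, hinj, ⟨?_, ?_⟩, ?_, ?_⟩
  · intro x y hxy
    have hxy' : x • 𝟙 (Q.obj J) = y • 𝟙 (Q.obj J) := hxy
    rw [hconj, hconj] at hxy'
    have h1 := (cancel_epi e.hom).mp hxy'
    have h2 := (cancel_mono e.inv).mp h1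
    exact hω.toEnd_bijective.1 h2
  · intro f
    obtain ⟨x, hx⟩ := hω.toEnd_bijective.2 (e.inv ≫ f ≫ e.hom)
    refine ⟨x, ?_⟩
    have hx' : x • 𝟙 ω = e.inv ≫ f ≫ e.hom := hx
    show x • 𝟙 (Q.obj J) = f
    rw [hconj, hx']
    simp
  · intro i hi f
    have h0 : e.inv ≫ f ≫ (shiftFunctor (Dual.D A) i).map e.hom = 0 :=
      @Subsingleton.elim _ (hω.ext_self_subsingleton i hi) _ _
    have h1 : f ≫ (shiftFunctor (Dual.D A) i).map e.hom = 0 :=
      (cancel_epi e.inv).mp (h0.trans comp_zero.symm)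
    exact (cancel_mono ((shiftFunctor (Dual.D A) i).map e.hom)).mp (h1.trans zero_comp.symm)
  · intro i
    have := hω.finite_cohomology i
    exact Module.Finite.equiv
      ((homologyFunctor (ModuleCat.{u} A) i).mapIso e).symm.toLinearEquiv

/-- **`RHom(κ, ω) = κ[-n]`** for a dualizing complex `ω` and a maximal ideal `m` -/
theorem exists_unique_ext_residue [IsNoetherianRing A] (ω : Dual.D A)
    (hω : Dual.IsDualizing A ω) (m : Ideal A) [m.IsMaximal] :
    ∃ n : ℤ, (∀ i : ℤ, i ≠ n → Subsingleton (Dual.inD A (A ⧸ m) ⟶ ω⟦i⟧)) ∧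
      Nonempty ((Dual.inD A (A ⧸ m) ⟶ ω⟦n⟧) ≃ₗ[A] (A ⧸ m)) := by
  obtain ⟨J, a, b, e, hvan, hinj, hend, hext, hfin⟩ := exists_model ω hω
  obtain ⟨n, h1, ⟨h2⟩⟩ := main_Q J a b hvan hinj hend hext hfin m
  let tr : ∀ i : ℤ, (Dual.inD A (A ⧸ m) ⟶ (Q.obj J)⟦i⟧) ≃ₗ[A] (Dual.inD A (A ⧸ m) ⟶ ω⟦i⟧) :=
    fun i => LinearEquiv.ofBijective
      (Linear.rightComp A (Dual.inD A (A ⧸ m)) ((shiftFunctor (Dual.D A) i).map e.hom)) (by
        constructor
        · intro f g hfg
          exact (cancel_mono ((shiftFunctor (Dual.D A) i).map e.hom)).mp hfg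
        · intro g
          refine ⟨g ≫ (shiftFunctor (Dual.D A) i).map e.inv, ?_⟩
          show (g ≫ (shiftFunctor (Dual.D A) i).map e.inv) ≫ (shiftFunctor (Dual.D A) i).map e.hom = g
          rw [Category.assoc, ← Functor.map_comp, e.inv_hom_id, CategoryTheory.Functor.map_id,
            Category.comp_id])
  refine ⟨n, fun i hi => ⟨fun f g => ?_⟩, ⟨(tr n).symm.trans h2⟩⟩
  apply (tr i).symm.injective
  rw [h1 i hi ((tr i).symm f), h1 i hi ((tr i).symm g)]

end Groth.Agent.Helper8.BiDual
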