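import Groth.Agent.Lib.Helper8.DFin2

/-!
# Finiteness of `Hom(K, L[i])` in `D(A)`, part 3 (helper8)
-/


set_option autoImplicit false
universe u

namespace Groth.Agent.Helper8.DFin

open CategoryTheory Abelian DerivedCategory Pretriangulated Limits

attribute [local instance] HasDerivedCategory.standard

variable {A : Type u} [CommRing A]

theorem isGE_isLE_of_injAmp (L : Dual.D A) (a b : ℤ) (hL : DRing.HasInjAmplitudeIn A a b L) :
    L.IsGE a ∧ L.IsLE b := by
  obtain ⟨E, hE, _, ⟨e⟩⟩ := hL
  have h1 : E.IsStrictlyGE a := by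
    rw [CochainComplex.isStrictlyGE_iff]
    intro j hj
    exact hE j (Or.inl hj)
  have h2 : E.IsStrictlyLE b := by
    rw [CochainComplex.isStrictlyLE_iff]
    intro j hj
    exact hE j (Or.inr hj)
  have h3 : (Q.obj E).IsGE a := inferInstance
  have h4 : (Q.obj E).IsLE b := inferInstance
  exact ⟨TStructure.t.isGE_of_iso e a, TStructure.t.isLE_of_iso e b⟩

theorem noetherian_hom [IsNoetherianRing A] (K L : Dual.D A)
    (hK : ∀ i : ℤ, Module.Finite A ((homologyFunctor (ModuleCat.{u} A) i).obj K))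
    (hLf : ∀ i : ℤ, Module.Finite A ((homologyFunctor (ModuleCat.{u} A) i).obj L))
    (a b : ℤ) (hL : DRing.HasInjAmplitudeIn A a b L) (i : ℤ) :
    IsNoetherian A (K ⟶ L⟦i⟧) := by
  obtain ⟨hLge, hLle⟩ := isGE_isLE_of_injAmp L a b hL
  have hLbdd : BddFinCoh L :=
    ⟨⟨a, b, fun j hj => by
      rcases hj with hj | hj
      · exact L.isZero_of_isGE a j hj
      · exact L.isZero_of_isLE b j hj⟩, hLf⟩
  -- top truncation
  obtain ⟨X, Y, f, g, h, hXle, hYge, hT, hfiso, -⟩ := exists_trunc_triangle K (b - i)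
  -- bottom truncation of X
  obtain ⟨X', Y', f', g', h', hX'le, hY'ge, hT', -, hg'iso⟩ :=
    exists_trunc_triangle X (a - i - 1)
  -- Y' has bounded finite cohomology
  have hY'bdd : BddFinCoh Y' := by
    refine ⟨⟨a - i, b - i, ?_⟩, ?_⟩
    · intro j hj
      rcases lt_or_ge j (a - i) with hj' | hj'
      · exact Y'.isZero_of_isGE (a - i - 1 + 1) j (by omega)
      · have hj2 : b - i < j := by omega
        have := hg'iso j (by omega)
        exact (X.isZero_of_isLE (b - i) j hj2).of_iso
          (asIso ((homologyFunctor (ModuleCat.{u} A) j).map g')).symm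
    · intro j
      rcases lt_or_ge j (a - i) with hj | hj
      · have hz := Y'.isZero_of_isGE (a - i - 1 + 1) j (by omega)
        have : Subsingleton ((homologyFunctor (ModuleCat.{u} A) j).obj Y') :=
          ModuleCat.subsingleton_of_isZero hz
        exact Module.Finite.of_finite
      · have hi2 := hg'iso j (by omega)
        rcases le_or_gt j (b - i) with hj2 | hj2
        · have hi1 := hfiso j hj2
          have := hK j
          let e1 := (asIso ((homologyFunctor (ModuleCat.{u} A) j).map f)).symm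
          let e2 := asIso ((homologyFunctor (ModuleCat.{u} A) j).map g')
          exact Module.Finite.equiv (e1 ≪≫ e2).toLinearEquiv
        · have hz : IsZero ((homologyFunctor (ModuleCat.{u} A) j).obj Y') :=
            (X.isZero_of_isLE (b - i) j hj2).of_iso
              (asIso ((homologyFunctor (ModuleCat.{u} A) j).map g')).symm
          have : Subsingleton ((homologyFunctor (ModuleCat.{u} A) j).obj Y') :=
            ModuleCat.subsingleton_of_isZero hz
          exact Module.Finite.of_finite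
  have hN1 : IsNoetherian A (Y' ⟶ L⟦i⟧) := noethHom_of_bddFinCoh Y' L hY'bdd hLbdd i
  -- Hom(X, L[i]) is a quotient of Hom(Y', L[i])
  have hN2 : IsNoetherian A (X ⟶ L⟦i⟧) := by
    refine isNoetherian_of_surjective (Linear.leftComp A (L⟦i⟧) g') ?_
    rw [LinearMap.range_eq_top]
    intro φ
    have hLi : (L⟦i⟧).IsGE (a - i) := TStructure.t.isGE_shift L a i (a - i) (by omega)
    have hz : f' ≫ φ = 0 :=
      TStructure.t.zero_of_isLE_of_isGE (f' ≫ φ) (a - i - 1) (a - i) (by omega) hX'le hLi
    obtain ⟨ψ, hψ⟩ := Triangle.yoneda_exact₂ _ hT' φ hz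
    exact ⟨ψ, hψ.symm⟩
  -- Hom(K, L[i]) embeds into Hom(X, L[i])
  refine isNoetherian_of_injective (Linear.leftComp A (L⟦i⟧) f) ?_
  rw [← LinearMap.ker_eq_bot, LinearMap.ker_eq_bot']
  intro φ hφ
  have hφ' : f ≫ φ = 0 := hφ
  obtain ⟨ψ, hψ⟩ := Triangle.yoneda_exact₂ _ hT φ hφ'
  have hψ0 : ψ = 0 := hom_shift_eq_zero_of_isGE_of_injAmp Y L a b (b - i + 1) i hL (by omega) ψ
  rw [hψ, hψ0]
  exact comp_zero

end Groth.Agent.Helper8.DFin
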