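import Groth.Agent.Lib.Helper3.HT4
import Groth.Agent.Lib.Helper11.DCInjAmp
import Mathlib.Algebra.Homology.DerivedCategory.Linear

/-!
# `Hⁿ(Hom•(K, L)) ≃ Hom_{D(A)}(K, L[n])` for K-injective `L` (helper8)
-/

set_option autoImplicit false

open CategoryTheory CategoryTheory.Limits CochainComplex HomComplex

universe u

namespace Groth.Agent.Helper8.HomH

open DerivedCategory

attribute [local instance] HasDerivedCategory.standard

variable {A : Type u} [CommRing A]

section Gen

/-- the homology of a complex of modules as cocycles modulo coboundaries -/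
noncomputable def homologyEquiv (C : DRing.Cx A) (n : ℤ) :
    C.homology n ≃ₗ[A]
      (LinearMap.ker (C.sc' (n - 1) n (n + 1)).g.hom ⧸
        LinearMap.range (C.sc' (n - 1) n (n + 1)).moduleCatToCycles) :=
  ((C.homologyIsoSc' (n - 1) n (n + 1) (by simp) (by simp)) ≪≫
    (C.sc' (n - 1) n (n + 1)).moduleCatHomologyIso).toLinearEquiv

end Gen

variable (K L : DRing.Cx A) (n : ℤ)

/-- cocycles of degree `n` in `Hom•(K, L)` -/
def cocyc : Submodule A (Cochain K L n) := LinearMap.ker (δ_hom A K L n (n + 1))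

variable {K L n}

/-- the cocycle attached to an element of `cocyc` -/
def toCocycle (z : cocyc K L n) : Cocycle K L n :=
  Cocycle.mk z.1 (n + 1) rfl (by
    exact LinearMap.mem_ker.mp z.2)

theorem toCocycle_add (z z' : cocyc K L n) : toCocycle (z + z') = toCocycle z + toCocycle z' := by
  ext
  rfl

theorem toCocycle_smul (a : A) (z : cocyc K L n) : toCocycle (a • z) = a • toCocycle z := by
  ext
  rfl

/-- the chain map `K ⟶ L⟦n⟧` attached to a cocycle -/
noncomputable def toChain (z : cocyc K L n) : K ⟶ L⟦n⟧ := Cocycle.equivHomShift.symm (toCocycle z)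

theorem toChain_f (z : cocyc K L n) (p q : ℤ) (hpq : p + n = q) :
    (toChain z).f p = z.1.v p q hpq ≫ (L.shiftFunctorObjXIso n p q hpq.symm).inv := by
  subst hpq
  simp [toChain, Cocycle.equivHomShift_symm_apply, toCocycle,
    Cochain.rightShift_v _ n 0 (zero_add n) p p (add_zero p) (p + n) rfl]

theorem toChain_add (z z' : cocyc K L n) : toChain (z + z') = toChain z + toChain z' := by
  unfold toChain
  rw [toCocycle_add, map_add]

theorem toChain_smul (a : A) (z : cocyc K L n) : toChain (a • z) = a • toChain z := by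
  ext p : 2
  rw [toChain_f _ p (p + n) rfl, HomologicalComplex.smul_f_apply, toChain_f _ p (p + n) rfl]
  congr 1

variable (K L n)

/-- cocycles to morphisms in the derived category -/
noncomputable def toHomD : cocyc K L n →ₗ[A] (Q.obj K ⟶ (Q.obj L)⟦n⟧) where
  toFun z := Q.map (toChain z) ≫ (Q.commShiftIso n).hom.app L
  map_add' z z' := by
    rw [toChain_add, Functor.map_add, Preadditive.add_comp]
  map_smul' a z := by
    rw [toChain_smul, Functor.map_smul, Linear.smul_comp]
    rfl

theorem toHomD_surjective [L.IsKInjective] : Function.Surjective (toHomD K L n) := by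
  intro f
  obtain ⟨φ, hφ⟩ := Groth.Agent.Helper11.DC.exists_lift_of_isKInjective K (L⟦n⟧)
    (f ≫ (Q.commShiftIso n).inv.app L)
  let c : Cocycle K L n := Cocycle.equivHomShift φ
  have hc : δ n (n + 1) c.1 = 0 := c.δ_eq_zero (n + 1)
  let z : cocyc K L n := ⟨c.1, LinearMap.mem_ker.mpr hc⟩
  have hz : toCocycle z = c := by
    ext
    rfl
  refine ⟨z, ?_⟩
  show Q.map (toChain z) ≫ (Q.commShiftIso n).hom.app L = f
  have h1 : toChain z = φ := by
    unfold toChain
    rw [hz]
    exact Cocycle.equivHomShift.symm_apply_apply φ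
  rw [h1, hφ, Category.assoc, Iso.inv_hom_id_app]
  exact Category.comp_id _

theorem toHomD_eq_zero_iff [L.IsKInjective] (z : cocyc K L n) :
    toHomD K L n z = 0 ↔ ∃ y : Cochain K L (n - 1), δ (n - 1) n y = z.1 := by
  have h1 : toHomD K L n z = 0 ↔ Q.map (toChain z) = 0 := by
    show Q.map (toChain z) ≫ (Q.commShiftIso n).hom.app L = 0 ↔ _
    constructor
    · intro h
      exact (cancel_mono ((Q.commShiftIso n).hom.app L)).mp (h.trans zero_comp.symm)
    · intro h
      rw [h, zero_comp]
  have h2 : Q.map (toChain z) = 0 ↔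
      (HomotopyCategory.quotient (ModuleCat.{u} A) (ComplexShape.up ℤ)).map (toChain z) = 0 := by
    constructor
    · intro h
      obtain ⟨H⟩ := Groth.Agent.Helper11.DC.homotopy_zero_of_Q_map_eq_zero K (L⟦n⟧) (toChain z) h
      rw [HomotopyCategory.eq_of_homotopy _ _ H, Functor.map_zero]
    · intro h
      refine (Groth.Agent.Helper11.DC.Qh_quot_map (toChain z)).symm.trans ?_
      rw [h]
      exact Functor.map_zero _ _ _
  rw [h1, h2]
  have h3 : (HomotopyCategory.quotient (ModuleCat.{u} A) (ComplexShape.up ℤ)).map (toChain z) =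
      CohomologyClass.toHom (CohomologyClass.mk (toCocycle z)) := rfl
  rw [h3, CohomologyClass.toHom_mk_eq_zero_iff, mem_coboundaries_iff (toCocycle z) (n - 1) (by omega)]
  rfl

/-- **`Hⁿ(Hom•(K, L)) ≃ Hom_{D(A)}(K, L[n])`** for K-injective `L` -/
theorem nonempty_homology_homCx_equiv [L.IsKInjective] :
    Nonempty ((DRing.homCx K L).homology n ≃ₗ[A] (Q.obj K ⟶ (Q.obj L)⟦n⟧)) := by
  let C := DRing.homCx K L
  let Φ : LinearMap.ker (C.sc' (n - 1) n (n + 1)).g.hom →ₗ[A] (Q.obj K ⟶ (Q.obj L)⟦n⟧) :=
    toHomD K L n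
  have hΦ : Function.Surjective Φ := toHomD_surjective K L n
  have hker : LinearMap.range (C.sc' (n - 1) n (n + 1)).moduleCatToCycles = LinearMap.ker Φ := by
    ext z
    rw [LinearMap.mem_ker]
    have := toHomD_eq_zero_iff K L n z
    rw [show Φ z = toHomD K L n z from rfl, this]
    constructor
    · rintro ⟨y, hy⟩
      refine ⟨y, ?_⟩
      exact congrArg Subtype.val hy
    · rintro ⟨y, hy⟩
      exact ⟨y, Subtype.ext hy⟩
  exact ⟨(homologyEquiv C n).trans ((Submodule.quotEquivOfEq _ _ hker).trans
    (LinearMap.quotKerEquivOfSurjective Φ hΦ))⟩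

end Groth.Agent.Helper8.HomH
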