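import Groth.Agent.Lib.Helper8.DFin1

/-!
# Finiteness of `Hom(K, L[i])` in `D(A)`, part 2 (helper8)
-/

set_option autoImplicit false
universe u

namespace Groth.Agent.Helper8.DFin

open CategoryTheory Abelian DerivedCategory Pretriangulated Limits

attribute [local instance] HasDerivedCategory.standard

variable {A : Type u} [CommRing A]

theorem thickLike_right (K : Dual.D A) :
    Groth.Agent.Helper11.DC.ThickLike (fun L : Dual.D A => NoethHom K L) where
  iso e h := noethHom_of_iso_right e h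
  shift _ n h := noethHom_shift_right n h
  ext T hT h1 h3 := noethHom_ext_right T hT h1 h3
  zero _ hL := noethHom_of_isZero_right hL

theorem thickLike_left (L : Dual.D A) :
    Groth.Agent.Helper11.DC.ThickLike (fun K : Dual.D A => NoethHom K L) where
  iso e h := noethHom_of_iso_left e h
  shift _ n h := noethHom_shift_left n h
  ext T hT h1 h3 := noethHom_ext_left T hT h1 h3
  zero _ hK := noethHom_of_isZero_left hK

/-- bounded finite cohomology -/
def BddFinCoh (K : Dual.D A) : Prop :=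
  (∃ a b : ℤ, ∀ i : ℤ, (i < a ∨ b < i) →
    IsZero ((homologyFunctor (ModuleCat.{u} A) i).obj K)) ∧
  ∀ i : ℤ, Module.Finite A ((homologyFunctor (ModuleCat.{u} A) i).obj K)

theorem noethHom_of_bddFinCoh [IsNoetherianRing A] (K L : Dual.D A) (hK : BddFinCoh K)
    (hL : BddFinCoh L) : NoethHom K L := by
  obtain ⟨⟨a, b, hab⟩, hKf⟩ := hK
  obtain ⟨⟨c, d, hcd⟩, hLf⟩ := hL
  refine (thickLike_left L).of_homology K a b hab ?_
  intro i
  have := hKf i
  refine (thickLike_right _).of_homology L c d hcd ?_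
  intro j
  have := hLf j
  exact noethHom_single_single _ _


/-- truncation triangle with cohomology computations -/
theorem exists_trunc_triangle (K : Dual.D A) (n : ℤ) :
    ∃ (X Y : Dual.D A) (f : X ⟶ K) (g : K ⟶ Y) (h : Y ⟶ X⟦(1 : ℤ)⟧),
      X.IsLE n ∧ Y.IsGE (n + 1) ∧ Triangle.mk f g h ∈ distTriang (Dual.D A) ∧
      (∀ j : ℤ, j ≤ n → IsIso ((homologyFunctor (ModuleCat.{u} A) j).map f)) ∧
      (∀ j : ℤ, n + 1 ≤ j → IsIso ((homologyFunctor (ModuleCat.{u} A) j).map g)) := by
  obtain ⟨X, Y, hX, hY, f, g, h, hT⟩ := TStructure.t.exists_triangle K n (n + 1) rfl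
  have hXle : X.IsLE n := ⟨hX⟩
  have hYge : Y.IsGE (n + 1) := ⟨hY⟩
  refine ⟨X, Y, f, g, h, hXle, hYge, hT, ?_, ?_⟩
  · intro i hi
    have hY1 : IsZero ((homologyFunctor (ModuleCat.{u} A) (i - 1)).obj Y) :=
      Y.isZero_of_isGE (n + 1) (i - 1) (by omega)
    have hY2 : IsZero ((homologyFunctor (ModuleCat.{u} A) i).obj Y) :=
      Y.isZero_of_isGE (n + 1) i (by omega)
    have : Mono ((homologyFunctor (ModuleCat.{u} A) i).map f) :=
      (HomologySequence.mono_homologyMap_mor₁_iff (Triangle.mk f g h) hT (i - 1) i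
        (by omega)).mpr (hY1.eq_of_src _ _)
    have : Epi ((homologyFunctor (ModuleCat.{u} A) i).map f) :=
      (HomologySequence.epi_homologyMap_mor₁_iff (Triangle.mk f g h) hT i).mpr
        (hY2.eq_of_tgt _ _)
    exact isIso_of_mono_of_epi _
  · intro i hi
    have hX1 : IsZero ((homologyFunctor (ModuleCat.{u} A) i).obj X) :=
      X.isZero_of_isLE n i (by omega)
    have hX2 : IsZero ((homologyFunctor (ModuleCat.{u} A) (i + 1)).obj X) :=
      X.isZero_of_isLE n (i + 1) (by omega)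
    have : Mono ((homologyFunctor (ModuleCat.{u} A) i).map g) :=
      (HomologySequence.mono_homologyMap_mor₂_iff (Triangle.mk f g h) hT i).mpr
        (hX1.eq_of_src _ _)
    have : Epi ((homologyFunctor (ModuleCat.{u} A) i).map g) :=
      (HomologySequence.epi_homologyMap_mor₂_iff (Triangle.mk f g h) hT i (i + 1) rfl).mpr
        (hX2.eq_of_tgt _ _)
    exact isIso_of_mono_of_epi _

/-- no maps from `D^{≥ m}` to an object of injective amplitude `[a,b]` with `b < m` -/
theorem hom_eq_zero_of_isGE_of_injAmp (Y L : Dual.D A) (a b m : ℤ)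
    (hL : DRing.HasInjAmplitudeIn A a b L) [Y.IsGE m] (hm : b < m) (f : Y ⟶ L) : f = 0 := by
  obtain ⟨E, hE, hinj, ⟨e⟩⟩ := hL
  have : E.IsKInjective := Groth.Agent.Helper11.DC.isKInjective_of_vanishesBelow E a
    (fun j hj => hE j (Or.inl hj)) hinj
  obtain ⟨Y', hY', ⟨eY⟩⟩ := exists_iso_Q_obj_of_isGE Y m
  obtain ⟨φ, hφ⟩ := Groth.Agent.Helper11.DC.exists_lift_of_isKInjective Y' E
    (eY.inv ≫ f ≫ e.inv)
  have hφ0 : φ = 0 := by
    apply HomologicalComplex.hom_ext
    intro p
    rcases lt_or_ge p m with hp | hp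
    · exact (CochainComplex.isZero_of_isStrictlyGE Y' m p hp).eq_of_src _ _
    · exact (hE p (Or.inr (by omega))).eq_of_tgt _ _
  rw [hφ0, Functor.map_zero] at hφ
  have h1 : f ≫ e.inv = 0 := (cancel_epi eY.inv).mp (hφ.symm.trans comp_zero.symm)
  exact (cancel_mono e.inv).mp (h1.trans zero_comp.symm)

/-- shifted version -/
theorem hom_shift_eq_zero_of_isGE_of_injAmp (Y L : Dual.D A) (a b m i : ℤ)
    (hL : DRing.HasInjAmplitudeIn A a b L) [Y.IsGE m] (hm : b - i < m) (f : Y ⟶ L⟦i⟧) :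
    f = 0 := by
  have hY : (Y⟦-i⟧).IsGE (m + i) := TStructure.t.isGE_shift Y m (-i) (m + i) (by omega)
  let ε : (L⟦i⟧)⟦-i⟧ ≅ L := (shiftFunctorCompIsoId (Dual.D A) i (-i) (by omega)).app L
  have h0 := hom_eq_zero_of_isGE_of_injAmp (Y⟦-i⟧) L a b (m + i) hL (by omega)
    ((shiftFunctor (Dual.D A) (-i)).map f ≫ ε.hom)
  have h1 : (shiftFunctor (Dual.D A) (-i)).map f = 0 :=
    (cancel_mono ε.hom).mp (h0.trans zero_comp.symm)
  exact (shiftFunctor (Dual.D A) (-i)).map_injective (h1.trans (Functor.map_zero _ _ _).symm)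


end Groth.Agent.Helper8.DFin
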