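import Groth.Agent.Lib.Helper8.LOC12

/-!
# Localization of dualizing complexes, part 13: `δ(p) = dim A/p` in the local case (helper8)
-/

set_option autoImplicit false

open CategoryTheory CategoryTheory.Limits Opposite Pretriangulated

universe u

namespace Groth.Agent.Helper8.LOC

open DerivedCategory ChangeOfRings IsLocalRing

attribute [local instance] HasDerivedCategory.standard

theorem enat_toNat_lt_toNat {m n : ℕ∞} (hm : m ≠ ⊤) (hn : n ≠ ⊤) (h : m < n) :
    m.toNat < n.toNat := by
  lift m to ℕ using hm
  lift n to ℕ using hn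
  simpa using h

section Order

variable {A : Type u} [CommRing A] [IsNoetherianRing A]

theorem wellFoundedGT_primeSpectrum : WellFoundedGT (PrimeSpectrum A) :=
  ⟨Subrelation.wf (r := InvImage (· > ·) (fun x : PrimeSpectrum A => x.asIdeal))
    (fun {a b} h => (PrimeSpectrum.asIdeal_lt_asIdeal b a).mpr h)
    (InvImage.wf _ wellFounded_gt)⟩

theorem height_lt_top' (x : PrimeSpectrum A) : Order.height x < ⊤ := by
  rw [← PrimeSpectrum.height_eq_orderHeight]
  exact Ideal.height_lt_top x.isPrime.ne_top

theorem wellFoundedLT_primeSpectrum : WellFoundedLT (PrimeSpectrum A) :=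
  ⟨Subrelation.wf (r := InvImage (· < ·) (fun x : PrimeSpectrum A => (Order.height x).toNat))
    (fun {a b} h => by
      show (Order.height a).toNat < (Order.height b).toNat
      have h1 := Order.height_strictMono h (height_lt_top' a)
      exact enat_toNat_lt_toNat (height_lt_top' a).ne (height_lt_top' b).ne h1)
    (InvImage.wf _ wellFounded_lt)⟩

variable (ω : Dual.D A) (hω : Dual.IsDualizing A ω)

/-- `degAt` is strictly monotone -/
theorem degAt_lt_of_lt (p q : PrimeSpectrum A) (h : p < q) :
    degAt ω hω p.asIdeal < degAt ω hω q.asIdeal := by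
  haveI := wellFoundedGT_primeSpectrum (A := A)
  induction' hk : (Order.height q).toNat using Nat.strong_induction_on with k ih generalizing p q
  obtain ⟨x, hpx, hxq⟩ := exists_le_covBy_of_lt h
  have h1 := degAt_eq_of_covBy ω hω x q hxq
  rcases hpx.eq_or_lt with rfl | hlt
  · omega
  · have h2 : (Order.height x).toNat < k := by
      rw [← hk]
      exact enat_toNat_lt_toNat (height_lt_top' x).ne (height_lt_top' q).ne
        (Order.height_strictMono hxq.lt (height_lt_top' x))
    have h3 := ih _ h2 p x hlt rfl
    omega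

theorem degAt_series (s : LTSeries (PrimeSpectrum A)) (i : Fin (s.length + 1)) :
    degAt ω hω (s 0).asIdeal + (i : ℤ) ≤ degAt ω hω (s i).asIdeal := by
  obtain ⟨i, hi⟩ := i
  induction i with
  | zero => simp
  | succ i ih =>
    have h1 := ih (by omega)
    have h2 : s ⟨i, by omega⟩ < s ⟨i + 1, hi⟩ := s.strictMono (by simp)
    have h3 := degAt_lt_of_lt ω hω _ _ h2
    push_cast
    push_cast at h1
    omega

end Order

section Local

variable {A : Type u} [CommRing A] [IsLocalRing A] [IsNoetherianRing A] (ω : Dual.D A)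
  (hω : Dual.IsDualizing A ω) (hn : Dual.IsNormalized A ω)

include hn in
theorem degAt_maximalIdeal : degAt ω hω (maximalIdeal A) = 0 := by
  by_contra hne
  have h1 : Nontrivial (LocalizedModule (maximalIdeal A).primeCompl
      (Dual.inD A (A ⧸ maximalIdeal A) ⟶ ω⟦degAt ω hω (maximalIdeal A)⟧)) :=
    (nontrivial_locHom_quot_iff ω hω _ _).mpr rfl
  have h2 : Subsingleton (Dual.inD A (A ⧸ maximalIdeal A) ⟶ ω⟦degAt ω hω (maximalIdeal A)⟧) :=
    hn _ hne
  rw [← not_subsingleton_iff_nontrivial] at h1
  exact h1 inferInstance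

include hn in
theorem degAt_nonpos (q : PrimeSpectrum A) : degAt ω hω q.asIdeal ≤ 0 := by
  have hle : q ≤ closedPoint A := IsLocalRing.le_maximalIdeal q.isPrime.ne_top
  rcases hle.eq_or_lt with rfl | hlt
  · exact (degAt_maximalIdeal ω hω hn).le
  · have h1 := degAt_lt_of_lt ω hω q (closedPoint A) hlt
    have h2 : degAt ω hω (closedPoint A).asIdeal = 0 := degAt_maximalIdeal ω hω hn
    omega

include hn in
theorem coheight_le_neg_degAt (q : PrimeSpectrum A) :
    Order.coheight q ≤ ((-degAt ω hω q.asIdeal).toNat : ℕ∞) := by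
  apply Order.coheight_le
  intro s hs
  have h1 := degAt_series ω hω s (Fin.last _)
  have h2 := degAt_nonpos ω hω hn (s (Fin.last _))
  have h3 : s 0 = q := hs
  rw [h3] at h1
  have h4 : s.length ≤ (-degAt ω hω q.asIdeal).toNat := by
    simp only [Fin.val_last] at h1
    omega
  exact_mod_cast h4

include hn in
theorem le_coheight_of_degAt (k : ℕ) : ∀ q : PrimeSpectrum A, -degAt ω hω q.asIdeal = k →
    (k : ℕ∞) ≤ Order.coheight q := by
  induction k with
  | zero =>
    intro q _
    simp
  | succ k ih =>
    intro q hq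
    haveI := wellFoundedLT_primeSpectrum (A := A)
    have hne : q ≠ closedPoint A := by
      rintro rfl
      have h2 : degAt ω hω (closedPoint A).asIdeal = 0 := degAt_maximalIdeal ω hω hn
      push_cast at hq
      omega
    have hlt : q < closedPoint A :=
      lt_of_le_of_ne (IsLocalRing.le_maximalIdeal q.isPrime.ne_top) hne
    obtain ⟨x, hqx, -⟩ := exists_covBy_le_of_lt hlt
    have h1 := degAt_eq_of_covBy ω hω q x hqx
    have h2 := ih x (by push_cast at hq; omega)
    have h3 := Order.coheight_add_one_le hqx.lt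
    calc ((k + 1 : ℕ) : ℕ∞) = (k : ℕ∞) + 1 := by push_cast; rfl
      _ ≤ Order.coheight x + 1 := by gcongr
      _ ≤ Order.coheight q := h3

include hn in
/-- **`δ(q) = dim A/q`** for a normalized dualizing complex over a local ring -/
theorem ringKrullDim_quotient_eq_neg_degAt (q : PrimeSpectrum A) :
    ringKrullDim (A ⧸ q.asIdeal) = (((-degAt ω hω q.asIdeal).toNat : ℕ) : WithBot ℕ∞) := by
  rw [ringKrullDim_quotient]
  have hset : PrimeSpectrum.zeroLocus (q.asIdeal : Set A) = Set.Ici q := by
    ext x
    rw [PrimeSpectrum.mem_zeroLocus, Set.mem_Ici, SetLike.coe_subset_coe]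
    exact PrimeSpectrum.asIdeal_le_asIdeal q x
  rw [hset, ← Order.coheight_eq_krullDim_Ici]
  have h := le_antisymm (coheight_le_neg_degAt ω hω hn q)
    (le_coheight_of_degAt ω hω hn _ q (Int.toNat_of_nonneg (by
      have := degAt_nonpos ω hω hn q
      omega)).symm)
  rw [h]
  rfl

end Local

end Groth.Agent.Helper8.LOC
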