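import Groth.Agent.Lib.Helper8.BassCx1
import Groth.Agent.Lib.Helper8.LOC13

/-!
# Bass' lemma for complexes, part 2 (helper8)
-/

set_option autoImplicit false

open CategoryTheory CategoryTheory.Limits Opposite Pretriangulated

universe u

namespace Groth.Agent.Helper8.BassCx

open DerivedCategory Groth.Agent.Helper8.LC

attribute [local instance] HasDerivedCategory.standard

variable {R : Type u} [CommRing R] [IsNoetherianRing R] (L : Dual.D R) (d : ℤ)

/-- dévissage: vanishing of `Ext^i(N, L)`, `i > d`, for finite modules killed by `J`, from the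
case `N = R/p`, `p ⊇ J` prime -/
theorem dev (J : Ideal R)
    (hp : ∀ (p : Ideal R) [p.IsPrime], J ≤ p → ∀ i : ℤ, d < i →
      Subsingleton (Dual.inD R (R ⧸ p) ⟶ L⟦i⟧))
    (N : Type u) [AddCommGroup N] [Module R N] [hfin : Module.Finite R N]
    (hN : ∀ r ∈ J, ∀ n : N, r • n = 0) (i : ℤ) (hi : d < i) :
    Subsingleton (Dual.inD R N ⟶ L⟦i⟧) := by
  revert hN i
  induction hfin using IsNoetherianRing.induction_on_isQuotientEquivQuotientPrime R with
  | subsingleton N =>
    intro _ i _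
    have hz : IsZero (Dual.inD R N) :=
      Functor.map_isZero _ (ModuleCat.isZero_of_subsingleton _)
    exact ⟨fun f g => hz.eq_of_src f g⟩
  | quotient N p e =>
    intro hN i hi
    have hJp : J ≤ p.asIdeal := by
      intro r hr
      have h1 := hN r hr (e.symm (Submodule.Quotient.mk 1))
      have h2 : r • (Submodule.Quotient.mk 1 : R ⧸ p.asIdeal) = 0 := by
        have := congrArg e h1
        rwa [map_smul, e.apply_symm_apply, map_zero] at this
      rw [← Submodule.Quotient.mk_smul, Submodule.Quotient.mk_eq_zero, smul_eq_mul, mul_one] at h2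
      exact h2
    have := hp p.asIdeal hJp i hi
    let ι : Dual.inD R N ≅ Dual.inD R (R ⧸ p.asIdeal) :=
      (singleFunctor (ModuleCat.{u} R) 0).mapIso e.toModuleIso
    exact (Iso.homCongr ι (Iso.refl (L⟦i⟧))).subsingleton_congr.mpr this
  | exact N₁ N₂ N₃ f g hf hg hfg ih1 ih3 =>
    intro hN i hi
    have h1 := ih1 (fun r hr n => by
      apply hf
      rw [map_smul, map_zero]
      exact hN r hr (f n)) i hi
    have h3 := ih3 (fun r hr n => by
      obtain ⟨m, rfl⟩ := hg n
      rw [← map_smul, hN r hr m, map_zero]) i hi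
    exact subsingleton_of_ses ⟨hf, hfg, hg⟩ _ h1 h3

variable (a : ℤ)
  (hLa : ∀ j : ℤ, j < a → IsZero ((homologyFunctor (ModuleCat.{u} R) j).obj L))
  (hLf : ∀ j : ℤ, Module.Finite R ((homologyFunctor (ModuleCat.{u} R) j).obj L))

include hLa hLf in
theorem noetherian_hom (N : Type u) [AddCommGroup N] [Module R N] [Module.Finite R N] (i : ℤ) :
    IsNoetherian R (Dual.inD R N ⟶ L⟦i⟧) := by
  refine Groth.Agent.Helper8.RFin.noetherian_hom_single_of_bddBelow (ModuleCat.of R N) (L⟦i⟧)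
    (a - i) (Groth.Agent.Helper8.LOC.isZero_homology_shift L a hLa i) (fun j => ?_)
  let e : (homologyFunctor (ModuleCat.{u} R) j).obj (L⟦i⟧) ≅
      (homologyFunctor (ModuleCat.{u} R) (i + j)).obj L :=
    ((homologyFunctor (ModuleCat.{u} R) 0).shiftIso i j (i + j) rfl).app L
  have := hLf (i + j)
  exact Module.Finite.equiv e.symm.toLinearEquiv

include hLa hLf in
/-- the key step -/
theorem subsingleton_prime
    (hmax : ∀ (n : Ideal R) [n.IsMaximal] (i : ℤ), d < i →
      Subsingleton (Dual.inD R (R ⧸ n) ⟶ L⟦i⟧)) :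
    ∀ (q : PrimeSpectrum R) (i : ℤ), d < i →
      Subsingleton (Dual.inD R (R ⧸ q.asIdeal) ⟶ L⟦i⟧) := by
  haveI := Groth.Agent.Helper8.LOC.wellFoundedGT_primeSpectrum (A := R)
  intro q
  induction q using IsWellFounded.induction (· > · : PrimeSpectrum R → PrimeSpectrum R → Prop) with
  | ind q ih =>
  intro i hi
  by_cases hqm : q.asIdeal.IsMaximal
  · exact hmax q.asIdeal i hi
  haveI := q.isPrime
  have hnoeth := noetherian_hom L a hLa hLf (R ⧸ q.asIdeal) i
  -- every maximal ideal misses an annihilating element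
  have hann : ∀ n : Ideal R, n.IsMaximal → ∃ r : R, r ∉ n ∧
      ∀ φ : Dual.inD R (R ⧸ q.asIdeal) ⟶ L⟦i⟧, r • φ = 0 := by
    intro n hn
    by_cases hqn : q.asIdeal ≤ n
    · have hne : q.asIdeal ≠ n := fun h => hqm (h ▸ hn)
      obtain ⟨x, hxn, hxq⟩ := SetLike.exists_of_lt (lt_of_le_of_ne hqn hne)
      -- vanishing of `Ext^{i+1}(R/(q+x), L)`
      have hv : Subsingleton (Dual.inD R (R ⧸ (q.asIdeal ⊔ Ideal.span {x})) ⟶ L⟦i + 1⟧) := by
        refine dev L d (q.asIdeal ⊔ Ideal.span {x}) (fun p hp hJp j hj => ?_) _ (fun r hr n => ?_)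
          (i + 1) (by omega)
        · have hlt : q < ⟨p, hp⟩ := by
            rw [← PrimeSpectrum.asIdeal_lt_asIdeal]
            refine lt_of_le_of_ne (le_trans le_sup_left hJp) (fun h => hxq ?_)
            have : x ∈ p := hJp (Submodule.mem_sup_right (Ideal.subset_span rfl))
            rw [h]
            exact this
          exact ih ⟨p, hp⟩ hlt j hj
        · obtain ⟨c, rfl⟩ := Submodule.Quotient.mk_surjective _ n
          rw [← Submodule.Quotient.mk_smul, Submodule.Quotient.mk_eq_zero, smul_eq_mul]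
          exact Ideal.mul_mem_right c _ hr
      have hv' : Subsingleton (Dual.inD R (R ⧸ (q.asIdeal ⊔ Ideal.span {x})) ⟶
          (L⟦i⟧)⟦(1 : ℤ)⟧) :=
        (Iso.homCongr (Iso.refl _)
          (Groth.Agent.Helper8.LOC.shiftShiftIso L i 1)).subsingleton_congr.mpr hv
      have hdiv : ∀ φ : Dual.inD R (R ⧸ q.asIdeal) ⟶ L⟦i⟧, ∃ ψ : Dual.inD R (R ⧸ q.asIdeal) ⟶ L⟦i⟧,
          φ = x • ψ := by
        intro φ
        obtain ⟨ψ, hψ⟩ := exists_of_ses (isSES_mulx q.asIdeal x hxq) (L⟦i⟧) hv' φ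
        refine ⟨ψ, ?_⟩
        rw [hψ, single_map_mulx, Linear.smul_comp, Category.id_comp]
      have hfg : (⊤ : Submodule R (Dual.inD R (R ⧸ q.asIdeal) ⟶ L⟦i⟧)).FG :=
        (isNoetherian_def.mp hnoeth) ⊤
      obtain ⟨r, hr1, hr2⟩ := Submodule.exists_sub_one_mem_and_smul_eq_zero_of_fg_of_le_smul
        (Ideal.span {x}) ⊤ hfg (by
          intro φ _
          obtain ⟨ψ, rfl⟩ := hdiv φ
          exact Submodule.smul_mem_smul (Ideal.subset_span rfl) Submodule.mem_top)
      refine ⟨r, fun hrn => ?_, fun φ => hr2 φ Submodule.mem_top⟩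
      have h1 : r - 1 ∈ n := (Ideal.span_singleton_le_iff_mem n).mpr hxn hr1
      have h2 : (1 : R) ∈ n := by
        have := n.sub_mem hrn h1
        rwa [sub_sub_cancel] at this
      exact hn.ne_top ((Ideal.eq_top_iff_one n).mpr h2)
    · obtain ⟨r, hrq, hrn⟩ := Set.not_subset.mp hqn
      exact ⟨r, hrn, fun φ => smul_hom_eq_zero q.asIdeal r hrq _ φ⟩
  -- hence the annihilator is the unit ideal
  let I : Ideal R := Module.annihilator R (Dual.inD R (R ⧸ q.asIdeal) ⟶ L⟦i⟧)
  have hI : I = ⊤ := by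
    by_contra hne
    obtain ⟨n, hn, hIn⟩ := Ideal.exists_le_maximal I hne
    obtain ⟨r, hrn, hr⟩ := hann n hn
    exact hrn (hIn (Module.mem_annihilator.mpr hr))
  refine ⟨fun f g => ?_⟩
  have h1 : (1 : R) ∈ I := by rw [hI]; exact Submodule.mem_top
  have key : ∀ φ : Dual.inD R (R ⧸ q.asIdeal) ⟶ L⟦i⟧, φ = 0 := fun φ => by
    have := Module.mem_annihilator.mp h1 φ
    rwa [one_smul] at this
  rw [key f, key g]

include hLa hLf in
/-- **Bass' lemma for complexes** -/
theorem subsingleton_of_maximal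
    (hmax : ∀ (n : Ideal R) [n.IsMaximal] (i : ℤ), d < i →
      Subsingleton (Dual.inD R (R ⧸ n) ⟶ L⟦i⟧))
    (N : Type u) [AddCommGroup N] [Module R N] [Module.Finite R N] (i : ℤ) (hi : d < i) :
    Subsingleton (Dual.inD R N ⟶ L⟦i⟧) :=
  dev L d ⊥ (fun p hp _ j hj => subsingleton_prime L d a hLa hLf hmax ⟨p, hp⟩ j hj) N
    (fun r hr n => by rw [(Submodule.mem_bot R).mp hr, zero_smul]) i hi

include hLa hLf in
theorem injAmp_of_maximal
    (hmax : ∀ (n : Ideal R) [n.IsMaximal] (i : ℤ), d < i →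
      Subsingleton (Dual.inD R (R ⧸ n) ⟶ L⟦i⟧)) :
    DRing.HasInjAmplitudeIn R a d L := by
  refine Groth.Agent.Helper11.DC.injAmp_of_hom_quotient_eq_zero L a d (fun I i hi g => ?_)
  rcases hi with hi | hi
  · exact Groth.Agent.Helper8.LOC.hom_inD_eq_zero (R ⧸ I) (L⟦i⟧)
      (fun j hj => Groth.Agent.Helper8.LOC.isZero_homology_shift L a hLa i j (by omega)) g
  · have := subsingleton_of_maximal L d a hLa hLf hmax (R ⧸ I) i hi
    exact Subsingleton.elim _ _

include hLa hLf in
/-- the `finite_injective_dimension` form -/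
theorem subsingleton_hom_of_maximal
    (hmax : ∀ (n : Ideal R) [n.IsMaximal] (i : ℤ), d < i →
      Subsingleton (Dual.inD R (R ⧸ n) ⟶ L⟦i⟧))
    (N : Type u) [AddCommGroup N] [Module R N] (i : ℤ) (hi : i < a ∨ d < i) :
    Subsingleton (Dual.inD R N ⟶ L⟦i⟧) := by
  have h := injAmp_of_maximal L d a hLa hLf hmax
  refine ⟨fun x y => ?_⟩
  rw [Groth.Agent.Helper11.DC.hom_eq_zero_of_injAmp _ a d h (ModuleCat.of R N) i hi x,
    Groth.Agent.Helper11.DC.hom_eq_zero_of_injAmp _ a d h (ModuleCat.of R N) i hi y]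

end Groth.Agent.Helper8.BassCx
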