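import Groth.Agent.Lib.Helper8.Matlis
import Mathlib.RingTheory.Ideal.AssociatedPrime.Localization
import Mathlib.RingTheory.Ideal.MinimalPrime.Basic

set_option autoImplicit false
universe u

namespace Groth.Agent.Helper8.Matlis

open IsLocalRing

variable {A : Type u} [CommRing A] [IsLocalRing A] {E : Type u} [AddCommGroup E] [Module A E]
  {f : ResidueField A →ₗ[A] E}

/-- an element of an essential extension of `k` whose annihilator is prime has annihilator `m`. -/
theorem eq_maximalIdeal_of_ann_eq (hf : InjHull.IsEssentialInj f) (p : Ideal A) [hp : p.IsPrime]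
    (e' : E) (hann : ∀ a : A, a ∈ p ↔ a • e' = 0) : p = maximalIdeal A := by
  have he' : e' ≠ 0 := by
    intro h0
    apply hp.ne_top
    rw [Ideal.eq_top_iff_one, hann, h0, smul_zero]
  have hN : Submodule.span A {e'} ≠ ⊥ := by
    rw [Ne, Submodule.span_singleton_eq_bot]; exact he'
  obtain ⟨y, hy, hy0⟩ := (Submodule.ne_bot_iff _).1 (hf.essential _ hN)
  obtain ⟨a, rfl⟩ := Submodule.mem_span_singleton.1 hy.1
  obtain ⟨c, hc⟩ := hy.2
  have hap : a ∉ p := fun h => hy0 ((hann a).1 h)
  apply le_antisymm (IsLocalRing.le_maximalIdeal hp.ne_top)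
  intro b hb
  have h1 : b • a • e' = 0 := by
    rw [← hc, ← map_smul, residue_smul_eq_zero b hb, map_zero]
  rw [smul_smul] at h1
  have h2 : b * a ∈ p := (hann _).2 h1
  exact (hp.mem_or_mem h2).resolve_right hap

/-- An injective hull of the residue field of a Noetherian local ring is `m`-power torsion. -/
theorem isPowerTorsion [IsNoetherianRing A] (hf : InjHull.IsEssentialInj f) :
    LocCoh.IsPowerTorsion (maximalIdeal A) E := by
  intro e
  by_cases h0 : e = 0
  · exact ⟨0, fun a _ => by rw [h0, smul_zero]⟩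
  let N : Submodule A E := Submodule.span A {e}
  have heN : e ∈ N := Submodule.mem_span_singleton_self e
  have hfin : Module.Finite A N := Module.Finite.span_singleton A e
  have hne : Module.annihilator A N ≠ ⊤ := by
    intro htop
    have h1 : (1 : A) ∈ Module.annihilator A N := by rw [htop]; trivial
    have := Module.mem_annihilator.1 h1 ⟨e, heN⟩
    rw [one_smul] at this
    exact h0 (congrArg Subtype.val this)
  have hmin : ∀ p ∈ (Module.annihilator A N).minimalPrimes, p = maximalIdeal A := by
    intro p hp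
    have hass := Module.associatedPrimes.minimalPrimes_annihilator_subset_associatedPrimes A N hp
    obtain ⟨hprime, x, hx⟩ := isAssociatedPrime_iff.1 hass
    refine eq_maximalIdeal_of_ann_eq hf p (x : E) (fun a => ?_)
    rw [hx, Submodule.mem_colon_singleton, Submodule.mem_bot]
    constructor
    · intro h; exact_mod_cast congrArg Subtype.val h
    · intro h; exact Subtype.ext (by simpa using h)
  have hrad : (Module.annihilator A N).radical = maximalIdeal A := by
    rw [← Ideal.sInf_minimalPrimes]
    obtain ⟨p, hp⟩ := Ideal.nonempty_minimalPrimes hne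
    apply le_antisymm
    · exact (sInf_le hp).trans (hmin p hp).le
    · exact le_sInf fun q hq => (hmin q hq).ge
  obtain ⟨n, hn⟩ := Ideal.exists_pow_le_of_le_radical_of_fg hrad.ge
    (IsNoetherian.noetherian (maximalIdeal A))
  refine ⟨n, fun a ha => ?_⟩
  have := Module.mem_annihilator.1 (hn ha) ⟨e, heN⟩
  exact congrArg Subtype.val this

end Groth.Agent.Helper8.Matlis

namespace Groth.Agent.Helper8.Matlis

open IsLocalRing

variable {A : Type u} [CommRing A] [IsLocalRing A] {E : Type u} [AddCommGroup E] [Module A E]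

/-- the map `k → E` sending `1` to a socle element. -/
noncomputable def ofSocle (e' : E) (he' : ∀ b ∈ maximalIdeal A, b • e' = 0) :
    ResidueField A →ₗ[A] E :=
  (maximalIdeal A : Submodule A A).liftQ (LinearMap.toSpanSingleton A E e') (by
    intro b hb
    rw [LinearMap.mem_ker, LinearMap.toSpanSingleton_apply]
    exact he' b hb)

theorem ofSocle_one (e' : E) (he' : ∀ b ∈ maximalIdeal A, b • e' = 0) :
    ofSocle e' he' 1 = e' := by
  change LinearMap.toSpanSingleton A E e' (1 : A) = e'
  rw [LinearMap.toSpanSingleton_apply, one_smul]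

/-- every nonzero submodule of a `m`-power torsion module contains a nonzero socle element. -/
theorem exists_socle_mem (htors : LocCoh.IsPowerTorsion (maximalIdeal A) E) (N : Submodule A E)
    (hN : N ≠ ⊥) : ∃ e' ∈ N, e' ≠ 0 ∧ ∀ b ∈ maximalIdeal A, b • e' = 0 := by
  classical
  obtain ⟨e, heN, he0⟩ := (Submodule.ne_bot_iff _).1 hN
  have hex := htors e
  let n := Nat.find hex
  have hn : ∀ a ∈ maximalIdeal A ^ n, a • e = 0 := Nat.find_spec hex
  have hn0 : n ≠ 0 := by
    intro h0
    have := hn 1 (by rw [h0, pow_zero, Ideal.one_eq_top]; trivial)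
    rw [one_smul] at this
    exact he0 this
  obtain ⟨n', hn'⟩ := Nat.exists_eq_succ_of_ne_zero hn0
  have hmin : ¬ ∀ a ∈ maximalIdeal A ^ n', a • e = 0 := Nat.find_min hex (by omega)
  push Not at hmin
  obtain ⟨a, ha, hae⟩ := hmin
  refine ⟨a • e, N.smul_mem a heN, hae, fun b hb => ?_⟩
  rw [smul_smul]
  apply hn
  rw [hn', pow_succ']
  exact Ideal.mul_mem_mul hb ha

theorem isInjectiveHull_of_simple (hinj : Module.Injective A E)
    (htors : LocCoh.IsPowerTorsion (maximalIdeal A) E)
    (hsimple : IsSimpleModule A (ResidueField A →ₗ[A] E)) :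
    ∃ f : ResidueField A →ₗ[A] E, InjHull.IsInjectiveHull f := by
  have := IsSimpleModule.nontrivial A (ResidueField A →ₗ[A] E)
  obtain ⟨φ, hφ⟩ := exists_ne (0 : ResidueField A →ₗ[A] E)
  have hφinj : Function.Injective φ := by
    rw [← LinearMap.ker_eq_bot]
    rcases eq_bot_or_eq_top (LinearMap.ker φ) with h | h
    · exact h
    · exact absurd (LinearMap.ker_eq_top.1 h) hφ
  refine ⟨φ, ⟨⟨hφinj, ?_⟩, hinj⟩⟩
  intro N hN
  obtain ⟨e', he'N, he'0, he'⟩ := exists_socle_mem htors N hN
  obtain ⟨c, hc⟩ := IsSimpleModule.toSpanSingleton_surjective A hφ (ofSocle e' he')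
  rw [LinearMap.toSpanSingleton_apply] at hc
  have h1 : e' = φ (c • 1) := by
    rw [map_smul, ← LinearMap.smul_apply, hc, ofSocle_one]
  rw [Submodule.ne_bot_iff]
  exact ⟨e', ⟨he'N, ⟨c • 1, h1.symm⟩⟩, he'0⟩

theorem isSimpleModule_hom_residueField {f : ResidueField A →ₗ[A] E} (hf : InjHull.IsEssentialInj f) :
    IsSimpleModule A (ResidueField A →ₗ[A] E) :=
  IsSimpleModule.congr (LinearEquiv.ofBijective (Ψ f) (Ψ_bijective hf)).symm

end Groth.Agent.Helper8.Matlis
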