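import Groth.Agent.Lib.Helper8.FLD3
import Groth.Agent.Lib.Helper8.Matlis2

/-!
# Duality for finite length modules, part 4: invariance under isomorphism, generator of the socle
(helper8)
-/

set_option autoImplicit false

open CategoryTheory CategoryTheory.Limits Pretriangulated

universe u

namespace Groth.Agent.Helper8.FLD

open DerivedCategory Groth.Agent.Helper8.BiDual IsLocalRing

attribute [local instance] HasDerivedCategory.standard

section Iso

variable {A : Type u} [CommRing A]

theorem subsingleton_hom_shift_of_iso {ω ω' : Dual.D A} (e : ω ≅ ω') (X : Dual.D A) (i : ℤ)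
    (h : Subsingleton (X ⟶ ω⟦i⟧)) : Subsingleton (X ⟶ ω'⟦i⟧) := by
  refine ⟨fun f g => ?_⟩
  have := Subsingleton.elim (f ≫ (shiftFunctor (Dual.D A) i).map e.inv)
    (g ≫ (shiftFunctor (Dual.D A) i).map e.inv)
  exact (cancel_mono _).mp this

theorem isDualizing_of_iso {ω ω' : Dual.D A} (e : ω ≅ ω') (h : Dual.IsDualizing A ω) :
    Dual.IsDualizing A ω' where
  isNoetherianRing := h.isNoetherianRing
  finite_injective_dimension := by
    obtain ⟨a, b, hab⟩ := h.finite_injective_dimension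
    exact ⟨a, b, fun M _ _ i hi => subsingleton_hom_shift_of_iso e _ i (hab M i hi)⟩
  finite_cohomology i := by
    have := h.finite_cohomology i
    exact Module.Finite.equiv ((homologyFunctor (ModuleCat.{u} A) i).mapIso e).toLinearEquiv
  toEnd_bijective := by
    have hconj : ∀ x : A, x • 𝟙 ω' = e.inv ≫ (x • 𝟙 ω) ≫ e.hom := by
      intro x
      rw [Linear.smul_comp, Linear.comp_smul, Category.id_comp, e.inv_hom_id]
    constructor
    · intro x y hxy
      have hxy' : x • 𝟙 ω' = y • 𝟙 ω' := hxy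
      rw [hconj, hconj] at hxy'
      have h1 := (cancel_epi e.inv).mp hxy'
      have h2 := (cancel_mono e.hom).mp h1
      exact h.toEnd_bijective.1 h2
    · intro f
      obtain ⟨x, hx⟩ := h.toEnd_bijective.2 (e.hom ≫ f ≫ e.inv)
      refine ⟨x, ?_⟩
      have hx' : x • 𝟙 ω = e.hom ≫ f ≫ e.inv := hx
      show x • 𝟙 ω' = f
      rw [hconj, hx']
      simp
  ext_self_subsingleton i hi := by
    have := h.ext_self_subsingleton i hi
    refine ⟨fun f g => ?_⟩
    have h0 := Subsingleton.elim (e.hom ≫ f ≫ (shiftFunctor (Dual.D A) i).map e.inv)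
      (e.hom ≫ g ≫ (shiftFunctor (Dual.D A) i).map e.inv)
    have h1 := (cancel_epi e.hom).mp h0
    exact (cancel_mono _).mp h1

theorem isNormalized_of_iso [IsLocalRing A] {ω ω' : Dual.D A} (e : ω ≅ ω')
    (h : Dual.IsNormalized A ω) : Dual.IsNormalized A ω' :=
  fun i hi => subsingleton_hom_shift_of_iso e _ i (h i hi)

end Iso

section More

variable {A : Type u} [CommRing A]

/-- the map `A/I → Y`, `1 ↦ e`, for an element `e` killed by `I` -/
def ofKilled (I : Ideal A) {Y : Type*} [AddCommGroup Y] [Module A Y] (e : Y)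
    (he : ∀ a ∈ I, a • e = 0) : (A ⧸ I) →ₗ[A] Y :=
  Submodule.liftQ I (LinearMap.toSpanSingleton A Y e) (by
    intro a ha
    simp [he a ha])

theorem ofKilled_one (I : Ideal A) {Y : Type*} [AddCommGroup Y] [Module A Y] (e : Y)
    (he : ∀ a ∈ I, a • e = 0) : ofKilled I e he 1 = e := by
  change LinearMap.toSpanSingleton A Y e (1 : A) = e
  rw [LinearMap.toSpanSingleton_apply, one_smul]

theorem hatI_comp_mapQ {I I' : Ideal A} (h : I' ≤ I) (N : Type u) [AddCommGroup N] [Module A N]
    (hN : ∀ a ∈ I, ∀ x : N, a • x = 0) (hN' : ∀ a ∈ I', ∀ x : N, a • x = 0) (x : N) :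
    hatI I N hN x ∘ₗ Submodule.mapQ I' I LinearMap.id h = hatI I' N hN' x := by
  ext
  show hatI I N hN x (Ideal.Quotient.mk I 1) = hatI I' N hN' x (Ideal.Quotient.mk I' 1)
  rw [hatI_mk, hatI_mk]

theorem Fmap_injective_of_surjective (ω : Dual.D A) {N P : Type u} [AddCommGroup N] [Module A N]
    [AddCommGroup P] [Module A P] (g : N →ₗ[A] P) (hg : Function.Surjective g)
    (hK : ∀ t : Dual.inD A (LinearMap.ker g) ⟶ ω⟦(-1 : ℤ)⟧, t = 0) :
    Function.Injective (Fmap ω g) :=
  Fmap_injective ω (f := (LinearMap.ker g).subtype)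
    ⟨Submodule.injective_subtype _, LinearMap.exact_subtype_ker_map g, hg⟩ hK

end More

section Gen

variable {A : Type u} [CommRing A] [IsLocalRing A] [IsNoetherianRing A] (ω : Dual.D A)
  (hω : Dual.IsDualizing A ω) (hn : Dual.IsNormalized A ω)

include hω hn in
/-- a generator `t₀` of `Hom(κ[0], ω)`, which induces the socle of each `Hom(A/m^(n+1)[0], ω)` -/
theorem exists_gen :
    ∃ t₀ : Dual.inD A (ResidueField A) ⟶ ω, ∀ n : ℕ,
      Function.Injective (Phi ω (maximalIdeal A ^ (n + 1)) (ResidueField A) (killed_residue n) t₀) ∧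
      ∀ y : (Dual.inD A (A ⧸ maximalIdeal A ^ (n + 1)) ⟶ ω), (∀ b ∈ maximalIdeal A, b • y = 0) →
        y ∈ LinearMap.range
          (Phi ω (maximalIdeal A ^ (n + 1)) (ResidueField A) (killed_residue n) t₀) := by
  have hV : ∀ (i : ℤ), i ≠ 0 → ∀ (N : Type u) [AddCommGroup N] [Module A N],
      IsFiniteLength A N → ∀ t : Dual.inD A N ⟶ ω⟦i⟧, t = 0 :=
    fun i hi N _ _ hN t => hom_shift_eq_zero_of_isFiniteLength ω hn i hi N hN t
  have hκfl : IsFiniteLength A (ResidueField A) := by
    rw [← Module.length_ne_top_iff, Module.length_eq_one A (ResidueField A)]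
    exact ENat.one_ne_top
  obtain ⟨eκ⟩ := nonempty_hom_residue_equiv ω hω hn
  refine ⟨eκ.symm 1, fun n => ?_⟩
  have hI := Groth.Agent.Helper8.Matlis.isFiniteLength_quotient_pow (A := A) (n + 1)
  have hΦ := Phi_bijective ω (maximalIdeal A ^ (n + 1)) hV hI (ResidueField A) hκfl
    (killed_residue n)
  let t₀ := eκ.symm 1
  let i₀ := Phi ω (maximalIdeal A ^ (n + 1)) (ResidueField A) (killed_residue n) t₀
  have hi₀ne : i₀ ≠ 0 := by
    intro h0
    have h1 : t₀ = 0 := hΦ.1 (h0.trans (map_zero _).symm)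
    have h2 : (1 : ResidueField A) = 0 := by
      have := congrArg eκ h1
      rwa [LinearEquiv.apply_symm_apply, map_zero] at this
    exact one_ne_zero h2
  have hi₀ : Function.Injective i₀ := by
    rw [← LinearMap.ker_eq_bot]
    rcases eq_bot_or_eq_top (LinearMap.ker i₀) with h | h
    · exact h
    · exact absurd (LinearMap.ker_eq_top.1 h) hi₀ne
  refine ⟨hi₀, ?_⟩
  intro y hy
  obtain ⟨t, ht⟩ := hΦ.2 (ofSocle' y hy)
  obtain ⟨c, hc⟩ := Ideal.Quotient.mk_surjective (eκ t)
  have h1 : t = c • t₀ := by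
    apply eκ.injective
    rw [map_smul, LinearEquiv.apply_symm_apply, ← hc]
    show _ = c • (Ideal.Quotient.mk (maximalIdeal A) 1)
    rw [← Ideal.Quotient.mk_eq_mk, ← Ideal.Quotient.mk_eq_mk, ← Submodule.Quotient.mk_smul]
    simp
  refine ⟨c • 1, ?_⟩
  rw [map_smul]
  have h2 : i₀ 1 = Phi ω (maximalIdeal A ^ (n + 1)) (ResidueField A) (killed_residue n) t₀ 1 :=
    rfl
  show c • i₀ 1 = y
  rw [h2, ← LinearMap.smul_apply, ← map_smul, ← h1, ht, ofSocle'_one]

end Gen

end Groth.Agent.Helper8.FLD
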