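import Groth.Agent.Lib.Helper8.LOC10

/-!
# Localization of dualizing complexes, part 11: finiteness of the Krull dimension (helper8)
-/

set_option autoImplicit false

open CategoryTheory CategoryTheory.Limits Opposite Pretriangulated

universe u

namespace Groth.Agent.Helper8.LOC

open DerivedCategory ChangeOfRings IsLocalRing

attribute [local instance] HasDerivedCategory.standard

section

variable {A : Type u} [CommRing A] (B : Type u) [CommRing B] [Algebra A B]
  [PreservesFiniteLimits (Efun (algebraMap A B))]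

/-- vanishing of cohomology is preserved by flat base change -/
theorem isZero_homology_Ld (Y : Dual.D A) (j : ℤ)
    (h : IsZero ((homologyFunctor (ModuleCat.{u} A) j).obj Y)) :
    IsZero ((homologyFunctor (ModuleCat.{u} B) j).obj ((Ld (algebraMap A B)).obj Y)) := by
  let X := Q.objPreimage Y
  let e : Q.obj X ≅ Y := Q.objObjPreimageIso Y
  have h1 : IsZero ((homologyFunctor (ModuleCat.{u} A) j).obj (Q.obj X)) :=
    IsZero.of_iso h ((homologyFunctor (ModuleCat.{u} A) j).mapIso e)
  have h2 : IsZero ((Efun (algebraMap A B)).obj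
      ((homologyFunctor (ModuleCat.{u} A) j).obj (Q.obj X))) :=
    (Efun (algebraMap A B)).map_isZero h1
  let e2 := (Groth.Agent.Helper11.DC.qMapDerivedHomologyIso (Efun (algebraMap A B)) j).app X
  exact IsZero.of_iso (IsZero.of_iso h2 e2)
    ((homologyFunctor (ModuleCat.{u} B) j).mapIso ((Ld (algebraMap A B)).mapIso e.symm))

end

section

variable {A : Type u} [CommRing A] [IsNoetherianRing A] (ω : Dual.D A)
  (hω : Dual.IsDualizing A ω)

/-- `degAt` lies in the injective amplitude -/
theorem degAt_mem (a b : ℤ) (hab : ∀ (M : Type u) [AddCommGroup M] [Module A M] (i : ℤ),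
    (i < a ∨ b < i) → Subsingleton (Dual.inD A M ⟶ ω⟦i⟧)) (p : Ideal A) [p.IsPrime] :
    a ≤ degAt ω hω p ∧ degAt ω hω p ≤ b := by
  have h1 : Nontrivial (LocalizedModule p.primeCompl
      (Dual.inD A (A ⧸ p) ⟶ ω⟦degAt ω hω p⟧)) :=
    (nontrivial_locHom_quot_iff ω hω p _).mpr rfl
  by_contra hcon
  have h2 : Subsingleton (Dual.inD A (A ⧸ p) ⟶ ω⟦degAt ω hω p⟧) :=
    hab (A ⧸ p) _ (by omega)
  rw [← not_subsingleton_iff_nontrivial] at h1
  exact h1 inferInstance

include hω in
/-- the height of a prime is bounded by the injective amplitude -/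
theorem height_le_of_isDualizing (a b : ℤ)
    (hab : ∀ (M : Type u) [AddCommGroup M] [Module A M] (i : ℤ),
      (i < a ∨ b < i) → Subsingleton (Dual.inD A M ⟶ ω⟦i⟧)) (p : Ideal A) [p.IsPrime] :
    (p.height : WithBot ℕ∞) ≤ ((b - a).toNat : ℕ) := by
  have hB : IsNoetherianRing (Localization.AtPrime p) :=
    IsLocalization.isNoetherianRing p.primeCompl _ inferInstance
  rw [← IsLocalization.AtPrime.ringKrullDim_eq_height p (Localization.AtPrime p)]
  obtain ⟨h1, h2⟩ := finiteRingKrullDim_iff_ne_bot_and_top.mp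
    (inferInstance : FiniteRingKrullDim (Localization.AtPrime p))
  obtain ⟨d', hd'⟩ := WithBot.ne_bot_iff_exists.mp h1
  have hd'top : d' ≠ ⊤ := by
    rintro rfl
    exact h2 hd'.symm
  obtain ⟨d, hd⟩ := ENat.ne_top_iff_exists.mp hd'top
  have hdim : ringKrullDim (Localization.AtPrime p) = (d : ℕ) := by
    rw [← hd', ← hd]
    rfl
  have hsd : Module.supportDim (Localization.AtPrime p) (Localization.AtPrime p) = (d : ℕ) := by
    rw [Module.supportDim_self_eq_ringKrullDim, hdim]
  have hnt := Groth.Agent.Helper8.LD.nontrivial_hom_supportDim (nuAt ω hω p)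
    (isDualizing_nuAt ω hω p) (isNormalized_nuAt ω hω p) (Localization.AtPrime p) d hsd
  -- `H^{n_p - d}(ω_p) ≠ 0`
  have hnt2 : Nontrivial (Dual.inD (Localization.AtPrime p) (Localization.AtPrime p) ⟶
      (omegaAt ω p)⟦degAt ω hω p + -(d : ℤ)⟧) := by
    rw [← not_subsingleton_iff_nontrivial] at hnt ⊢
    exact fun h => hnt ((subsingleton_hom_iff_of_iso (Iso.refl _)
      (shiftShiftIso' (omegaAt ω p) (degAt ω hω p) (-(d : ℤ)) _ rfl)).mpr h)
  have hnt3 : Nontrivial (Dual.HD (Localization.AtPrime p) (omegaAt ω p)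
      (degAt ω hω p + -(d : ℤ))) :=
    (Groth.Agent.Helper8.LD.homSelfEquiv (omegaAt ω p) _).symm.toEquiv.nontrivial
  have hlow : a ≤ degAt ω hω p + -(d : ℤ) := by
    by_contra hcon
    have hz : IsZero ((homologyFunctor (ModuleCat.{u} A) (degAt ω hω p + -(d : ℤ))).obj ω) := by
      have := hab A (degAt ω hω p + -(d : ℤ)) (Or.inl (by omega))
      have : Subsingleton (Dual.HD A ω (degAt ω hω p + -(d : ℤ))) :=
        (Groth.Agent.Helper8.LD.homSelfEquiv ω _).symm.toEquiv.subsingleton
      exact ModuleCat.isZero_of_subsingleton _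
    have hz2 := isZero_homology_Ld (Localization.AtPrime p) ω _ hz
    rw [← not_subsingleton_iff_nontrivial] at hnt3
    exact hnt3 (ModuleCat.subsingleton_of_isZero hz2)
  have hup := (degAt_mem ω hω a b hab p).2
  rw [hdim]
  have : d ≤ (b - a).toNat := by omega
  exact_mod_cast this

include hω in
/-- **a noetherian ring with a dualizing complex has finite Krull dimension** -/
theorem ringKrullDim_lt_top_of_isDualizing : ringKrullDim A < ⊤ := by
  obtain ⟨a, b, hab⟩ := hω.finite_injective_dimension
  have h : ringKrullDim A ≤ ((b - a).toNat : ℕ) := by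
    rw [ringKrullDim_le_iff_height_le]
    intro p hp
    exact height_le_of_isDualizing ω hω a b hab p
  refine lt_of_le_of_lt h ?_
  exact WithBot.coe_lt_coe.mpr (ENat.natCast_lt_top _)

end

end Groth.Agent.Helper8.LOC
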