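import Groth.Agent.Lib.Helper8.LOC16
import Groth.Agent.Lib.Helper8.LOC11

/-!
# Local-to-global criterion for dualizing complexes, II: finite covers (helper8)
-/

set_option autoImplicit false

open CategoryTheory CategoryTheory.Limits Opposite Pretriangulated

universe u

namespace Groth.Agent.Helper8.LOC

open DerivedCategory ChangeOfRings IsLocalRing

attribute [local instance] HasDerivedCategory.standard

section Homology

variable {A : Type u} [CommRing A] {B : Type u} [CommRing B] (φ : A →+* B)
  [PreservesFiniteLimits (Efun φ)]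

/-- cohomology commutes with flat base change -/
noncomputable def homologyLdIso (Y : Dual.D A) (j : ℤ) :
    (homologyFunctor (ModuleCat.{u} B) j).obj ((Ld φ).obj Y) ≅
      (Efun φ).obj ((homologyFunctor (ModuleCat.{u} A) j).obj Y) :=
  (homologyFunctor (ModuleCat.{u} B) j).mapIso ((Ld φ).mapIso (Q.objObjPreimageIso Y).symm) ≪≫
    (Groth.Agent.Helper11.DC.qMapDerivedHomologyIso (Efun φ) j).app (Q.objPreimage Y) ≪≫
    (Efun φ).mapIso ((homologyFunctor (ModuleCat.{u} A) j).mapIso (Q.objObjPreimageIso Y))

end Homology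

section Loc

variable {A : Type u} [CommRing A] (S : Submonoid A)

/-- `H^j(L Y) ≅ S⁻¹ H^j(Y)` -/
noncomputable def homologyLdLocIso (Y : Dual.D A) (j : ℤ) :
    (homologyFunctor (ModuleCat.{u} (Localization S)) j).obj
        ((Ld (algebraMap A (Localization S))).obj Y) ≅
      ModuleCat.of (Localization S) (LocalizedModule S (Dual.HD A Y j)) :=
  homologyLdIso (algebraMap A (Localization S)) Y j ≪≫
    EfunIsoOfLoc S (Localization S) (LocalizedModule.mkLinearMap S (Dual.HD A Y j))

theorem finite_localizedModule_of_Ld (Y : Dual.D A) (j : ℤ)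
    (h : Module.Finite (Localization S)
      (Dual.HD (Localization S) ((Ld (algebraMap A (Localization S))).obj Y) j)) :
    Module.Finite (Localization S) (LocalizedModule S (Dual.HD A Y j)) :=
  Module.Finite.equiv (homologyLdLocIso S Y j).toLinearEquiv

theorem subsingleton_localizedModule_of_Ld (Y : Dual.D A) (j : ℤ)
    (h : IsZero ((homologyFunctor (ModuleCat.{u} (Localization S)) j).obj
        ((Ld (algebraMap A (Localization S))).obj Y))) :
    Subsingleton (LocalizedModule S (Dual.HD A Y j)) :=
  ModuleCat.subsingleton_of_isZero (IsZero.of_iso h (homologyLdLocIso S Y j).symm)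

end Loc

section Cover

variable {A : Type u} [CommRing A]

/-- a module which vanishes after localizing at multiplicative sets covering the maximal
spectrum is zero -/
theorem subsingleton_of_forall_maximal (N : Type u) [AddCommGroup N] [Module A N]
    (h : ∀ m : Ideal A, m.IsMaximal → ∃ S : Submonoid A, (∀ s ∈ S, s ∉ m) ∧
      Subsingleton (LocalizedModule S N)) : Subsingleton N := by
  refine ⟨fun x y => ?_⟩
  have key : ∀ z : N, z = 0 := by
    intro z
    by_contra hz
    have hI : (Ideal.span {(0:A)} : Ideal A) = ⊥ := by simp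
    have hann : (Submodule.span A {z}).annihilator ≠ ⊤ := by
      intro h1
      apply hz
      have h2 : (1 : A) ∈ (Submodule.span A {z}).annihilator := by rw [h1]; trivial
      have := (Submodule.mem_annihilator.mp h2) z (Submodule.subset_span rfl)
      rwa [one_smul] at this
    obtain ⟨m, hm, hIm⟩ := Ideal.exists_le_maximal _ hann
    obtain ⟨S, hS, hsub⟩ := h m hm
    rw [LocalizedModule.subsingleton_iff] at hsub
    obtain ⟨s, hs, hsz⟩ := hsub z
    apply hS s hs
    apply hIm
    rw [Submodule.mem_annihilator_span_singleton]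
    exact hsz
  rw [key x, key y]

end Cover

section Main

variable {A : Type u} [CommRing A] [IsNoetherianRing A]

/-- **local-to-global**, general form: a bounded coherent complex of finite injective
dimension which is dualizing after localizing at multiplicative sets covering the maximal
spectrum is dualizing. -/
theorem isDualizing_of_local (K : Dual.D A) (a b : ℤ)
    (hK : ∀ i : ℤ, (i < a ∨ b < i) → IsZero ((homologyFunctor (ModuleCat.{u} A) i).obj K))
    (hfin : ∀ i : ℤ, Module.Finite A (Dual.HD A K i))
    (hinj : ∃ a b : ℤ, ∀ (M : Type u) [AddCommGroup M] [Module A M] (i : ℤ),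
      (i < a ∨ b < i) → Subsingleton (Dual.inD A M ⟶ K⟦i⟧))
    (hloc : ∀ (m : Ideal A), m.IsMaximal → ∃ S : Submonoid A, (∀ s ∈ S, s ∉ m) ∧
      Dual.IsDualizing (Localization S)
        ((Ld (algebraMap A (Localization S))).obj K)) :
    Dual.IsDualizing A K := by
  have hPP : ∀ S : Submonoid A, PP S K := fun S => PP_of_bounded (S := S) K a b hK hfin
  have hlow : ∀ j : ℤ, j < a → IsZero ((homologyFunctor (ModuleCat.{u} A) j).obj K) :=
    fun j hj => hK j (Or.inl hj)
  refine ⟨inferInstance, hinj, hfin, ⟨?_, ?_⟩, ?_⟩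
  · -- injectivity
    intro x y hxy
    have hxy' : x • 𝟙 K = y • 𝟙 K := hxy
    have hd : (x - y) • 𝟙 K = 0 := by rw [sub_smul, hxy', sub_self]
    apply sub_eq_zero.mp
    apply eq_zero_of_forall_maximal
    intro m hm
    obtain ⟨S, hS, hdual⟩ := hloc m hm
    have h1 : (Ld (algebraMap A (Localization S))).map ((x - y) • 𝟙 K) = 0 := by
      rw [hd, Functor.map_zero]
    rw [Ld_map_smul_id] at h1
    have h2 : algebraMap A (Localization S) (x - y) = 0 := by
      apply hdual.toEnd_bijective.1
      show algebraMap A (Localization S) (x - y) • 𝟙 _ = (0 : Localization S) • 𝟙 _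
      rw [h1, zero_smul]
    obtain ⟨⟨s, hs⟩, hsx⟩ := (IsLocalization.map_eq_zero_iff S
      (Localization S) (x - y)).mp h2
    exact ⟨s, hS s hs, hsx⟩
  · -- surjectivity
    intro f
    let I : Ideal A :=
      { carrier := {c | ∃ d : A, c • f = d • 𝟙 K}
        add_mem' := by
          rintro x y ⟨d, hd⟩ ⟨d', hd'⟩
          exact ⟨d + d', by rw [add_smul, hd, hd', add_smul]⟩
        zero_mem' := ⟨0, by rw [zero_smul, zero_smul]⟩
        smul_mem' := by
          rintro c x ⟨d, hd⟩
          exact ⟨c * d, by rw [smul_eq_mul, mul_smul, hd, mul_smul]⟩ }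
    by_cases hI : I = ⊤
    · have h1 : (1 : A) ∈ I := by rw [hI]; trivial
      obtain ⟨d, hd⟩ := h1
      rw [one_smul] at hd
      exact ⟨d, hd.symm⟩
    · exfalso
      obtain ⟨m, hm, hIm⟩ := Ideal.exists_le_maximal I hI
      obtain ⟨S, hS, hdual⟩ := hloc m hm
      obtain ⟨β, hβ⟩ := hdual.toEnd_bijective.2
        ((Ld (algebraMap A (Localization S))).map f)
      have hβ' : β • 𝟙 _ = (Ld (algebraMap A (Localization S))).map f := hβ
      obtain ⟨⟨d, t⟩, hdt⟩ := IsLocalization.surj S β
      have h1 : (Ld (algebraMap A (Localization S))).map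
          ((t : A) • f - d • 𝟙 K) = 0 := by
        rw [Functor.map_sub, Ld_map_smul, Ld_map_smul_id, ← hβ', ← mul_smul, sub_eq_zero]
        congr 1
        rw [mul_comm]
        exact hdt
      obtain ⟨s, hs, h2⟩ := Ld_map_eq_zero S (Localization S)
        (hPP S) a hlow _ h1
      have h3 : (s * (t : A)) ∈ I := by
        refine ⟨s * d, ?_⟩
        rw [smul_sub, sub_eq_zero] at h2
        rw [mul_smul, h2, mul_smul]
      exact (hS _ (S.mul_mem hs t.2)) (hIm h3)
  · intro i hi
    refine ⟨fun x y => ?_⟩
    have key : ∀ f : K ⟶ K⟦i⟧, f = 0 := by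
      intro f
      apply hom_eq_zero_of_forall_maximal
      intro m hm
      obtain ⟨S, hS, hdual⟩ := hloc m hm
      have := hdual.ext_self_subsingleton i hi
      let c := ((Ld (algebraMap A (Localization S))).commShiftIso i).app K
      have h1 : (Ld (algebraMap A (Localization S))).map f = 0 := by
        rw [← cancel_mono c.hom, zero_comp]
        exact @Subsingleton.elim _ this
          ((Ld (algebraMap A (Localization S))).map f ≫ c.hom) 0
      obtain ⟨s, hs, h2⟩ := Ld_map_eq_zero S (Localization S)
        (hPP S) (a - i) (isZero_homology_shift K a hlow i) f h1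
      exact ⟨s, hS s hs, h2⟩
    rw [key x, key y]

/-- **Zariski descent for dualizing complexes**: if `f_k` generate the unit ideal and
`ω ⊗ A_{f_k}` is dualizing for all `k`, then `ω` is dualizing. -/
theorem isDualizing_of_span_eq_top {ι : Type} [Finite ι] (f : ι → A)
    (hf : Ideal.span (Set.range f) = ⊤) (ω : Dual.D A)
    (h : ∀ k : ι, Dual.IsDualizing (Localization (Submonoid.powers (f k)))
      ((Ld (algebraMap A (Localization (Submonoid.powers (f k))))).obj ω)) :
    Dual.IsDualizing A ω := by
  -- the cover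
  have hcov : ∀ m : Ideal A, m.IsMaximal → ∃ k : ι, ∀ s ∈ Submonoid.powers (f k), s ∉ m := by
    intro m hm
    by_contra hcon
    push Not at hcon
    apply hm.ne_top
    rw [eq_top_iff, ← hf, Ideal.span_le]
    rintro _ ⟨k, rfl⟩
    obtain ⟨s, ⟨n, rfl⟩, hsm⟩ := hcon k
    exact hm.isPrime.mem_of_pow_mem n hsm
  -- cohomological bounds
  choose a₁ b₁ hab₁ using fun k => exists_isZero_homology _ (h k)
  obtain ⟨a, ha⟩ := (Set.finite_range a₁).bddBelow
  obtain ⟨b, hb⟩ := (Set.finite_range b₁).bddAbove
  have hK : ∀ i : ℤ, (i < a ∨ b < i) → IsZero ((homologyFunctor (ModuleCat.{u} A) i).obj ω) := by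
    intro i hi
    haveI : Subsingleton (Dual.HD A ω i) := by
      apply subsingleton_of_forall_maximal (A := A)
      intro m hm
      obtain ⟨k, hk⟩ := hcov m hm
      refine ⟨_, hk, subsingleton_localizedModule_of_Ld _ ω i (hab₁ k i ?_)⟩
      have h1 := ha (Set.mem_range_self k)
      have h2 := hb (Set.mem_range_self k)
      omega
    exact ModuleCat.isZero_of_subsingleton _
  have hlow : ∀ j : ℤ, j < a → IsZero ((homologyFunctor (ModuleCat.{u} A) j).obj ω) :=
    fun j hj => hK j (Or.inl hj)
  -- finiteness
  have hfin : ∀ i : ℤ, Module.Finite A (Dual.HD A ω i) := by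
    intro i
    apply Module.Finite.of_localizationSpan (Set.range f) hf
    rintro ⟨_, k, rfl⟩
    exact finite_localizedModule_of_Ld _ ω i ((h k).finite_cohomology i)
  -- injective amplitude
  choose a₂ b₂ hab₂ using fun k => (h k).finite_injective_dimension
  obtain ⟨a', ha'⟩ := (Set.finite_range a₂).bddBelow
  obtain ⟨b', hb'⟩ := (Set.finite_range b₂).bddAbove
  have hamp : DRing.HasInjAmplitudeIn A a' b' ω := by
    apply Groth.Agent.Helper11.DC.injAmp_of_hom_quotient_eq_zero
    intro I i hi g
    apply hom_eq_zero_of_forall_maximal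
    intro m hm
    obtain ⟨k, hk⟩ := hcov m hm
    have h1 : Subsingleton (LocalizedModule (Submonoid.powers (f k))
        (Dual.inD A (A ⧸ I) ⟶ ω⟦i⟧)) := by
      rw [subsingleton_locHom_iff (Submonoid.powers (f k))
        (Localization (Submonoid.powers (f k)))
        (LocalizedModule.mkLinearMap (Submonoid.powers (f k)) (A ⧸ I)) ω a hlow i]
      apply hab₂ k
      have h1 := ha' (Set.mem_range_self k)
      have h2 := hb' (Set.mem_range_self k)
      omega
    rw [LocalizedModule.subsingleton_iff] at h1
    obtain ⟨s, hs, hsg⟩ := h1 g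
    exact ⟨s, hk s hs, hsg⟩
  refine isDualizing_of_local ω a b hK hfin ⟨a', b', fun M _ _ i hi => ?_⟩ ?_
  · refine ⟨fun x y => ?_⟩
    rw [Groth.Agent.Helper11.DC.hom_eq_zero_of_injAmp ω a' b' hamp (ModuleCat.of A M) i hi x,
      Groth.Agent.Helper11.DC.hom_eq_zero_of_injAmp ω a' b' hamp (ModuleCat.of A M) i hi y]
  · intro m hm
    obtain ⟨k, hk⟩ := hcov m hm
    exact ⟨_, hk, h k⟩

end Main

end Groth.Agent.Helper8.LOC
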