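import Groth.Agent.Lib.Helper8.FBC4
import Groth.Agent.Lib.Helper8.BassCx2
import Groth.Agent.Lib.Helper8.LOC17
import Groth.Agent.Lib.Helper8.FLD4
import Mathlib.RingTheory.Finiteness.Descent

/-!
# Flat base change of dualizing complexes (helper8)

* `isDualizing_Ld_of_maximal`: `A → B` flat, noetherian, every residue field `B/n` of a maximal
  ideal of `B` of the form `B ⊗ M` with `M` a finite `A`-module: then `L ω` is dualizing for `B`.
* `isDualizing_of_Ld`: faithfully flat descent.
-/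

set_option autoImplicit false

open CategoryTheory CategoryTheory.Limits Opposite Pretriangulated

universe u

namespace Groth.Agent.Helper8.FBC

open DerivedCategory TensorProduct ChangeOfRings Groth.Agent.Helper8.LOC

attribute [local instance] HasDerivedCategory.standard

variable {A : Type u} [CommRing A] (B : Type u) [CommRing B] [Algebra A B]
  [PreservesFiniteLimits (Efun (algebraMap A B))]

/-- `L (M[0]) ≅ (B ⊗ M)[0]` -/
noncomputable def LdInD (M : Type u) [AddCommGroup M] [Module A M] :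
    (Ld (algebraMap A B)).obj (Dual.inD A M) ≅ Dual.inD B (B ⊗[A] M) :=
  ((Efun (algebraMap A B)).mapDerivedCategorySingleFunctor 0).app (ModuleCat.of A M) ≪≫
    (DerivedCategory.singleFunctor (ModuleCat.{u} B) 0).mapIso
      (EfunEquiv B (ModuleCat.of A M)).toModuleIso

section Noeth

variable [IsNoetherianRing A] [Module.Flat A B]

theorem bdd_inD (M : Type u) [AddCommGroup M] [Module A M] [Module.Finite A M] :
    (∀ i : ℤ, (i < 0 ∨ 0 < i) →
      IsZero ((homologyFunctor (ModuleCat.{u} A) i).obj (Dual.inD A M))) ∧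
    ∀ i : ℤ, Module.Finite A (Dual.HD A (Dual.inD A M) i) := by
  refine ⟨fun j hj => ?_, fun j => Groth.Agent.Helper8.DualMod.finite_HD_inD A M j⟩
  rcases hj with hj | hj
  · exact ((singleFunctor (ModuleCat.{u} A) 0).obj (ModuleCat.of A M)).isZero_of_isGE 0 j hj
  · exact ((singleFunctor (ModuleCat.{u} A) 0).obj (ModuleCat.of A M)).isZero_of_isLE 0 j hj

/-- vanishing of `Ext` is preserved by flat base change -/
theorem subsingleton_hom_tensor (M : Type u) [AddCommGroup M] [Module A M] [Module.Finite A M]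
    (Y : Dual.D A) (c : ℤ)
    (hY : ∀ j : ℤ, j < c → IsZero ((homologyFunctor (ModuleCat.{u} A) j).obj Y)) (i : ℤ)
    (h : Subsingleton (Dual.inD A M ⟶ Y⟦i⟧)) :
    Subsingleton (Dual.inD B (B ⊗[A] M) ⟶ ((Ld (algebraMap A B)).obj Y)⟦i⟧) := by
  have h1 := subsingleton_Ld_hom B (Dual.inD A M) 0 0 (bdd_inD M).1 (bdd_inD M).2 (Y⟦i⟧) (c - i)
    (isZero_homology_shift Y c hY i) h
  exact (Iso.homCongr (LdInD B M)
    (((Ld (algebraMap A B)).commShiftIso i).app Y)).subsingleton_congr.mp h1

/-- vanishing of `Ext` descends along faithfully flat base change -/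
theorem subsingleton_hom_of_tensor [Module.FaithfullyFlat A B] (M : Type u) [AddCommGroup M]
    [Module A M] [Module.Finite A M]
    (Y : Dual.D A) (c : ℤ)
    (hY : ∀ j : ℤ, j < c → IsZero ((homologyFunctor (ModuleCat.{u} A) j).obj Y)) (i : ℤ)
    (h : Subsingleton (Dual.inD B (B ⊗[A] M) ⟶ ((Ld (algebraMap A B)).obj Y)⟦i⟧)) :
    Subsingleton (Dual.inD A M ⟶ Y⟦i⟧) := by
  have h1 := (Iso.homCongr (LdInD B M)
    (((Ld (algebraMap A B)).commShiftIso i).app Y)).subsingleton_congr.mpr h
  exact subsingleton_of_Ld_hom B (Dual.inD A M) 0 0 (bdd_inD M).1 (bdd_inD M).2 (Y⟦i⟧) (c - i)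
    (isZero_homology_shift Y c hY i) h1

theorem subsingleton_hom_of_equiv {N N' : Type u} [AddCommGroup N] [Module B N]
    [AddCommGroup N'] [Module B N'] (e : N ≃ₗ[B] N') (Z : Dual.D B)
    (h : Subsingleton (Dual.inD B N ⟶ Z)) : Subsingleton (Dual.inD B N' ⟶ Z) :=
  (Iso.homCongr ((singleFunctor (ModuleCat.{u} B) 0).mapIso e.toModuleIso)
    (Iso.refl Z)).subsingleton_congr.mp h

/-- **flat base change of dualizing complexes** -/
theorem isDualizing_Ld_of_maximal [IsNoetherianRing B] (ω : Dual.D A)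
    (hω : Dual.IsDualizing A ω)
    (hmax : ∀ (n : Ideal B) [n.IsMaximal], ∃ (M : Type u) (_ : AddCommGroup M) (_ : Module A M)
      (_ : Module.Finite A M), Nonempty ((B ⊗[A] M) ≃ₗ[B] (B ⧸ n))) :
    Dual.IsDualizing B ((Ld (algebraMap A B)).obj ω) := by
  obtain ⟨a₀, b₀, hab⟩ := exists_isZero_homology ω hω
  obtain ⟨a, b, hinj⟩ := hω.finite_injective_dimension
  have hlow : ∀ j : ℤ, j < a₀ → IsZero ((homologyFunctor (ModuleCat.{u} A) j).obj ω) :=
    fun j hj => hab j (Or.inl hj)
  have hlowB : ∀ j : ℤ, j < a₀ → IsZero ((homologyFunctor (ModuleCat.{u} B) j).obj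
      ((Ld (algebraMap A B)).obj ω)) := fun j hj => isZero_homology_Ld B ω j (hlow j hj)
  have hfinB := finite_homology_Ld B ω hω
  refine ⟨inferInstance, ⟨a₀, b, ?_⟩, hfinB, ?_, ?_⟩
  · intro N _ _ i hi
    refine Groth.Agent.Helper8.BassCx.subsingleton_hom_of_maximal
      ((Ld (algebraMap A B)).obj ω) b a₀ hlowB hfinB (fun n hn i hi => ?_) N i hi
    obtain ⟨M, _, _, _, ⟨e⟩⟩ := hmax n
    exact subsingleton_hom_of_equiv B e _
      (subsingleton_hom_tensor B M ω a₀ hlow i (hinj M i (Or.inr hi)))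
  · exact toEnd_Ld_bijective B ω a₀ b₀ hab hω.finite_cohomology hω.toEnd_bijective
  · intro i hi
    have h1 := subsingleton_Ld_hom B ω a₀ b₀ hab hω.finite_cohomology (ω⟦i⟧) (a₀ - i)
      (isZero_homology_shift ω a₀ hlow i) (hω.ext_self_subsingleton i hi)
    exact (Iso.homCongr (Iso.refl _)
      (((Ld (algebraMap A B)).commShiftIso i).app ω)).subsingleton_congr.mp h1

end Noeth

end Groth.Agent.Helper8.FBC
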