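import Groth.Agent.Lib.Helper8.RFin2

/-!
# Finiteness for right adjoints of restriction, part 3 (helper8)
-/


set_option autoImplicit false
universe u

namespace Groth.Agent.Helper8.RFin

open CategoryTheory Abelian DerivedCategory Pretriangulated Limits

attribute [local instance] HasDerivedCategory.standard

variable {A B : Type u} [CommRing A] [CommRing B] (φ : A →+* B)

theorem restrictCx_map_smul_id (L : DRing.Cx B) (a : A) :
    (DRing.restrictCx φ).map (φ a • 𝟙 L) = a • 𝟙 ((DRing.restrictCx φ).obj L) := by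
  apply HomologicalComplex.hom_ext
  intro n
  apply ModuleCat.hom_ext
  apply LinearMap.ext
  intro x
  rfl

theorem restrictD_map_smul_id (X : Dual.D B) (a : A) :
    (DRing.restrictD φ).map (φ a • 𝟙 X) = a • 𝟙 ((DRing.restrictD φ).obj X) := by
  let L := Q.objPreimage X
  let e : Q.obj L ≅ X := Q.objObjPreimageIso X
  let F := ModuleCat.restrictScalars.{u} φ
  have h1 : φ a • 𝟙 X = e.inv ≫ Q.map (φ a • 𝟙 L) ≫ e.hom := by
    rw [Functor.map_smul, CategoryTheory.Functor.map_id, Linear.smul_comp, Linear.comp_smul,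
      Category.id_comp, e.inv_hom_id]
  have hn := F.mapDerivedCategoryFactors.hom.naturality (φ a • 𝟙 L)
  have h2 : (DRing.restrictD φ).map (Q.map (φ a • 𝟙 L)) = a • 𝟙 _ := by
    have h3 : (Q ⋙ F.mapDerivedCategory).map (φ a • 𝟙 L) =
        F.mapDerivedCategoryFactors.hom.app L ≫
          (F.mapHomologicalComplex (ComplexShape.up ℤ) ⋙ Q).map (φ a • 𝟙 L) ≫
            F.mapDerivedCategoryFactors.inv.app L := by
      rw [← Category.assoc, ← hn, Category.assoc, Iso.hom_inv_id_app, Category.comp_id]
    have h4 : (F.mapHomologicalComplex (ComplexShape.up ℤ) ⋙ Q).map (φ a • 𝟙 L) = a • 𝟙 _ := by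
      show Q.map ((DRing.restrictCx φ).map (φ a • 𝟙 L)) = _
      rw [restrictCx_map_smul_id, Functor.map_smul, CategoryTheory.Functor.map_id]
      rfl
    show (Q ⋙ F.mapDerivedCategory).map (φ a • 𝟙 L) = _
    rw [h3, h4, Linear.smul_comp, Linear.comp_smul, Category.id_comp, Iso.hom_inv_id_app]
    rfl
  rw [h1, Functor.map_comp, Functor.map_comp, h2, Linear.smul_comp, Linear.comp_smul,
    Category.id_comp, ← Functor.map_comp, e.inv_hom_id, CategoryTheory.Functor.map_id]

end Groth.Agent.Helper8.RFin

namespace Groth.Agent.Helper8.RFin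

open CategoryTheory Abelian DerivedCategory Pretriangulated Limits

attribute [local instance] HasDerivedCategory.standard

variable {A B : Type u} [CommRing A] [CommRing B] [Algebra A B]

theorem finite_restrictScalars_self [Module.Finite A B] :
    Module.Finite A ((ModuleCat.restrictScalars.{u} (algebraMap A B)).obj (ModuleCat.of B B)) := by
  let e' : B ≃ₗ[A] ↑((ModuleCat.restrictScalars.{u} (algebraMap A B)).obj (ModuleCat.of B B)) :=
    { toFun := fun x => x
      invFun := fun x => x
      map_add' := fun _ _ => rfl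
      map_smul' := fun a x => by
        have h3 : ∀ y : B, a • y = (algebraMap A B a) • y := fun y => by
          rw [Algebra.smul_def]
          rfl
        exact h3 x
      left_inv := fun _ => rfl
      right_inv := fun _ => rfl }
  exact Module.Finite.equiv e'

theorem finite_H0_rightAdjoint [IsNoetherianRing A] [Module.Finite A B]
    (R : Dual.D A ⥤ Dual.D B) (adj : DRing.restrictD (algebraMap A B) ⊣ R) (K : Dual.D A) (a : ℤ)
    (hKa : ∀ j : ℤ, j < a → IsZero ((homologyFunctor (ModuleCat.{u} A) j).obj K))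
    (hK : ∀ j : ℤ, Module.Finite A ((homologyFunctor (ModuleCat.{u} A) j).obj K)) :
    Module.Finite B ((homologyFunctor (ModuleCat.{u} B) 0).obj (R.obj K)) := by
  classical
  let φ : A →+* B := algebraMap A B
  let F := DRing.restrictD φ
  have hRadd : R.Additive := adj.right_adjoint_additive
  let PB : ModuleCat.{u} B := ModuleCat.of B B
  let XB : Dual.D B := (singleFunctor (ModuleCat.{u} B) 0).obj PB
  -- Noetherianity of the source
  have hfin := finite_restrictScalars_self (A := A) (B := B)
  let εF : F.obj XB ≅ (singleFunctor (ModuleCat.{u} A) 0).obj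
      ((ModuleCat.restrictScalars.{u} φ).obj PB) :=
    ((ModuleCat.restrictScalars.{u} φ).mapDerivedCategorySingleFunctor 0).app PB
  have hN0 := noetherian_hom_single_of_bddBelow
    ((ModuleCat.restrictScalars.{u} φ).obj PB) K a hKa hK
  have hN : IsNoetherian A (F.obj XB ⟶ K) := by
    refine isNoetherian_of_injective (Linear.leftComp A K εF.inv) ?_
    intro f g hfg
    exact (cancel_epi εF.inv).mp hfg
  -- the comparison map
  let u : (homologyFunctor (ModuleCat.{u} B) 0).obj XB :=
    (Groth.Agent.Helper11.DC.iota PB).inv.hom (1 : B)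
  let Λ : (F.obj XB ⟶ K) → (homologyFunctor (ModuleCat.{u} B) 0).obj (R.obj K) :=
    fun g => ((homologyFunctor (ModuleCat.{u} B) 0).map (adj.homEquiv XB K g)).hom u
  have hΛadd : ∀ g g', Λ (g + g') = Λ g + Λ g' := by
    intro g g'
    show ((homologyFunctor (ModuleCat.{u} B) 0).map (adj.homEquiv XB K (g + g'))).hom u = _
    have h1 : adj.homEquiv XB K (g + g') = adj.homEquiv XB K g + adj.homEquiv XB K g' := by
      rw [Adjunction.homEquiv_unit, Adjunction.homEquiv_unit, Adjunction.homEquiv_unit,
        Functor.map_add, Preadditive.comp_add]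
    rw [h1, Functor.map_add]
    rfl
  have hΛsmul : ∀ (c : A) g, Λ (c • g) = (φ c) • Λ g := by
    intro c g
    show ((homologyFunctor (ModuleCat.{u} B) 0).map (adj.homEquiv XB K (c • g))).hom u = _
    have h1 : c • g = F.map (φ c • 𝟙 XB) ≫ g := by
      rw [restrictD_map_smul_id, Linear.smul_comp, Category.id_comp]
    have h2 : adj.homEquiv XB K (c • g) = φ c • adj.homEquiv XB K g := by
      rw [h1, Adjunction.homEquiv_naturality_left, Linear.smul_comp, Category.id_comp]
    rw [h2, homology_map_smul]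
    rfl
  have hΛzero : Λ 0 = 0 := by
    have := hΛadd 0 0
    rw [add_zero] at this
    exact left_eq_add.mp this
  have hΛsurj : Function.Surjective Λ := by
    intro y
    have hb := Groth.Agent.Helper11.DC.psi_bijective PB (R.obj K)
    obtain ⟨g₀, hg₀⟩ := hb.2 ((Groth.Agent.Helper11.DC.iota PB).hom ≫
      ModuleCat.ofHom (LinearMap.toSpanSingleton B _ y))
    refine ⟨(adj.homEquiv XB K).symm g₀, ?_⟩
    show ((homologyFunctor (ModuleCat.{u} B) 0).map
      (adj.homEquiv XB K ((adj.homEquiv XB K).symm g₀))).hom u = y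
    rw [Equiv.apply_symm_apply]
    have hg₀' : (homologyFunctor (ModuleCat.{u} B) 0).map g₀ =
        (Groth.Agent.Helper11.DC.iota PB).hom ≫
          ModuleCat.ofHom (LinearMap.toSpanSingleton B _ y) := hg₀
    rw [hg₀']
    show (LinearMap.toSpanSingleton B _ y) ((Groth.Agent.Helper11.DC.iota PB).hom.hom
      ((Groth.Agent.Helper11.DC.iota PB).inv.hom (1 : B))) = y
    have h2 : (Groth.Agent.Helper11.DC.iota PB).hom.hom
        ((Groth.Agent.Helper11.DC.iota PB).inv.hom (1 : B)) = (1 : B) := by
      rw [← LinearMap.comp_apply, ← ModuleCat.hom_comp, Iso.inv_hom_id]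
      rfl
    rw [h2, LinearMap.toSpanSingleton_apply, one_smul]
  -- finite generation
  obtain ⟨s, hs⟩ := (Module.IsNoetherian.finite A (F.obj XB ⟶ K)).fg_top
  refine ⟨⟨s.image Λ, ?_⟩⟩
  rw [eq_top_iff]
  intro y _
  obtain ⟨g, rfl⟩ := hΛsurj y
  clear * - hs hΛzero hΛadd hΛsmul g
  have hg : g ∈ Submodule.span A (s : Set (F.obj XB ⟶ K)) := by rw [hs]; trivial
  induction hg using Submodule.span_induction with
  | mem x hx =>
    apply Submodule.subset_span
    rw [Finset.coe_image]
    exact ⟨x, hx, rfl⟩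
  | zero => rw [hΛzero]; exact Submodule.zero_mem _
  | add x y _ _ hx hy => rw [hΛadd]; exact Submodule.add_mem _ hx hy
  | smul c x _ hx => rw [hΛsmul]; exact Submodule.smul_mem _ _ hx

end Groth.Agent.Helper8.RFin

namespace Groth.Agent.Helper8.RFin

open CategoryTheory Abelian DerivedCategory Pretriangulated Limits

attribute [local instance] HasDerivedCategory.standard

variable {A B : Type u} [CommRing A] [CommRing B] [Algebra A B]

/-- `H^j(K⟦i⟧) ≅ H^{i+j}(K)` -/
noncomputable def sigma' (K : Dual.D A) (i j m : ℤ) (h : i + j = m) :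
    (homologyFunctor (ModuleCat.{u} A) j).obj (K⟦i⟧) ≅
      (homologyFunctor (ModuleCat.{u} A) m).obj K :=
  ((homologyFunctor (ModuleCat.{u} A) 0).shiftIso i j m h).app K

theorem finite_HD_rightAdjoint [IsNoetherianRing A] [Module.Finite A B]
    (R : Dual.D A ⥤ Dual.D B) (adj : DRing.restrictD (algebraMap A B) ⊣ R) (K : Dual.D A) (a : ℤ)
    (hKa : ∀ j : ℤ, j < a → IsZero ((homologyFunctor (ModuleCat.{u} A) j).obj K))
    (hK : ∀ j : ℤ, Module.Finite A ((homologyFunctor (ModuleCat.{u} A) j).obj K)) (i : ℤ) :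
    Module.Finite B ((homologyFunctor (ModuleCat.{u} B) i).obj (R.obj K)) := by
  have h0 := finite_H0_rightAdjoint R adj (K⟦i⟧) (a - i)
    (fun j hj => (hKa (i + j) (by omega)).of_iso (sigma' K i j (i + j) rfl))
    (fun j => by
      have := hK (i + j)
      exact Module.Finite.equiv (sigma' K i j (i + j) rfl).symm.toLinearEquiv)
  let ρ : R.obj (K⟦i⟧) ≅ (R.obj K)⟦i⟧ := (Adjunction.RightAdjointCommShift.iso adj i).app K
  let e1 : (homologyFunctor (ModuleCat.{u} B) 0).obj (R.obj (K⟦i⟧)) ≅
      (homologyFunctor (ModuleCat.{u} B) 0).obj ((R.obj K)⟦i⟧) :=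
    (homologyFunctor (ModuleCat.{u} B) 0).mapIso ρ
  let e2 := Groth.Agent.Helper11.DC.sigma (R.obj K) i
  exact Module.Finite.equiv (e1 ≪≫ e2).toLinearEquiv

end Groth.Agent.Helper8.RFin
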