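import Groth.Agent.Lib.Helper8.BiDual4
import Groth.Agent.Lib.Helper8.DFin3

/-!
# Biduality for a bounded injective model of a dualizing complex (helper8)
-/

set_option autoImplicit false

open CategoryTheory CategoryTheory.Limits MonoidalCategory Pretriangulated

universe u

namespace Groth.Agent.Helper8.BiDual

open DerivedCategory

attribute [local instance] HasDerivedCategory.standard

variable {A : Type u} [CommRing A]

theorem isZero_homCx_X (K L : DRing.Cx A) (n : ℤ)
    (h : ∀ p q : ℤ, p + n = q → IsZero (K.X p) ∨ IsZero (L.X q)) :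
    IsZero ((DRing.homCx K L).X n) := by
  have : Subsingleton ((DRing.homCx K L).X n) := by
    show Subsingleton (CochainComplex.HomComplex.Cochain K L n)
    refine ⟨fun z z' => ?_⟩
    refine CochainComplex.HomComplex.Cochain.ext _ _ (fun p q hpq => ?_)
    rcases h p q hpq with h | h
    · exact h.eq_of_src _ _
    · exact h.eq_of_tgt _ _
  exact ModuleCat.isZero_of_subsingleton _

theorem isZero_Z_X (J : DRing.Cx A) (M : ModuleCat.{u} A) (n : ℤ) (hn : IsZero (J.X n)) :
    IsZero ((DRing.homCx (sg M) J).X n) := by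
  apply isZero_homCx_X
  intro p q hpq
  by_cases hp : p = 0
  · subst hp
    right
    have : q = n := by omega
    rw [this]
    exact hn
  · left
    exact HomologicalComplex.isZero_single_obj_X _ _ _ _ hp

theorem Z_isGE (J : DRing.Cx A) (a : ℤ) (ha : ∀ i : ℤ, i < a → IsZero (J.X i))
    (M : ModuleCat.{u} A) : (Z J M).IsGE a := by
  have : (DRing.homCx (sg M) J).IsStrictlyGE a := by
    rw [CochainComplex.isStrictlyGE_iff]
    intro i hi
    exact isZero_Z_X J M i (ha i hi)
  exact inferInstanceAs ((Q.obj (DRing.homCx (sg M) J)).IsGE a)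

theorem Z_isLE (J : DRing.Cx A) (b : ℤ) (hb : ∀ i : ℤ, b < i → IsZero (J.X i))
    (M : ModuleCat.{u} A) : (Z J M).IsLE b := by
  have : (DRing.homCx (sg M) J).IsStrictlyLE b := by
    rw [CochainComplex.isStrictlyLE_iff]
    intro i hi
    exact isZero_Z_X J M i (hb i hi)
  exact inferInstanceAs ((Q.obj (DRing.homCx (sg M) J)).IsLE b)

/-- biduality for all finite modules, for a bounded injective model -/
theorem P_of_model [IsNoetherianRing A] (J : DRing.Cx A) (a b : ℤ)
    (hvan : DRing.VanishesOutside J a b) (hinj : DRing.TermwiseInjective J)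
    (hend : Function.Bijective (fun x : A => x • 𝟙 (Q.obj J)))
    (hext : ∀ i : ℤ, i ≠ 0 → ∀ f : Q.obj J ⟶ (Q.obj J)⟦i⟧, f = 0)
    (M : Type u) [AddCommGroup M] [Module A M] [Module.Finite A M] :
    P J (ModuleCat.of A M) := by
  have hJ : ∀ n : ℤ, Injective (J.X n) := fun n =>
    (Module.injective_iff_injective_object A (J.X n)).mp (hinj n)
  have h1 := P_unit J hend hext
  have hF := P_free J hJ h1
  have hN₀ : ∀ (M : ModuleCat.{u} A) (i : ℤ), b - a + 1 ≤ i → V J i M := by
    intro M i hi f
    have := Z_isGE J a (fun j hj => hvan j (Or.inl hj)) M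
    exact Groth.Agent.Helper8.DFin.hom_shift_eq_zero_of_isGE_of_injAmp (Z J M) (Q.obj J) a b a i
      ⟨J, hvan, hinj, ⟨Iso.refl _⟩⟩ (by omega) f
  exact P_of_finite J hJ hF (b - a + 1) hN₀ M

end Groth.Agent.Helper8.BiDual
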