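import Groth.Agent.Lib.Helper8.HDI1
import Groth.Agent.Lib.Helper8.FLD4

/-!
# Local cohomology of a normalized dualizing complex (helper8)
-/

set_option autoImplicit false

open CategoryTheory CategoryTheory.Limits Opposite

universe u

namespace Groth.Agent.Helper8.HDI

open DerivedCategory Groth.Agent.Helper8.FLD IsLocalRing

attribute [local instance] HasDerivedCategory.standard

variable {A : Type u} [CommRing A] [IsLocalRing A] [IsNoetherianRing A] (ω : Dual.D A)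

theorem subsingleton_HDI (hn : Dual.IsNormalized A ω) (i : ℤ) (hi : i ≠ 0) :
    Subsingleton (Dual2.HDI A (maximalIdeal A) ω i) := by
  refine ⟨fun x y => ?_⟩
  have key : ∀ x : Dual2.HDI A (maximalIdeal A) ω i, x = 0 := by
    intro x
    obtain ⟨n, t, rfl⟩ := exists_rep (maximalIdeal A) ω i x
    rw [hom_shift_eq_zero_of_isFiniteLength ω hn i hi _
      (Groth.Agent.Helper8.Matlis.isFiniteLength_quotient_pow n) t, map_zero]
  rw [key x, key y]

section Zero

variable (ω' : Dual.D A) (hω : Dual.IsDualizing A ω') (hn : Dual.IsNormalized A ω')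
  (hω' : ω' = ω⟦(0 : ℤ)⟧)

include hn hω' in
theorem leg_injective (n : ℕ) : Function.Injective (leg (maximalIdeal A) ω 0 n) := by
  subst hω'
  rw [← LinearMap.ker_eq_bot, LinearMap.ker_eq_bot']
  intro t ht
  obtain ⟨k, hk, h0⟩ := leg_eq_zero (maximalIdeal A) ω 0 n t ht
  have hfl : IsFiniteLength A (LinearMap.ker (tr (maximalIdeal A) hk)) := by
    have := Groth.Agent.Helper8.Matlis.isFiniteLength_quotient_pow (A := A) k
    rw [isFiniteLength_iff_isNoetherian_isArtinian] at this ⊢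
    obtain ⟨h1, h2⟩ := this
    exact ⟨inferInstance, inferInstance⟩
  have hinj := Fmap_injective_of_surjective (ω⟦(0 : ℤ)⟧) (tr (maximalIdeal A) hk)
    (tr_surjective _ hk)
    (fun s => hom_shift_eq_zero_of_isFiniteLength _ hn (-1) (by norm_num) _ hfl s)
  exact hinj (h0.trans (map_zero _).symm)

omit [IsLocalRing A] [IsNoetherianRing A] in
theorem smul_leg_eq_zero (I : Ideal A) (K : Dual.D A) (i : ℤ) (n : ℕ)
    (t : Dual.inD A (A ⧸ I ^ n) ⟶ K⟦i⟧) (a : A) (ha : a ∈ I ^ n) :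
    a • leg I K i n t = 0 := by
  rw [← map_smul, Groth.Agent.Helper8.BiDual.smul_hom_single_eq_zero a (killed_quot _ a ha) t,
    map_zero]

include hω hn hω' in
theorem nonempty_HDI_zero_equiv {E : Type u} [AddCommGroup E] [Module A E]
    {f : ResidueField A →ₗ[A] E} (hf : InjHull.IsInjectiveHull f) :
    Nonempty (Dual2.HDI A (maximalIdeal A) ω 0 ≃ₗ[A] E) := by
  have hleg := leg_injective ω ω' hn hω'
  subst hω'
  obtain ⟨t₀, ht₀⟩ := exists_gen (ω⟦(0 : ℤ)⟧) hω hn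
  -- compatibility of the socle generators
  have hcompat : ∀ (n : ℕ) (c : ResidueField A),
      inDMap (tr (maximalIdeal A) (Nat.succ_le_succ (Nat.zero_le n))) ≫
        Phi (ω⟦(0 : ℤ)⟧) (maximalIdeal A ^ (0 + 1)) (ResidueField A) (killed_residue 0) t₀ c =
      Phi (ω⟦(0 : ℤ)⟧) (maximalIdeal A ^ (n + 1)) (ResidueField A) (killed_residue n) t₀ c := by
    intro n c
    rw [Phi_apply, Phi_apply, ← Category.assoc, ← inDMap_comp]
    congr 2
    exact hatI_comp_mapQ (Ideal.pow_le_pow_right (Nat.succ_le_succ (Nat.zero_le n))) _ _ _ c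
  -- the inclusion of the residue field
  let i₀ : ResidueField A →ₗ[A] Dual2.HDI A (maximalIdeal A) ω 0 :=
    leg (maximalIdeal A) ω 0 (0 + 1) ∘ₗ
      Phi (ω⟦(0 : ℤ)⟧) (maximalIdeal A ^ (0 + 1)) (ResidueField A) (killed_residue 0) t₀
  have hi₀ : Function.Injective i₀ := (hleg 1).comp (ht₀ 0).1
  -- torsion
  have htors : ∀ y : Dual2.HDI A (maximalIdeal A) ω 0,
      ∃ k : ℕ, ∀ a ∈ maximalIdeal A ^ k, a • y = 0 := by
    intro y
    obtain ⟨n, t, rfl⟩ := exists_rep (maximalIdeal A) ω 0 y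
    exact ⟨n, fun a ha => smul_leg_eq_zero _ _ _ n t a ha⟩
  -- the socle
  have hsoc : ∀ y : Dual2.HDI A (maximalIdeal A) ω 0,
      (∀ b ∈ maximalIdeal A, b • y = 0) → y ∈ LinearMap.range i₀ := by
    intro y hy
    obtain ⟨n, t, rfl⟩ := exists_rep (maximalIdeal A) ω 0 y
    rw [← leg_tr (maximalIdeal A) ω 0 (Nat.le_succ n) t] at hy ⊢
    set t' := inDMap (tr (maximalIdeal A) (Nat.le_succ n)) ≫ t with ht'
    have hsoc' : ∀ b ∈ maximalIdeal A, b • t' = 0 := by
      intro b hb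
      apply hleg (n + 1)
      rw [map_smul, hy b hb, map_zero]
    obtain ⟨c, hc⟩ := (ht₀ n).2 t' hsoc'
    refine ⟨c, ?_⟩
    show leg (maximalIdeal A) ω 0 (0 + 1) (Phi (ω⟦(0 : ℤ)⟧) (maximalIdeal A ^ (0 + 1))
      (ResidueField A) (killed_residue 0) t₀ c) = _
    rw [← hc, ← hcompat n c]
    exact (leg_tr (maximalIdeal A) ω 0 (Nat.succ_le_succ (Nat.zero_le n)) _).symm
  -- the extension
  have := hf.isInjective
  obtain ⟨j, hj⟩ := Module.Injective.extension_property A E (ResidueField A) _ i₀ hi₀ f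
  have hjinj : Function.Injective j := by
    refine injective_of_socle htors i₀ hsoc j ?_
    rw [hj]
    exact hf.injective
  refine ⟨LinearEquiv.ofBijective j ⟨hjinj, ?_⟩⟩
  -- surjectivity
  intro e
  obtain ⟨n, hne⟩ := Groth.Agent.Helper8.Matlis.isPowerTorsion hf.toIsEssentialInj e
  have hne' : ∀ a ∈ maximalIdeal A ^ (n + 1), a • e = 0 :=
    fun a ha => hne a (Ideal.pow_le_pow_right (Nat.le_succ n) ha)
  have hV : ∀ (i : ℤ), i ≠ 0 → ∀ (N : Type u) [AddCommGroup N] [Module A N],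
      IsFiniteLength A N → ∀ t : Dual.inD A N ⟶ (ω⟦(0 : ℤ)⟧)⟦i⟧, t = 0 :=
    fun i hi N _ _ hN t => hom_shift_eq_zero_of_isFiniteLength _ hn i hi N hN t
  have hI := Groth.Agent.Helper8.Matlis.isFiniteLength_quotient_pow (A := A) (n + 1)
  have hΦ := Phi_bijective (ω⟦(0 : ℤ)⟧) (maximalIdeal A ^ (n + 1)) hV hI _ hI (killed_quot _)
  let j' : (Dual.inD A (A ⧸ maximalIdeal A ^ (n + 1)) ⟶ ω⟦(0 : ℤ)⟧) →ₗ[A] E :=
    j ∘ₗ leg (maximalIdeal A) ω 0 (n + 1)
  have hj' : Function.Injective j' := hjinj.comp (hleg (n + 1))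
  let e1 := LinearEquiv.ofBijective _ hΦ
  have hinj := postcomp_injective (A ⧸ maximalIdeal A ^ (n + 1)) j' hj'
  have hlen : Module.length A ((A ⧸ maximalIdeal A ^ (n + 1)) →ₗ[A]
        (Dual.inD A (A ⧸ maximalIdeal A ^ (n + 1)) ⟶ ω⟦(0 : ℤ)⟧)) =
      Module.length A ((A ⧸ maximalIdeal A ^ (n + 1)) →ₗ[A] E) := by
    rw [← e1.length_eq, length_F _ hω hn _ hI, Groth.Agent.Helper8.Matlis.length_hom hf _ hI]
  have hfin : Module.length A ((A ⧸ maximalIdeal A ^ (n + 1)) →ₗ[A]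
        (Dual.inD A (A ⧸ maximalIdeal A ^ (n + 1)) ⟶ ω⟦(0 : ℤ)⟧)) ≠ ⊤ := by
    rw [← e1.length_eq, length_F _ hω hn _ hI]
    exact Module.length_ne_top_iff.mpr hI
  have hsurj := Groth.Agent.Helper1.surjective_of_injective_of_length_eq _ hinj hlen hfin
  obtain ⟨φ, hφ⟩ := hsurj (ofKilled (maximalIdeal A ^ (n + 1)) e hne')
  obtain ⟨t, rfl⟩ := hΦ.2 φ
  refine ⟨leg (maximalIdeal A) ω 0 (n + 1) t, ?_⟩
  have h1 := LinearMap.congr_fun hφ 1
  rw [ofKilled_one] at h1
  rw [← h1]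
  show j' t = j' (Phi (ω⟦(0 : ℤ)⟧) (maximalIdeal A ^ (n + 1)) _ (killed_quot _) t 1)
  rw [Phi_apply]
  congr 1
  have : hatI (maximalIdeal A ^ (n + 1)) (A ⧸ maximalIdeal A ^ (n + 1)) (killed_quot _) 1 =
      LinearMap.id := by
    ext
    simp
  rw [this, inDMap_id, Category.id_comp]

end Zero

end Groth.Agent.Helper8.HDI
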