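import Groth.Agent.Lib.Helper8.LD4
import Groth.Agent.Lib.Helper8.HDI2

/-!
# Local duality, part 5: the case of finite length modules (helper8)
-/

set_option autoImplicit false

open CategoryTheory CategoryTheory.Limits Opposite Pretriangulated

universe u

namespace Groth.Agent.Helper8.LD

open DerivedCategory Groth.Agent.Helper8.FLD Groth.Agent.Helper8.HDI IsLocalRing

attribute [local instance] HasDerivedCategory.standard

variable {A : Type u} [CommRing A] [IsLocalRing A] [IsNoetherianRing A] (ω : Dual.D A)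

theorem legY_injective (hn : Dual.IsNormalized A ω) (n : ℕ) :
    Function.Injective (legY (maximalIdeal A) ω n) := by
  rw [← LinearMap.ker_eq_bot, LinearMap.ker_eq_bot']
  intro t ht
  obtain ⟨k, hk, h0⟩ := legY_eq_zero (maximalIdeal A) ω n t ht
  have hfl : IsFiniteLength A (LinearMap.ker (tr (maximalIdeal A) hk)) := by
    have := Groth.Agent.Helper8.Matlis.isFiniteLength_quotient_pow (A := A) k
    rw [isFiniteLength_iff_isNoetherian_isArtinian] at this ⊢
    obtain ⟨h1, h2⟩ := this
    exact ⟨inferInstance, inferInstance⟩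
  have hinj := Fmap_injective_of_surjective ω (tr (maximalIdeal A) hk)
    (tr_surjective _ hk)
    (fun s => hom_shift_eq_zero_of_isFiniteLength _ hn (-1) (by norm_num) _ hfl s)
  exact hinj (h0.trans (map_zero _).symm)

theorem nonempty_HH_equiv (hω : Dual.IsDualizing A ω) (hn : Dual.IsNormalized A ω)
    {E : Type u} [AddCommGroup E] [Module A E]
    {f : ResidueField A →ₗ[A] E} (hf : InjHull.IsInjectiveHull f) :
    Nonempty (HH (maximalIdeal A) ω ≃ₗ[A] E) := by
  let e₀ : ω ≅ ω⟦(0 : ℤ)⟧ := ((shiftFunctorZero (Dual.D A) ℤ).app ω).symm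
  have hω₀ := isDualizing_of_iso e₀ hω
  have hn₀ := isNormalized_of_iso e₀ hn
  obtain ⟨e⟩ := nonempty_HDI_zero_equiv ω (ω⟦(0 : ℤ)⟧) hω₀ hn₀ rfl hf
  haveI : IsIso e₀.hom := inferInstance
  exact ⟨(LinearEquiv.ofBijective (HHmap (maximalIdeal A) e₀.hom)
    (HHmap_bijective_of_isIso (maximalIdeal A) e₀.hom)).trans e⟩

section Vanish

variable (N : Type u) [AddCommGroup N] [Module A N]

omit [IsLocalRing A] [IsNoetherianRing A] in
theorem subsingleton_HH_of_neg (I : Ideal A) (i : ℤ) (hi : i < 0) :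
    Subsingleton (HH I ((Dual.inD A N)⟦i⟧)) := by
  refine ⟨fun x y => ?_⟩
  have key : ∀ x : HH I ((Dual.inD A N)⟦i⟧), x = 0 := by
    intro x
    obtain ⟨n, t, rfl⟩ := exists_repY I _ x
    haveI := Groth.Agent.Helper8.DualMod.subsingleton_hom_inD_shift_of_neg A (A ⧸ I ^ n) N i hi
    rw [Subsingleton.elim t 0, map_zero]
  rw [key x, key y]

omit [IsLocalRing A] in
theorem subsingleton_HH_of_pos (I : Ideal A) (hN : Groth.Agent.Helper8.LC.IsTors I N)
    (i : ℤ) (hi : 0 < i) : Subsingleton (HH I ((Dual.inD A N)⟦i⟧)) := by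
  obtain ⟨k, rfl⟩ := Int.eq_ofNat_of_zero_le hi.le
  haveI : Subsingleton (LocCoh.H I k N) :=
    Groth.Agent.Helper8.LC.IsTors.H_subsingleton I k (by exact_mod_cast hi) N hN
  exact (brEquiv I k N).toEquiv.subsingleton

omit [IsNoetherianRing A] in
theorem subsingleton_hom_shift_of_isFiniteLength (hn : Dual.IsNormalized A ω)
    (hN : IsFiniteLength A N) (i : ℤ) (hi : i ≠ 0) :
    Subsingleton ((Dual.inD A N)⟦i⟧ ⟶ ω) := by
  refine ⟨fun x y => ?_⟩
  have key : ∀ x : (Dual.inD A N)⟦i⟧ ⟶ ω, x = 0 := by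
    intro x
    have h1 := hom_shift_eq_zero_of_isFiniteLength ω hn (-i) (by omega) N hN
      ((shiftFunctorCompIsoId (Dual.D A) i (-i) (by omega)).inv.app _ ≫ x⟦-i⟧')
    have h2 : x⟦-i⟧' = 0 := by
      have := congrArg (fun z => (shiftFunctorCompIsoId (Dual.D A) i (-i) (by omega)).hom.app _ ≫ z) h1
      simpa using this
    apply (shiftFunctor (Dual.D A) (-i)).map_injective
    rw [h2, Functor.map_zero]
  rw [key x, key y]

end Vanish


section Base

omit [IsLocalRing A] [IsNoetherianRing A] in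
theorem isFiniteLength_submodule {N : Type u} [AddCommGroup N] [Module A N]
    (hN : IsFiniteLength A N) (R : Submodule A N) : IsFiniteLength A R := by
  rw [isFiniteLength_iff_isNoetherian_isArtinian] at hN ⊢
  obtain ⟨h1, h2⟩ := hN
  exact ⟨inferInstance, inferInstance⟩

omit [IsLocalRing A] [IsNoetherianRing A] in
theorem isFiniteLength_quotient {N : Type u} [AddCommGroup N] [Module A N]
    (hN : IsFiniteLength A N) (R : Submodule A N) : IsFiniteLength A (N ⧸ R) := by
  rw [isFiniteLength_iff_isNoetherian_isArtinian] at hN ⊢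
  obtain ⟨h1, h2⟩ := hN
  exact ⟨inferInstance, inferInstance⟩

theorem isTors_of_isFiniteLength {N : Type u} [AddCommGroup N] [Module A N]
    (hN : IsFiniteLength A N) : Groth.Agent.Helper8.LC.IsTors (maximalIdeal A) N := by
  obtain ⟨n, h⟩ := Groth.Agent.Helper8.LDual.exists_pow_le_annihilator_of_isFiniteLength hN
  exact fun x => ⟨n, fun a ha => Module.mem_annihilator.mp (h ha) x⟩

variable (hω : Dual.IsDualizing A ω) (hn : Dual.IsNormalized A ω)

include hω hn in
/-- `F = Hom(-[0], ω)` is faithful on finite length modules -/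
theorem eq_zero_of_forall_comp_eq_zero {P N : Type u} [AddCommGroup P] [Module A P]
    [AddCommGroup N] [Module A N] (hP : IsFiniteLength A P) (hN : IsFiniteLength A N)
    (τ : P →ₗ[A] N) (h : ∀ ψ : Dual.inD A N ⟶ ω, inDMap τ ≫ ψ = 0) : τ = 0 := by
  set R := LinearMap.range τ with hR
  have hRfl : IsFiniteLength A R := isFiniteLength_submodule hN R
  have hses : Groth.Agent.Helper8.LC.IsSES R.subtype R.mkQ :=
    ⟨R.injective_subtype, LinearMap.exact_subtype_mkQ R, R.mkQ_surjective⟩
  have hsurj := Fmap_surjective ω hses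
    (fun t => hom_shift_eq_zero_of_isFiniteLength ω hn 1 (by norm_num) _
      (isFiniteLength_quotient hN R) t)
  have hinj := Fmap_injective_of_surjective ω τ.rangeRestrict τ.surjective_rangeRestrict
    (fun s => hom_shift_eq_zero_of_isFiniteLength ω hn (-1) (by norm_num) _
      (isFiniteLength_submodule hP _) s)
  have hzero : ∀ χ : Dual.inD A R ⟶ ω, χ = 0 := by
    intro χ
    obtain ⟨ψ, rfl⟩ := hsurj χ
    apply hinj
    rw [map_zero]
    show inDMap τ.rangeRestrict ≫ inDMap R.subtype ≫ ψ = 0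
    rw [← Category.assoc, ← inDMap_comp]
    exact h ψ
  have hlen : Module.length A R = 0 := by
    rw [← length_F ω hω hn R hRfl, Module.length_eq_zero_iff]
    exact ⟨fun a b => by rw [hzero a, hzero b]⟩
  rw [Module.length_eq_zero_iff] at hlen
  ext x
  have : (⟨τ x, ⟨x, rfl⟩⟩ : R) = 0 := Subsingleton.elim _ _
  exact congrArg Subtype.val this

variable {E : Type u} [AddCommGroup E] [Module A E] {f : ResidueField A →ₗ[A] E}
  (hf : InjHull.IsInjectiveHull f)
  (Ψ : HH (maximalIdeal A) ω →ₗ[A] E) (hΨ : Function.Injective Ψ)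
  (N : Type u) [AddCommGroup N] [Module A N] (hN : IsFiniteLength A N)

include hω hn hΨ hN in
theorem Lam_injective_inD :
    Function.Injective (Lam ω E (maximalIdeal A) Ψ (Dual.inD A N)) := by
  rw [← LinearMap.ker_eq_bot, LinearMap.ker_eq_bot']
  intro x hx
  obtain ⟨n, t, rfl⟩ := exists_repY (maximalIdeal A) _ x
  obtain ⟨g, rfl⟩ := (singleFunctor (ModuleCat.{u} A) 0).map_surjective t
  have hτ : g.hom = 0 := by
    apply eq_zero_of_forall_comp_eq_zero ω hω hn
      (Groth.Agent.Helper8.Matlis.isFiniteLength_quotient_pow n) hN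
    intro ψ
    have h1 := LinearMap.congr_fun hx ψ
    rw [Lam_apply, HHmap_legY] at h1
    have h2 := hΨ (h1.trans (map_zero Ψ).symm)
    exact legY_injective ω hn n (h2.trans (map_zero _).symm)
  have hg : g = 0 := by
    ext : 1
    exact hτ
  rw [hg, Functor.map_zero, map_zero]

include hω hn hf hN in
theorem length_TT_inD :
    Module.length A (TT ω E (Dual.inD A N)) = Module.length A N := by
  obtain ⟨e⟩ := nonempty_F_equiv_hom ω hω hn hf N hN
  have e' : TT ω E (Dual.inD A N) ≃ₗ[A] ((N →ₗ[A] E) →ₗ[A] E) :=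
    LinearEquiv.arrowCongr e (LinearEquiv.refl A E)
  have h1 := Groth.Agent.Helper8.Matlis.length_hom hf N hN
  have hfl : IsFiniteLength A (N →ₗ[A] E) := by
    rw [← Module.length_ne_top_iff, h1]
    exact Module.length_ne_top_iff.mpr hN
  rw [e'.length_eq, Groth.Agent.Helper8.Matlis.length_hom hf _ hfl, h1]

include hN in
theorem length_HH_inD :
    Module.length A (HH (maximalIdeal A) (Dual.inD A N)) = Module.length A N := by
  let e₀ : (Dual.inD A N)⟦((0 : ℕ) : ℤ)⟧ ≅ Dual.inD A N :=
    (shiftFunctorZero (Dual.D A) ℤ).app (Dual.inD A N)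
  haveI : IsIso e₀.hom := inferInstance
  have e1 := LinearEquiv.ofBijective (HHmap (maximalIdeal A) e₀.hom)
    (HHmap_bijective_of_isIso (maximalIdeal A) e₀.hom)
  have e2 := brEquiv (maximalIdeal A) 0 N
  have e3 := (isTors_of_isFiniteLength hN).H0Equiv (maximalIdeal A)
  rw [← e1.length_eq, e2.length_eq, e3.length_eq]

include hω hn hf hΨ hN in
theorem Lam_bijective_inD :
    Function.Bijective (Lam ω E (maximalIdeal A) Ψ (Dual.inD A N)) := by
  have hinj := Lam_injective_inD ω hω hn Ψ hΨ N hN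
  refine ⟨hinj, Groth.Agent.Helper1.surjective_of_injective_of_length_eq _ hinj ?_ ?_⟩
  · rw [length_HH_inD N hN, length_TT_inD ω hω hn hf N hN]
  · rw [length_HH_inD N hN]
    exact Module.length_ne_top_iff.mpr hN

include hω hn hf hΨ hN in
/-- local duality for finite length modules -/
theorem Lam_bijective_of_isFiniteLength (i : ℤ) :
    Function.Bijective (Lam ω E (maximalIdeal A) Ψ ((Dual.inD A N)⟦i⟧)) := by
  by_cases hi : i = 0
  · subst hi
    exact Lam_bijective_of_iso ω E _ Ψ ((shiftFunctorZero (Dual.D A) ℤ).app (Dual.inD A N)).symm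
      (Lam_bijective_inD ω hω hn hf Ψ hΨ N hN)
  · have h1 : Subsingleton (HH (maximalIdeal A) ((Dual.inD A N)⟦i⟧)) := by
      rcases lt_or_gt_of_ne hi with h | h
      · exact subsingleton_HH_of_neg N _ i h
      · exact subsingleton_HH_of_pos N _ (isTors_of_isFiniteLength hN) i h
    have h2 := subsingleton_hom_shift_of_isFiniteLength ω N hn hN i hi
    constructor
    · intro x y _
      exact Subsingleton.elim x y
    · intro u
      refine ⟨0, ?_⟩
      ext ψ
      rw [Subsingleton.elim ψ 0, map_zero, map_zero]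

end Base

end Groth.Agent.Helper8.LD
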