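import Groth.Agent.Lib.Helper8.Matlis3
import Groth.Agent.S0543

set_option autoImplicit false
universe u

namespace Groth.Agent.Helper8.Matlis

open IsLocalRing

variable {A : Type u} [CommRing A] [IsLocalRing A] [IsNoetherianRing A] {E : Type u}
  [AddCommGroup E] [Module A E] {f : ResidueField A →ₗ[A] E}

/-- the annihilator in `Â` of a submodule of `E`. -/
noncomputable def annHat (hf : InjHull.IsInjectiveHull f) (N : Submodule A E) :
    Ideal (AdicCompletion (maximalIdeal A) A) where
  carrier := {â | ∀ e ∈ N, Φ (isPowerTorsion hf.toIsEssentialInj) â e = 0}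
  add_mem' := by
    intro a b ha hb e he
    rw [map_add, LinearMap.add_apply, ha e he, hb e he, add_zero]
  zero_mem' := by
    intro e _
    rw [map_zero, LinearMap.zero_apply]
  smul_mem' := by
    intro c a ha e he
    rw [smul_eq_mul, map_mul, Module.End.mul_apply, ha e he, map_zero]

theorem annHat_strictAnti (hf : InjHull.IsInjectiveHull f) : StrictAnti (annHat hf) := by
  intro N N' hlt
  refine lt_of_le_of_ne (fun â hâ e he => hâ e (hlt.le he)) ?_
  intro heq
  obtain ⟨x, hxN', hxN⟩ := Set.exists_of_ssubset hlt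
  have hx0 : N.mkQ x ≠ 0 := by
    rwa [Ne, Submodule.mkQ_apply, Submodule.Quotient.mk_eq_zero]
  have hne : (LinearMap.applyₗ : (E ⧸ N) →ₗ[A] _ →ₗ[A] E) (N.mkQ x) ≠ 0 := fun h0 =>
    hx0 ((injective_iff_map_eq_zero _).1 (applyₗ_injective hf (E ⧸ N)) _ h0)
  obtain ⟨ψ, hψ⟩ : ∃ ψ : (E ⧸ N) →ₗ[A] E, ψ (N.mkQ x) ≠ 0 := by
    by_contra hcon
    push Not at hcon
    exact hne (LinearMap.ext hcon)
  obtain ⟨â, hâ⟩ := Φ_surjective hf (ψ ∘ₗ N.mkQ)
  have h1 : â ∈ annHat hf N := by
    intro e he
    rw [hâ, LinearMap.comp_apply, Submodule.mkQ_apply, (Submodule.Quotient.mk_eq_zero N).2 he,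
      map_zero]
  have h2 : â ∈ annHat hf N' := by rw [heq]; exact h1
  apply hψ
  have := h2 x hxN'
  rwa [hâ] at this

/-- An injective hull of the residue field of a Noetherian local ring is Artinian. -/
theorem isArtinian (hf : InjHull.IsInjectiveHull f) : IsArtinian A E := by
  have : IsNoetherianRing (AdicCompletion (maximalIdeal A) A) :=
    Groth.Agent.S0543.result A (maximalIdeal A)
  have : WellFoundedGT (Ideal (AdicCompletion (maximalIdeal A) A)) := isNoetherian_iff'.1 this
  exact (annHat_strictAnti hf).wellFoundedLT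

omit [IsNoetherianRing A] in
theorem annihilator_dual (hf : InjHull.IsInjectiveHull f) (G : Type u) [AddCommGroup G]
    [Module A G] : Module.annihilator A G = Module.annihilator A (G →ₗ[A] E) := by
  ext a
  rw [Module.mem_annihilator, Module.mem_annihilator]
  constructor
  · intro h φ
    ext g
    rw [LinearMap.smul_apply, ← map_smul, h g, map_zero, LinearMap.zero_apply]
  · intro h g
    apply applyₗ_injective hf G
    rw [map_zero]
    ext φ
    rw [LinearMap.applyₗ_apply_apply, LinearMap.zero_apply, map_smul, ← LinearMap.smul_apply, h φ,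
      LinearMap.zero_apply]

/-- the Matlis dual of a finite module is Artinian. -/
theorem isArtinian_dual_of_finite (hf : InjHull.IsInjectiveHull f) (N : Type u) [AddCommGroup N]
    [Module A N] [Module.Finite A N] : IsArtinian A (N →ₗ[A] E) := by
  have hE : IsArtinian A E := isArtinian hf
  obtain ⟨n, π, hπ⟩ := Module.Finite.exists_fin' A N
  let e : (Fin n → E) ≃ₗ[A] ((Fin n → A) →ₗ[A] E) := (Pi.basisFun A (Fin n)).constr A
  let j : (N →ₗ[A] E) →ₗ[A] (Fin n → E) := e.symm.toLinearMap ∘ₗ LinearMap.lcomp A E π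
  have hj : Function.Injective j := by
    apply e.symm.injective.comp
    intro g g' h
    ext x
    obtain ⟨y, rfl⟩ := hπ x
    exact LinearMap.congr_fun h y
  exact isArtinian_of_injective j hj

end Groth.Agent.Helper8.Matlis
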