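import Groth.Agent.Lib.Helper8.LD10
import Groth.Agent.S0316

/-!
# Local duality, part 11: the complete case (helper8)
-/

set_option autoImplicit false

open CategoryTheory CategoryTheory.Limits Opposite Pretriangulated

universe u

namespace Groth.Agent.Helper8.LD

open DerivedCategory IsLocalRing

attribute [local instance] HasDerivedCategory.standard

variable {A : Type u} [CommRing A] [IsLocalRing A] [IsNoetherianRing A] (ω : Dual.D A)
  (hω : Dual.IsDualizing A ω) (hn : Dual.IsNormalized A ω)
  {E : Type u} [AddCommGroup E] [Module A E] {f : ResidueField A →ₗ[A] E}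
  (hf : InjHull.IsInjectiveHull f)
  (M : Type u) [AddCommGroup M] [Module A M] [Module.Finite A M]

omit [IsLocalRing A] in
include hω in
theorem finite_hom_inD (i : ℤ) : Module.Finite A (Dual.inD A M ⟶ ω⟦i⟧) := by
  obtain ⟨a, b, hab⟩ := hω.finite_injective_dimension
  have hamp : DRing.HasInjAmplitudeIn A a b ω :=
    Groth.Agent.Helper11.DC.injAmp_of_hom_quotient_eq_zero ω a b
      (fun I i hi g => @Subsingleton.elim _ (hab (A ⧸ I) i hi) g 0)
  have h := Groth.Agent.Helper8.DFin.noetherian_hom (Dual.inD A M) ω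
    (fun j => Groth.Agent.Helper8.DualMod.finite_HD_inD A M j) hω.finite_cohomology a b hamp i
  exact Module.IsNoetherian.finite A (Dual.inD A M ⟶ ω⟦i⟧)

/-- Matlis duality for finite modules over a complete local ring (universe polymorphic) -/
theorem nonempty_equiv_bidual [IsAdicComplete (maximalIdeal A) A]
    (hf : InjHull.IsInjectiveHull f) (X : Type (u + 1)) [AddCommGroup X] [Module A X]
    [Module.Finite A X] : Nonempty (X ≃ₗ[A] ((X →ₗ[A] E) →ₗ[A] E)) := by
  obtain ⟨n, S, ⟨e⟩⟩ := Module.Finite.exists_fin_quot_equiv A X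
  have hb := (Groth.Agent.S0316.result A E f hf ((Fin n → A) ⧸ S)).2
  exact ⟨(e.symm.trans (LinearEquiv.ofBijective _ hb)).trans
    (LinearEquiv.arrowCongr (LinearEquiv.arrowCongr e (LinearEquiv.refl A E))
      (LinearEquiv.refl A E))⟩

include hω hn hf in
/-- **local duality, complete case** -/
theorem nonempty_localDuality_complete [IsAdicComplete (maximalIdeal A) A] (i : ℕ) :
    Nonempty ((Dual.inD A M ⟶ ω⟦(-(i : ℤ))⟧) ≃ₗ[A]
      (LocCoh.H (maximalIdeal A) i M →ₗ[A] E)) := by
  obtain ⟨e⟩ := nonempty_localDuality ω hω hn hf M i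
  have := finite_hom_inD ω hω M (-(i : ℤ))
  obtain ⟨e'⟩ := nonempty_equiv_bidual hf (Dual.inD A M ⟶ ω⟦(-(i : ℤ))⟧)
  exact ⟨e'.trans (LinearEquiv.arrowCongr e.symm (LinearEquiv.refl A E))⟩

end Groth.Agent.Helper8.LD
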