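import Groth.Agent.Lib.Helper8.LOC3

/-!
# Localization of `Hom` in the derived category, part 4: semilinearity (helper8)
-/

set_option autoImplicit false

open CategoryTheory CategoryTheory.Limits Opposite Pretriangulated

universe u

namespace Groth.Agent.Helper8.LOC

open DerivedCategory ChangeOfRings

attribute [local instance] HasDerivedCategory.standard

variable {A B : Type u} [CommRing A] [CommRing B] (φ : A →+* B)

/-- extension of scalars -/
noncomputable abbrev Efun : ModuleCat.{u} A ⥤ ModuleCat.{u} B := ModuleCat.extendScalars.{u, u, u} φ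

/-- restriction of scalars -/
noncomputable abbrev Rfun : ModuleCat.{u} B ⥤ ModuleCat.{u} A := ModuleCat.restrictScalars.{u} φ

theorem Rfun_map_smul_id (M : ModuleCat.{u} B) (a : A) :
    (Rfun φ).map (φ a • 𝟙 M) = a • 𝟙 ((Rfun φ).obj M) := by
  ext x
  rfl

theorem Efun_map_smul_id (M : ModuleCat.{u} A) (a : A) :
    (Efun φ).map (a • 𝟙 M) = φ a • 𝟙 ((Efun φ).obj M) := by
  ext x
  have h1 : (ConcreteCategory.hom ((Efun φ).map (a • 𝟙 M))) ((1 : B) ⊗ₜ[A,φ] x) =
      (1 : B) ⊗ₜ[A,φ] (a • x) := rfl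
  have h2 : (ConcreteCategory.hom (φ a • 𝟙 ((Efun φ).obj M))) ((1 : B) ⊗ₜ[A,φ] x) =
      (φ a * 1) ⊗ₜ[A,φ] x := rfl
  refine h1.trans (Eq.trans ?_ h2.symm)
  letI : Module A B := Module.compHom B φ
  rw [TensorProduct.tmul_smul, TensorProduct.smul_tmul']
  rfl

theorem Rd_mapHC_smul_id (X : CochainComplex (ModuleCat.{u} B) ℤ) (a : A) :
    ((Rfun φ).mapHomologicalComplex (ComplexShape.up ℤ)).map (φ a • 𝟙 X) =
      a • 𝟙 (((Rfun φ).mapHomologicalComplex (ComplexShape.up ℤ)).obj X) := by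
  ext i : 1
  exact Rfun_map_smul_id φ (X.X i) a

theorem Ed_mapHC_smul_id (X : CochainComplex (ModuleCat.{u} A) ℤ) (a : A) :
    ((Efun φ).mapHomologicalComplex (ComplexShape.up ℤ)).map (a • 𝟙 X) =
      φ a • 𝟙 (((Efun φ).mapHomologicalComplex (ComplexShape.up ℤ)).obj X) := by
  ext i : 1
  exact Efun_map_smul_id φ (X.X i) a

/-- restriction of scalars on derived categories -/
noncomputable abbrev Rd : Dual.D B ⥤ Dual.D A := DRing.restrictD φ

theorem Rd_map_smul_id (Z : Dual.D B) (a : A) :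
    (Rd φ).map (φ a • 𝟙 Z) = a • 𝟙 ((Rd φ).obj Z) := by
  let X := Q.objPreimage Z
  let e : Q.obj X ≅ Z := Q.objObjPreimageIso Z
  have h1 : φ a • 𝟙 Z = e.inv ≫ Q.map (φ a • 𝟙 X) ≫ e.hom := by
    rw [Functor.map_smul, CategoryTheory.Functor.map_id, Linear.smul_comp, Linear.comp_smul,
      Category.id_comp, e.inv_hom_id]
  have h2 : (Rd φ).map (Q.map (φ a • 𝟙 X)) = a • 𝟙 _ := by
    have h3 := (Rfun φ).mapDerivedCategoryFactors_hom_naturality (φ a • 𝟙 X)
    have h5 : Q.map (((Rfun φ).mapHomologicalComplex (ComplexShape.up ℤ)).map (φ a • 𝟙 X)) =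
        a • 𝟙 _ := by
      rw [Rd_mapHC_smul_id, Functor.map_smul, CategoryTheory.Functor.map_id]
    rw [h5, Linear.comp_smul] at h3
    erw [Category.comp_id] at h3
    have h4 := congrArg (fun t => t ≫ (Rfun φ).mapDerivedCategoryFactors.inv.app X) h3
    simp only [Category.assoc, Iso.hom_inv_id_app, Linear.smul_comp] at h4
    erw [Category.comp_id] at h4
    exact h4
  rw [h1, Functor.map_comp, Functor.map_comp, h2, Linear.smul_comp, Linear.comp_smul,
    Category.id_comp, ← Functor.map_comp, e.inv_hom_id, CategoryTheory.Functor.map_id]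

theorem Rd_map_smul {Z Z' : Dual.D B} (f : Z ⟶ Z') (a : A) :
    (Rd φ).map (φ a • f) = a • (Rd φ).map f := by
  have h : φ a • f = (φ a • 𝟙 Z) ≫ f := by rw [Linear.smul_comp, Category.id_comp]
  rw [h, Functor.map_comp, Rd_map_smul_id, Linear.smul_comp, Category.id_comp]

section Flat

variable [PreservesFiniteLimits (Efun φ)]

/-- derived extension of scalars along a flat map -/
noncomputable abbrev Ld : Dual.D A ⥤ Dual.D B := (Efun φ).mapDerivedCategory

theorem Ld_map_smul_id (Y : Dual.D A) (a : A) :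
    (Ld φ).map (a • 𝟙 Y) = φ a • 𝟙 ((Ld φ).obj Y) := by
  let X := Q.objPreimage Y
  let e : Q.obj X ≅ Y := Q.objObjPreimageIso Y
  have h1 : a • 𝟙 Y = e.inv ≫ Q.map (a • 𝟙 X) ≫ e.hom := by
    rw [Functor.map_smul, CategoryTheory.Functor.map_id, Linear.smul_comp, Linear.comp_smul,
      Category.id_comp, e.inv_hom_id]
  have h2 : (Ld φ).map (Q.map (a • 𝟙 X)) = φ a • 𝟙 _ := by
    have h3 := (Efun φ).mapDerivedCategoryFactors_hom_naturality (a • 𝟙 X)
    have h5 : Q.map (((Efun φ).mapHomologicalComplex (ComplexShape.up ℤ)).map (a • 𝟙 X)) =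
        φ a • 𝟙 _ := by
      rw [Ed_mapHC_smul_id, Functor.map_smul, CategoryTheory.Functor.map_id]
    rw [h5, Linear.comp_smul] at h3
    erw [Category.comp_id] at h3
    have h4 := congrArg (fun t => t ≫ (Efun φ).mapDerivedCategoryFactors.inv.app X) h3
    simp only [Category.assoc, Iso.hom_inv_id_app, Linear.smul_comp] at h4
    erw [Category.comp_id] at h4
    exact h4
  rw [h1, Functor.map_comp, Functor.map_comp, h2, Linear.smul_comp, Linear.comp_smul,
    Category.id_comp, ← Functor.map_comp, e.inv_hom_id, CategoryTheory.Functor.map_id]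

theorem Ld_map_smul {Y Y' : Dual.D A} (f : Y ⟶ Y') (a : A) :
    (Ld φ).map (a • f) = φ a • (Ld φ).map f := by
  have h : a • f = (a • 𝟙 Y) ≫ f := by rw [Linear.smul_comp, Category.id_comp]
  rw [h, Functor.map_comp, Ld_map_smul_id, Linear.smul_comp, Category.id_comp]

/-- the derived adjunction -/
noncomputable def adjD : Ld φ ⊣ Rd φ := derivedAdj (ModuleCat.extendRestrictScalarsAdj φ)

/-- the adjunction bijection is semilinear -/
theorem adjD_homEquiv_smul {Y : Dual.D A} {Z : Dual.D B} (f : (Ld φ).obj Y ⟶ Z) (a : A) :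
    (adjD φ).homEquiv Y Z (φ a • f) = a • (adjD φ).homEquiv Y Z f := by
  rw [Adjunction.homEquiv_unit, Adjunction.homEquiv_unit, Rd_map_smul, Linear.comp_smul]

theorem adjD_homEquiv_map {Y Y' : Dual.D A} (f : Y ⟶ Y') :
    (adjD φ).homEquiv Y ((Ld φ).obj Y') ((Ld φ).map f) = f ≫ (adjD φ).unit.app Y' := by
  rw [Adjunction.homEquiv_unit]
  exact ((adjD φ).unit.naturality f).symm

end Flat

end Groth.Agent.Helper8.LOC
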