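import Groth.Agent.Lib.Helper8.Matlis3

/-!
# Finitely generated modules with isomorphic Matlis duals are isomorphic (helper8)

Used for the uniqueness of canonical modules.
-/

set_option autoImplicit false
universe u

namespace Groth.Agent.Helper8.Uniq

open IsLocalRing Groth.Agent.Helper8
open scoped Pointwise

section Torsion

variable {R : Type u} [CommRing R] (E : Type u) [AddCommGroup E] [Module R E]

/-- `(K/qK)^∨ ≃ (K^∨)[q]` -/
noncomputable def dualQuotTorsionEquiv (K : Type u) [AddCommGroup K] [Module R K] (q : Ideal R) :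
    ((K ⧸ (q • ⊤ : Submodule R K)) →ₗ[R] E) ≃ₗ[R]
      Submodule.torsionBySet R (K →ₗ[R] E) (q : Set R) :=
  LinearEquiv.ofBijective
    ((LinearMap.lcomp R E (q • ⊤ : Submodule R K).mkQ).codRestrict _ (by
      intro χ
      rw [Submodule.mem_torsionBySet_iff]
      intro a
      refine LinearMap.ext fun x => ?_
      rw [LinearMap.smul_apply, LinearMap.lcomp_apply', LinearMap.comp_apply, ← map_smul,
        ← map_smul, Submodule.mkQ_apply,
        (Submodule.Quotient.mk_eq_zero _).mpr (Submodule.smul_mem_smul a.2 Submodule.mem_top),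
        map_zero]
      rfl))
    ⟨by
      intro χ χ' h
      have h1 := congrArg Subtype.val h
      simp only [LinearMap.codRestrict_apply] at h1
      refine LinearMap.ext fun y => ?_
      obtain ⟨x, rfl⟩ := Submodule.Quotient.mk_surjective _ y
      exact LinearMap.congr_fun h1 x,
     by
      intro ψ
      have hψ := (Submodule.mem_torsionBySet_iff _ _).mp ψ.2
      have hle : (q • ⊤ : Submodule R K) ≤ LinearMap.ker ψ.1 := by
        refine Submodule.smul_le.mpr fun a ha x _ => ?_
        rw [LinearMap.mem_ker, map_smul]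
        have := LinearMap.congr_fun (hψ ⟨a, ha⟩) x
        exact this
      refine ⟨(q • ⊤ : Submodule R K).liftQ ψ.1 hle, ?_⟩
      apply Subtype.ext
      refine LinearMap.ext fun x => ?_
      rfl⟩

variable {E}

/-- torsion parts of isomorphic modules -/
noncomputable def torsionBySetCongr {M M' : Type u} [AddCommGroup M] [Module R M] [AddCommGroup M']
    [Module R M'] (Φ : M ≃ₗ[R] M') (s : Set R) :
    Submodule.torsionBySet R M s ≃ₗ[R] Submodule.torsionBySet R M' s where
  toFun x := ⟨Φ x.1, by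
    rw [Submodule.mem_torsionBySet_iff]
    intro a
    rw [← map_smul, (Submodule.mem_torsionBySet_iff _ _).mp x.2 a, map_zero]⟩
  map_add' x y := Subtype.ext (map_add Φ _ _)
  map_smul' r x := Subtype.ext (map_smul Φ _ _)
  invFun y := ⟨Φ.symm y.1, by
    rw [Submodule.mem_torsionBySet_iff]
    intro a
    rw [← map_smul, (Submodule.mem_torsionBySet_iff _ _).mp y.2 a, map_zero]⟩
  left_inv x := Subtype.ext (Φ.symm_apply_apply _)
  right_inv y := Subtype.ext (Φ.apply_symm_apply _)

end Torsion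

section Finite

variable {R : Type u} [CommRing R] [IsLocalRing R] [IsNoetherianRing R]
  {E : Type u} [AddCommGroup E] [Module R E] {f : ResidueField R →ₗ[R] E}

theorem isFiniteLength_quotient_maximalIdeal_pow (K : Type u) [AddCommGroup K] [Module R K]
    [Module.Finite R K] (t : ℕ) :
    IsFiniteLength R (K ⧸ (maximalIdeal R ^ t • ⊤ : Submodule R K)) := by
  rw [Groth.Agent.Helper5.HS.isFiniteLength_iff_support]
  intro p hp
  rw [Module.mem_support_iff_of_finite] at hp
  have hle : maximalIdeal R ^ t ≤ p.asIdeal := by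
    refine le_trans ?_ hp
    intro a ha
    rw [Module.mem_annihilator]
    intro y
    obtain ⟨x, rfl⟩ := Submodule.Quotient.mk_surjective _ y
    rw [← Submodule.Quotient.mk_smul, Submodule.Quotient.mk_eq_zero]
    exact Submodule.smul_mem_smul ha Submodule.mem_top
  have : p.asIdeal = maximalIdeal R := Matlis.isMaximal_of_pow_le t p.asIdeal hle
  rw [this]
  infer_instance

/-- Matlis duality for finite length modules, as an equivalence -/
noncomputable def bidualEquiv (hf : InjHull.IsInjectiveHull f) (M : Type u) [AddCommGroup M]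
    [Module R M] (hM : IsFiniteLength R M) : M ≃ₗ[R] ((M →ₗ[R] E) →ₗ[R] E) :=
  LinearEquiv.ofBijective LinearMap.applyₗ (Matlis.applyₗ_bijective hf M hM)

/-- finite levels of modules with isomorphic duals are isomorphic -/
theorem nonempty_quotient_equiv_of_dual_equiv (hf : InjHull.IsInjectiveHull f)
    (K K' : Type u) [AddCommGroup K] [Module R K] [Module.Finite R K]
    [AddCommGroup K'] [Module R K'] [Module.Finite R K']
    (Φ : (K →ₗ[R] E) ≃ₗ[R] (K' →ₗ[R] E)) (t : ℕ) :
    Nonempty ((K ⧸ (maximalIdeal R ^ t • ⊤ : Submodule R K)) ≃ₗ[R]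
      (K' ⧸ (maximalIdeal R ^ t • ⊤ : Submodule R K'))) := by
  have e1 : ((K ⧸ (maximalIdeal R ^ t • ⊤ : Submodule R K)) →ₗ[R] E) ≃ₗ[R]
      ((K' ⧸ (maximalIdeal R ^ t • ⊤ : Submodule R K')) →ₗ[R] E) :=
    dualQuotTorsionEquiv E K _ ≪≫ₗ torsionBySetCongr Φ _ ≪≫ₗ (dualQuotTorsionEquiv E K' _).symm
  exact ⟨bidualEquiv hf _ (isFiniteLength_quotient_maximalIdeal_pow K t) ≪≫ₗ
    (LinearEquiv.congrLeft E R e1) ≪≫ₗ
    (bidualEquiv hf _ (isFiniteLength_quotient_maximalIdeal_pow K' t)).symm⟩

end Finite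

section ArtinRees

variable {R : Type u} [CommRing R]

/-- evaluation maps `I • ⊤` into `I • ⊤` -/
theorem apply_mem_smul_top {A B : Type u} [AddCommGroup A] [Module R A] [AddCommGroup B]
    [Module R B] (J : Ideal R) (h : A →ₗ[R] B) (hh : h ∈ J • (⊤ : Submodule R (A →ₗ[R] B))) (v : A) :
    h v ∈ J • (⊤ : Submodule R B) := by
  have h1 : (J • (⊤ : Submodule R (A →ₗ[R] B))).map (LinearMap.applyₗ v) ≤ J • ⊤ := by
    rw [Submodule.map_smul'']
    exact Submodule.smul_mono le_rfl le_top
  exact h1 ⟨h, hh, rfl⟩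

/-- a map from a finite free module with values in `J • ⊤` lies in `J • Hom` -/
theorem mem_smul_top_of_forall_apply_mem {b : ℕ} {B : Type u} [AddCommGroup B] [Module R B]
    (J : Ideal R) (u : (Fin b → R) →ₗ[R] B) (hu : ∀ v, u v ∈ J • (⊤ : Submodule R B)) :
    u ∈ J • (⊤ : Submodule R ((Fin b → R) →ₗ[R] B)) := by
  classical
  let Θ : Fin b → B →ₗ[R] ((Fin b → R) →ₗ[R] B) := fun i =>
    { toFun := fun y => (LinearMap.proj i : (Fin b → R) →ₗ[R] R).smulRight y
      map_add' := fun y y' => by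
        refine LinearMap.ext fun v => ?_
        show v i • (y + y') = v i • y + v i • y'
        exact smul_add _ _ _
      map_smul' := fun r y => by
        refine LinearMap.ext fun v => ?_
        show v i • (r • y) = r • (v i • y)
        exact smul_comm _ _ _ }
  have hsum : u = ∑ i, Θ i (u (fun j => if i = j then 1 else 0)) := by
    refine LinearMap.ext fun v => ?_
    rw [LinearMap.pi_apply_eq_sum_univ u v, LinearMap.sum_apply]
    rfl
  rw [hsum]
  refine Submodule.sum_mem _ fun i _ => ?_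
  have h1 : (J • (⊤ : Submodule R B)).map (Θ i) ≤ J • ⊤ := by
    rw [Submodule.map_smul'']
    exact Submodule.smul_mono le_rfl le_top
  exact h1 ⟨_, hu _, rfl⟩

variable [IsNoetherianRing R]

/-- **Artin–Rees lifting**: maps `K → K'/I^{t+c}K'` can be corrected to honest maps `K → K'`
agreeing modulo `I^t`. -/
theorem exists_lift_mod_pow (I : Ideal R) (K K' : Type u) [AddCommGroup K] [Module R K]
    [Module.Finite R K] [AddCommGroup K'] [Module R K'] [Module.Finite R K'] :
    ∃ c : ℕ, ∀ (t : ℕ) (g : K →ₗ[R] (K' ⧸ (I ^ (t + c) • ⊤ : Submodule R K'))),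
      ∃ φ : K →ₗ[R] K', ∀ (x : K) (y : K'), g x = Submodule.Quotient.mk y →
        φ x - y ∈ (I ^ t • ⊤ : Submodule R K') := by
  obtain ⟨a, p, hp⟩ := Module.Finite.exists_fin' R K
  have hN : Module.Finite R (LinearMap.ker p) := inferInstance
  obtain ⟨b, q₁', hq₁'⟩ := Module.Finite.exists_fin' R (LinearMap.ker p)
  let q₁ : (Fin b → R) →ₗ[R] (Fin a → R) := (LinearMap.ker p).subtype ∘ₗ q₁'
  have hq₁ : LinearMap.range q₁ = LinearMap.ker p := by
    rw [LinearMap.range_comp, LinearMap.range_eq_top.mpr hq₁', Submodule.map_top,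
      Submodule.range_subtype]
  let L : ((Fin a → R) →ₗ[R] K') →ₗ[R] ((Fin b → R) →ₗ[R] K') := LinearMap.lcomp R K' q₁
  obtain ⟨c, hc⟩ := Ideal.exists_pow_inf_eq_pow_smul I (LinearMap.range L)
  refine ⟨c, fun t g => ?_⟩
  obtain ⟨h, hh⟩ := Module.projective_lifting_property
    (I ^ (t + c) • ⊤ : Submodule R K').mkQ (g ∘ₗ p) (Submodule.mkQ_surjective _)
  -- `h ∘ q₁` has values in `I^{t+c} K'`
  have hval : ∀ v, (L h) v ∈ (I ^ (t + c) • ⊤ : Submodule R K') := by
    intro v
    have h1 : (I ^ (t + c) • ⊤ : Submodule R K').mkQ (h (q₁ v)) = g (p (q₁ v)) :=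
      LinearMap.congr_fun hh (q₁ v)
    have h2 : p (q₁ v) = 0 := by
      have : q₁ v ∈ LinearMap.ker p := by rw [← hq₁]; exact LinearMap.mem_range_self _ _
      exact this
    rw [h2, map_zero, Submodule.mkQ_apply, Submodule.Quotient.mk_eq_zero] at h1
    exact h1
  have hLh : L h ∈ I ^ (t + c) • (⊤ : Submodule R ((Fin b → R) →ₗ[R] K')) ⊓ LinearMap.range L :=
    ⟨mem_smul_top_of_forall_apply_mem _ _ hval, LinearMap.mem_range_self _ _⟩
  rw [hc (t + c) (by omega), Nat.add_sub_cancel] at hLh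
  have hLh' : L h ∈ (I ^ t • (⊤ : Submodule R ((Fin a → R) →ₗ[R] K'))).map L := by
    rw [Submodule.map_smul'', Submodule.map_top]
    exact Submodule.smul_mono le_rfl inf_le_right hLh
  obtain ⟨h', hh', hLh'eq⟩ := hLh'
  -- `h - h'` kills `ker p`
  have hker : LinearMap.ker p ≤ LinearMap.ker (h - h') := by
    rw [← hq₁]
    rintro _ ⟨v, rfl⟩
    rw [LinearMap.mem_ker, LinearMap.sub_apply, sub_eq_zero]
    exact (LinearMap.congr_fun hLh'eq v).symm
  let φ : K →ₗ[R] K' := (LinearMap.ker p).liftQ (h - h') hker ∘ₗ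
    (p.quotKerEquivOfSurjective hp).symm.toLinearMap
  have hφ : ∀ v, φ (p v) = h v - h' v := by
    intro v
    have : (p.quotKerEquivOfSurjective hp).symm (p v) = Submodule.Quotient.mk v := by
      rw [LinearEquiv.symm_apply_eq]
      rfl
    simp only [φ, LinearMap.comp_apply, LinearEquiv.coe_coe, this]
    rfl
  refine ⟨φ, fun x y hxy => ?_⟩
  obtain ⟨v, rfl⟩ := hp x
  rw [hφ]
  have h1 : (I ^ (t + c) • ⊤ : Submodule R K').mkQ (h v) = g (p v) := LinearMap.congr_fun hh v
  rw [hxy, Submodule.mkQ_apply, Submodule.Quotient.eq] at h1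
  have h2 : h v - y ∈ (I ^ t • ⊤ : Submodule R K') :=
    Submodule.smul_mono_left (Ideal.pow_le_pow_right (Nat.le_add_right t c)) h1
  have h3 : h' v ∈ (I ^ t • ⊤ : Submodule R K') := apply_mem_smul_top _ h' hh' v
  have : h v - h' v - y = (h v - y) - h' v := by abel
  rw [this]
  exact Submodule.sub_mem _ h2 h3

end ArtinRees

section Main

variable {R : Type u} [CommRing R] [IsLocalRing R] [IsNoetherianRing R]
  {E : Type u} [AddCommGroup E] [Module R E] {f : ResidueField R →ₗ[R] E}

theorem exists_surjective_of_dual_equiv (hf : InjHull.IsInjectiveHull f)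
    (K K' : Type u) [AddCommGroup K] [Module R K] [Module.Finite R K]
    [AddCommGroup K'] [Module R K'] [Module.Finite R K']
    (Φ : (K →ₗ[R] E) ≃ₗ[R] (K' →ₗ[R] E)) : ∃ φ : K →ₗ[R] K', Function.Surjective φ := by
  obtain ⟨c, hc⟩ := exists_lift_mod_pow (maximalIdeal R) K K'
  obtain ⟨ψ⟩ := nonempty_quotient_equiv_of_dual_equiv hf K K' Φ (1 + c)
  obtain ⟨φ, hφ⟩ := hc 1 (ψ.toLinearMap ∘ₗ (maximalIdeal R ^ (1 + c) • ⊤ : Submodule R K).mkQ)
  refine ⟨φ, ?_⟩
  rw [← LinearMap.range_eq_top]
  apply le_antisymm le_top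
  apply Submodule.le_of_le_smul_of_le_jacobson_bot (I := maximalIdeal R) Module.Finite.fg_top
    (maximalIdeal_le_jacobson _)
  intro y' _
  obtain ⟨z, hz⟩ := ψ.surjective (Submodule.Quotient.mk y')
  obtain ⟨x, rfl⟩ := Submodule.Quotient.mk_surjective _ z
  have h1 := hφ x y' hz
  rw [pow_one] at h1
  have : y' = φ x - (φ x - y') := by abel
  rw [this]
  exact Submodule.sub_mem _ (Submodule.mem_sup_left ⟨x, rfl⟩) (Submodule.mem_sup_right h1)

/-- finitely generated modules over a Noetherian local ring with isomorphic Matlis duals are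
isomorphic -/
theorem nonempty_equiv_of_dual_equiv (hf : InjHull.IsInjectiveHull f)
    (K K' : Type u) [AddCommGroup K] [Module R K] [Module.Finite R K]
    [AddCommGroup K'] [Module R K'] [Module.Finite R K']
    (Φ : (K →ₗ[R] E) ≃ₗ[R] (K' →ₗ[R] E)) : Nonempty (K ≃ₗ[R] K') := by
  obtain ⟨φ, hφ⟩ := exists_surjective_of_dual_equiv hf K K' Φ
  obtain ⟨ψ, hψ⟩ := exists_surjective_of_dual_equiv hf K' K Φ.symm
  have hinj : Function.Injective (ψ ∘ₗ φ) :=
    OrzechProperty.injective_of_surjective_endomorphism (ψ ∘ₗ φ) (hψ.comp hφ)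
  have hφi : Function.Injective φ := by
    intro a b hab
    apply hinj
    rw [LinearMap.comp_apply, LinearMap.comp_apply, hab]
  exact ⟨LinearEquiv.ofBijective φ ⟨hφi, hφ⟩⟩

end Main

end Groth.Agent.Helper8.Uniq
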