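import Groth.Agent.Lib.Helper8.Canon12
import Groth.Agent.Lib.Helper8.Canon13
import Groth.Agent.Lib.Lead.Bass5

/-!
# Rees isomorphisms and the type of a Gorenstein local ring (helper8)
-/

set_option autoImplicit false
universe u

namespace Groth.Agent.Helper8.Canon

open IsLocalRing CategoryTheory Abelian Groth.Agent.Helper8 Groth.Agent.Helper8.LC
open scoped Pointwise

section Rees

variable {R : Type u} [CommRing R]

/-- `x` acts as zero on `Ext(N, -)` when `xN = 0` -/
theorem ext_smul_eq_zero {N M : ModuleCat.{u} R} (x : R) (hx : ∀ y : N, x • y = 0) (i : ℕ)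
    (b : Ext N M i) : x • b = 0 := by
  have h1 : x • b = (Ext.mk₀ (x • 𝟙 N)).comp b (zero_add i) := by
    rw [Ext.mk₀_smul, Ext.smul_comp, Ext.mk₀_id_comp]
  have h2 : (x • 𝟙 N : N ⟶ N) = 0 := by
    ext y
    exact hx y
  rw [h1, h2, Ext.mk₀_zero, Ext.zero_comp]

theorem comp_mk₀_smul_id {X Y : ModuleCat.{u} R} (x : R) (i : ℕ) (b : Ext X Y i) :
    b.comp (Ext.mk₀ (x • 𝟙 Y)) (add_zero i) = x • b := by
  rw [Ext.mk₀_smul, Ext.comp_smul, Ext.comp_mk₀_id]

/-- one step of Rees' isomorphism -/
theorem rees_step (M : Type u) [AddCommGroup M] [Module R M] (x : R) (hx : IsSMulRegular M x)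
    (N : Type u) [AddCommGroup N] [Module R N] (hN : ∀ y : N, x • y = 0) (j : ℕ)
    (h0 : Subsingleton (Ext (ModuleCat.of R N) (ModuleCat.of R M) j)) :
    Nonempty (Ext (ModuleCat.of R N) (ModuleCat.of R (QuotSMulTop x M)) j ≃ₗ[R]
      Ext (ModuleCat.of R N) (ModuleCat.of R M) (j + 1)) := by
  have hx' : IsSMulRegular (ModuleCat.of R M) x := hx
  have hS := hx'.smulShortComplex_shortExact
  let δ : Ext (ModuleCat.of R N) (ModuleCat.of R (QuotSMulTop x M)) j →ₗ[R]
      Ext (ModuleCat.of R N) (ModuleCat.of R M) (j + 1) :=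
    hS.extClass.postcompOfLinear R (ModuleCat.of R N) (rfl : j + 1 = j + 1)
  refine ⟨LinearEquiv.ofBijective δ ⟨?_, ?_⟩⟩
  · rw [injective_iff_map_eq_zero]
    intro a ha
    obtain ⟨x₂, hx₂⟩ := Ext.covariant_sequence_exact₃ (ModuleCat.of R N) hS a rfl ha
    have : x₂ = 0 := h0.elim _ _
    rw [← hx₂, this]
    exact Ext.zero_comp (ModuleCat.of R N) j _ _ _
  · intro b
    have hb : b.comp (Ext.mk₀ (x • 𝟙 (ModuleCat.of R M))) (add_zero (j + 1)) = 0 := by
      rw [comp_mk₀_smul_id]
      exact ext_smul_eq_zero x hN (j + 1) b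
    obtain ⟨x₃, hx₃⟩ := Ext.covariant_sequence_exact₁ (ModuleCat.of R N) hS b hb rfl
    exact ⟨x₃, hx₃⟩

/-- **Rees**: `Ext^{|rs|}(N, M) ≃ Hom(N, M/(rs)M)` for an `M`-regular sequence `rs` killing `N`. -/
theorem rees : ∀ (rs : List R) (M : Type u) [AddCommGroup M] [Module R M]
    (N : Type u) [AddCommGroup N] [Module R N],
    RingTheory.Sequence.IsWeaklyRegular M rs → (∀ r ∈ rs, ∀ y : N, r • y = 0) →
    (∀ i < rs.length, Subsingleton (Ext (ModuleCat.of R N) (ModuleCat.of R M) i)) →
    Nonempty (Ext (ModuleCat.of R N) (ModuleCat.of R M) rs.length ≃ₗ[R]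
      (N →ₗ[R] M ⧸ (Ideal.ofList rs • ⊤ : Submodule R M))) := by
  intro rs
  induction rs with
  | nil =>
    intro M _ _ N _ _ _ _ _
    have h0 : (Ideal.ofList ([] : List R) • ⊤ : Submodule R M) = ⊥ := by
      rw [Ideal.ofList_nil, Submodule.bot_smul]
    exact ⟨(hom0 N M).symm ≪≫ₗ
      LinearEquiv.congrRight (Submodule.quotEquivOfEqBot _ h0).symm⟩
  | cons x rs ih =>
    intro M _ _ N _ _ hreg hN hvan
    rw [RingTheory.Sequence.isWeaklyRegular_cons_iff] at hreg
    have hxN : ∀ y : N, x • y = 0 := hN x List.mem_cons_self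
    have hvan' : ∀ i < rs.length,
        Subsingleton (Ext (ModuleCat.of R N) (ModuleCat.of R (QuotSMulTop x M)) i) := by
      intro i hi
      obtain ⟨e⟩ := rees_step M x hreg.1 N hxN i (hvan i (by rw [List.length_cons]; omega))
      have := hvan (i + 1) (by rw [List.length_cons]; omega)
      exact e.toEquiv.subsingleton
    obtain ⟨e1⟩ := rees_step M x hreg.1 N hxN rs.length
      (hvan rs.length (by rw [List.length_cons]; omega))
    obtain ⟨e2⟩ := ih (QuotSMulTop x M) N hreg.2
      (fun r hr => hN r (List.mem_cons_of_mem _ hr)) hvan'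
    exact ⟨e1.symm ≪≫ₗ e2 ≪≫ₗ LinearEquiv.congrRight
      (Submodule.quotOfListConsSMulTopEquivQuotSMulTopInner M x rs).symm⟩

end Rees

section Count

variable {R : Type u} [CommRing R]

/-- precomposition, as a linear map -/
noncomputable def extPre {X X' : ModuleCat.{u} R} (g : X ⟶ X') (Y : ModuleCat.{u} R) (n : ℕ) :
    Ext X' Y n →ₗ[R] Ext X Y n where
  toFun a := (Ext.mk₀ g).comp a (zero_add n)
  map_add' _ _ := Ext.comp_add _ _ _ _
  map_smul' _ _ := Ext.comp_smul _ _ _ _

theorem extPre_apply {X X' : ModuleCat.{u} R} (g : X ⟶ X') (Y : ModuleCat.{u} R) (n : ℕ)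
    (a : Ext X' Y n) : extPre g Y n a = (Ext.mk₀ g).comp a (zero_add n) := rfl

theorem extPre_comp {X X' X'' : ModuleCat.{u} R} (g : X ⟶ X') (g' : X' ⟶ X'')
    (Y : ModuleCat.{u} R) (n : ℕ) (a : Ext X'' Y n) :
    extPre g Y n (extPre g' Y n a) = extPre (g ≫ g') Y n a := by
  rw [extPre_apply, extPre_apply, extPre_apply, Ext.mk₀_comp_mk₀_assoc]

theorem extPre_id {X : ModuleCat.{u} R} (Y : ModuleCat.{u} R) (n : ℕ) (a : Ext X Y n) :
    extPre (𝟙 X) Y n a = a := by
  rw [extPre_apply, Ext.mk₀_id_comp]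

/-- `Ext` is invariant under isomorphisms in the first variable -/
noncomputable def extCongrLeft {A B : Type u} [AddCommGroup A] [Module R A] [AddCommGroup B]
    [Module R B] (e : A ≃ₗ[R] B) (Y : ModuleCat.{u} R) (n : ℕ) :
    Ext (ModuleCat.of R B) Y n ≃ₗ[R] Ext (ModuleCat.of R A) Y n :=
  LinearEquiv.ofLinear (extPre (ModuleCat.ofHom e.toLinearMap) Y n)
    (extPre (ModuleCat.ofHom e.symm.toLinearMap) Y n)
    (by
      refine LinearMap.ext fun a => ?_
      rw [LinearMap.comp_apply, extPre_comp, LinearMap.id_apply]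
      have : ModuleCat.ofHom e.toLinearMap ≫ ModuleCat.ofHom e.symm.toLinearMap =
          𝟙 (ModuleCat.of R A) := by
        ext x
        exact e.symm_apply_apply x
      rw [this, extPre_id])
    (by
      refine LinearMap.ext fun a => ?_
      rw [LinearMap.comp_apply, extPre_comp, LinearMap.id_apply]
      have : ModuleCat.ofHom e.symm.toLinearMap ≫ ModuleCat.ofHom e.toLinearMap =
          𝟙 (ModuleCat.of R B) := by
        ext x
        exact e.apply_symm_apply x
      rw [this, extPre_id])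

variable [IsLocalRing R] [IsNoetherianRing R]

/-- if `Ext^i(-, Y)` vanishes on finite length modules for `i = n ± 1`... then `Ext^n(-, Y)` is
additive on finite length modules. -/
theorem length_ext_eq_mul (Y : ModuleCat.{u} R) (n : ℕ)
    (hlo : ∀ (N : Type u) [AddCommGroup N] [Module R N], IsFiniteLength R N → ∀ i < n,
      Subsingleton (Ext (ModuleCat.of R N) Y i))
    (hhi : ∀ (N : Type u) [AddCommGroup N] [Module R N], IsFiniteLength R N →
      Subsingleton (Ext (ModuleCat.of R N) Y (n + 1)))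
    (N : Type u) [AddCommGroup N] [Module R N] (hN : IsFiniteLength R N) :
    Module.length R (Ext (ModuleCat.of R N) Y n) =
      Module.length R N * Module.length R (Ext (ModuleCat.of R (ResidueField R)) Y n) := by
  induction hN with
  | of_subsingleton =>
    rename_i M _ _ _
    have : Subsingleton (Ext (ModuleCat.of R M) Y n) :=
      Groth.Agent.Lead.Depth.ext_subsingleton_of_isZero_left
        (ModuleCat.isZero_of_subsingleton _) _ n
    rw [Module.length_eq_zero, Module.length_eq_zero, zero_mul]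
  | @of_simple_quotient M _ _ N' _ hN' ih =>
    have hS := isSES_subtype_mkQ N'
    have hSE := hS.shortExact
    have hQ : IsFiniteLength R (M ⧸ N') := by
      rw [← Module.length_ne_top_iff, Module.length_eq_one]
      exact ENat.one_ne_top
    let F := extPre hS.sc.g Y n
    let G := extPre hS.sc.f Y n
    have hF : Function.Injective F := by
      rcases Nat.eq_zero_or_pos n with h0 | hpos
      · subst h0
        haveI := hSE.epi_g
        exact Ext.precomp_mk₀_injective_of_epi Y hS.sc.g
      · obtain ⟨n', rfl⟩ : ∃ n', n = 1 + n' := ⟨n - 1, by omega⟩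
        rw [injective_iff_map_eq_zero]
        intro a ha
        obtain ⟨x₁, hx₁⟩ := Ext.contravariant_sequence_exact₃ hSE Y a ha rfl
        have : x₁ = 0 := (hlo N' hN' n' (by omega)).elim _ _
        rw [← hx₁, this]
        exact Ext.comp_zero _ _ _ _ _
    have hG : Function.Surjective G := by
      intro b
      have := hhi (M ⧸ N') hQ
      obtain ⟨x₂, hx₂⟩ := Ext.contravariant_sequence_exact₁ hSE Y b (add_comm 1 n)
        (Subsingleton.elim _ _)
      exact ⟨x₂, hx₂⟩
    have hFG : Function.Exact F G := by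
      intro b
      constructor
      · intro hb
        obtain ⟨x₁, hx₁⟩ := Ext.contravariant_sequence_exact₂ hSE Y b hb
        exact ⟨x₁, hx₁⟩
      · rintro ⟨a, rfl⟩
        change extPre hS.sc.f Y n (extPre hS.sc.g Y n a) = 0
        rw [extPre_comp, hS.sc.zero, extPre_apply, Ext.mk₀_zero]
        exact Ext.zero_comp _ _ _ _ _
    have hlen := Module.length_eq_add_of_exact F G hF hG hFG
    have hM := Module.length_eq_add_of_exact N'.subtype N'.mkQ N'.injective_subtype
      (Submodule.mkQ_surjective N') (LinearMap.exact_subtype_mkQ N')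
    obtain ⟨I, hI, ⟨e⟩⟩ := isSimpleModule_iff_quot_maximal.1
      (inferInstance : IsSimpleModule R (M ⧸ N'))
    obtain rfl : I = maximalIdeal R := IsLocalRing.eq_maximalIdeal hI
    have e' : Ext (ModuleCat.of R (ResidueField R)) Y n ≃ₗ[R] Ext (ModuleCat.of R (M ⧸ N')) Y n :=
      extCongrLeft e Y n
    have h3 : Module.length R (Ext (ModuleCat.of R (M ⧸ N')) Y n) =
        Module.length R (Ext (ModuleCat.of R (ResidueField R)) Y n) := e'.length_eq.symm
    have hlen' : Module.length R (Ext (ModuleCat.of R M) Y n) =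
        Module.length R (Ext (ModuleCat.of R (M ⧸ N')) Y n) +
          Module.length R (Ext (ModuleCat.of R N') Y n) := hlen
    rw [hlen', h3, ih, hM, Module.length_eq_one R (M ⧸ N'), add_mul, one_mul, add_comm]

end Count

end Groth.Agent.Helper8.Canon
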