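import Groth.Agent.Lib.Helper8.ExtBC2
import Groth.Agent.Lib.Helper8.Canon14

/-!
# Localization of `Ext^c(S/I, S)` (helper8)
-/

set_option autoImplicit false
universe u

namespace Groth.Agent.Helper8.ExtLoc

open IsLocalRing CategoryTheory Abelian Groth.Agent.Helper8 Groth.Agent.Helper8.LC
  Groth.Agent.Helper8.Canon
open scoped Pointwise TensorProduct

section Congr

variable {R : Type u} [CommRing R]

/-- postcomposition, as a linear map -/
noncomputable def extPost (X : ModuleCat.{u} R) {Y Y' : ModuleCat.{u} R} (g : Y ⟶ Y') (n : ℕ) :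
    Ext X Y n →ₗ[R] Ext X Y' n where
  toFun a := a.comp (Ext.mk₀ g) (add_zero n)
  map_add' _ _ := Ext.add_comp _ _ _ _
  map_smul' _ _ := Ext.smul_comp _ _ _ _

theorem extPost_apply (X : ModuleCat.{u} R) {Y Y' : ModuleCat.{u} R} (g : Y ⟶ Y') (n : ℕ)
    (a : Ext X Y n) : extPost X g n a = a.comp (Ext.mk₀ g) (add_zero n) := rfl

theorem extPost_comp (X : ModuleCat.{u} R) {Y Y' Y'' : ModuleCat.{u} R} (g : Y ⟶ Y')
    (g' : Y' ⟶ Y'') (n : ℕ) (a : Ext X Y n) :
    extPost X g' n (extPost X g n a) = extPost X (g ≫ g') n a := by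
  rw [extPost_apply, extPost_apply, extPost_apply, Ext.comp_assoc_of_third_deg_zero,
    Ext.mk₀_comp_mk₀]

theorem extPost_id (X : ModuleCat.{u} R) (Y : ModuleCat.{u} R) (n : ℕ) (a : Ext X Y n) :
    extPost X (𝟙 Y) n a = a := by
  rw [extPost_apply, Ext.comp_mk₀_id]

/-- `Ext` is invariant under isomorphisms in the second variable -/
noncomputable def extCongrRight (X : ModuleCat.{u} R) {A B : Type u} [AddCommGroup A]
    [Module R A] [AddCommGroup B] [Module R B] (e : A ≃ₗ[R] B) (n : ℕ) :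
    Ext X (ModuleCat.of R A) n ≃ₗ[R] Ext X (ModuleCat.of R B) n :=
  LinearEquiv.ofLinear (extPost X (ModuleCat.ofHom e.toLinearMap) n)
    (extPost X (ModuleCat.ofHom e.symm.toLinearMap) n)
    (by
      refine LinearMap.ext fun a => ?_
      rw [LinearMap.comp_apply, extPost_comp, LinearMap.id_apply]
      have : ModuleCat.ofHom e.symm.toLinearMap ≫ ModuleCat.ofHom e.toLinearMap =
          𝟙 (ModuleCat.of R B) := by
        ext x
        exact e.apply_symm_apply x
      rw [this, extPost_id])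
    (by
      refine LinearMap.ext fun a => ?_
      rw [LinearMap.comp_apply, extPost_comp, LinearMap.id_apply]
      have : ModuleCat.ofHom e.toLinearMap ≫ ModuleCat.ofHom e.symm.toLinearMap =
          𝟙 (ModuleCat.of R A) := by
        ext x
        exact e.symm_apply_apply x
      rw [this, extPost_id])

end Congr

section Loc

variable (S : Type u) [CommRing S] [IsNoetherianRing S] (T : Type u) [CommRing T] [Algebra S T]
  [Module.Flat S T]

/-- flat base change of `Ext^c(S/I, S)` -/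
theorem nonempty_baseChange_ext_quotient_equiv (I : Ideal S) (c : ℕ) :
    Nonempty ((T ⊗[S] Ext (ModuleCat.of S (S ⧸ I)) (ModuleCat.of S S) c) ≃ₗ[T]
      Ext (ModuleCat.of T (T ⧸ I.map (algebraMap S T))) (ModuleCat.of T T) c) := by
  obtain ⟨e1⟩ := ExtBC.ext_baseChange (A := S) (B := T) S c (S ⧸ I)
  let e2 : (T ⧸ I.map (algebraMap S T)) ≃ₗ[T] T ⊗[S] (S ⧸ I) :=
    (Algebra.TensorProduct.quotIdealMapEquivTensorQuot T I).toLinearEquiv
  let e3 : T ⊗[S] S ≃ₗ[T] T := TensorProduct.AlgebraTensorModule.rid S T T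
  exact ⟨e1 ≪≫ₗ extCongrLeft e2 (ModuleCat.of T (T ⊗[S] S)) c ≪≫ₗ
    extCongrRight (ModuleCat.of T (T ⧸ I.map (algebraMap S T))) e3 c⟩

end Loc

end Groth.Agent.Helper8.ExtLoc
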