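import Groth.Agent.Lib.Helper8.ExtBC2
import Groth.Agent.Lib.Helper8.Canon14
import Groth.Agent.Lib.Helper8.ExtLoc1

/-!
# An `Ext^1` criterion for injectivity over a Noetherian ring (helper8)
-/

set_option autoImplicit false
universe u

namespace Groth.Agent.Helper8.InjBC

open CategoryTheory Abelian Groth.Agent.Helper8 Groth.Agent.Helper8.LC
  Groth.Agent.Helper8.Canon Groth.Agent.Helper8.ExtLoc Groth.Agent.Helper8.ExtBC
open scoped TensorProduct

variable {R : Type u} [CommRing R]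

/-- If `Ext^1(R/𝔞, J) = 0` for all ideals then `J` is injective -/
theorem injective_of_ext_one_quotient_subsingleton (J : Type u) [AddCommGroup J] [Module R J]
    (h : ∀ 𝔞 : Ideal R, Subsingleton (Ext (ModuleCat.of R (R ⧸ 𝔞)) (ModuleCat.of R J) 1)) :
    Module.Injective R J := by
  apply Module.Baer.injective
  intro 𝔞 φ
  haveI := h 𝔞
  have h0 : bdry (isSES_subtype_mkQ 𝔞) J φ = 0 := Subsingleton.elim _ _
  obtain ⟨ψ, hψ⟩ := (bdry_exact (isSES_subtype_mkQ 𝔞) J φ).mp h0
  refine ⟨ψ, fun x hx => ?_⟩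
  rw [← hψ]
  rfl

section SES

variable (𝔞 : Ideal R) (x : R)

/-- the colon ideal `(𝔞 : x)` -/
def colon : Ideal R := Submodule.comap (LinearMap.toSpanSingleton R R x) 𝔞

theorem mem_colon (r : R) : r ∈ colon 𝔞 x ↔ r * x ∈ 𝔞 := by
  unfold colon
  rw [Submodule.mem_comap, LinearMap.toSpanSingleton_apply, smul_eq_mul]

theorem le_colon : 𝔞 ≤ colon 𝔞 x := fun r hr => (mem_colon 𝔞 x r).mpr (𝔞.mul_mem_right x hr)

/-- multiplication by `x`, `R/(𝔞 : x) → R/𝔞` -/
def mulQ : (R ⧸ colon 𝔞 x) →ₗ[R] (R ⧸ 𝔞) :=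
  Submodule.mapQ (colon 𝔞 x) 𝔞 (LinearMap.toSpanSingleton R R x) le_rfl

theorem mulQ_mk (r : R) : mulQ 𝔞 x (Submodule.Quotient.mk r) = Submodule.Quotient.mk (r * x) := by
  unfold mulQ
  rw [Submodule.mapQ_apply, LinearMap.toSpanSingleton_apply, smul_eq_mul]

/-- the projection `R/𝔞 → R/(𝔞 + (x))` -/
def projQ : (R ⧸ 𝔞) →ₗ[R] (R ⧸ (𝔞 ⊔ Ideal.span {x})) :=
  Submodule.mapQ 𝔞 (𝔞 ⊔ Ideal.span {x}) LinearMap.id le_sup_left

theorem projQ_mk (r : R) : projQ 𝔞 x (Submodule.Quotient.mk r) = Submodule.Quotient.mk r := by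
  unfold projQ
  rw [Submodule.mapQ_apply, LinearMap.id_apply]

theorem isSES_mulQ_projQ : IsSES (mulQ 𝔞 x) (projQ 𝔞 x) where
  inj := by
    rw [injective_iff_map_eq_zero]
    intro y hy
    obtain ⟨r, rfl⟩ := Submodule.Quotient.mk_surjective _ y
    rw [mulQ_mk, Submodule.Quotient.mk_eq_zero] at hy
    rw [Submodule.Quotient.mk_eq_zero, mem_colon]
    exact hy
  exact := by
    intro y
    obtain ⟨r, rfl⟩ := Submodule.Quotient.mk_surjective _ y
    rw [projQ_mk, Submodule.Quotient.mk_eq_zero]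
    constructor
    · intro hr
      obtain ⟨a, ha, b, hb, rfl⟩ := Submodule.mem_sup.mp hr
      obtain ⟨c, rfl⟩ := Ideal.mem_span_singleton'.mp hb
      refine ⟨Submodule.Quotient.mk c, ?_⟩
      rw [mulQ_mk, Submodule.Quotient.eq]
      have : c * x - (a + c * x) = -a := by ring
      rw [this]
      exact 𝔞.neg_mem ha
    · rintro ⟨z, hz⟩
      obtain ⟨c, rfl⟩ := Submodule.Quotient.mk_surjective _ z
      rw [mulQ_mk, Submodule.Quotient.eq] at hz
      have : r = -(c * x - r) + c * x := by ring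
      rw [this]
      exact Submodule.add_mem _ (Submodule.mem_sup_left (𝔞.neg_mem hz))
        (Submodule.mem_sup_right (Ideal.mem_span_singleton'.mpr ⟨c, rfl⟩))
  surj := by
    intro y
    obtain ⟨r, rfl⟩ := Submodule.Quotient.mk_surjective _ y
    exact ⟨Submodule.Quotient.mk r, projQ_mk 𝔞 x r⟩

end SES

theorem ext_subsingleton_of_subsingleton (X : Type u) [AddCommGroup X] [Module R X]
    [Subsingleton X] (Y : ModuleCat.{u} R) (n : ℕ) :
    Subsingleton (Ext (ModuleCat.of R X) Y n) := by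
  refine ⟨fun a b => ?_⟩
  have key : ∀ c : Ext (ModuleCat.of R X) Y n, c = 0 := by
    intro c
    have h1 : 𝟙 (ModuleCat.of R X) = 0 := by
      ext y
      exact Subsingleton.elim _ _
    rw [← Ext.mk₀_id_comp c, h1, Ext.mk₀_zero, Ext.zero_comp]
  rw [key a, key b]

/-- `Ext^1(R/𝔞, J) = 0` for all ideals as soon as every class in `Ext^1(R/Q, J)`, `Q` prime, is
killed by an element outside `Q`. -/
theorem ext_one_quotient_subsingleton_of_forall_prime [IsNoetherianRing R] (J : Type u)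
    [AddCommGroup J] [Module R J]
    (h : ∀ (Q : Ideal R) [Q.IsPrime]
      (ξ : Ext (ModuleCat.of R (R ⧸ Q)) (ModuleCat.of R J) 1), ∃ s ∉ Q, s • ξ = 0)
    (𝔞 : Ideal R) : Subsingleton (Ext (ModuleCat.of R (R ⧸ 𝔞)) (ModuleCat.of R J) 1) := by
  induction 𝔞 using IsNoetherian.induction with
  | hgt 𝔞 ih =>
    -- the key step: a class dying on `R/(𝔞 : x)` with `x ∉ 𝔞` is zero
    have step : ∀ (x : R), x ∉ 𝔞 → ∀ ξ : Ext (ModuleCat.of R (R ⧸ 𝔞)) (ModuleCat.of R J) 1,
        (Ext.mk₀ (ModuleCat.ofHom (mulQ 𝔞 x))).comp ξ (zero_add 1) = 0 → ξ = 0 := by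
      intro x hx ξ hξ
      have hlt : 𝔞 < 𝔞 ⊔ Ideal.span {x} := by
        refine lt_of_le_of_ne le_sup_left ?_
        intro heq
        apply hx
        rw [heq]
        exact Submodule.mem_sup_right (Ideal.subset_span rfl)
      haveI := ih _ hlt
      have hS := (isSES_mulQ_projQ 𝔞 x).shortExact
      obtain ⟨x₃, hx₃⟩ := Ext.contravariant_sequence_exact₂ hS (ModuleCat.of R J) ξ hξ
      rw [← hx₃, Subsingleton.elim x₃ 0, Ext.comp_zero]
    by_cases htop : 𝔞 = ⊤
    · subst htop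
      haveI : Subsingleton (R ⧸ (⊤ : Ideal R)) := Submodule.Quotient.subsingleton_iff.mpr rfl
      exact ext_subsingleton_of_subsingleton _ _ _
    by_cases hprime : Ideal.IsPrime (𝔞 : Ideal R)
    · refine ⟨fun a b => ?_⟩
      have key : ∀ ξ : Ext (ModuleCat.of R (R ⧸ 𝔞)) (ModuleCat.of R J) 1, ξ = 0 := by
        intro ξ
        haveI := hprime
        obtain ⟨s, hs, hsξ⟩ := h 𝔞 ξ
        apply step s hs ξ
        -- `(𝔞 : s) = 𝔞`
        have hcol : colon 𝔞 s = 𝔞 := by
          refine le_antisymm ?_ (le_colon 𝔞 s)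
          intro r hr
          rw [mem_colon] at hr
          exact (hprime.mem_or_mem hr).resolve_right hs
        let e : (R ⧸ colon 𝔞 s) ≃ₗ[R] (R ⧸ 𝔞) := Submodule.quotEquivOfEq _ _ hcol
        have hμ : mulQ 𝔞 s = (s • (LinearMap.id : (R ⧸ 𝔞) →ₗ[R] (R ⧸ 𝔞))) ∘ₗ e.toLinearMap := by
          apply LinearMap.ext
          intro y
          obtain ⟨r, rfl⟩ := Submodule.Quotient.mk_surjective _ y
          rw [mulQ_mk, LinearMap.comp_apply, LinearMap.smul_apply, LinearMap.id_apply]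
          have he : e.toLinearMap (Submodule.Quotient.mk r) = Submodule.Quotient.mk r := rfl
          rw [he, ← Submodule.Quotient.mk_smul, smul_eq_mul, mul_comm]
        have h1 : ModuleCat.ofHom (mulQ 𝔞 s) = ModuleCat.ofHom e.toLinearMap ≫
            (s • 𝟙 (ModuleCat.of R (R ⧸ 𝔞))) := by
          rw [hμ]
          rfl
        rw [h1, ← Ext.mk₀_comp_mk₀, Ext.comp_assoc_of_second_deg_zero, Ext.mk₀_smul,
          Ext.smul_comp, Ext.mk₀_id_comp, hsξ, Ext.comp_zero]
      rw [key a, key b]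
    · -- not prime: find `x y ∉ 𝔞` with `x y ∈ 𝔞`
      rw [Ideal.isPrime_iff] at hprime
      push Not at hprime
      obtain ⟨x, y, hxy, hx, hy⟩ := hprime htop
      refine ⟨fun a b => ?_⟩
      have key : ∀ ξ : Ext (ModuleCat.of R (R ⧸ 𝔞)) (ModuleCat.of R J) 1, ξ = 0 := by
        intro ξ
        apply step y hy ξ
        have hlt : 𝔞 < colon 𝔞 y := by
          refine lt_of_le_of_ne (le_colon 𝔞 y) ?_
          intro heq
          apply hx
          rw [heq, mem_colon]
          exact hxy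
        haveI := ih _ hlt
        exact Subsingleton.elim _ _
      rw [key a, key b]

/-- the criterion -/
theorem injective_of_forall_prime [IsNoetherianRing R] (J : Type u)
    [AddCommGroup J] [Module R J]
    (h : ∀ (Q : Ideal R) [Q.IsPrime]
      (ξ : Ext (ModuleCat.of R (R ⧸ Q)) (ModuleCat.of R J) 1), ∃ s ∉ Q, s • ξ = 0) :
    Module.Injective R J :=
  injective_of_ext_one_quotient_subsingleton J
    (ext_one_quotient_subsingleton_of_forall_prime J h)

/-- the local form of the criterion -/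
theorem exists_smul_eq_zero_of_localization [IsNoetherianRing R] (J : Type u)
    [AddCommGroup J] [Module R J] (Q : Ideal R) [Q.IsPrime]
    (h : Subsingleton (Ext (ModuleCat.of (Localization.AtPrime Q)
        (Localization.AtPrime Q ⊗[R] (R ⧸ Q)))
      (ModuleCat.of (Localization.AtPrime Q) (Localization.AtPrime Q ⊗[R] J)) 1))
    (ξ : Ext (ModuleCat.of R (R ⧸ Q)) (ModuleCat.of R J) 1) : ∃ s ∉ Q, s • ξ = 0 := by
  obtain ⟨e1⟩ := ExtBC.ext_baseChange (A := R) (B := Localization.AtPrime Q) J 1 (R ⧸ Q)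
  haveI : IsLocalizedModule Q.primeCompl (TensorProduct.mk R (Localization.AtPrime Q)
      (Ext (ModuleCat.of R (R ⧸ Q)) (ModuleCat.of R J) 1) 1) :=
    (isLocalizedModule_iff_isBaseChange Q.primeCompl (Localization.AtPrime Q) _).mpr
      (TensorProduct.isBaseChange R _ (Localization.AtPrime Q))
  have h0 : (TensorProduct.mk R (Localization.AtPrime Q)
      (Ext (ModuleCat.of R (R ⧸ Q)) (ModuleCat.of R J) 1) 1) ξ = 0 := by
    apply e1.injective
    exact Subsingleton.elim _ _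
  rw [IsLocalizedModule.eq_zero_iff Q.primeCompl] at h0
  obtain ⟨s, hs⟩ := h0
  exact ⟨s, s.2, hs⟩

end Groth.Agent.Helper8.InjBC
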