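import Groth.Agent.Lib.Helper8.LCSeq

/-!
# Module-level API for Mathlib's `localCohomology` (helper8)

`H I i M` is syntactically the prelude's `LocCoh.H I i M`.
-/

open CategoryTheory CategoryTheory.Limits Opposite Abelian
universe u

namespace Groth.Agent.Helper8.LC

variable {R : Type u} [CommRing R] (I : Ideal R) (i : ℕ)

/-- `H^i_I(M)` for a module `M` (same as `LocCoh.H`) -/
noncomputable abbrev H (M : Type u) [AddCommGroup M] [Module R M] : Type u :=
  (localCohomology I i).obj (ModuleCat.of R M)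

section Map

variable {M N P : Type u} [AddCommGroup M] [Module R M] [AddCommGroup N] [Module R N]
  [AddCommGroup P] [Module R P]

/-- functoriality of local cohomology, as a linear map -/
noncomputable def Hmap (f : M →ₗ[R] N) : H I i M →ₗ[R] H I i N :=
  ((localCohomology I i).map (ModuleCat.ofHom f)).hom

theorem Hmap_def (f : M →ₗ[R] N) :
    Hmap I i f = ((localCohomology I i).map (ModuleCat.ofHom f)).hom := rfl

@[simp] theorem Hmap_id : Hmap I i (LinearMap.id : M →ₗ[R] M) = LinearMap.id := by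
  unfold Hmap
  rw [ModuleCat.ofHom_id, CategoryTheory.Functor.map_id]
  rfl

theorem Hmap_comp (f : M →ₗ[R] N) (g : N →ₗ[R] P) :
    Hmap I i (g ∘ₗ f) = Hmap I i g ∘ₗ Hmap I i f := by
  unfold Hmap
  rw [ModuleCat.ofHom_comp, CategoryTheory.Functor.map_comp]
  rfl

theorem Hmap_comp_apply (f : M →ₗ[R] N) (g : N →ₗ[R] P) (x : H I i M) :
    Hmap I i (g ∘ₗ f) x = Hmap I i g (Hmap I i f x) := by
  rw [Hmap_comp]; rfl

theorem Hmap_ι (f : M →ₗ[R] N) (n : ℕ) (x : Abelian.Ext (RmodPow I n) (ModuleCat.of R M) i) :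
    Hmap I i f (ι I i (ModuleCat.of R M) n x) =
      ι I i (ModuleCat.of R N) n (x.comp (Abelian.Ext.mk₀ (ModuleCat.ofHom f)) (add_zero i)) :=
  map_ι I i (ModuleCat.ofHom f) n x

theorem Hmap_zero : Hmap I i (0 : M →ₗ[R] N) = 0 := by
  ext x
  obtain ⟨n, ξ, rfl⟩ := exists_rep I i (ModuleCat.of R M) x
  rw [Hmap_ι]
  have : (ModuleCat.ofHom (0 : M →ₗ[R] N)) = 0 := rfl
  rw [this, Ext.mk₀_zero, Ext.comp_zero, map_zero]
  rfl

theorem Hmap_smul (r : R) (f : M →ₗ[R] N) : Hmap I i (r • f) = r • Hmap I i f := by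
  ext x
  obtain ⟨n, ξ, rfl⟩ := exists_rep I i (ModuleCat.of R M) x
  rw [LinearMap.smul_apply, Hmap_ι, Hmap_ι, ← map_smul]
  have : (ModuleCat.ofHom (r • f)) = r • ModuleCat.ofHom f := rfl
  rw [this, Ext.mk₀_smul, Ext.comp_smul]

theorem Hmap_add (f g : M →ₗ[R] N) : Hmap I i (f + g) = Hmap I i f + Hmap I i g := by
  ext x
  obtain ⟨n, ξ, rfl⟩ := exists_rep I i (ModuleCat.of R M) x
  rw [LinearMap.add_apply, Hmap_ι, Hmap_ι, Hmap_ι, ← map_add]
  have : (ModuleCat.ofHom (f + g)) = ModuleCat.ofHom f + ModuleCat.ofHom g := rfl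
  rw [this, Ext.mk₀_add, Ext.comp_add]

/-- multiplication by `r` on `M` induces multiplication by `r` on `H^i_I(M)` -/
theorem Hmap_smul_id (r : R) (x : H I i M) :
    Hmap I i (r • (LinearMap.id : M →ₗ[R] M)) x = r • x := by
  rw [Hmap_smul, Hmap_id]; rfl

/-- a linear equivalence induces a linear equivalence on local cohomology -/
noncomputable def Hcongr (e : M ≃ₗ[R] N) : H I i M ≃ₗ[R] H I i N :=
  LinearEquiv.ofLinearMap (Hmap I i e.toLinearMap) (Hmap I i e.symm.toLinearMap)
    (by rw [← Hmap_comp]; simp) (by rw [← Hmap_comp]; simp)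

theorem Hcongr_apply (e : M ≃ₗ[R] N) (x : H I i M) : Hcongr I i e x = Hmap I i e.toLinearMap x :=
  rfl

end Map

section SES

variable {M N P : Type u} [AddCommGroup M] [Module R M] [AddCommGroup N] [Module R N]
  [AddCommGroup P] [Module R P]

/-- a short exact sequence of modules -/
structure IsSES (f : M →ₗ[R] N) (g : N →ₗ[R] P) : Prop where
  inj : Function.Injective f
  exact : Function.Exact f g
  surj : Function.Surjective g

variable {f : M →ₗ[R] N} {g : N →ₗ[R] P}

/-- the associated short complex -/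
noncomputable abbrev IsSES.sc (h : IsSES f g) : ShortComplex (ModuleCat.{u} R) :=
  ModuleCat.shortComplexOfCompEqZero f g (h.exact.linearMap_comp_eq_zero)

theorem IsSES.shortExact (h : IsSES f g) : h.sc.ShortExact :=
  ModuleCat.shortComplex_shortExact _ h.exact h.inj h.surj

/-- the connecting homomorphism -/
noncomputable def Hδ (h : IsSES f g) : H I i P →ₗ[R] H I (i + 1) M :=
  (δ I i h.shortExact).hom

theorem Hδ_ι (h : IsSES f g) (n : ℕ) (x : Abelian.Ext (RmodPow I n) (ModuleCat.of R P) i) :
    Hδ I i h (ι I i (ModuleCat.of R P) n x) =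
      ι I (i + 1) (ModuleCat.of R M) n (x.comp h.shortExact.extClass rfl) :=
  δ_ι I i h.shortExact n x

theorem IsSES.exact_Hmap (h : IsSES f g) : Function.Exact (Hmap I i f) (Hmap I i g) := by
  intro y
  constructor
  · intro hy
    exact exact_f_g I i h.shortExact y hy
  · rintro ⟨x, rfl⟩
    exact map_g_map_f I i (S := h.sc) x

theorem IsSES.exact_Hmap_δ (h : IsSES f g) : Function.Exact (Hmap I i g) (Hδ I i h) := by
  intro z
  constructor
  · intro hz
    exact exact_g_δ I i h.shortExact z hz
  · rintro ⟨y, rfl⟩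
    exact δ_map_g I i h.shortExact y

theorem IsSES.exact_δ_Hmap (h : IsSES f g) : Function.Exact (Hδ I i h) (Hmap I (i + 1) f) := by
  intro x
  constructor
  · intro hx
    exact exact_δ_f I i h.shortExact x hx
  · rintro ⟨z, rfl⟩
    exact map_f_δ I i h.shortExact z

theorem Hmap_zero_injective {f : M →ₗ[R] N} (hf : Function.Injective f) :
    Function.Injective (Hmap I 0 f) := by
  have : Mono (ModuleCat.ofHom f) := (ModuleCat.mono_iff_injective _).mpr hf
  exact map_zero_injective_of_mono I (ModuleCat.ofHom f)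

/-! ### Consequences for vanishing -/

theorem IsSES.subsingleton_mid (h : IsSES f g) [Subsingleton (H I i M)] [Subsingleton (H I i P)] :
    Subsingleton (H I i N) := by
  refine ⟨fun a b => ?_⟩
  have h0 : ∀ y : H I i N, y = 0 := by
    intro y
    obtain ⟨x, rfl⟩ := (h.exact_Hmap I i y).mp (Subsingleton.elim _ _)
    rw [Subsingleton.elim x 0, map_zero]
  rw [h0 a, h0 b]

theorem IsSES.subsingleton_left_succ (h : IsSES f g) [Subsingleton (H I i P)]
    [Subsingleton (H I (i + 1) N)] : Subsingleton (H I (i + 1) M) := by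
  refine ⟨fun a b => ?_⟩
  have h0 : ∀ y : H I (i + 1) M, y = 0 := by
    intro y
    obtain ⟨x, rfl⟩ := (h.exact_δ_Hmap I i y).mp (Subsingleton.elim _ _)
    rw [Subsingleton.elim x 0, map_zero]
  rw [h0 a, h0 b]

theorem IsSES.subsingleton_left_zero (h : IsSES f g) [Subsingleton (H I 0 N)] :
    Subsingleton (H I 0 M) :=
  (Hmap_zero_injective I h.inj).subsingleton

theorem IsSES.subsingleton_right (h : IsSES f g) [Subsingleton (H I i N)]
    [Subsingleton (H I (i + 1) M)] : Subsingleton (H I i P) := by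
  refine ⟨fun a b => ?_⟩
  have h0 : ∀ y : H I i P, y = 0 := by
    intro y
    obtain ⟨x, rfl⟩ := (h.exact_Hmap_δ I i y).mp (Subsingleton.elim _ _)
    rw [Subsingleton.elim x 0, map_zero]
  rw [h0 a, h0 b]

theorem IsSES.δ_injective (h : IsSES f g) [Subsingleton (H I i N)] :
    Function.Injective (Hδ I i h) := by
  rw [injective_iff_map_eq_zero]
  intro z hz
  obtain ⟨y, rfl⟩ := (h.exact_Hmap_δ I i z).mp hz
  rw [Subsingleton.elim y 0, map_zero]

theorem IsSES.δ_surjective (h : IsSES f g) [Subsingleton (H I (i + 1) N)] :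
    Function.Surjective (Hδ I i h) := by
  intro x
  exact (h.exact_δ_Hmap I i x).mp (Subsingleton.elim _ _)

/-- dimension shifting: if the middle term is acyclic in degrees `i`, `i+1`, then `δ` is an iso -/
noncomputable def IsSES.δEquiv (h : IsSES f g) [Subsingleton (H I i N)]
    [Subsingleton (H I (i + 1) N)] : H I i P ≃ₗ[R] H I (i + 1) M :=
  LinearEquiv.ofBijective (Hδ I i h) ⟨h.δ_injective I i, h.δ_surjective I i⟩

theorem IsSES.Hmap_f_injective_succ (h : IsSES f g) [Subsingleton (H I i P)] :
    Function.Injective (Hmap I (i + 1) f) := by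
  rw [injective_iff_map_eq_zero]
  intro x hx
  obtain ⟨z, rfl⟩ := (h.exact_δ_Hmap I i x).mp hx
  rw [Subsingleton.elim z 0, map_zero]

theorem IsSES.Hmap_f_surjective (h : IsSES f g) [Subsingleton (H I i P)] :
    Function.Surjective (Hmap I i f) := by
  intro y
  exact (h.exact_Hmap I i y).mp (Subsingleton.elim _ _)

theorem IsSES.Hmap_g_injective (h : IsSES f g) [Subsingleton (H I i M)] :
    Function.Injective (Hmap I i g) := by
  rw [injective_iff_map_eq_zero]
  intro y hy
  obtain ⟨x, rfl⟩ := (h.exact_Hmap I i y).mp hy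
  rw [Subsingleton.elim x 0, map_zero]

theorem IsSES.Hmap_g_surjective (h : IsSES f g) [Subsingleton (H I (i + 1) M)] :
    Function.Surjective (Hmap I i g) := by
  intro z
  exact (h.exact_Hmap_δ I i z).mp (Subsingleton.elim _ _)

end SES

section StandardSES

variable {M N : Type u} [AddCommGroup M] [Module R M] [AddCommGroup N] [Module R N]

theorem isSES_subtype_mkQ (K : Submodule R M) : IsSES K.subtype K.mkQ where
  inj := K.injective_subtype
  exact := LinearMap.exact_subtype_mkQ K
  surj := K.mkQ_surjective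

theorem isSES_of_surjective {f : M →ₗ[R] N} (hf : Function.Surjective f) :
    IsSES (LinearMap.ker f).subtype f where
  inj := (LinearMap.ker f).injective_subtype
  exact := LinearMap.exact_subtype_ker_map f
  surj := hf

theorem isSES_of_injective {f : M →ₗ[R] N} (hf : Function.Injective f) :
    IsSES f (LinearMap.range f).mkQ where
  inj := hf
  exact := LinearMap.exact_map_mkQ_range f
  surj := (LinearMap.range f).mkQ_surjective

end StandardSES

end Groth.Agent.Helper8.LC
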