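import Groth.Agent.Lib.Helper8.DFin3
import Groth.Agent.Lib.Helper8.InjBC1
import Groth.Agent.Lib.Helper8.LCBasic
import Groth.Agent.Lib.Helper1.InjHullLib

/-!
# Dualizing complexes over Artinian local rings (helper8)
-/

set_option autoImplicit false
universe u

namespace Groth.Agent.Helper8.DArt

open CategoryTheory Abelian DerivedCategory Pretriangulated Limits

attribute [local instance] HasDerivedCategory.standard

variable {A : Type u} [CommRing A]

theorem subsingleton_hom_of_ses (ω : Dual.D A) {M N P : Type u} [AddCommGroup M] [Module A M]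
    [AddCommGroup N] [Module A N] [AddCommGroup P] [Module A P]
    {f : M →ₗ[A] N} {g : N →ₗ[A] P} (h : Groth.Agent.Helper8.LC.IsSES f g)
    (hM : Subsingleton (Dual.inD A M ⟶ ω)) (hP : Subsingleton (Dual.inD A P ⟶ ω)) :
    Subsingleton (Dual.inD A N ⟶ ω) := by
  have hT := h.shortExact.singleTriangle_distinguished
  refine ⟨fun φ ψ => ?_⟩
  have key : ∀ φ : Dual.inD A N ⟶ ω, φ = 0 := by
    intro φ
    have h1 : (h.shortExact.singleTriangle).mor₁ ≫ φ = 0 := @Subsingleton.elim _ hM _ _
    obtain ⟨χ, hχ⟩ := Triangle.yoneda_exact₂ _ hT φ h1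
    have h2 : χ = 0 := @Subsingleton.elim _ hP _ _
    rw [hχ, h2]
    exact comp_zero
  rw [key φ, key ψ]

theorem subsingleton_hom_of_linearEquiv (ω : Dual.D A) {M N : Type u} [AddCommGroup M]
    [Module A M] [AddCommGroup N] [Module A N] (e : M ≃ₗ[A] N)
    (hM : Subsingleton (Dual.inD A M ⟶ ω)) : Subsingleton (Dual.inD A N ⟶ ω) := by
  let ε : Dual.inD A M ≅ Dual.inD A N :=
    (singleFunctor (ModuleCat.{u} A) 0).mapIso e.toModuleIso
  refine ⟨fun φ ψ => ?_⟩
  have := Subsingleton.elim (ε.hom ≫ φ) (ε.hom ≫ ψ)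
  exact (cancel_epi ε.hom).mp this

theorem subsingleton_hom_of_isFiniteLength [IsLocalRing A] (ω : Dual.D A)
    (hκ : Subsingleton (Dual.inD A (IsLocalRing.ResidueField A) ⟶ ω))
    (N : Type u) [AddCommGroup N] [Module A N] (hN : IsFiniteLength A N) :
    Subsingleton (Dual.inD A N ⟶ ω) := by
  induction hN with
  | of_subsingleton =>
    rename_i M _ _ _
    have hz : IsZero (Dual.inD A M) :=
      (singleFunctor (ModuleCat.{u} A) 0).map_isZero (ModuleCat.isZero_of_subsingleton _)
    exact ⟨fun φ ψ => hz.eq_of_src φ ψ⟩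
  | of_simple_quotient _ ih =>
    rename_i M _ _ N' hsimple _
    obtain ⟨I, hI, ⟨e⟩⟩ := isSimpleModule_iff_quot_maximal.mp hsimple
    have hIm : I = IsLocalRing.maximalIdeal A := IsLocalRing.eq_maximalIdeal hI
    subst hIm
    have hq : Subsingleton (Dual.inD A (M ⧸ N') ⟶ ω) :=
      subsingleton_hom_of_linearEquiv ω e.symm hκ
    exact subsingleton_hom_of_ses ω (Groth.Agent.Helper8.LC.isSES_subtype_mkQ N') ih hq

end Groth.Agent.Helper8.DArt
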