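import Groth.Agent.Lib.Helper8.BiDual5
import Groth.Agent.Lib.Helper8.HomH
import Groth.Agent.Lib.Helper8.DArt1
import Groth.Agent.Lib.Helper11.DCExtClosed

/-!
# Tools for the computation of `RHom(κ, ω)` (helper8)
-/

set_option autoImplicit false

open CategoryTheory CategoryTheory.Limits Pretriangulated

universe u

namespace Groth.Agent.Helper8.BiDual

open DerivedCategory

attribute [local instance] HasDerivedCategory.standard

variable {A : Type u} [CommRing A]

/-- a finite module killed by a maximal ideal is a finite power of the residue field -/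
theorem exists_linearEquiv_fin_of_killed (m : Ideal A) [m.IsMaximal] (N : Type u)
    [AddCommGroup N] [Module A N] [Module.Finite A N] (hN : ∀ a ∈ m, ∀ x : N, a • x = 0) :
    ∃ r : ℕ, Nonempty (N ≃ₗ[A] (Fin r → A ⧸ m)) := by
  have htors : Module.IsTorsionBySet A N (m : Set A) := fun x a => hN a.1 a.2 x
  letI : Module (A ⧸ m) N := htors.module
  haveI : IsScalarTower A (A ⧸ m) N := htors.isScalarTower
  letI : Field (A ⧸ m) := Ideal.Quotient.field m
  haveI : Module.Finite (A ⧸ m) N := Module.Finite.of_restrictScalars_finite A (A ⧸ m) N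
  let b := Module.finBasis (A ⧸ m) N
  exact ⟨_, ⟨b.equivFun.restrictScalars A⟩⟩

/-- the split short exact sequence `0 → X → X^(n+1) → X^n → 0` -/
theorem isSES_pow (X : Type u) [AddCommGroup X] [Module A X] (n : ℕ) :
    Groth.Agent.Helper8.LC.IsSES (LinearMap.single A (fun _ : Fin (n + 1) => X) 0)
      (LinearMap.funLeft A X (Fin.succ : Fin n → Fin (n + 1))) where
  inj := by
    intro a b hab
    have := congrFun hab 0
    simpa using this
  exact := by
    intro φ
    constructor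
    · intro h
      refine ⟨φ 0, ?_⟩
      funext i
      refine Fin.cases ?_ (fun j => ?_) i
      · simp
      · have := congrFun h j
        simp [LinearMap.funLeft] at this
        simp [Fin.succ_ne_zero, this]
    · rintro ⟨a, rfl⟩
      funext j
      simp [LinearMap.funLeft, Fin.succ_ne_zero]
  surj := by
    intro ψ
    refine ⟨(Fin.cons 0 ψ : Fin (n + 1) → X), ?_⟩
    funext j
    simp [LinearMap.funLeft]

theorem hom_eq_zero_of_killed (m : Ideal A) [m.IsMaximal] (Y : Dual.D A)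
    (hκ : ∀ f : Dual.inD A (A ⧸ m) ⟶ Y, f = 0) (N : Type u)
    [AddCommGroup N] [Module A N] [Module.Finite A N] (hN : ∀ a ∈ m, ∀ x : N, a • x = 0)
    (f : Dual.inD A N ⟶ Y) : f = 0 := by
  obtain ⟨r, ⟨e⟩⟩ := exists_linearEquiv_fin_of_killed m N hN
  have hsub : Subsingleton (Dual.inD A (A ⧸ m) ⟶ Y) := ⟨fun f g => by rw [hκ f, hκ g]⟩
  have key : ∀ r : ℕ, Subsingleton (Dual.inD A (Fin r → A ⧸ m) ⟶ Y) := by
    intro r
    induction r with
    | zero =>
      have hz : IsZero (Dual.inD A (Fin 0 → A ⧸ m)) :=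
        (singleFunctor (ModuleCat.{u} A) 0).map_isZero (ModuleCat.isZero_of_subsingleton _)
      exact ⟨fun φ ψ => hz.eq_of_src φ ψ⟩
    | succ n ih =>
      exact Groth.Agent.Helper8.DArt.subsingleton_hom_of_ses Y (isSES_pow (A ⧸ m) n) hsub ih
  have := Groth.Agent.Helper8.DArt.subsingleton_hom_of_linearEquiv Y e.symm (key r)
  exact Subsingleton.elim _ _

theorem exists_retract_of_killed (m : Ideal A) [m.IsMaximal] (N : Type u)
    [AddCommGroup N] [Module A N] [Module.Finite A N] [Nontrivial N]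
    (hN : ∀ a ∈ m, ∀ x : N, a • x = 0) :
    ∃ (ι : (A ⧸ m) →ₗ[A] N) (π : N →ₗ[A] (A ⧸ m)), π ∘ₗ ι = LinearMap.id := by
  obtain ⟨r, ⟨e⟩⟩ := exists_linearEquiv_fin_of_killed m N hN
  rcases r with _ | r
  · exfalso
    have : Subsingleton N := e.toEquiv.subsingleton
    exact not_subsingleton N this
  · refine ⟨e.symm.toLinearMap ∘ₗ LinearMap.single A (fun _ : Fin (r + 1) => A ⧸ m) 0,
      LinearMap.proj 0 ∘ₗ e.toLinearMap, ?_⟩
    ext x
    simp

/-- `Hom(X, Y[u]) ≃ Hom(X[s], Y[t])` for `u + s = t` -/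
noncomputable def shiftHomLin (X Y : Dual.D A) (s u t : ℤ) (h : u + s = t) :
    (X ⟶ Y⟦u⟧) →ₗ[A] (X⟦s⟧ ⟶ Y⟦t⟧) :=
  (Linear.rightComp A (X⟦s⟧) ((shiftFunctorAdd' (Dual.D A) u s t h).inv.app Y)).comp
    (Functor.mapLinearMap A (shiftFunctor (Dual.D A) s))

theorem shiftHomLin_bijective (X Y : Dual.D A) (s u t : ℤ) (h : u + s = t) :
    Function.Bijective (shiftHomLin X Y s u t h) := by
  constructor
  · intro f g hfg
    have h1 : (shiftFunctor (Dual.D A) s).map f ≫ (shiftFunctorAdd' (Dual.D A) u s t h).inv.app Y =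
        (shiftFunctor (Dual.D A) s).map g ≫ (shiftFunctorAdd' (Dual.D A) u s t h).inv.app Y := hfg
    exact (shiftFunctor (Dual.D A) s).map_injective ((cancel_mono _).mp h1)
  · intro g
    obtain ⟨f, hf⟩ := (shiftFunctor (Dual.D A) s).map_surjective
      (g ≫ (shiftFunctorAdd' (Dual.D A) u s t h).hom.app Y)
    refine ⟨f, ?_⟩
    show (shiftFunctor (Dual.D A) s).map f ≫ (shiftFunctorAdd' (Dual.D A) u s t h).inv.app Y = g
    rw [hf, Category.assoc, Iso.hom_inv_id_app]
    exact Category.comp_id _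

/-- `Hom(N[0], Y[s+t]) ≃ Hom(N[-t], Y[s])` -/
noncomputable def singleHomEquiv (N : ModuleCat.{u} A) (Y : Dual.D A) (t s u : ℤ) (h : u = s + t) :
    ((singleFunctor (ModuleCat.{u} A) 0).obj N ⟶ Y⟦u⟧) ≃ₗ[A]
      ((singleFunctor (ModuleCat.{u} A) t).obj N ⟶ Y⟦s⟧) :=
  (LinearEquiv.ofBijective (shiftHomLin ((singleFunctor (ModuleCat.{u} A) 0).obj N) Y (-t) u s
    (by omega)) (shiftHomLin_bijective _ _ _ _ _ _)).trans
  (LinearEquiv.ofBijective (Linear.leftComp A (Y⟦s⟧)
    (((singleFunctors (ModuleCat.{u} A)).shiftIso (-t) t 0 (by omega)).app N).inv) (by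
      constructor
      · intro f g hfg
        exact (cancel_epi _).mp hfg
      · intro g
        refine ⟨(((singleFunctors (ModuleCat.{u} A)).shiftIso (-t) t 0 (by omega)).app N).hom ≫ g, ?_⟩
        show (((singleFunctors (ModuleCat.{u} A)).shiftIso (-t) t 0 _).app N).inv ≫
          (((singleFunctors (ModuleCat.{u} A)).shiftIso (-t) t 0 _).app N).hom ≫ g = g
        rw [Iso.inv_hom_id_assoc]))

theorem singleHomEquiv_nat {N N' : ModuleCat.{u} A} (g : N ⟶ N') (Y : Dual.D A) (t s u : ℤ)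
    (h : u = s + t) (f : (singleFunctor (ModuleCat.{u} A) 0).obj N' ⟶ Y⟦u⟧) :
    singleHomEquiv N Y t s u h ((singleFunctor (ModuleCat.{u} A) 0).map g ≫ f) =
      (singleFunctor (ModuleCat.{u} A) t).map g ≫ singleHomEquiv N' Y t s u h f := by
  show (((singleFunctors (ModuleCat.{u} A)).shiftIso (-t) t 0 _).app N).inv ≫
      ((shiftFunctor (Dual.D A) (-t)).map ((singleFunctor (ModuleCat.{u} A) 0).map g ≫ f) ≫ _) =
    (singleFunctor (ModuleCat.{u} A) t).map g ≫
      (((singleFunctors (ModuleCat.{u} A)).shiftIso (-t) t 0 _).app N').inv ≫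
      ((shiftFunctor (Dual.D A) (-t)).map f ≫ _)
  have hnat := ((singleFunctors (ModuleCat.{u} A)).shiftIso (-t) t 0 (by omega)).inv.naturality g
  rw [Functor.map_comp, Category.assoc]
  rw [← Category.assoc, ← Category.assoc]
  erw [← hnat]
  simp only [Category.assoc]
  rfl

/-- `Hom(X, Y[0]) ≃ Hom(X, Y)` -/
noncomputable def shiftZeroEquiv (X Y : Dual.D A) : (X ⟶ Y⟦(0 : ℤ)⟧) ≃ₗ[A] (X ⟶ Y) :=
  LinearEquiv.ofBijective (Linear.rightComp A X ((shiftFunctorZero (Dual.D A) ℤ).hom.app Y)) (by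
    constructor
    · intro f g hfg
      exact (cancel_mono _).mp hfg
    · intro g
      refine ⟨g ≫ (shiftFunctorZero (Dual.D A) ℤ).inv.app Y, ?_⟩
      show (g ≫ (shiftFunctorZero (Dual.D A) ℤ).inv.app Y) ≫ (shiftFunctorZero (Dual.D A) ℤ).hom.app Y = g
      rw [Category.assoc, Iso.inv_hom_id_app]
      exact Category.comp_id _)

theorem extClosed_hom_eq_zero (Y : Dual.D A) :
    Groth.Agent.Helper11.DC.ExtClosed (fun X : Dual.D A => ∀ f : X ⟶ Y, f = 0) where
  iso e h f := by
    have := h (e.hom ≫ f)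
    exact (cancel_epi e.hom).mp (this.trans comp_zero.symm)
  ext T hT h1 h3 f := by
    obtain ⟨g, hg⟩ := Triangle.yoneda_exact₂ T hT f (h1 _)
    rw [hg, h3 g, comp_zero]
  zero K hK f := hK.eq_of_src f 0

end Groth.Agent.Helper8.BiDual
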