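import Groth.Agent.Lib.Helper8.LOC7

/-!
# Localization of dualizing complexes, part 8: shifts and `Hom` from finite modules (helper8)
-/

set_option autoImplicit false

open CategoryTheory CategoryTheory.Limits Opposite Pretriangulated

universe u

namespace Groth.Agent.Helper8.LOC

open DerivedCategory ChangeOfRings

attribute [local instance] HasDerivedCategory.standard

section Shift

variable {A : Type u} [CommRing A]

theorem subsingleton_hom_iff_of_iso {K K' Z Z' : Dual.D A} (e₁ : K ≅ K') (e₂ : Z ≅ Z') :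
    Subsingleton (K ⟶ Z) ↔ Subsingleton (K' ⟶ Z') :=
  (Iso.homCongr e₁ e₂).subsingleton_congr

/-- `(ω⟦n⟧)⟦i⟧ ≅ ω⟦n + i⟧` -/
noncomputable def shiftShiftIso (ω : Dual.D A) (n i : ℤ) : (ω⟦n⟧)⟦i⟧ ≅ ω⟦n + i⟧ :=
  ((shiftFunctorAdd' (Dual.D A) n i (n + i) rfl).app ω).symm

theorem smul_id_shift (ω : Dual.D A) (n : ℤ) (a : A) :
    a • 𝟙 (ω⟦n⟧) = (a • 𝟙 ω)⟦n⟧' := by
  rw [Functor.map_smul, CategoryTheory.Functor.map_id]

/-- a shift of a dualizing complex is a dualizing complex -/
theorem isDualizing_shift (ω : Dual.D A) (hω : Dual.IsDualizing A ω) (n : ℤ) :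
    Dual.IsDualizing A (ω⟦n⟧) := by
  refine ⟨hω.isNoetherianRing, ?_, fun i => ?_, ⟨?_, ?_⟩, fun i hi => ?_⟩
  · obtain ⟨a, b, hab⟩ := hω.finite_injective_dimension
    refine ⟨a - n, b - n, fun M _ _ i hi => ?_⟩
    have := hab M (n + i) (by omega)
    exact (subsingleton_hom_iff_of_iso (Iso.refl _) (shiftShiftIso ω n i)).mpr this
  · haveI : Module.Finite A (((homologyFunctor (ModuleCat.{u} A) 0).shift (n + i)).obj ω) :=
      hω.finite_cohomology (n + i)
    exact Module.Finite.equiv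
      (((homologyFunctor (ModuleCat.{u} A) 0).shiftIso n i (n + i) rfl).app ω).symm.toLinearEquiv
  · intro a a' h
    have h' : a • 𝟙 (ω⟦n⟧) = a' • 𝟙 (ω⟦n⟧) := h
    rw [smul_id_shift, smul_id_shift] at h'
    exact hω.toEnd_bijective.1 ((shiftFunctor (Dual.D A) n).map_injective h')
  · intro f
    obtain ⟨a, ha⟩ := hω.toEnd_bijective.2 ((shiftFunctor (Dual.D A) n).preimage f)
    refine ⟨a, ?_⟩
    have ha' : a • 𝟙 ω = (shiftFunctor (Dual.D A) n).preimage f := ha
    show a • 𝟙 (ω⟦n⟧) = f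
    rw [smul_id_shift, ha', Functor.map_preimage]
  · have := hω.ext_self_subsingleton i hi
    refine ⟨fun x y => ?_⟩
    have key : ∀ f : ω⟦n⟧ ⟶ (ω⟦n⟧)⟦i⟧, f = 0 := by
      intro f
      let c := (shiftFunctorComm (Dual.D A) n i).app ω
      have h1 : (shiftFunctor (Dual.D A) n).preimage (f ≫ c.hom) = 0 := Subsingleton.elim _ _
      have h2 : f ≫ c.hom = 0 := by
        rw [← (shiftFunctor (Dual.D A) n).map_preimage (f ≫ c.hom), h1, Functor.map_zero]
      rw [← cancel_mono c.hom, h2, zero_comp]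
    rw [key x, key y]

end Shift

section Loc

variable {A : Type u} [CommRing A] (S : Submonoid A) (B : Type u) [CommRing B] [Algebra A B]
  [IsLocalization S B] [IsNoetherianRing A] [PreservesFiniteLimits (Efun (algebraMap A B))]

/-- `L (M[0]) ≅ M'[0]` for a localization `M → M'` -/
noncomputable def LdInDIso {M M' : Type u} [AddCommGroup M] [Module A M]
    [AddCommGroup M'] [Module A M'] [Module B M'] [IsScalarTower A B M'] (f : M →ₗ[A] M')
    [IsLocalizedModule S f] :
    (Ld (algebraMap A B)).obj (Dual.inD A M) ≅ Dual.inD B M' :=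
  ((Efun (algebraMap A B)).mapDerivedCategorySingleFunctor 0).app (ModuleCat.of A M) ≪≫
    (DerivedCategory.singleFunctor (ModuleCat.{u} B) 0).mapIso (EfunIsoOfLoc S B f)

/-- localization of `Hom(M[0], W⟦i⟧)` -/
theorem subsingleton_locHom_iff {M M' : Type u} [AddCommGroup M] [Module A M] [Module.Finite A M]
    [AddCommGroup M'] [Module A M'] [Module B M'] [IsScalarTower A B M'] (f : M →ₗ[A] M')
    [IsLocalizedModule S f] (W : Dual.D A) (a : ℤ)
    (hW : ∀ j : ℤ, j < a → IsZero ((homologyFunctor (ModuleCat.{u} A) j).obj W)) (i : ℤ) :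
    Subsingleton (LocalizedModule S (Dual.inD A M ⟶ W⟦i⟧)) ↔
      Subsingleton (Dual.inD B M' ⟶ ((Ld (algebraMap A B)).obj W)⟦i⟧) := by
  rw [subsingleton_localizedModule_hom_iff S B (PP_inD M) (a - i)
    (isZero_homology_shift W a hW i)]
  exact (Iso.homCongr (LdInDIso S B f)
    (((Ld (algebraMap A B)).commShiftIso i).app W)).subsingleton_congr

end Loc

end Groth.Agent.Helper8.LOC
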