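import Groth.Agent.Lib.Helper8.LD13

/-!
# Local duality, part 14: the comparison `η : 𝓗(Y) → Hom(A[0], Y)` (helper8)
-/

set_option autoImplicit false

open CategoryTheory CategoryTheory.Limits Opposite Pretriangulated

universe u

namespace Groth.Agent.Helper8.LD

open DerivedCategory Groth.Agent.Helper8.FLD Groth.Agent.Helper8.HDI

attribute [local instance] HasDerivedCategory.standard

variable {A : Type u} [CommRing A] (I : Ideal A)

/-- the projection `A → A/I^n` -/
def prN (n : ℕ) : A →ₗ[A] (A ⧸ I ^ n) := Submodule.mkQ (I ^ n)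

theorem prN_surjective (n : ℕ) : Function.Surjective (prN I n) := Submodule.mkQ_surjective _

theorem tr_comp_prN {n m : ℕ} (h : n ≤ m) : tr I h ∘ₗ prN I m = prN I n := by
  ext
  rfl

/-- the cocone defining `η` -/
noncomputable def etaCocone (Y : Dual.D A) : Cocone (diagY I Y) where
  pt := ModuleCat.of A (Dual.inD A A ⟶ Y)
  ι :=
    { app := fun n => ModuleCat.ofHom (Linear.leftComp A Y (inDMap (prN I n.unop.unop)))
      naturality := by
        rintro ⟨⟨n⟩⟩ ⟨⟨m⟩⟩ f
        have hle : n ≤ m := leOfHom f.unop.unop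
        have hf : f = (homOfLE hle).op.op := Subsingleton.elim _ _
        subst hf
        ext t
        show inDMap (prN I m) ≫ (inDMap (tr I hle) ≫ t) = inDMap (prN I n) ≫ t
        rw [← Category.assoc, ← inDMap_comp, tr_comp_prN] }

/-- `η : 𝓗(Y) → Hom(A[0], Y)` -/
noncomputable def eta (Y : Dual.D A) : HH I Y →ₗ[A] (Dual.inD A A ⟶ Y) :=
  (colimit.desc _ (etaCocone I Y)).hom

theorem eta_legY (Y : Dual.D A) (n : ℕ) (t : Dual.inD A (A ⧸ I ^ n) ⟶ Y) :
    eta I Y (legY I Y n t) = inDMap (prN I n) ≫ t := by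
  have h := colimit.ι_desc (etaCocone I Y) (op (op n))
  exact congrArg (fun φ => φ.hom t) h

theorem eta_nat {Y Y' : Dual.D A} (g : Y ⟶ Y') (x : HH I Y) :
    eta I Y' (HHmap I g x) = eta I Y x ≫ g := by
  obtain ⟨n, t, rfl⟩ := exists_repY I Y x
  rw [HHmap_legY, eta_legY, eta_legY, Category.assoc]

/-- the functor `Hom(A[0], -)` on morphisms -/
noncomputable def CCmap {Y Y' : Dual.D A} (g : Y ⟶ Y') :
    (Dual.inD A A ⟶ Y) →ₗ[A] (Dual.inD A A ⟶ Y') :=
  Linear.rightComp A (Dual.inD A A) g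

theorem CCmap_apply {Y Y' : Dual.D A} (g : Y ⟶ Y') (φ : Dual.inD A A ⟶ Y) :
    CCmap g φ = φ ≫ g := rfl

theorem CC_exact (T : Triangle (Dual.D A)) (hT : T ∈ distTriang (Dual.D A)) :
    Function.Exact (CCmap T.mor₁) (CCmap T.mor₂) := by
  intro φ
  constructor
  · intro h
    obtain ⟨ψ, hψ⟩ := Triangle.coyoneda_exact₂ T hT φ h
    exact ⟨ψ, hψ.symm⟩
  · rintro ⟨ψ, rfl⟩
    show (ψ ≫ T.mor₁) ≫ T.mor₂ = 0
    rw [Category.assoc, comp_distTriang_mor_zero₁₂ T hT, comp_zero]

theorem CCmap_comp_eta {Y Y' : Dual.D A} (g : Y ⟶ Y') :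
    (CCmap g).comp (eta I Y) = (eta I Y').comp (HHmap I g) := by
  ext x : 1
  exact (eta_nat I g x).symm

theorem eta_bijective_of_iso {Y Y' : Dual.D A} (e : Y ≅ Y')
    (h : Function.Bijective (eta I Y)) : Function.Bijective (eta I Y') := by
  constructor
  · intro x x' hx
    obtain ⟨y, rfl⟩ := (HHmap_bijective_of_isIso I e.hom).2 x
    obtain ⟨y', rfl⟩ := (HHmap_bijective_of_isIso I e.hom).2 x'
    rw [eta_nat, eta_nat] at hx
    rw [h.1 ((cancel_mono e.hom).mp hx)]
  · intro φ
    obtain ⟨y, hy⟩ := h.2 (φ ≫ e.inv)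
    refine ⟨HHmap I e.hom y, ?_⟩
    rw [eta_nat, hy, Category.assoc, e.inv_hom_id, Category.comp_id]

/-- the five lemma for `η` -/
theorem eta_bijective_of_triangle (T : Triangle (Dual.D A)) (hT : T ∈ distTriang (Dual.D A))
    (h1 : Function.Surjective (eta I (T.obj₃⟦(-1 : ℤ)⟧)))
    (h2 : Function.Bijective (eta I T.obj₁))
    (h3 : Function.Bijective (eta I T.obj₃))
    (h4 : Function.Injective (eta I (T.obj₁⟦(1 : ℤ)⟧))) :
    Function.Bijective (eta I T.obj₂) := by
  have hT' := inv_rot_of_distTriang _ hT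
  have hT'' := rot_of_distTriang _ hT
  exact LinearMap.bijective_of_surjective_of_bijective_of_bijective_of_injective
    (HHmap I T.invRotate.mor₁) (HHmap I T.mor₁) (HHmap I T.mor₂) (HHmap I T.mor₃)
    (CCmap T.invRotate.mor₁) (CCmap T.mor₁) (CCmap T.mor₂) (CCmap T.mor₃)
    (eta I _) (eta I _) (eta I _) (eta I _) (eta I _)
    (CCmap_comp_eta I _) (CCmap_comp_eta I _) (CCmap_comp_eta I _) (CCmap_comp_eta I _)
    (HH_exact I _ hT') (HH_exact I _ hT) (HH_exact I _ hT'')
    (CC_exact _ hT') (CC_exact _ hT) (CC_exact _ hT'')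
    h1 h2 h3 h4

/-- the class of objects on which `η` is bijective in all degrees -/
def EtaBij (Y : Dual.D A) : Prop := ∀ j : ℤ, Function.Bijective (eta I (Y⟦j⟧))

theorem etaBij_thickLike : Groth.Agent.Helper11.DC.ThickLike (EtaBij I) where
  iso e h j := eta_bijective_of_iso I ((shiftFunctor (Dual.D A) j).mapIso e) (h j)
  shift K n h j :=
    eta_bijective_of_iso I ((shiftFunctorAdd' (Dual.D A) n j (n + j) rfl).app K) (h (n + j))
  ext T hT h1 h3 j := by
    refine eta_bijective_of_triangle I (shTri T j) (shTri_distinguished T hT j) ?_ (h1 j) (h3 j) ?_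
    · exact (eta_bijective_of_iso I
        ((shiftFunctorAdd' (Dual.D A) j (-1) (j - 1) (by omega)).app _) (h3 (j - 1))).2
    · exact (eta_bijective_of_iso I
        ((shiftFunctorAdd' (Dual.D A) j 1 (j + 1) (by omega)).app _) (h1 (j + 1))).1
  zero K hK j := by
    have hz : IsZero (K⟦j⟧) := (shiftFunctor (Dual.D A) j).map_isZero hK
    have := subsingleton_HH_of_isZero I _ hz
    constructor
    · intro x y _
      exact Subsingleton.elim x y
    · intro φ
      exact ⟨0, by rw [map_zero]; exact (hz.eq_of_tgt _ _)⟩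

end Groth.Agent.Helper8.LD
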