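import Groth.Agent.Lib.Helper8.LCTors
import Groth.Agent.S0301

/-!
# Local cohomology over Noetherian rings: torsion modules are acyclic (helper8)
-/

open CategoryTheory CategoryTheory.Limits Opposite Abelian
universe u

namespace Groth.Agent.Helper8.LC

variable {R : Type u} [CommRing R] (I : Ideal R) (i : ℕ)

section Embedding

/-- every module embeds into an injective module (same universe) -/
theorem exists_injective_embedding (N : Type u) [AddCommGroup N] [Module R N] :
    ∃ (E : Type u) (_ : AddCommGroup E) (_ : Module R E) (_ : Module.Injective R E)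
      (f : N →ₗ[R] E), Function.Injective f := by
  have ei : EnoughInjectives (ModuleCat.{u} R) := inferInstance
  obtain ⟨⟨E, hE, f, hf⟩⟩ := ei.presentation (ModuleCat.of R N)
  have : Injective (ModuleCat.of R E) := hE
  exact ⟨E, inferInstance, inferInstance, Module.injective_module_of_injective_object R E,
    f.hom, (ModuleCat.mono_iff_injective f).mp hf⟩

end Embedding

section Gam

variable (M : Type u) [AddCommGroup M] [Module R M]

theorem gam_eq_iSup :
    gam I M = ⨆ n : ℕ, Submodule.torsionBySet R M ((I ^ n : Ideal R) : Set R) := by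
  let c : ℕ →o Submodule R M :=
    { toFun := fun n => Submodule.torsionBySet R M ((I ^ n : Ideal R) : Set R)
      monotone' := by
        intro n m hnm x hx
        rw [Submodule.mem_torsionBySet_iff] at hx ⊢
        intro a
        exact hx ⟨a.1, Ideal.pow_le_pow_right hnm a.2⟩ }
  ext x
  rw [show (⨆ n : ℕ, Submodule.torsionBySet R M ((I ^ n : Ideal R) : Set R)) = ⨆ n, c n from rfl,
    Submodule.mem_iSup_of_chain c x, mem_gam]
  constructor
  · rintro ⟨n, hn⟩
    refine ⟨n, ?_⟩
    change x ∈ Submodule.torsionBySet R M ((I ^ n : Ideal R) : Set R)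
    rw [Submodule.mem_torsionBySet_iff]
    intro a
    exact hn a.1 a.2
  · rintro ⟨n, hn⟩
    refine ⟨n, fun a ha => ?_⟩
    change x ∈ Submodule.torsionBySet R M ((I ^ n : Ideal R) : Set R) at hn
    rw [Submodule.mem_torsionBySet_iff] at hn
    exact hn ⟨a, ha⟩

theorem injective_gam [IsNoetherianRing R] [Module.Injective R M] :
    Module.Injective R (gam I M) := by
  rw [gam_eq_iSup]
  exact Groth.Agent.S0301.result R M inferInstance I

end Gam

section Tors

/-- `I`-power torsion modules (same as `LocCoh.IsPowerTorsion`) -/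
def IsTors (M : Type u) [AddCommGroup M] [Module R M] : Prop :=
  ∀ m : M, ∃ n : ℕ, ∀ a ∈ I ^ n, a • m = 0

variable {M N : Type u} [AddCommGroup M] [Module R M] [AddCommGroup N] [Module R N]

theorem IsTors.gam_eq_top (h : IsTors I M) : gam I M = ⊤ :=
  eq_top_iff.mpr fun m _ => h m

theorem isTors_gam : IsTors I (gam I M) := by
  rintro ⟨m, n, hn⟩
  exact ⟨n, fun a ha => Subtype.ext (hn a ha)⟩

theorem IsTors.of_surjective (h : IsTors I M) {f : M →ₗ[R] N} (hf : Function.Surjective f) :
    IsTors I N := by
  intro y
  obtain ⟨x, rfl⟩ := hf y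
  obtain ⟨n, hn⟩ := h x
  exact ⟨n, fun a ha => by rw [← map_smul, hn a ha, map_zero]⟩

theorem IsTors.of_injective (h : IsTors I N) {f : M →ₗ[R] N} (hf : Function.Injective f) :
    IsTors I M := by
  intro x
  obtain ⟨n, hn⟩ := h (f x)
  exact ⟨n, fun a ha => hf (by rw [map_smul, hn a ha, map_zero])⟩

theorem IsTors.submodule (h : IsTors I M) (K : Submodule R M) : IsTors I K :=
  h.of_injective I K.injective_subtype

theorem IsTors.quotient (h : IsTors I M) (K : Submodule R M) : IsTors I (M ⧸ K) :=
  h.of_surjective I K.mkQ_surjective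

/-- for torsion `M`, `H⁰_I(M) ≃ M` -/
noncomputable def IsTors.H0Equiv (h : IsTors I M) : H I 0 M ≃ₗ[R] M :=
  (LC.H0Equiv I M).trans ((LinearEquiv.ofEq _ _ (h.gam_eq_top I)).trans Submodule.topEquiv)

theorem IsTors.H0Equiv_apply (h : IsTors I M) (x : H I 0 M) :
    h.H0Equiv I x = (LC.H0Equiv I M x : M) := rfl

theorem IsTors.Hmap_zero_surjective (h : IsTors I M) {g : M →ₗ[R] N}
    (hg : Function.Surjective g) : Function.Surjective (Hmap I 0 g) := by
  intro z
  obtain ⟨m, hm⟩ := hg (LC.H0Equiv I N z : N)
  refine ⟨(LC.H0Equiv I M).symm ⟨m, h m⟩, ?_⟩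
  rw [Hmap_H0Equiv_symm]
  apply (LC.H0Equiv I N).injective
  rw [LinearEquiv.apply_symm_apply]
  exact Subtype.ext hm

/-- every torsion module embeds into a torsion injective module (Noetherian case) -/
theorem IsTors.exists_injective_embedding [IsNoetherianRing R] (h : IsTors I M) :
    ∃ (E : Type u) (_ : AddCommGroup E) (_ : Module R E) (_ : Module.Injective R E)
      (_ : IsTors I E) (f : M →ₗ[R] E), Function.Injective f := by
  obtain ⟨E, _, _, _, f, hf⟩ := LC.exists_injective_embedding (R := R) M
  have := injective_gam I E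
  refine ⟨gam I E, inferInstance, inferInstance, inferInstance, isTors_gam I,
    f.codRestrict (gam I E) (fun m => ?_), fun x y hxy => hf (congrArg Subtype.val hxy)⟩
  obtain ⟨n, hn⟩ := h m
  exact ⟨n, fun a ha => by rw [← map_smul, hn a ha, map_zero]⟩

/-- torsion modules are acyclic for local cohomology (Noetherian case) -/
theorem IsTors.H_subsingleton [IsNoetherianRing R] :
    ∀ (i : ℕ), 0 < i → ∀ (M : Type u) [AddCommGroup M] [Module R M], IsTors I M →
      Subsingleton (H I i M) := by
  intro i
  induction i with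
  | zero => intro h; exact absurd h (lt_irrefl 0)
  | succ i ih =>
    intro _ M _ _ hM
    obtain ⟨E, _, _, _, hE, f, hf⟩ := hM.exists_injective_embedding I
    have hses := isSES_of_injective hf
    have hQ : IsTors I (E ⧸ LinearMap.range f) := hE.quotient I _
    have hE1 : Subsingleton (H I (i + 1) E) := H_subsingleton_of_injective I (i + 1) E (by omega)
    rcases Nat.eq_zero_or_pos i with rfl | hi
    · -- `H⁰(E) → H⁰(E/M)` is surjective, so `δ = 0`, and `δ` is surjective
      refine ⟨fun a b => ?_⟩
      have h0 : ∀ y : H I (0 + 1) M, y = 0 := by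
        intro y
        obtain ⟨z, rfl⟩ := hses.δ_surjective I 0 y
        obtain ⟨w, rfl⟩ := hE.Hmap_zero_surjective I (LinearMap.range f).mkQ_surjective z
        exact ((hses.exact_Hmap_δ I 0 _).mpr ⟨w, rfl⟩)
      rw [h0 a, h0 b]
    · have hQi : Subsingleton (H I i (E ⧸ LinearMap.range f)) := ih hi _ hQ
      exact hses.subsingleton_left_succ I i

end Tors

end Groth.Agent.Helper8.LC
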