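import Groth.Agent.Lib.Helper8.RFin3
import Groth.Agent.Lib.Helper8.HDI2
import Mathlib.Algebra.Homology.HomotopyCategory.HomComplexSingle

/-!
# The explicit model `Hom_A(B, J)` of `RHom_A(B, -)`, part 1: chain-level adjunction (helper8)
-/

set_option autoImplicit false

open CategoryTheory CategoryTheory.Limits

universe u

namespace Groth.Agent.Helper8.RMod

variable {A B : Type u} [CommRing A] [CommRing B] (φ : A →+* B)

/-- restriction of scalars on modules -/
noncomputable abbrev resF : ModuleCat.{u} B ⥤ ModuleCat.{u} A := ModuleCat.restrictScalars.{u} φ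

/-- coextension of scalars on modules -/
noncomputable abbrev coF : ModuleCat.{u} A ⥤ ModuleCat.{u} B := ModuleCat.coextendScalars.{u, u, u} φ

/-- the adjunction between them -/
noncomputable abbrev adjM : resF φ ⊣ coF φ := ModuleCat.restrictCoextendScalarsAdj.{u, u, u} φ

instance : (coF φ).Additive := (adjM φ).right_adjoint_additive

/-- restriction of scalars on complexes -/
noncomputable abbrev resC : DRing.Cx B ⥤ DRing.Cx A := (resF φ).mapHomologicalComplex (ComplexShape.up ℤ)

/-- coextension of scalars on complexes -/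
noncomputable abbrev coC : DRing.Cx A ⥤ DRing.Cx B := (coF φ).mapHomologicalComplex (ComplexShape.up ℤ)

/-- unit of the chain-level adjunction -/
noncomputable def unitC (T : DRing.Cx B) : T ⟶ (coC φ).obj ((resC φ).obj T) where
  f n := (adjM φ).unit.app (T.X n)
  comm' i j _ := ((adjM φ).unit.naturality (T.d i j)).symm

/-- counit of the chain-level adjunction -/
noncomputable def counitC (J : DRing.Cx A) : (resC φ).obj ((coC φ).obj J) ⟶ J where
  f n := (adjM φ).counit.app (J.X n)
  comm' i j _ := ((adjM φ).counit.naturality (J.d i j)).symm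

variable {φ}

/-- `B`-linear chain maps `T ⟶ Hom_A(B, J)` to `A`-linear chain maps `T ⟶ J` -/
noncomputable def toA {T : DRing.Cx B} {J : DRing.Cx A} (g : T ⟶ (coC φ).obj J) :
    (resC φ).obj T ⟶ J := (resC φ).map g ≫ counitC φ J

/-- `A`-linear chain maps `T ⟶ J` to `B`-linear chain maps `T ⟶ Hom_A(B, J)` -/
noncomputable def toB {T : DRing.Cx B} {J : DRing.Cx A} (h : (resC φ).obj T ⟶ J) :
    T ⟶ (coC φ).obj J := unitC φ T ≫ (coC φ).map h

theorem toB_toA {T : DRing.Cx B} {J : DRing.Cx A} (g : T ⟶ (coC φ).obj J) : toB (toA g) = g := by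
  ext n : 1
  show (adjM φ).unit.app (T.X n) ≫ (coF φ).map ((resF φ).map (g.f n) ≫
    (adjM φ).counit.app (J.X n)) = g.f n
  have h1 : ((adjM φ).homEquiv (T.X n) (J.X n)).symm (g.f n) =
      (resF φ).map (g.f n) ≫ (adjM φ).counit.app (J.X n) := (adjM φ).homEquiv_counit _ _ _
  have h2 := (adjM φ).homEquiv_unit (T.X n) (J.X n)
    ((resF φ).map (g.f n) ≫ (adjM φ).counit.app (J.X n))
  exact h2.symm.trans ((congrArg _ h1.symm).trans (Equiv.apply_symm_apply _ _))

theorem toA_toB {T : DRing.Cx B} {J : DRing.Cx A} (h : (resC φ).obj T ⟶ J) : toA (toB h) = h := by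
  ext n : 1
  show (resF φ).map ((adjM φ).unit.app (T.X n) ≫ (coF φ).map (h.f n)) ≫
    (adjM φ).counit.app (J.X n) = h.f n
  have h1 : ((adjM φ).homEquiv (T.X n) (J.X n)) (h.f n) =
      (adjM φ).unit.app (T.X n) ≫ (coF φ).map (h.f n) := (adjM φ).homEquiv_unit _ _ _
  have h2 := (adjM φ).homEquiv_counit (T.X n) (J.X n)
    ((adjM φ).unit.app (T.X n) ≫ (coF φ).map (h.f n))
  exact h2.symm.trans ((congrArg _ h1.symm).trans (Equiv.symm_apply_apply _ _))

theorem toB_zero {T : DRing.Cx B} {J : DRing.Cx A} :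
    toB (0 : (resC φ).obj T ⟶ J) = 0 := by
  unfold toB
  rw [Functor.map_zero, comp_zero]

/-- a null-homotopic adjunct has null-homotopic source -/
noncomputable def homotopyOfToA {T : DRing.Cx B} {J : DRing.Cx A} (g : T ⟶ (coC φ).obj J)
    (h : Homotopy (toA g) 0) : Homotopy g 0 := by
  have h1 : Homotopy ((coC φ).map (toA g)) ((coC φ).map 0) := (coF φ).mapHomotopy h
  have h2 := h1.compLeft (unitC φ T)
  have e1 : unitC φ T ≫ (coC φ).map (toA g) = g := toB_toA g
  have e2 : unitC φ T ≫ (coC φ).map (0 : (resC φ).obj T ⟶ J) = 0 := toB_zero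
  exact (Homotopy.ofEq e1.symm).trans (h2.trans (Homotopy.ofEq e2))

end Groth.Agent.Helper8.RMod
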