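import Groth.Agent.Lib.Helper8.DFin3
import Groth.Agent.Lib.Helper11.DCRestrict

set_option autoImplicit false
universe u

namespace Groth.Agent.Helper8.RFin

open CategoryTheory Abelian DerivedCategory Pretriangulated Limits

attribute [local instance] HasDerivedCategory.standard

variable {B : Type u} [CommRing B]

theorem homologyMap_smul_cx {K L : DRing.Cx B} (f : K ⟶ L) (b : B) (n : ℤ) :
    HomologicalComplex.homologyMap (b • f) n = b • HomologicalComplex.homologyMap f n := by
  unfold HomologicalComplex.homologyMap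
  have : (HomologicalComplex.shortComplexFunctor (ModuleCat.{u} B) (ComplexShape.up ℤ) n).map (b • f)
      = b • (HomologicalComplex.shortComplexFunctor (ModuleCat.{u} B) (ComplexShape.up ℤ) n).map f := by
    rfl
  rw [this, ShortComplex.homologyMap_smul]
  rfl

theorem homology_map_smul_id (Y : Dual.D B) (b : B) (n : ℤ) :
    (homologyFunctor (ModuleCat.{u} B) n).map (b • 𝟙 Y) =
      b • 𝟙 ((homologyFunctor (ModuleCat.{u} B) n).obj Y) := by
  let K' := Q.objPreimage Y
  let e : Q.obj K' ≅ Y := Q.objObjPreimageIso Y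
  have h1 : b • 𝟙 Y = e.inv ≫ Q.map (b • 𝟙 K') ≫ e.hom := by
    rw [Functor.map_smul, CategoryTheory.Functor.map_id, Linear.smul_comp, Linear.comp_smul,
      Category.id_comp, e.inv_hom_id]
  have h2 : (homologyFunctor (ModuleCat.{u} B) n).map (Q.map (b • 𝟙 K')) =
      b • 𝟙 _ := by
    have hn := (homologyFunctorFactors (ModuleCat.{u} B) n).hom.naturality (b • 𝟙 K')
    have h3 : (HomologicalComplex.homologyFunctor (ModuleCat.{u} B) (ComplexShape.up ℤ) n).map
        (b • 𝟙 K') = b • 𝟙 _ := by
      show HomologicalComplex.homologyMap (b • 𝟙 K') n = _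
      rw [homologyMap_smul_cx, HomologicalComplex.homologyMap_id]
      rfl
    rw [h3] at hn
    have h4 : (Q ⋙ homologyFunctor (ModuleCat.{u} B) n).map (b • 𝟙 K') =
        (homologyFunctorFactors (ModuleCat.{u} B) n).hom.app K' ≫ (b • 𝟙 _) ≫
          (homologyFunctorFactors (ModuleCat.{u} B) n).inv.app K' := by
      rw [← Category.assoc, ← hn, Category.assoc, Iso.hom_inv_id_app, Category.comp_id]
    show (Q ⋙ homologyFunctor (ModuleCat.{u} B) n).map (b • 𝟙 K') = _
    rw [h4, Linear.smul_comp, Linear.comp_smul, Category.id_comp, Iso.hom_inv_id_app]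
    rfl
  rw [h1, Functor.map_comp, Functor.map_comp, h2, Linear.smul_comp, Linear.comp_smul,
    Category.id_comp, ← Functor.map_comp, e.inv_hom_id, CategoryTheory.Functor.map_id]

theorem homology_map_smul {X Y : Dual.D B} (g : X ⟶ Y) (b : B) (n : ℤ) :
    (homologyFunctor (ModuleCat.{u} B) n).map (b • g) =
      b • (homologyFunctor (ModuleCat.{u} B) n).map g := by
  have h : b • g = g ≫ (b • 𝟙 Y) := by rw [Linear.comp_smul, Category.comp_id]
  rw [h, Functor.map_comp, homology_map_smul_id, Linear.comp_smul, Category.comp_id]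

end Groth.Agent.Helper8.RFin
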