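import Groth.Agent.Lib.Helper8.LD11
import Groth.Agent.Lib.Helper8.RFin1

/-!
# Local duality, part 12: `Hom(A[0], Y⟦j⟧) ≃ H^j(Y)` and local cohomology of free modules (helper8)
-/

set_option autoImplicit false

open CategoryTheory CategoryTheory.Limits Opposite Pretriangulated

universe u

namespace Groth.Agent.Helper8.LD

open DerivedCategory IsLocalRing

attribute [local instance] HasDerivedCategory.standard

section EvHom

variable {A : Type u} [CommRing A]

/-- the canonical element of `H⁰(A[0])` -/
noncomputable def uA : (homologyFunctor (ModuleCat.{u} A) 0).obj (Dual.inD A A) :=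
  (Groth.Agent.Helper11.DC.iota (ModuleCat.of A A)).inv.hom (1 : A)

/-- evaluation `Hom(A[0], Y) → H⁰(Y)` -/
noncomputable def evHom (Y : Dual.D A) :
    (Dual.inD A A ⟶ Y) →ₗ[A] (homologyFunctor (ModuleCat.{u} A) 0).obj Y where
  toFun φ := ((homologyFunctor (ModuleCat.{u} A) 0).map φ).hom uA
  map_add' φ φ' := by
    rw [Functor.map_add]
    rfl
  map_smul' a φ := by
    rw [Groth.Agent.Helper8.RFin.homology_map_smul]
    rfl

theorem evHom_apply (Y : Dual.D A) (φ : Dual.inD A A ⟶ Y) :
    evHom Y φ = ((homologyFunctor (ModuleCat.{u} A) 0).map φ).hom uA := rfl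

theorem evHom_comp {Y Y' : Dual.D A} (φ : Dual.inD A A ⟶ Y) (g : Y ⟶ Y') :
    evHom Y' (φ ≫ g) = ((homologyFunctor (ModuleCat.{u} A) 0).map g).hom (evHom Y φ) := by
  rw [evHom_apply, evHom_apply, Functor.map_comp]
  rfl

theorem evHom_bijective (Y : Dual.D A) : Function.Bijective (evHom Y) := by
  have hb := Groth.Agent.Helper11.DC.psi_bijective (ModuleCat.of A A) Y
  have hu : (Groth.Agent.Helper11.DC.iota (ModuleCat.of A A)).hom.hom uA = (1 : A) := by
    show (Groth.Agent.Helper11.DC.iota (ModuleCat.of A A)).hom.hom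
      ((Groth.Agent.Helper11.DC.iota (ModuleCat.of A A)).inv.hom (1 : A)) = 1
    rw [← LinearMap.comp_apply, ← ModuleCat.hom_comp, Iso.inv_hom_id]
    rfl
  -- a map out of `H⁰(A[0])` is determined by its value at `uA`
  have hdet : ∀ (P : ModuleCat.{u} A)
      (α β : (homologyFunctor (ModuleCat.{u} A) 0).obj (Dual.inD A A) ⟶ P),
      α.hom uA = β.hom uA → α = β := by
    intro P α β h
    rw [← cancel_epi (Groth.Agent.Helper11.DC.iota (ModuleCat.of A A)).inv]
    ext : 1
    apply LinearMap.ext_ring
    exact h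
  constructor
  · intro φ φ' h
    apply hb.1
    exact hdet _ _ _ h
  · intro y
    obtain ⟨φ, hφ⟩ := hb.2 ((Groth.Agent.Helper11.DC.iota (ModuleCat.of A A)).hom ≫
      ModuleCat.ofHom (LinearMap.toSpanSingleton A _ y))
    refine ⟨φ, ?_⟩
    have hφ' : (homologyFunctor (ModuleCat.{u} A) 0).map φ = _ := hφ
    rw [evHom_apply, hφ']
    show (LinearMap.toSpanSingleton A _ y)
      ((Groth.Agent.Helper11.DC.iota (ModuleCat.of A A)).hom.hom uA) = y
    rw [hu, LinearMap.toSpanSingleton_apply, one_smul]

/-- `Hom(A[0], Y⟦j⟧) ≃ H^j(Y)` -/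
noncomputable def homSelfEquiv (Y : Dual.D A) (j : ℤ) :
    (Dual.inD A A ⟶ Y⟦j⟧) ≃ₗ[A] Dual.HD A Y j :=
  (LinearEquiv.ofBijective (evHom (Y⟦j⟧)) (evHom_bijective _)).trans
    (Groth.Agent.Helper11.DC.sigma Y j).toLinearEquiv

end EvHom


section Ann

variable {A : Type u} [CommRing A] [IsLocalRing A] [IsNoetherianRing A] (ω : Dual.D A)
  (hω : Dual.IsDualizing A ω) (hn : Dual.IsNormalized A ω)

include hω hn in
theorem annihilator_HD_eq (s : ℕ) :
    Module.annihilator A (Dual.HD A ω (-(s : ℤ))) =
      Module.annihilator A (LocCoh.H (maximalIdeal A) s A) := by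
  rw [← annihilator_hom_eq ω hω hn A s]
  exact (homSelfEquiv ω (-(s : ℤ))).symm.annihilator_eq

end Ann

section Free

open Groth.Agent.Helper8.LC

variable {R : Type u} [CommRing R] (I : Ideal R) (i : ℕ)

theorem Hmap_sum {M N : Type u} [AddCommGroup M] [Module R M] [AddCommGroup N] [Module R N]
    {ι : Type*} (s : Finset ι) (g : ι → (M →ₗ[R] N)) :
    Hmap I i (∑ k ∈ s, g k) = ∑ k ∈ s, Hmap I i (g k) := by
  classical
  induction s using Finset.induction_on with
  | empty => simp [Hmap_zero]
  | insert a s ha ih => rw [Finset.sum_insert ha, Finset.sum_insert ha, Hmap_add, ih]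

/-- local cohomology of a finite free module is killed by the annihilator of `H^i_I(R)` -/
theorem annihilator_H_self_le (L : Type u) [AddCommGroup L] [Module R L] [Module.Free R L]
    [Module.Finite R L] :
    Module.annihilator R (H I i R) ≤ Module.annihilator R (H I i L) := by
  classical
  intro a ha
  rw [Module.mem_annihilator] at ha ⊢
  intro x
  let b := Module.Free.chooseBasis R L
  have hid : (LinearMap.id : L →ₗ[R] L) =
      ∑ k, (LinearMap.toSpanSingleton R L (b k)) ∘ₗ (b.coord k) := by
    apply b.ext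
    intro j
    rw [LinearMap.id_apply, LinearMap.sum_apply]
    simp only [LinearMap.comp_apply, Module.Basis.coord_apply, Module.Basis.repr_self,
      LinearMap.toSpanSingleton_apply]
    rw [Finset.sum_eq_single j]
    · simp
    · intro k _ hk
      rw [Finsupp.single_eq_of_ne hk, zero_smul]
    · intro h
      exact absurd (Finset.mem_univ j) h
  have hx : x = ∑ k, Hmap I i (LinearMap.toSpanSingleton R L (b k)) (Hmap I i (b.coord k) x) := by
    conv_lhs => rw [← LinearMap.id_apply (R := R) x, ← Hmap_id I i, hid, Hmap_sum,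
      LinearMap.sum_apply]
    refine Finset.sum_congr rfl fun k _ => ?_
    rw [Hmap_comp_apply]
  rw [hx, Finset.smul_sum]
  refine Finset.sum_eq_zero fun k _ => ?_
  rw [← map_smul, ha, map_zero]

end Free

end Groth.Agent.Helper8.LD
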