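import Groth.Agent.Lib.Helper8.Canon10

/-!
# Endomorphisms of a canonical module modulo a regular element (helper8)
-/

set_option autoImplicit false
universe u

namespace Groth.Agent.Helper8.Canon

open TensorProduct IsLocalRing CategoryTheory Groth.Agent.Helper8 Groth.Agent.Helper8.LC
open scoped Pointwise

section General

variable {R : Type u} [CommRing R] {M N P : Type u} [AddCommGroup M] [Module R M]
  [AddCommGroup N] [Module R N] [AddCommGroup P] [Module R P] {f : M →ₗ[R] N} {g : N →ₗ[R] P}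

/-- lifting along a surjection when `Ext¹` into the kernel vanishes -/
theorem exists_lift_of_ext_one (hS : IsSES f g) (X : Type u) [AddCommGroup X] [Module R X]
    (h : Subsingleton (Abelian.Ext (ModuleCat.of R X) (ModuleCat.of R M) 1)) (φ : X →ₗ[R] P) :
    ∃ ψ : X →ₗ[R] N, g ∘ₗ ψ = φ := by
  have hSE := hS.shortExact
  let x₃ : Abelian.Ext (ModuleCat.of R X) hS.sc.X₃ 0 := Abelian.Ext.mk₀ (ModuleCat.ofHom φ)
  have h0 : x₃.comp hSE.extClass (rfl : 0 + 1 = 0 + 1) = 0 := h.elim _ _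
  obtain ⟨x₂, hx₂⟩ := Abelian.Ext.covariant_sequence_exact₃ _ hSE x₃ rfl h0
  obtain ⟨ψ, rfl⟩ := (Abelian.Ext.mk₀_bijective _ _).2 x₂
  rw [Abelian.Ext.mk₀_comp_mk₀] at hx₂
  have h3 := (Abelian.Ext.mk₀_bijective _ _).1 hx₂
  refine ⟨ψ.hom, ?_⟩
  have h4 := congrArg ModuleCat.Hom.hom h3
  exact h4

/-- division by a regular element -/
theorem exists_eq_smul_of_forall_mem {K : Type u} [AddCommGroup K] [Module R K] (a : R)
    (ha : IsSMulRegular K a) (g : K →ₗ[R] K) (hg : ∀ x, g x ∈ a • (⊤ : Submodule R K)) :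
    ∃ g' : K →ₗ[R] K, g = a • g' := by
  have hinj : Function.Injective (a • (LinearMap.id : K →ₗ[R] K)) := ha
  let e := LinearEquiv.ofInjective (a • (LinearMap.id : K →ₗ[R] K)) hinj
  have hmem : ∀ x, g x ∈ LinearMap.range (a • (LinearMap.id : K →ₗ[R] K)) := by
    intro x
    obtain ⟨y, -, hy⟩ := (Submodule.mem_smul_pointwise_iff_exists _ _ _).mp (hg x)
    exact ⟨y, hy⟩
  refine ⟨e.symm.toLinearMap ∘ₗ g.codRestrict _ hmem, ?_⟩
  refine LinearMap.ext fun x => ?_
  have h1 : (e (e.symm (g.codRestrict _ hmem x)) : K) = g x := by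
    rw [LinearEquiv.apply_symm_apply]; rfl
  rw [← h1]
  rfl

end General

section Canon

variable {R : Type u} [CommRing R] [hCM : LocCoh.IsCohenMacaulayLocalRing R] {n : ℕ}
  {E : Type u} [AddCommGroup E] [Module R E] {f : ResidueField R →ₗ[R] E}
  {K : Type u} [AddCommGroup K] [Module R K] [Module.Finite R K]

theorem isSMulRegular_canon_of_regular (hn : ringKrullDim R = n) (hf : InjHull.IsInjectiveHull f)
    (eK : (K →ₗ[R] E) ≃ₗ[R] H (maximalIdeal R) n R) (a : R) (ha : a ∈ maximalIdeal R)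
    (hreg : IsSMulRegular R a) : IsSMulRegular K a := by
  have h1 : RingTheory.Sequence.IsWeaklyRegular R [a] := by
    rw [RingTheory.Sequence.isWeaklyRegular_cons_iff]
    exact ⟨hreg, RingTheory.Sequence.IsWeaklyRegular.nil _ _⟩
  have h2 := (canon_of_isWeaklyRegular hn hf eK [a] (by simpa using ha) h1).1
  rw [RingTheory.Sequence.isWeaklyRegular_cons_iff] at h2
  exact h2.1

omit [Module.Finite R K] in
theorem one_le_dim_of_regular (hn : ringKrullDim R = n) (a : R) (ha : a ∈ maximalIdeal R)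
    (hreg : IsSMulRegular R a) : 1 ≤ n := by
  have h1 : RingTheory.Sequence.IsWeaklyRegular R [a] := by
    rw [RingTheory.Sequence.isWeaklyRegular_cons_iff]
    exact ⟨hreg, RingTheory.Sequence.IsWeaklyRegular.nil _ _⟩
  exact length_le_of_isWeaklyRegular hn [a] (by simpa using ha) h1

theorem ext_one_self_subsingleton (hn : ringKrullDim R = n) (hf : InjHull.IsInjectiveHull f)
    (eK : (K →ₗ[R] E) ≃ₗ[R] H (maximalIdeal R) n R) (hpos : 1 ≤ n) :
    Subsingleton (Abelian.Ext (ModuleCat.of R K) (ModuleCat.of R K) 1) := by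
  obtain ⟨e⟩ := local_duality_aux hn hf eK 1 (n - 1) (by omega) K
  have h0 : Subsingleton (H (maximalIdeal R) (n - 1) K) :=
    H_subsingleton_of_lt_depth K n (depth_canon hn hf eK) (n - 1) (by omega)
  have h1 : Subsingleton (Abelian.Ext (ModuleCat.of R K) (ModuleCat.of R K) 1 →ₗ[R] E) :=
    e.symm.toEquiv.subsingleton
  exact subsingleton_of_dual_subsingleton hf _ h1

theorem end_quotient_lift (hn : ringKrullDim R = n) (hf : InjHull.IsInjectiveHull f)
    (eK : (K →ₗ[R] E) ≃ₗ[R] H (maximalIdeal R) n R) (a : R) (ha : a ∈ maximalIdeal R)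
    (hreg : IsSMulRegular R a)
    (ψ : (K ⧸ (a • (⊤ : Submodule R K))) →ₗ[R] (K ⧸ (a • (⊤ : Submodule R K)))) :
    ∃ g : K →ₗ[R] K, ∀ x : K, ψ (Submodule.Quotient.mk x) = Submodule.Quotient.mk (g x) := by
  have hK := isSMulRegular_canon_of_regular hn hf eK a ha hreg
  have hpos := one_le_dim_of_regular hn a ha hreg
  have hS := isSES_smul K hK
  obtain ⟨g, hg⟩ := exists_lift_of_ext_one hS K (ext_one_self_subsingleton hn hf eK hpos)
    (ψ ∘ₗ (a • (⊤ : Submodule R K)).mkQ)
  refine ⟨g, fun x => ?_⟩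
  exact (LinearMap.congr_fun hg x).symm

end Canon

end Groth.Agent.Helper8.Canon
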