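import Groth.Agent.Lib.Helper8.Gor7

/-!
# `Ext(-, R)` on finite length modules over a Gorenstein local ring (helper8)
-/

set_option autoImplicit false
universe u

namespace Groth.Agent.Helper8.Gor

open IsLocalRing CategoryTheory Abelian Groth.Agent.Helper8 Groth.Agent.Helper8.LC
  Groth.Agent.Helper8.Canon
open scoped Pointwise

variable {R : Type u} [CommRing R] [hG : LocCoh.IsGorensteinLocalRing R] {n : ℕ}

theorem gorenstein_ext_facts (hn : ringKrullDim R = n) :
    (∀ i : ℕ, i ≠ n →
      Subsingleton (Ext (ModuleCat.of R (ResidueField R)) (ModuleCat.of R R) i)) ∧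
    Module.length R (Ext (ModuleCat.of R (ResidueField R)) (ModuleCat.of R R) n) = 1 := by
  haveI hCM := Groth.Agent.Lead.Depth.isCohenMacaulayLocalRing_of_isGorensteinLocalRing R
  have hhi' : ∀ i : ℕ, n + 1 ≤ i →
      Subsingleton (Ext (ModuleCat.of R (ResidueField R)) (ModuleCat.of R R) i) := fun i hi =>
    Groth.Agent.Lead.Depth.gorenstein_ext_residueField_subsingleton (R := R) n hn i hi
  have hlo : ∀ i < n, Subsingleton (Ext (ModuleCat.of R (ResidueField R)) (ModuleCat.of R R) i) :=
    (Groth.Agent.Lead.Depth.le_idealDepth_iff_ext (maximalIdeal R) R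
      (maximalIdeal_smul_top_ne_top (R := R) (M := R)) n).mp (depth_eq_of_CM hn).ge
  refine ⟨fun i hi => ?_, ?_⟩
  · rcases lt_or_gt_of_ne hi with h | h
    · exact hlo i h
    · exact hhi' i h
  · obtain ⟨E, _, _, f, hf⟩ := Groth.Agent.Helper1.exists_injectiveHull (R := R) (ResidueField R)
    obtain ⟨rs, hlen, hreg, hmem⟩ := Groth.Agent.Lead.Depth.exists_of_le_idealDepth
      (maximalIdeal R) R (maximalIdeal_smul_top_ne_top (R := R) (M := R)) n (depth_eq_of_CM hn).ge
    obtain ⟨hfl, hnt, -, -⟩ := quotient_facts hn hf rs hlen hreg hmem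
    have hsoc := length_torsion_quotient_eq_one hn (hhi' (n + 1) le_rfl) rs hlen hreg hmem hfl hnt
    have hkillk : ∀ r ∈ rs, ∀ y : ResidueField R, r • y = 0 := fun r hr y =>
      Matlis.residue_smul_eq_zero r (hmem r hr) y
    obtain ⟨ek⟩ := rees rs R (ResidueField R) hreg hkillk (by rw [hlen]; exact hlo)
    rw [hlen] at ek
    rw [ek.length_eq]
    exact ((homQuotEquivTorsion (maximalIdeal R) _).length_eq).trans hsoc

theorem gorenstein_ext_finiteLength (hn : ringKrullDim R = n) (M : Type u) [AddCommGroup M]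
    [Module R M] (hM : IsFiniteLength R M) :
    (∀ i : ℕ, i ≠ n → Subsingleton (Ext (ModuleCat.of R M) (ModuleCat.of R R) i)) ∧
    Module.length R (Ext (ModuleCat.of R M) (ModuleCat.of R R) n) = Module.length R M := by
  obtain ⟨h1, h2⟩ := gorenstein_ext_facts (R := R) hn
  refine ⟨fun i hi => ext_subsingleton_of_isFiniteLength _ i (h1 i hi) M hM, ?_⟩
  rw [length_ext_eq_mul (ModuleCat.of R R) n
    (fun N _ _ hN i hi => ext_subsingleton_of_isFiniteLength _ i (h1 i (Nat.ne_of_lt hi)) N hN)
    (fun N _ _ hN => ext_subsingleton_of_isFiniteLength _ (n + 1)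
      (h1 (n + 1) (Nat.succ_ne_self n)) N hN) M hM, h2, mul_one]

end Groth.Agent.Helper8.Gor
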