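import Mathlib

/-!
# Bridge between the old `Ext` (left derived functors of `linearYoneda`) and `Abelian.Ext`
for module categories (helper8)

`extEquiv X Y n : ((Ext R (ModuleCat R) n).obj (op X)).obj Y ≃ₗ[R] Abelian.Ext X Y n`, natural in both
variables.
-/

open CategoryTheory CategoryTheory.Limits Opposite CochainComplex HomComplex Abelian
universe u v w

namespace Groth.Agent.Helper8.LC

section unop
variable {ι : Type*} {V : Type*} [Category V] {c : ComplexShape ι} [HasZeroMorphisms V]

/-- naturality of `homologyUnop` -/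
theorem homologyUnop_hom_naturality {K L : HomologicalComplex Vᵒᵖ c} (φ : K ⟶ L) (i : ι)
    [K.HasHomology i] [L.HasHomology i] :
    HomologicalComplex.homologyMap ((HomologicalComplex.unopFunctor V c).map φ.op) i ≫
      (K.homologyUnop i).hom =
    (L.homologyUnop i).hom ≫ (HomologicalComplex.homologyMap φ i).unop := by
  have := HomologicalComplex.homologyOp_hom_naturality
    ((HomologicalComplex.unopFunctor V c).map φ.op) i
  have h2 := congrArg Quiver.Hom.unop this
  exact h2.symm

end unop

section zero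
variable {C : Type u} [Category.{v} C] [Abelian C] [HasExt.{w} C]
  {X Y : C} (R : ProjectiveResolution X)

theorem extMk_zero_iff (f : R.complex.X 0 ⟶ Y) (hf : R.complex.d 1 0 ≫ f = 0) :
    R.extMk f 1 rfl hf = 0 ↔ f = 0 := by
  simp only [← R.extEquivCohomologyClass.apply_eq_iff_eq,
    ProjectiveResolution.extEquivCohomologyClass_extMk,
    ProjectiveResolution.extEquivCohomologyClass_zero,
    CohomologyClass.mk_eq_zero_iff]
  rw [Cocycle.toSingleMk_mem_coboundaries_iff _ _ _ _ _ 1 (by lia)]
  constructor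
  · rintro ⟨g, hg⟩
    have hz : IsZero (R.cochainComplex.X 1) :=
      CochainComplex.isZero_of_isStrictlyLE R.cochainComplex 0 1 (by lia)
    have hg0 : g = 0 := hz.eq_of_src g 0
    rw [hg0, comp_zero] at hg
    rw [← cancel_epi (R.cochainComplexXIso (-(0 : ℕ)) 0 rfl).hom, comp_zero]
    exact hg.symm
  · rintro rfl
    exact ⟨0, by simp⟩

theorem extMk_congr {n : ℕ} {f f' : R.complex.X n ⟶ Y} (h : f = f') (m : ℕ) (hm : n + 1 = m)
    (hf : R.complex.d m n ≫ f = 0) :
    R.extMk f m hm hf = R.extMk f' m hm (h ▸ hf) := by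
  subst h; rfl

end zero

section general
variable {R : Type u} [CommRing R] (K : CochainComplex (ModuleCat.{u} R) ℕ)

/-- elements killed by `d` lift to cycles -/
theorem exists_cycle (n : ℕ) (x : K.X n) (hx : (K.d n (n + 1)).hom x = 0) :
    ∃ z : K.cycles n, (K.iCycles n).hom z = x := by
  let k : ModuleCat.of R R ⟶ K.X n := ModuleCat.ofHom (LinearMap.toSpanSingleton R _ x)
  have hk : k ≫ K.d n (n + 1) = 0 := by
    ext
    simp [k, hx]
  refine ⟨(K.liftCycles k (n + 1) (by simp) hk).hom (1 : R), ?_⟩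
  have := K.liftCycles_i k (n + 1) (by simp) hk
  have h2 : ((K.liftCycles k (n + 1) (by simp) hk ≫ K.iCycles n).hom (1 : R)) = k.hom 1 := by
    rw [this]
  rw [ModuleCat.hom_comp, LinearMap.comp_apply] at h2
  rw [h2]
  simp [k]

theorem iCycles_injective (n : ℕ) : Function.Injective (K.iCycles n).hom :=
  (ModuleCat.mono_iff_injective _).1 inferInstance

theorem homologyπ_surjective (n : ℕ) : Function.Surjective (K.homologyπ n).hom :=
  (ModuleCat.epi_iff_surjective _).1 inferInstance

theorem iCycles_toCycles (i n : ℕ) (y : K.X i) :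
    (K.iCycles n).hom ((K.toCycles i n).hom y) = (K.d i n).hom y := by
  have := K.toCycles_i i n
  exact congrArg (fun f => f.hom y) this

/-- a cycle is a boundary iff its class vanishes -/
theorem homologyπ_eq_zero_iff (i n : ℕ) (hi : (ComplexShape.up ℕ).prev n = i) (z : K.cycles n) :
    (K.homologyπ n).hom z = 0 ↔ ∃ y : K.X i, (K.toCycles i n).hom y = z := by
  have hex : (ShortComplex.mk (K.toCycles i n) (K.homologyπ n)
      (K.toCycles_comp_homologyπ i n)).Exact :=
    ShortComplex.exact_of_g_is_cokernel _ (K.homologyIsCokernel i n hi)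
  rw [ShortComplex.moduleCat_exact_iff] at hex
  constructor
  · intro h
    obtain ⟨y, hy⟩ := hex z h
    exact ⟨y, hy⟩
  · rintro ⟨y, rfl⟩
    have := K.toCycles_comp_homologyπ i n
    exact congrArg (fun f => f.hom y) this

end general

variable {R : Type u} [CommRing R] {X : ModuleCat.{u} R} (P : ProjectiveResolution X)
  (Y : ModuleCat.{u} R)

/-- the cochain complex `Hom(P, Y)` -/
noncomputable abbrev homCx : CochainComplex (ModuleCat.{u} R) ℕ := P.complex.linearYonedaObj R Y

/-- an element of `Hom(P,Y)^n` as a morphism -/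
def toHom {n : ℕ} (x : (homCx P Y).X n) : P.complex.X n ⟶ Y := x

/-- a morphism as an element of `Hom(P,Y)^n` -/
def ofHom' {n : ℕ} (f : P.complex.X n ⟶ Y) : (homCx P Y).X n := f

@[simp] theorem toHom_ofHom' {n : ℕ} (f : P.complex.X n ⟶ Y) : toHom P Y (ofHom' P Y f) = f := rfl
@[simp] theorem ofHom'_toHom {n : ℕ} (x : (homCx P Y).X n) : ofHom' P Y (toHom P Y x) = x := rfl
@[simp] theorem toHom_add {n : ℕ} (x y : (homCx P Y).X n) :
    toHom P Y (x + y) = toHom P Y x + toHom P Y y := rfl
@[simp] theorem toHom_zero {n : ℕ} : toHom P Y (0 : (homCx P Y).X n) = 0 := rfl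
@[simp] theorem toHom_smul {n : ℕ} (r : R) (x : (homCx P Y).X n) :
    toHom P Y (r • x) = r • toHom P Y x := rfl

theorem toHom_injective {n : ℕ} : Function.Injective (toHom P Y (n := n)) := fun _ _ h => h

theorem d_apply {n m : ℕ} (x : (homCx P Y).X n) :
    toHom P Y (((homCx P Y).d n m).hom x) = P.complex.d m n ≫ toHom P Y x := by
  simp [toHom, homCx]
  rfl

theorem cyc_cond (n : ℕ) (z : (homCx P Y).cycles n) :
    P.complex.d (n + 1) n ≫ toHom P Y (((homCx P Y).iCycles n).hom z) = 0 := by
  rw [← d_apply]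
  have := (homCx P Y).iCycles_d n (n + 1)
  have h2 := congrArg (fun f => f.hom z) this
  simp only [ModuleCat.hom_comp, LinearMap.comp_apply] at h2
  rw [h2]
  rfl

theorem smul_extMk {n : ℕ} (r : R) (f : P.complex.X n ⟶ Y) (m : ℕ) (hm : n + 1 = m)
    (hf : P.complex.d m n ≫ f = 0) :
    r • P.extMk f m hm hf = P.extMk (r • f) m hm (by simp [hf]) := by
  rw [Abelian.Ext.smul_eq_comp_mk₀, ProjectiveResolution.extMk_comp_mk₀]
  apply extMk_congr
  simp

/-- the linear map from cycles to `Ext` -/
noncomputable def cycToExt (n : ℕ) : (homCx P Y).cycles n →ₗ[R] Abelian.Ext X Y n where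
  toFun z := P.extMk (toHom P Y (((homCx P Y).iCycles n).hom z)) (n + 1) rfl (cyc_cond P Y n z)
  map_add' z w := by
    rw [ProjectiveResolution.add_extMk]
    apply extMk_congr
    simp
  map_smul' r z := by
    simp only [RingHom.id_apply]
    rw [smul_extMk]
    apply extMk_congr
    simp

theorem cycToExt_apply (n : ℕ) (z : (homCx P Y).cycles n) :
    cycToExt P Y n z =
      P.extMk (toHom P Y (((homCx P Y).iCycles n).hom z)) (n + 1) rfl (cyc_cond P Y n z) := rfl

theorem cycToExt_surjective (n : ℕ) : Function.Surjective (cycToExt P Y n) := by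
  intro α
  obtain ⟨f, hf, rfl⟩ := P.extMk_surjective α (n + 1) rfl
  have hx : ((homCx P Y).d n (n + 1)).hom (ofHom' P Y f) = 0 := by
    apply toHom_injective
    rw [d_apply]
    simpa using hf
  obtain ⟨z, hz⟩ := exists_cycle (homCx P Y) n (ofHom' P Y f) hx
  refine ⟨z, ?_⟩
  rw [cycToExt_apply]
  apply extMk_congr
  rw [hz]
  rfl

theorem cycToExt_eq_zero_iff (n : ℕ) (z : (homCx P Y).cycles n) :
    cycToExt P Y n z = 0 ↔
      ∃ y : (homCx P Y).X (n - 1), ((homCx P Y).toCycles (n - 1) n).hom y = z := by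
  rw [cycToExt_apply]
  cases n with
  | zero =>
    rw [extMk_zero_iff]
    have h0 : (homCx P Y).toCycles (0 - 1) 0 = 0 :=
      (homCx P Y).toCycles_eq_zero (by simp)
    constructor
    · intro h
      refine ⟨0, ?_⟩
      apply iCycles_injective
      rw [map_zero, map_zero]
      exact (toHom_injective P Y h).symm
    · rintro ⟨y, rfl⟩
      rw [h0]
      simp
  | succ m =>
    rw [P.extMk_eq_zero_iff _ (m + 1 + 1) rfl _ m rfl]
    constructor
    · rintro ⟨g, hg⟩
      refine ⟨ofHom' P Y g, ?_⟩
      apply iCycles_injective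
      rw [iCycles_toCycles]
      apply toHom_injective
      rw [d_apply]
      exact hg
    · rintro ⟨y, rfl⟩
      refine ⟨toHom P Y y, ?_⟩
      rw [iCycles_toCycles, d_apply]
      rfl

theorem prev_eq (n : ℕ) : (ComplexShape.up ℕ).prev n = n - 1 := by
  cases n with
  | zero => simp
  | succ m => simp

/-- `cycToExt` kills boundaries -/
theorem toCycles_comp_cycToExt (n : ℕ) :
    (homCx P Y).toCycles (n - 1) n ≫ ModuleCat.ofHom (cycToExt P Y n) = 0 := by
  ext y
  change cycToExt P Y n (((homCx P Y).toCycles (n - 1) n).hom y) = 0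
  rw [cycToExt_eq_zero_iff]
  exact ⟨y, rfl⟩

/-- the map from homology to `Ext` -/
noncomputable def homologyToExt (n : ℕ) :
    (homCx P Y).homology n ⟶ ModuleCat.of R (Abelian.Ext X Y n) :=
  ((homCx P Y).homologyIsCokernel (n - 1) n (prev_eq n)).desc
    (CokernelCofork.ofπ (ModuleCat.ofHom (cycToExt P Y n)) (toCycles_comp_cycToExt P Y n))

theorem π_homologyToExt (n : ℕ) :
    (homCx P Y).homologyπ n ≫ homologyToExt P Y n = ModuleCat.ofHom (cycToExt P Y n) :=
  ((homCx P Y).homologyIsCokernel (n - 1) n (prev_eq n)).fac _ WalkingParallelPair.one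

theorem homologyToExt_π_apply (n : ℕ) (z : (homCx P Y).cycles n) :
    (homologyToExt P Y n).hom (((homCx P Y).homologyπ n).hom z) = cycToExt P Y n z := by
  have := π_homologyToExt P Y n
  exact congrArg (fun f => f.hom z) this

theorem homologyToExt_bijective (n : ℕ) : Function.Bijective (homologyToExt P Y n).hom := by
  constructor
  · rw [injective_iff_map_eq_zero]
    intro h hh
    obtain ⟨z, rfl⟩ := homologyπ_surjective (homCx P Y) n h
    rw [homologyToExt_π_apply, cycToExt_eq_zero_iff] at hh
    rw [homologyπ_eq_zero_iff _ (n - 1) n (prev_eq n)]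
    exact hh
  · intro α
    obtain ⟨z, rfl⟩ := cycToExt_surjective P Y n α
    exact ⟨_, homologyToExt_π_apply P Y n z⟩

/-- homology of `Hom(P,Y)` is `Ext` -/
noncomputable def homologyEquiv (n : ℕ) : (homCx P Y).homology n ≃ₗ[R] Abelian.Ext X Y n :=
  LinearEquiv.ofBijective (homologyToExt P Y n).hom (homologyToExt_bijective P Y n)

theorem homologyEquiv_π_apply (n : ℕ) (z : (homCx P Y).cycles n) :
    homologyEquiv P Y n (((homCx P Y).homologyπ n).hom z) = cycToExt P Y n z :=
  homologyToExt_π_apply P Y n z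


section nat


variable {R : Type u} [CommRing R] {X X' : ModuleCat.{u} R} (P : ProjectiveResolution X)
  (P' : ProjectiveResolution X') (Y Y' : ModuleCat.{u} R)

/-- the functor `Hom(-, Y)` with values in the opposite category -/
noncomputable abbrev FY : ModuleCat.{u} R ⥤ (ModuleCat.{u} R)ᵒᵖ :=
  ((linearYoneda R (ModuleCat.{u} R)).obj Y).rightOp

/-- precomposition with a chain map -/
noncomputable def homCxPre (φ : P'.complex ⟶ P.complex) : homCx P Y ⟶ homCx P' Y :=
  (HomologicalComplex.unopFunctor _ _).map (((FY Y).mapHomologicalComplex _).map φ).op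

theorem homCxPre_f (φ : P'.complex ⟶ P.complex) (n : ℕ) (x : (homCx P Y).X n) :
    toHom P' Y (((homCxPre P P' Y φ).f n).hom x) = φ.f n ≫ toHom P Y x := by
  rfl

variable {Y Y'}

/-- the natural transformation `Hom(-,Y') ⟶ Hom(-,Y)` in the opposite category -/
noncomputable abbrev αg (g : Y ⟶ Y') : FY Y' ⟶ FY Y :=
  NatTrans.rightOp ((linearYoneda R (ModuleCat.{u} R)).map g)

/-- postcomposition -/
noncomputable def homCxMap (g : Y ⟶ Y') : homCx P Y ⟶ homCx P Y' :=
  (HomologicalComplex.unopFunctor _ _).map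
    ((NatTrans.mapHomologicalComplex (αg g) _).app P.complex).op

theorem homCxMap_f (g : Y ⟶ Y') (n : ℕ) (x : (homCx P Y).X n) :
    toHom P Y' (((homCxMap P g).f n).hom x) = toHom P Y x ≫ g := by
  rfl


end nat

section nat2


variable {R : Type u} [CommRing R] {X X' : ModuleCat.{u} R} (P : ProjectiveResolution X)
  (P' : ProjectiveResolution X') {Y Y' : ModuleCat.{u} R}

theorem iCycles_cyclesMap {K L : CochainComplex (ModuleCat.{u} R) ℕ} (φ : K ⟶ L) (n : ℕ)
    (z : K.cycles n) :
    (L.iCycles n).hom ((HomologicalComplex.cyclesMap φ n).hom z) = (φ.f n).hom ((K.iCycles n).hom z) := by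
  have := HomologicalComplex.cyclesMap_i φ n
  exact congrArg (fun f => f.hom z) this

theorem homologyMap_π {K L : CochainComplex (ModuleCat.{u} R) ℕ} (φ : K ⟶ L) (n : ℕ)
    (z : K.cycles n) :
    (HomologicalComplex.homologyMap φ n).hom ((K.homologyπ n).hom z) =
      (L.homologyπ n).hom ((HomologicalComplex.cyclesMap φ n).hom z) := by
  have := HomologicalComplex.homologyπ_naturality φ n
  exact congrArg (fun f => f.hom z) this

theorem homologyEquiv_naturality_right (g : Y ⟶ Y') (n : ℕ) (h : (homCx P Y).homology n) :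
    homologyEquiv P Y' n ((HomologicalComplex.homologyMap (homCxMap P g) n).hom h) =
      (homologyEquiv P Y n h).comp (Abelian.Ext.mk₀ g) (add_zero n) := by
  obtain ⟨z, rfl⟩ := homologyπ_surjective (homCx P Y) n h
  rw [homologyMap_π, homologyEquiv_π_apply, homologyEquiv_π_apply, cycToExt_apply, cycToExt_apply,
    ProjectiveResolution.extMk_comp_mk₀]
  apply extMk_congr
  rw [iCycles_cyclesMap, homCxMap_f]

theorem homologyEquiv_naturality_left {f : X' ⟶ X} (φ : ProjectiveResolution.Hom P' P f)
    (Y : ModuleCat.{u} R) (n : ℕ) (h : (homCx P Y).homology n) :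
    homologyEquiv P' Y n ((HomologicalComplex.homologyMap (homCxPre P P' Y φ.hom) n).hom h) =
      (Abelian.Ext.mk₀ f).comp (homologyEquiv P Y n h) (zero_add n) := by
  obtain ⟨z, rfl⟩ := homologyπ_surjective (homCx P Y) n h
  rw [homologyMap_π, homologyEquiv_π_apply, homologyEquiv_π_apply, cycToExt_apply, cycToExt_apply,
    ProjectiveResolution.mk₀_comp_extMk _ _ _ _ φ]
  apply extMk_congr
  rw [iCycles_cyclesMap, homCxPre_f]


end nat2

section old
variable {R : Type u} [CommRing R] {X X' : ModuleCat.{u} R} (P : ProjectiveResolution X)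
  (P' : ProjectiveResolution X') {Y Y' : ModuleCat.{u} R}

theorem oldExt_map_right (g : Y ⟶ Y') (n : ℕ) :
    ((Ext R (ModuleCat.{u} R) n).obj (op X)).map g =
      ((NatTrans.leftDerived (αg g) n).app X).unop := rfl

theorem oldExt_map_left (f : X' ⟶ X) (Y : ModuleCat.{u} R) (n : ℕ) :
    ((Ext R (ModuleCat.{u} R) n).map f.op).app Y = (((FY Y).leftDerived n).map f).unop := rfl

theorem isoExt_hom (n : ℕ) (Y : ModuleCat.{u} R) :
    (P.isoExt n Y).hom = (P.isoLeftDerivedObj (FY Y) n).inv.unop ≫
      (HomologicalComplex.homologyUnop (((FY Y).mapHomologicalComplex _).obj P.complex) n).inv := rfl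


end old

section old2


variable {R : Type u} [CommRing R] {X X' : ModuleCat.{u} R} (P : ProjectiveResolution X)
  (P' : ProjectiveResolution X') {Y Y' : ModuleCat.{u} R}

omit [CommRing R] in
theorem comm_aux {D : Type*} [Category D] {a a' hY hY' : Dᵒᵖ} {kY kY' : D}
    (A : a ≅ hY) (A' : a' ≅ hY') (U : kY ≅ unop hY) (U' : kY' ≅ unop hY')
    (m : hY' ⟶ hY) (m' : kY ⟶ kY') (t : a' ⟶ a)
    (e1 : t = A'.hom ≫ m ≫ A.inv)
    (hnat : m' ≫ U'.hom = U.hom ≫ m.unop) :
    t.unop ≫ (A'.inv.unop ≫ U'.inv) = (A.inv.unop ≫ U.inv) ≫ m' := by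
  subst e1
  have hA' : A'.hom.unop ≫ A'.inv.unop = 𝟙 _ := by
    rw [← unop_comp, Iso.inv_hom_id, unop_id]
  simp only [unop_comp, Category.assoc]
  rw [reassoc_of% hA']
  congr 1
  rw [← cancel_mono U'.hom]
  simp only [Category.assoc, Iso.inv_hom_id, Category.comp_id]
  rw [← cancel_epi U.hom, Iso.hom_inv_id_assoc]
  exact hnat.symm

theorem oldExt_map_right_isoExt (g : Y ⟶ Y') (n : ℕ) :
    ((Ext R (ModuleCat.{u} R) n).obj (op X)).map g ≫ (P.isoExt n Y').hom =
      (P.isoExt n Y).hom ≫ HomologicalComplex.homologyMap (homCxMap P g) n :=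
  comm_aux (P.isoLeftDerivedObj (FY Y) n) (P.isoLeftDerivedObj (FY Y') n)
    (HomologicalComplex.homologyUnop (((FY Y).mapHomologicalComplex _).obj P.complex) n)
    (HomologicalComplex.homologyUnop (((FY Y').mapHomologicalComplex _).obj P.complex) n)
    _ _ _ (ProjectiveResolution.leftDerived_app_eq (αg g) P n)
    (homologyUnop_hom_naturality
      ((NatTrans.mapHomologicalComplex (αg g) (ComplexShape.down ℕ)).app P.complex) n)

theorem oldExt_map_left_isoExt {f : X' ⟶ X} (φ : ProjectiveResolution.Hom P' P f)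
    (Y : ModuleCat.{u} R) (n : ℕ) :
    ((Ext R (ModuleCat.{u} R) n).map f.op).app Y ≫ (P'.isoExt n Y).hom =
      (P.isoExt n Y).hom ≫ HomologicalComplex.homologyMap (homCxPre P P' Y φ.hom) n :=
  comm_aux (P.isoLeftDerivedObj (FY Y) n) (P'.isoLeftDerivedObj (FY Y) n)
    (HomologicalComplex.homologyUnop (((FY Y).mapHomologicalComplex _).obj P.complex) n)
    (HomologicalComplex.homologyUnop (((FY Y).mapHomologicalComplex _).obj P'.complex) n)
    _ _ _ (Functor.leftDerived_map_eq (FY Y) n f φ.hom φ.hom_comp_π)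
    (homologyUnop_hom_naturality
      (((FY Y).mapHomologicalComplex _).map φ.hom) n)


end old2

section final


variable {R : Type u} [CommRing R]

/-- **The bridge**: the old `Ext` is `Abelian.Ext`. -/
noncomputable def extEquiv (X Y : ModuleCat.{u} R) (n : ℕ) :
    ((Ext R (ModuleCat.{u} R) n).obj (op X)).obj Y ≃ₗ[R] Abelian.Ext X Y n :=
  ((projectiveResolution X).isoExt n Y).toLinearEquiv ≪≫ₗ
    homologyEquiv (projectiveResolution X) Y n

theorem extEquiv_apply (X Y : ModuleCat.{u} R) (n : ℕ)
    (x : ((Ext R (ModuleCat.{u} R) n).obj (op X)).obj Y) :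
    extEquiv X Y n x = homologyEquiv (projectiveResolution X) Y n
      (((projectiveResolution X).isoExt n Y).hom.hom x) := rfl

theorem extEquiv_naturality_right (X : ModuleCat.{u} R) {Y Y' : ModuleCat.{u} R} (g : Y ⟶ Y')
    (n : ℕ) (x : ((Ext R (ModuleCat.{u} R) n).obj (op X)).obj Y) :
    extEquiv X Y' n ((((Ext R (ModuleCat.{u} R) n).obj (op X)).map g).hom x) =
      (extEquiv X Y n x).comp (Abelian.Ext.mk₀ g) (add_zero n) := by
  rw [extEquiv_apply, extEquiv_apply, ← homologyEquiv_naturality_right]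
  congr 1
  have := oldExt_map_right_isoExt (projectiveResolution X) g n
  exact congrArg (fun f => f.hom x) this

/-- the chosen lift between the chosen resolutions -/
noncomputable def liftHom {X X' : ModuleCat.{u} R} (f : X' ⟶ X) :
    ProjectiveResolution.Hom (projectiveResolution X') (projectiveResolution X) f where
  hom := ProjectiveResolution.lift f _ _
  hom_f_zero_comp_π_f_zero := by
    simpa using ProjectiveResolution.lift_commutes_zero f _ _

theorem extEquiv_naturality_left {X X' : ModuleCat.{u} R} (f : X' ⟶ X) (Y : ModuleCat.{u} R)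
    (n : ℕ) (x : ((Ext R (ModuleCat.{u} R) n).obj (op X)).obj Y) :
    extEquiv X' Y n ((((Ext R (ModuleCat.{u} R) n).map f.op).app Y).hom x) =
      (Abelian.Ext.mk₀ f).comp (extEquiv X Y n x) (zero_add n) := by
  rw [extEquiv_apply, extEquiv_apply, ← homologyEquiv_naturality_left _ _ (liftHom f)]
  congr 1
  have := oldExt_map_left_isoExt (projectiveResolution X) (projectiveResolution X') (liftHom f) Y n
  exact congrArg (fun f => f.hom x) this


end final

end Groth.Agent.Helper8.LC
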