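import Groth.Agent.Lib.Helper8.Canon7
import Groth.Agent.Lib.Helper8.LCBridge
import Groth.Agent.Lib.Lead.Depth6

/-!
# Local duality over a Cohen–Macaulay local ring with a canonical module (helper8)
-/

set_option autoImplicit false
universe u

namespace Groth.Agent.Helper8.Canon

open TensorProduct IsLocalRing CategoryTheory Groth.Agent.Helper8 Groth.Agent.Helper8.LC
open scoped Pointwise

section Natural

variable {R : Type u} [CommRing R] [IsNoetherianRing R] [IsLocalRing R] {n : ℕ}
  {E : Type u} [AddCommGroup E] [Module R E] {f : ResidueField R →ₗ[R] E}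
  {K : Type u} [AddCommGroup K] [Module R K]

theorem canonDual_symm_tensor (hn : ringKrullDim R = n) (hf : InjHull.IsInjectiveHull f)
    (eK : (K →ₗ[R] E) ≃ₗ[R] H (maximalIdeal R) n R)
    (M : Type u) [AddCommGroup M] [Module R M] [Module.Finite R M] (m : M) (h : H (maximalIdeal R) n R) :
    canonDual hn hf eK M (Hmap (maximalIdeal R) n (LinearMap.toSpanSingleton R M m) h) =
      ddτ R K E M (m ⊗ₜ eK.symm h) := by
  have hcd : ∀ (N : Type u) [AddCommGroup N] [Module R N],
      Subsingleton (H (maximalIdeal R) (n + 1) N) := fun N _ _ =>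
    H_subsingleton_of_ringKrullDim_lt (maximalIdeal R) n hn N (n + 1) (by omega)
  have h1 : Hmap (maximalIdeal R) n (LinearMap.toSpanSingleton R M m) h =
      lcTensorEquiv (maximalIdeal R) n hcd M (m ⊗ₜ h) := rfl
  rw [h1]
  unfold canonDual
  simp only [LinearEquiv.trans_apply, LinearEquiv.symm_apply_apply]
  rfl

/-- naturality of `canonDual` -/
theorem canonDual_natural (hn : ringKrullDim R = n) (hf : InjHull.IsInjectiveHull f)
    (eK : (K →ₗ[R] E) ≃ₗ[R] H (maximalIdeal R) n R)
    {M M' : Type u} [AddCommGroup M] [Module R M] [Module.Finite R M]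
    [AddCommGroup M'] [Module R M'] [Module.Finite R M'] (g : M →ₗ[R] M')
    (h : H (maximalIdeal R) n M) :
    canonDual hn hf eK M' (Hmap (maximalIdeal R) n g h) =
      ddMap R K E g (canonDual hn hf eK M h) := by
  have hcd : ∀ (N : Type u) [AddCommGroup N] [Module R N],
      Subsingleton (H (maximalIdeal R) (n + 1) N) := fun N _ _ =>
    H_subsingleton_of_ringKrullDim_lt (maximalIdeal R) n hn N (n + 1) (by omega)
  obtain ⟨z, rfl⟩ := (lcTensorEquiv (maximalIdeal R) n hcd M).surjective h
  induction z using TensorProduct.induction_on with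
  | zero => simp
  | tmul m h0 =>
    rw [lcTensorEquiv_tmul, canonDual_symm_tensor, ← Hmap_comp_apply]
    have : g ∘ₗ LinearMap.toSpanSingleton R M m = LinearMap.toSpanSingleton R M' (g m) := by
      ext; simp
    rw [this, canonDual_symm_tensor]
    ext u
    rfl
  | add x y hx hy =>
    rw [map_add, map_add, map_add, map_add, hx, hy, map_add]

end Natural

section Generalities

variable {R : Type u} [CommRing R] (E : Type u) [AddCommGroup E] [Module R E]

/-- the dual of a cokernel is the kernel of the dual map -/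
noncomputable def dualCokerEquiv {A B C : Type u} [AddCommGroup A] [Module R A] [AddCommGroup B]
    [Module R B] [AddCommGroup C] [Module R C] (a : A →ₗ[R] B) (b : B →ₗ[R] C)
    (hex : Function.Exact a b) (hb : Function.Surjective b) :
    (C →ₗ[R] E) ≃ₗ[R] LinearMap.ker (LinearMap.lcomp R E a) :=
  LinearEquiv.ofBijective
    ((LinearMap.lcomp R E b).codRestrict (LinearMap.ker (LinearMap.lcomp R E a)) (by
      intro χ
      rw [LinearMap.mem_ker]
      ext x
      change χ (b (a x)) = 0
      rw [hex.apply_apply_eq_zero, map_zero]))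
    (by
      constructor
      · intro χ χ' h
        have h' : χ ∘ₗ b = χ' ∘ₗ b := congrArg Subtype.val h
        ext c
        obtain ⟨y, rfl⟩ := hb c
        exact LinearMap.congr_fun h' y
      · rintro ⟨ψ, hψ⟩
        rw [LinearMap.mem_ker] at hψ
        have hle : LinearMap.ker b ≤ LinearMap.ker ψ := by
          intro y hy
          obtain ⟨x, rfl⟩ := (hex y).mp hy
          exact LinearMap.congr_fun hψ x
        let e := b.quotKerEquivOfSurjective hb
        refine ⟨(LinearMap.ker b).liftQ ψ hle ∘ₗ e.symm.toLinearMap, ?_⟩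
        apply Subtype.ext
        ext y
        change (LinearMap.ker b).liftQ ψ hle (e.symm (b y)) = ψ y
        have : e.symm (b y) = Submodule.Quotient.mk y := by
          rw [LinearEquiv.symm_apply_eq]; rfl
        rw [this]
        rfl)

/-- restrict an equivalence to kernels of compatible maps -/
noncomputable def kerCongr {A B A' B' : Type u} [AddCommGroup A] [Module R A] [AddCommGroup B]
    [Module R B] [AddCommGroup A'] [Module R A'] [AddCommGroup B'] [Module R B']
    (e : A ≃ₗ[R] B) (e' : A' →ₗ[R] B') (he' : Function.Injective e') (u : A →ₗ[R] A')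
    (v : B →ₗ[R] B') (h : ∀ x, e' (u x) = v (e x)) : LinearMap.ker u ≃ₗ[R] LinearMap.ker v where
  toFun x := ⟨e x.1, by
    rw [LinearMap.mem_ker, ← h, (LinearMap.mem_ker.mp x.2), map_zero]⟩
  map_add' x y := by apply Subtype.ext; exact map_add e _ _
  map_smul' r x := by apply Subtype.ext; exact map_smul e _ _
  invFun y := ⟨e.symm y.1, by
    rw [LinearMap.mem_ker]
    apply he'
    rw [h, LinearEquiv.apply_symm_apply, (LinearMap.mem_ker.mp y.2), map_zero]⟩
  left_inv x := by apply Subtype.ext; exact e.symm_apply_apply _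
  right_inv y := by apply Subtype.ext; exact e.apply_symm_apply _

end Generalities

section ExtLES

open Abelian

variable {R : Type u} [CommRing R] {N F M : Type u} [AddCommGroup N] [Module R N]
  [AddCommGroup F] [Module R F] [AddCommGroup M] [Module R M]
  {ι : N →ₗ[R] F} {π : F →ₗ[R] M} (hS : IsSES ι π) (Y : ModuleCat.{u} R)

/-- the connecting map `Ext^j(N,Y) → Ext^{j+1}(M,Y)` -/
noncomputable def extδ (j : ℕ) :
    Abelian.Ext (ModuleCat.of R N) Y j →ₗ[R] Abelian.Ext (ModuleCat.of R M) Y (j + 1) where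
  toFun x := hS.shortExact.extClass.comp x (add_comm 1 j)
  map_add' _ _ := Ext.comp_add _ _ _ _
  map_smul' _ _ := Ext.comp_smul _ _ _ _

theorem extδ_apply (j : ℕ) (x : Abelian.Ext (ModuleCat.of R N) Y j) :
    extδ hS Y j x = hS.shortExact.extClass.comp x (add_comm 1 j) := rfl

theorem extδ_surjective [Projective (ModuleCat.of R F)] (j : ℕ) :
    Function.Surjective (extδ hS Y j) := by
  intro x₃
  have h0 : (Ext.mk₀ hS.sc.g).comp x₃ (zero_add (j + 1)) = 0 :=
    Ext.eq_zero_of_projective (P := ModuleCat.of R F) _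
  obtain ⟨x₁, hx₁⟩ := Ext.contravariant_sequence_exact₃ hS.shortExact Y x₃ h0 (add_comm 1 j)
  exact ⟨x₁, hx₁⟩

theorem extδ_injective [Projective (ModuleCat.of R F)] (j : ℕ) :
    Function.Injective (extδ hS Y (j + 1)) := by
  rw [injective_iff_map_eq_zero]
  intro x hx
  obtain ⟨x₂, hx₂⟩ := Ext.contravariant_sequence_exact₁ hS.shortExact Y x (add_comm 1 (j + 1)) hx
  have h0 : x₂ = 0 := Ext.eq_zero_of_projective (P := ModuleCat.of R F) _
  rw [← hx₂, h0, Ext.comp_zero]

/-- `Hom(M,K) ≃ Ext^0(M,K)` -/
noncomputable def hom0 (M K : Type u) [AddCommGroup M] [Module R M] [AddCommGroup K] [Module R K] :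
    (M →ₗ[R] K) ≃ₗ[R] Abelian.Ext (ModuleCat.of R M) (ModuleCat.of R K) 0 :=
  (ModuleCat.homLinearEquiv (S := R) (M := ModuleCat.of R M) (N := ModuleCat.of R K)).symm ≪≫ₗ
    (Ext.linearEquiv₀ (R := R)).symm

theorem hom0_apply (M K : Type u) [AddCommGroup M] [Module R M] [AddCommGroup K] [Module R K]
    (u : M →ₗ[R] K) : hom0 M K u = Ext.mk₀ (ModuleCat.ofHom u) := rfl

variable (K : Type u) [AddCommGroup K] [Module R K]

/-- the connecting map `Hom(N,K) → Ext^1(M,K)` -/
noncomputable def homδ : (N →ₗ[R] K) →ₗ[R] Abelian.Ext (ModuleCat.of R M) (ModuleCat.of R K) 1 :=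
  extδ hS (ModuleCat.of R K) 0 ∘ₗ (hom0 N K).toLinearMap

theorem homδ_surjective [Projective (ModuleCat.of R F)] : Function.Surjective (homδ hS K) :=
  (extδ_surjective hS _ 0).comp (hom0 N K).surjective

theorem homδ_exact : Function.Exact (LinearMap.lcomp R K ι) (homδ hS K) := by
  intro u
  constructor
  · intro hu
    change hS.shortExact.extClass.comp (Ext.mk₀ (ModuleCat.ofHom u)) (add_comm 1 0) = 0 at hu
    obtain ⟨x₂, hx₂⟩ := Ext.contravariant_sequence_exact₁ hS.shortExact (ModuleCat.of R K) _
      (add_comm 1 0) hu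
    obtain ⟨v, rfl⟩ := (hom0 F K).surjective x₂
    refine ⟨v, ?_⟩
    rw [hom0_apply, Ext.mk₀_comp_mk₀] at hx₂
    have h1 := (Ext.homEquiv₀).symm.injective hx₂
    have h2 : ModuleCat.ofHom (v ∘ₗ ι) = ModuleCat.ofHom u := h1
    have h3 := congrArg ModuleCat.Hom.hom h2
    exact h3
  · rintro ⟨v, rfl⟩
    change hS.shortExact.extClass.comp (Ext.mk₀ (ModuleCat.ofHom (v ∘ₗ ι))) (add_comm 1 0) = 0
    have : Ext.mk₀ (ModuleCat.ofHom (v ∘ₗ ι)) =
        (Ext.mk₀ hS.sc.f).comp (Ext.mk₀ (ModuleCat.ofHom v)) (zero_add 0) := by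
      rw [Ext.mk₀_comp_mk₀]; rfl
    rw [this, ← Ext.comp_assoc_of_second_deg_zero, hS.shortExact.extClass_comp, Ext.zero_comp]

end ExtLES

section Duality

open Abelian

variable {R : Type u} [CommRing R] [hCM : LocCoh.IsCohenMacaulayLocalRing R] {n : ℕ}
  {E : Type u} [AddCommGroup E] [Module R E] {f : ResidueField R →ₗ[R] E}
  {K : Type u} [AddCommGroup K] [Module R K]

omit hCM in
theorem H_subsingleton_of_subsingleton (I : Ideal R) (l : ℕ) (F : Type u) [AddCommGroup F]
    [Module R F] [Subsingleton F] : Subsingleton (H I l F) := by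
  refine ⟨fun a b => ?_⟩
  have h0 : ∀ y : H I l F, y = 0 := by
    intro y
    have h1 : (LinearMap.id : F →ₗ[R] F) = 0 := by
      ext x; exact Subsingleton.elim _ _
    have h2 := Hmap_id (I := I) (i := l) (M := F)
    rw [h1, Hmap_zero] at h2
    have := LinearMap.congr_fun h2 y
    exact this.symm
  rw [h0 a, h0 b]

/-- local cohomology of finite free modules over a Cohen–Macaulay ring vanishes below `n` -/
theorem H_free_subsingleton (hn : ringKrullDim R = n) (a : ℕ) (l : ℕ) (hl : l < n) :
    Subsingleton (H (maximalIdeal R) l (Fin a → R)) := by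
  by_cases ha : Nontrivial (Fin a → R)
  · have hd : LocCoh.depth R (Fin a → R) = (n : ℕ∞) := by
      rw [Groth.Agent.Lead.Depth.depth_free, depth_eq_of_CM hn]
    exact H_subsingleton_of_lt_depth (Fin a → R) n hd l hl
  · rw [not_nontrivial_iff_subsingleton] at ha
    exact H_subsingleton_of_subsingleton _ _ _

/-- local duality, in terms of `Abelian.Ext` -/
theorem local_duality_aux (hn : ringKrullDim R = n) (hf : InjHull.IsInjectiveHull f)
    (eK : (K →ₗ[R] E) ≃ₗ[R] H (maximalIdeal R) n R) :
    ∀ (i d : ℕ), i + d = n → ∀ (M : Type u) [AddCommGroup M] [Module R M] [Module.Finite R M],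
      Nonempty (H (maximalIdeal R) d M ≃ₗ[R]
        (Abelian.Ext (ModuleCat.of R M) (ModuleCat.of R K) i →ₗ[R] E)) := by
  intro i
  induction i with
  | zero =>
    intro d hd M _ _ _
    have hdn : d = n := by omega
    subst hdn
    exact ⟨canonDual hn hf eK M ≪≫ₗ LinearEquiv.congrLeft E R (hom0 M K)⟩
  | succ j ih =>
    intro d hd M _ _ _
    obtain ⟨a, π, hπ⟩ := Module.Finite.exists_fin' R M
    let N : Submodule R (Fin a → R) := LinearMap.ker π
    have hS : IsSES N.subtype π := isSES_of_surjective hπ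
    have hproj : Projective (ModuleCat.of R (Fin a → R)) :=
      (IsProjective.iff_projective (Fin a → R)).mp inferInstance
    have hFd : Subsingleton (H (maximalIdeal R) d (Fin a → R)) :=
      H_free_subsingleton hn a d (by omega)
    rcases Nat.eq_zero_or_pos j with rfl | hj
    · -- the case `i = 1`
      have hdn : d + 1 = n := by omega
      subst hdn
      -- step 1
      have hδinj := hS.δ_injective (maximalIdeal R) d
      let T : Submodule R (H (maximalIdeal R) (d + 1) N) :=
        LinearMap.ker (Hmap (maximalIdeal R) (d + 1) N.subtype)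
      have hmemT : ∀ y, Hδ (maximalIdeal R) d hS y ∈ T := fun y =>
        (hS.exact_δ_Hmap (maximalIdeal R) d _).mpr ⟨y, rfl⟩
      let δ' : H (maximalIdeal R) d M →ₗ[R] T :=
        (Hδ (maximalIdeal R) d hS).codRestrict T hmemT
      have hδ' : Function.Bijective δ' := by
        constructor
        · intro y y' hyy'
          exact hδinj (congrArg Subtype.val hyy')
        · rintro ⟨t, ht⟩
          obtain ⟨y, hy⟩ := (hS.exact_δ_Hmap (maximalIdeal R) d t).mp ht
          exact ⟨y, Subtype.ext hy⟩
      let e1 := LinearEquiv.ofBijective δ' hδ'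
      -- step 2
      let e2 : T ≃ₗ[R] LinearMap.ker (ddMap R K E N.subtype) :=
        kerCongr (canonDual hn hf eK N) (canonDual hn hf eK (Fin a → R)).toLinearMap
          (canonDual hn hf eK (Fin a → R)).injective _ _
          (fun x => canonDual_natural hn hf eK N.subtype x)
      -- step 3
      let e3 := dualCokerEquiv E (LinearMap.lcomp R K N.subtype) (homδ hS K) (homδ_exact hS K)
        (homδ_surjective hS K)
      exact ⟨e1 ≪≫ₗ e2 ≪≫ₗ e3.symm⟩
    · -- the case `i ≥ 2`
      obtain ⟨j', rfl⟩ := Nat.exists_eq_succ_of_ne_zero hj.ne'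
      have hFd1 : Subsingleton (H (maximalIdeal R) (d + 1) (Fin a → R)) :=
        H_free_subsingleton hn a (d + 1) (by omega)
      obtain ⟨eN⟩ := ih (d + 1) (by omega) N
      let eδ := hS.δEquiv (maximalIdeal R) d
      let eD : Abelian.Ext (ModuleCat.of R N) (ModuleCat.of R K) (j' + 1) ≃ₗ[R]
          Abelian.Ext (ModuleCat.of R M) (ModuleCat.of R K) (j' + 1 + 1) :=
        LinearEquiv.ofBijective (extδ hS (ModuleCat.of R K) (j' + 1))
          ⟨extδ_injective hS _ j', extδ_surjective hS _ (j' + 1)⟩
      exact ⟨eδ ≪≫ₗ eN ≪≫ₗ LinearEquiv.congrLeft E R eD⟩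

/-- **Local duality** for a Cohen–Macaulay local ring with canonical module. -/
theorem local_duality (hn : ringKrullDim R = n) (hf : InjHull.IsInjectiveHull f)
    (eK : (K →ₗ[R] E) ≃ₗ[R] H (maximalIdeal R) n R) (i : ℕ) (hi : i ≤ n)
    (M : Type u) [AddCommGroup M] [Module R M] [Module.Finite R M] :
    Nonempty (H (maximalIdeal R) (n - i) M ≃ₗ[R]
      (((Ext R (ModuleCat.{u} R) i).obj (Opposite.op (ModuleCat.of R M))).obj (ModuleCat.of R K)
        →ₗ[R] E)) := by
  obtain ⟨e⟩ := local_duality_aux hn hf eK i (n - i) (by omega) M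
  exact ⟨e ≪≫ₗ (LinearEquiv.congrLeft E R (extEquiv (ModuleCat.of R M) (ModuleCat.of R K) i)).symm⟩

end Duality

end Groth.Agent.Helper8.Canon
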