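import Groth.Agent.Lib.Helper8.Canon8
import Groth.Agent.Lib.Helper8.Canon9
import Groth.Agent.Lib.Lead.Depth11

/-!
# Injective dimension, depth and dimension of a canonical module (helper8)
-/

set_option autoImplicit false
universe u

namespace Groth.Agent.Helper8.Canon

open TensorProduct IsLocalRing CategoryTheory Groth.Agent.Helper8 Groth.Agent.Helper8.LC
open scoped Pointwise

section Dual

variable {R : Type u} [CommRing R] [IsLocalRing R]
  {E : Type u} [AddCommGroup E] [Module R E] {f : ResidueField R →ₗ[R] E}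

/-- a module with zero Matlis dual is zero -/
theorem subsingleton_of_dual_subsingleton (hf : InjHull.IsInjectiveHull f) (M : Type u)
    [AddCommGroup M] [Module R M] (h : Subsingleton (M →ₗ[R] E)) : Subsingleton M := by
  refine ⟨fun a b => ?_⟩
  apply Matlis.applyₗ_injective hf M
  refine LinearMap.ext fun χ => ?_
  rw [Subsingleton.elim χ 0]
  simp

end Dual

section Canon

variable {R : Type u} [CommRing R] [hCM : LocCoh.IsCohenMacaulayLocalRing R] {n : ℕ}
  {E : Type u} [AddCommGroup E] [Module R E] {f : ResidueField R →ₗ[R] E}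
  {K : Type u} [AddCommGroup K] [Module R K] [Module.Finite R K]

theorem supportDim_canon (hn : ringKrullDim R = n) (hf : InjHull.IsInjectiveHull f)
    (eK : (K →ₗ[R] E) ≃ₗ[R] H (maximalIdeal R) n R) : Module.supportDim R K = n := by
  have hsupp := support_canon_eq_univ hn hf eK
  have hsuppR : Module.support R R = Set.univ := by
    rw [Set.eq_univ_iff_forall]
    intro p
    rw [Module.mem_support_iff_of_finite]
    have : Module.annihilator R R = ⊥ := by
      rw [eq_bot_iff]
      intro a ha
      have := Module.mem_annihilator.mp ha 1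
      rw [smul_eq_mul, mul_one] at this
      exact this
    rw [this]
    exact bot_le
  have h2 : Module.supportDim R K = Module.supportDim R R := by
    unfold Module.supportDim
    rw [hsupp, hsuppR]
  rw [h2, Module.supportDim_self_eq_ringKrullDim, hn]

theorem depth_canon (hn : ringKrullDim R = n) (hf : InjHull.IsInjectiveHull f)
    (eK : (K →ₗ[R] E) ≃ₗ[R] H (maximalIdeal R) n R) : LocCoh.depth R K = (n : ℕ∞) := by
  have hK : Nontrivial K := nontrivial_canon hn eK
  apply le_antisymm
  · have h1 := Groth.Agent.Lead.Depth.depth_le_supportDim (R := R) K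
    rw [supportDim_canon hn hf eK] at h1
    exact_mod_cast h1
  · obtain ⟨rs, hlen, hreg, hmem⟩ := Groth.Agent.Lead.Depth.exists_of_le_idealDepth
      (maximalIdeal R) R (maximalIdeal_smul_top_ne_top (R := R) (M := R)) n (depth_eq_of_CM hn).ge
    have h1 := (canon_of_isWeaklyRegular hn hf eK rs hmem hreg).1
    have h2 := Groth.Agent.Lead.Depth.le_idealDepth_of_isWeaklyRegular (maximalIdeal R) K rs h1 hmem
    rw [hlen] at h2
    exact h2

theorem isCohenMacaulayModule_canon (hn : ringKrullDim R = n) (hf : InjHull.IsInjectiveHull f)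
    (eK : (K →ₗ[R] E) ≃ₗ[R] H (maximalIdeal R) n R) : LocCoh.IsCohenMacaulayModule R K := by
  unfold LocCoh.IsCohenMacaulayModule
  rw [supportDim_canon hn hf eK, depth_canon hn hf eK]
  rfl

/-- `Ext^n(M,K) = 0` when `H^0_m(M) = 0` -/
theorem ext_subsingleton_of_H0 (hn : ringKrullDim R = n) (hf : InjHull.IsInjectiveHull f)
    (eK : (K →ₗ[R] E) ≃ₗ[R] H (maximalIdeal R) n R)
    (M : Type u) [AddCommGroup M] [Module R M] [Module.Finite R M]
    (h0 : Subsingleton (H (maximalIdeal R) 0 M)) :
    Subsingleton (Abelian.Ext (ModuleCat.of R M) (ModuleCat.of R K) n) := by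
  obtain ⟨e⟩ := local_duality_aux hn hf eK n 0 (by omega) M
  have h1 : Subsingleton (Abelian.Ext (ModuleCat.of R M) (ModuleCat.of R K) n →ₗ[R] E) :=
    e.symm.toEquiv.subsingleton
  exact subsingleton_of_dual_subsingleton hf _ h1

theorem hom_restrict_surjective_of_dim_zero (hn : ringKrullDim R = (0 : ℕ))
    (hf : InjHull.IsInjectiveHull f)
    (eK : (K →ₗ[R] E) ≃ₗ[R] H (maximalIdeal R) 0 R) (I : Ideal R) :
    Function.Surjective (LinearMap.lcomp R K (I.subtype : I →ₗ[R] R)) := by
  set g := LinearMap.lcomp R K (I.subtype : I →ₗ[R] R) with hg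
  have hinj : Function.Injective (ddMap R K E (I.subtype : I →ₗ[R] R)) := by
    intro a b hab
    obtain ⟨a', rfl⟩ := (canonDual hn hf eK I).surjective a
    obtain ⟨b', rfl⟩ := (canonDual hn hf eK I).surjective b
    rw [← canonDual_natural, ← canonDual_natural] at hab
    have := Hmap_zero_injective (maximalIdeal R) I.injective_subtype
      ((canonDual hn hf eK R).injective hab)
    rw [this]
  have e := dualCokerEquiv E g (LinearMap.range g).mkQ
    (by
      intro y
      rw [Submodule.mkQ_apply, Submodule.Quotient.mk_eq_zero]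
      rfl) (Submodule.mkQ_surjective _)
  have hker : LinearMap.ker (LinearMap.lcomp R E g) = ⊥ := LinearMap.ker_eq_bot.mpr hinj
  have h1 : Subsingleton (((I →ₗ[R] K) ⧸ LinearMap.range g) →ₗ[R] E) := by
    have : Subsingleton (LinearMap.ker (LinearMap.lcomp R E g)) := by
      rw [hker]; infer_instance
    exact e.toEquiv.subsingleton
  have h2 := subsingleton_of_dual_subsingleton hf _ h1
  rw [Submodule.Quotient.subsingleton_iff] at h2
  exact LinearMap.range_eq_top.mp h2

theorem ext_succ_quotient_subsingleton (hn : ringKrullDim R = n) (hf : InjHull.IsInjectiveHull f)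
    (eK : (K →ₗ[R] E) ≃ₗ[R] H (maximalIdeal R) n R) (I : Ideal R) :
    Subsingleton (Abelian.Ext (ModuleCat.of R (R ⧸ I)) (ModuleCat.of R K) (n + 1)) := by
  have hS : IsSES (I.subtype : I →ₗ[R] R) (Submodule.mkQ I) := isSES_subtype_mkQ I
  haveI : Projective (ModuleCat.of R R) := inferInstance
  rcases Nat.eq_zero_or_pos n with h0 | hpos
  · subst h0
    have hsurj := hom_restrict_surjective_of_dim_zero hn hf eK I
    refine ⟨fun a b => ?_⟩
    have key : ∀ x : Abelian.Ext (ModuleCat.of R (R ⧸ I)) (ModuleCat.of R K) (0 + 1), x = 0 := by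
      intro x
      obtain ⟨u, rfl⟩ := homδ_surjective hS K x
      obtain ⟨v, rfl⟩ := hsurj u
      exact (homδ_exact hS K).apply_apply_eq_zero v
    rw [key a, key b]
  · have h0R : Subsingleton (H (maximalIdeal R) 0 R) :=
      H_subsingleton_of_lt_depth R n (depth_eq_of_CM hn) 0 hpos
    have h0I : Subsingleton (H (maximalIdeal R) 0 I) :=
      (Hmap_zero_injective (maximalIdeal R) I.injective_subtype).subsingleton
    have h1 := ext_subsingleton_of_H0 hn hf eK I h0I
    exact (extδ_surjective hS (ModuleCat.of R K) n).subsingleton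

theorem hasInjectiveDimensionLT_canon (hn : ringKrullDim R = n) (hf : InjHull.IsInjectiveHull f)
    (eK : (K →ₗ[R] E) ≃ₗ[R] H (maximalIdeal R) n R) :
    HasInjectiveDimensionLT (ModuleCat.of R K) (n + 1) :=
  Groth.Agent.Lead.Hom.hasInjectiveDimensionLT_of_ext_quotient n (ModuleCat.of R K)
    (fun I => ext_succ_quotient_subsingleton hn hf eK I)

theorem ext_residueField_canon_nontrivial (hn : ringKrullDim R = n)
    (hf : InjHull.IsInjectiveHull f)
    (eK : (K →ₗ[R] E) ≃ₗ[R] H (maximalIdeal R) n R) :
    Nontrivial (Abelian.Ext (ModuleCat.of R (ResidueField R)) (ModuleCat.of R K) n) := by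
  by_contra hnt
  rw [not_nontrivial_iff_subsingleton] at hnt
  obtain ⟨e⟩ := local_duality_aux hn hf eK n 0 (by omega) (ResidueField R)
  have h2 : Subsingleton (H (maximalIdeal R) 0 (ResidueField R)) := e.toEquiv.subsingleton
  have htors : IsTors (maximalIdeal R) (ResidueField R) := fun x =>
    ⟨1, fun a ha => by rw [pow_one] at ha; exact Matlis.residue_smul_eq_zero a ha x⟩
  have h3 : Subsingleton (ResidueField R) := (htors.H0Equiv).symm.toEquiv.subsingleton
  exact not_subsingleton _ h3

theorem not_hasInjectiveDimensionLT_canon (hn : ringKrullDim R = n)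
    (hf : InjHull.IsInjectiveHull f)
    (eK : (K →ₗ[R] E) ≃ₗ[R] H (maximalIdeal R) n R) :
    ¬ HasInjectiveDimensionLT (ModuleCat.of R K) n := by
  intro h
  have h1 : Subsingleton (Abelian.Ext (ModuleCat.of R (ResidueField R)) (ModuleCat.of R K) n) :=
    HasInjectiveDimensionLT.subsingleton _ n n le_rfl _
  have := ext_residueField_canon_nontrivial hn hf eK
  exact not_subsingleton _ h1

end Canon

end Groth.Agent.Helper8.Canon
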