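import Groth.Agent.Lib.Helper8.CanonEx1

/-!
# Existence of canonical modules for homomorphic images of Gorenstein local rings (helper8)
Part 2: the canonical module is `Ext^{ht I}_{R'}(R'/I, R')`.
-/

set_option autoImplicit false
universe u

namespace Groth.Agent.Helper8.CanonEx

open IsLocalRing CategoryTheory Abelian Groth.Agent.Helper8 Groth.Agent.Helper8.LC
  Groth.Agent.Helper8.Matlis Groth.Agent.Helper8.Canon
open scoped Pointwise TensorProduct

section Tensor

variable {R' R : Type u} [CommRing R'] [CommRing R] [Algebra R' R]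

/-- for a surjection `R' → R` with kernel `I` and an `I`-torsion module `K0`, `R ⊗ K0 ≃ K0` -/
theorem nonempty_tensor_equiv_of_torsion (hsurj : Function.Surjective (algebraMap R' R))
    (K0 : Type u) [AddCommGroup K0] [Module R' K0]
    (hK0 : ∀ a ∈ RingHom.ker (algebraMap R' R), ∀ x : K0, a • x = 0) :
    Nonempty ((R ⊗[R'] K0) ≃ₗ[R'] K0) := by
  let I : Ideal R' := RingHom.ker (algebraMap R' R)
  let eQ : (R' ⧸ I) ≃ₗ[R'] R :=
    (Ideal.quotientKerAlgEquivOfSurjective (f := Algebra.ofId R' R) hsurj).toLinearEquiv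
  have hbot : (I • ⊤ : Submodule R' K0) = ⊥ := by
    rw [eq_bot_iff, Submodule.smul_le]
    intro a ha x _
    rw [Submodule.mem_bot]
    exact hK0 a ha x
  exact ⟨(LinearEquiv.rTensor K0 eQ.symm) ≪≫ₗ TensorProduct.quotTensorEquivQuotSMul K0 I ≪≫ₗ
    Submodule.quotEquivOfEqBot _ hbot⟩

end Tensor

section Main

variable {R' R : Type u} [CommRing R'] [hG : LocCoh.IsGorensteinLocalRing R'] [CommRing R]
  [IsNoetherianRing R] [IsLocalRing R] [Algebra R' R]
  {E : Type u} [AddCommGroup E] [Module R E] {f : ResidueField R →ₗ[R] E}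

/-- **existence of canonical modules** for homomorphic images of Gorenstein local rings, with
`K ≃ Ext^{ht I}(R'/I, R')` over `R'` -/
theorem exists_canonical_ext (hsurj : Function.Surjective (algebraMap R' R)) (n : ℕ)
    (hn : ringKrullDim R = n) (hf : InjHull.IsInjectiveHull f) (g : ℕ)
    (hg : (RingHom.ker (algebraMap R' R)).height = g) :
    ∃ (K : Type u) (_ : AddCommGroup K) (_ : Module R K) (_ : Module R' K)
      (_ : IsScalarTower R' R K), Module.Finite R K ∧
      Nonempty (K ≃ₗ[R'] Ext (ModuleCat.of R' (R' ⧸ RingHom.ker (algebraMap R' R)))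
        (ModuleCat.of R' R') g) ∧
      Nonempty ((K →ₗ[R] E) ≃ₗ[R] H (maximalIdeal R) n R) := by
  letI : Module R' E := Module.compHom E (algebraMap R' R)
  haveI : IsScalarTower R' R E := ⟨fun a b x => by
    change (a • b) • x = algebraMap R' R a • b • x
    rw [Algebra.smul_def, mul_smul]⟩
  obtain ⟨E', _, _, f', hf'⟩ :=
    Groth.Agent.Helper1.exists_injectiveHull (R := R') (ResidueField R')
  obtain ⟨j, hj, hr⟩ := exists_hull_embedding hsurj hf' hf
  obtain ⟨s, hs⟩ := Groth.Agent.Lead.Depth.exists_nat_ringKrullDim (R := R')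
  let I : Ideal R' := RingHom.ker (algebraMap R' R)
  have hI : I ≠ ⊤ := RingHom.ker_ne_top _
  have hd : ringKrullDim (R' ⧸ I) = n := by
    rw [← hn]
    exact ringKrullDim_eq_of_ringEquiv (RingHom.quotientKerEquivOfSurjective hsurj)
  obtain ⟨c, rs, hsc, hlen, hreg, hmem, hvan⟩ := TLD.exists_regular_sequence hs I hI n hd
  -- `c = g`
  have hcg : c = g := by
    have hIeq : (I • ⊤ : Submodule R' R') = I := by
      change I • (⊤ : Ideal R') = I
      rw [smul_eq_mul, Ideal.mul_top]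
    have htop : I • (⊤ : Submodule R' R') ≠ ⊤ := by
      rw [hIeq]; exact hI
    have h1 : (c : ℕ∞) ≤ LocCoh.idealDepth I R' :=
      (Groth.Agent.Lead.Depth.le_idealDepth_iff I R' htop c).mpr ⟨rs, hlen, hreg, hmem⟩
    have h2 := Groth.Agent.Lead.Depth.idealDepth_self_le_height I
    have h3 : c ≤ g := by
      have : (c : ℕ∞) ≤ (g : ℕ∞) := by rw [← hg]; exact h1.trans h2
      exact_mod_cast this
    have h4 := TLD.height_add_le I n s hd hs
    rw [hg] at h4
    have h5 : g + n ≤ s := by exact_mod_cast h4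
    omega
  obtain ⟨e1⟩ := TLD.nonempty_dual_torsion_equiv_H hs hf' I n c hd hsc rs hlen hreg hmem hI
  have hK0 : ∀ a ∈ I, ∀ x : Submodule.torsionBySet R'
      (R' ⧸ (Ideal.ofList rs • ⊤ : Submodule R' R')) (I : Set R'), a • x = 0 := by
    intro a ha x
    apply Subtype.ext
    exact (Submodule.mem_torsionBySet_iff _ _).mp x.2 ⟨a, ha⟩
  obtain ⟨e0⟩ := exists_homCongr_of_range (K := Submodule.torsionBySet R'
      (R' ⧸ (Ideal.ofList rs • ⊤ : Submodule R' R')) (I : Set R')) (E := E) (E' := E')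
      I hK0 j hj hr
  let eQ : (R' ⧸ I) ≃ₗ[R'] R :=
    (Ideal.quotientKerAlgEquivOfSurjective (f := Algebra.ofId R' R) hsurj).toLinearEquiv
  let X : BMod R' R := { carrier := R }
  obtain ⟨e3⟩ := exists_equiv_base (maximalIdeal R') n X
  haveI : IsScalarTower R' R (HA (maximalIdeal R') n X) := ⟨fun a b x => by
    change (a • b) • x = algebraMap R' R a • b • x
    rw [Algebra.smul_def, mul_smul]⟩
  have hm : (maximalIdeal R').map (algebraMap R' R) = maximalIdeal R :=
    IsLocalRing.map_maximalIdeal_of_surjective _ hsurj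
  -- `K0 ≃ Ext^c`
  have hkill : ∀ r ∈ rs, ∀ y : R' ⧸ I, r • y = 0 := by
    intro r hr y
    obtain ⟨x, rfl⟩ := Ideal.Quotient.mk_surjective y
    change Ideal.Quotient.mk I (r * x) = 0
    rw [Ideal.Quotient.eq_zero_iff_mem]
    exact Ideal.mul_mem_right _ _ (hmem r hr)
  obtain ⟨e4⟩ := rees rs R' (R' ⧸ I) hreg hkill (by rw [hlen]; exact hvan)
  rw [hlen, hcg] at e4
  have e5 := e4 ≪≫ₗ homQuotEquivTorsion I (R' ⧸ (Ideal.ofList rs • ⊤ : Submodule R' R'))
  obtain ⟨e6⟩ := nonempty_tensor_equiv_of_torsion hsurj (Submodule.torsionBySet R'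
      (R' ⧸ (Ideal.ofList rs • ⊤ : Submodule R' R')) (I : Set R')) hK0
  refine ⟨R ⊗[R'] Submodule.torsionBySet R'
      (R' ⧸ (Ideal.ofList rs • ⊤ : Submodule R' R')) (I : Set R'), inferInstance, inferInstance,
    inferInstance, inferInstance, inferInstance, ⟨e6 ≪≫ₗ e5.symm⟩,
    ⟨(LinearMap.liftBaseChangeEquiv R).symm ≪≫ₗ
      (e0 ≪≫ₗ e1 ≪≫ₗ Hcongr (maximalIdeal R') n eQ ≪≫ₗ e3.symm).extendScalarsOfSurjective hsurj
      ≪≫ₗ HcongrIdeal hm n R⟩⟩

end Main

end Groth.Agent.Helper8.CanonEx
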