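import Groth.Agent.Lib.Helper8.CanonId1
import Groth.Agent.Lib.Helper8.CanonEx2
import Groth.Agent.Lib.Helper8.ExtLoc1
import Groth.Agent.Lib.Helper8.Gor8
import Groth.Agent.Lib.Helper8.Canon10
import Groth.Agent.Lib.Lead.Bass4
import Groth.Agent.Lib.Lead.Depth9

/-!
# The canonical module of a Cohen–Macaulay domain is an ideal (helper8)
-/

set_option autoImplicit false
universe u

namespace Groth.Agent.Helper8.CanonId

open IsLocalRing CategoryTheory Abelian Groth.Agent.Helper8 Groth.Agent.Helper8.LC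
  Groth.Agent.Helper8.Canon Groth.Agent.Helper8.Gor
open scoped Pointwise TensorProduct

section Unmixed

variable {A : Type u} [CommRing A] [IsDomain A] [hCM : LocCoh.IsCohenMacaulayLocalRing A]

/-- in a local domain, a prime `q` with `dim A/q = dim A` is zero -/
theorem eq_bot_of_ringKrullDim_quotient_eq (d : ℕ) (hd : ringKrullDim A = d) (q : Ideal A)
    (hq : ringKrullDim (A ⧸ q) = d) : q = ⊥ := by
  by_contra hne
  have h1 : 1 ≤ q.height := by
    rw [Order.one_le_iff_pos, pos_iff_ne_zero]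
    intro h
    exact hne (Ideal.height_eq_zero_iff_eq_bot.mp h)
  have h3 := TLD.height_add_le q d d hq hd
  have h4 : (1 : ℕ∞) + (d : ℕ∞) ≤ (d : ℕ∞) := le_trans (add_le_add_left h1 _) h3
  have h5 : 1 + d ≤ d := by exact_mod_cast h4
  omega

/-- an ideal `I ≠ 0` of maximal depth in a CM local domain is unmixed of height one -/
theorem height_eq_one_of_mem_associatedPrimes (d : ℕ) (hd : ringKrullDim A = d) (I : Ideal A)
    (hI0 : I ≠ ⊥) (hdepth : LocCoh.depth A I = d) (q : Ideal A)
    (hq : q ∈ associatedPrimes A (A ⧸ I)) : q.height = 1 := by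
  haveI hqp : q.IsPrime := ((AssociatedPrimes.mem_iff).mp hq).isPrime
  have hIq : I ≤ q := by
    have := Groth.Agent.Lead.Depth.annihilator_le_of_mem_associatedPrimes (A ⧸ I) q hq
    rwa [Ideal.annihilator_quotient] at this
  have hq0 : q ≠ ⊥ := fun h => hI0 (le_bot_iff.mp (h ▸ hIq))
  have h1 : 1 ≤ q.height := by
    rw [Order.one_le_iff_pos, pos_iff_ne_zero]
    intro h
    exact hq0 (Ideal.height_eq_zero_iff_eq_bot.mp h)
  have hses := (Groth.Agent.Lead.Depth.idealDepth_shortExact (maximalIdeal A) I A (A ⧸ I)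
    I.subtype (Submodule.mkQ I) Subtype.val_injective (Submodule.mkQ_surjective I)
    (LinearMap.exact_subtype_mkQ I)).2.1
  have hA : LocCoh.idealDepth (maximalIdeal A) A = d := depth_eq_of_CM hd
  have hI : LocCoh.idealDepth (maximalIdeal A) I = d := hdepth
  rw [hA, hI] at hses
  have h2 := Groth.Agent.Lead.Depth.depth_le_ringKrullDim_quotient_of_mem_associatedPrimes
    (A ⧸ I) q hq
  haveI : IsLocalRing (A ⧸ q) :=
    IsLocalRing.of_surjective' (Ideal.Quotient.mk q) Ideal.Quotient.mk_surjective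
  obtain ⟨e, he⟩ := Groth.Agent.Lead.Depth.exists_nat_ringKrullDim (R := A ⧸ q)
  have h3 := TLD.height_add_le q e d he hd
  rw [he] at h2
  have h4 : LocCoh.depth A (A ⧸ I) ≤ (e : ℕ∞) := by exact_mod_cast h2
  have h5 : min (d : ℕ∞) ((d : ℕ∞) - 1) ≤ (e : ℕ∞) := hses.trans h4
  have hne : q.height ≠ ⊤ := by
    intro h
    rw [h, top_add] at h3
    exact absurd h3 (by simp)
  obtain ⟨h, hh⟩ := ENat.ne_top_iff_exists.mp hne
  rw [← hh] at h1 h3 ⊢
  have h1' : 1 ≤ h := by exact_mod_cast h1
  have h3' : h + e ≤ d := by exact_mod_cast h3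
  have h5' : d - 1 ≤ e := by
    have h6 : ((d - 1 : ℕ) : ℕ∞) ≤ min (d : ℕ∞) ((d : ℕ∞) - 1) := by
      apply le_min
      · exact_mod_cast Nat.sub_le d 1
      · exact le_of_eq (by push_cast; rfl)
    exact_mod_cast h6.trans h5
  have : h = 1 := by omega
  rw [this]
  rfl

end Unmixed

section Gor

/-- localizations of Gorenstein local rings are Gorenstein -/
theorem isGorensteinLocalRing_localization (S : Type u) [CommRing S]
    [hS : LocCoh.IsGorensteinLocalRing S] (p : Ideal S) [p.IsPrime] :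
    LocCoh.IsGorensteinLocalRing (Localization.AtPrime p) := by
  obtain ⟨n, hn⟩ := hS.exists_hasInjectiveDimensionLT
  have hn1 : HasInjectiveDimensionLT (ModuleCat.of S S) (n + 1) :=
    hasInjectiveDimensionLT_of_ge _ n (n + 1) (by omega)
  exact { exists_hasInjectiveDimensionLT :=
    ⟨n + 1, Groth.Agent.Lead.Depth.hasInjectiveDimensionLT_localization_self S p n hn1⟩ }

variable {B : Type u} [CommRing B] [hG : LocCoh.IsGorensteinLocalRing B] (p : Ideal B)
  [hp : p.IsPrime]

/-- `Ext^{ht p}(B/p, B)_p` is simple -/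
theorem isSimpleModule_localized_ext (r : ℕ) (hr : p.height = r) :
    IsSimpleModule (Localization.AtPrime p)
      (Localization.AtPrime p ⊗[B] Ext (ModuleCat.of B (B ⧸ p)) (ModuleCat.of B B) r) := by
  haveI := isGorensteinLocalRing_localization B p
  have hdim : ringKrullDim (Localization.AtPrime p) = r := by
    rw [IsLocalization.AtPrime.ringKrullDim_eq_height p, hr]
    rfl
  obtain ⟨e1⟩ := ExtLoc.nonempty_baseChange_ext_quotient_equiv B (Localization.AtPrime p) p r
  have hmap : p.map (algebraMap B (Localization.AtPrime p)) =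
      maximalIdeal (Localization.AtPrime p) :=
    IsLocalization.AtPrime.map_eq_maximalIdeal p (Localization.AtPrime p)
  let e2 : ((Localization.AtPrime p) ⧸ p.map (algebraMap B (Localization.AtPrime p)))
      ≃ₗ[Localization.AtPrime p] ResidueField (Localization.AtPrime p) :=
    Submodule.quotEquivOfEq _ _ hmap
  have e3 := e1 ≪≫ₗ (extCongrLeft e2
    (ModuleCat.of (Localization.AtPrime p) (Localization.AtPrime p)) r).symm
  have hlen := (gorenstein_ext_facts (R := Localization.AtPrime p) hdim).2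
  haveI hs : IsSimpleModule (Localization.AtPrime p)
      (Ext (ModuleCat.of (Localization.AtPrime p) (ResidueField (Localization.AtPrime p)))
        (ModuleCat.of (Localization.AtPrime p) (Localization.AtPrime p)) r) :=
    Module.length_eq_one_iff.mp hlen
  exact IsSimpleModule.congr e3

end Gor

section Main

variable {B : Type u} [CommRing B] [hG : LocCoh.IsGorensteinLocalRing B] (p : Ideal B)
  [hp : p.IsPrime] [hCM : LocCoh.IsCohenMacaulayLocalRing (B ⧸ p)]

/-- for a prime `p` of a Gorenstein local ring `B` with `B/p` Cohen–Macaulay, the canonical module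
`Ext^{ht p}(B/p, B)` of `B/p` is isomorphic to a nonzero ideal of `B/p`, unmixed of height one if it
is proper -/
theorem exists_ideal_equiv_ext (r : ℕ) (hr : p.height = r) :
    ∃ I : Ideal (B ⧸ p), I ≠ ⊥ ∧
      Nonempty (Ext (ModuleCat.of B (B ⧸ p)) (ModuleCat.of B B) r ≃ₗ[B] I) ∧
      ∀ q ∈ associatedPrimes (B ⧸ p) ((B ⧸ p) ⧸ I), q.height = 1 := by
  have hsurj : Function.Surjective (algebraMap B (B ⧸ p)) := Ideal.Quotient.mk_surjective
  have hker : RingHom.ker (algebraMap B (B ⧸ p)) = p := Ideal.mk_ker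
  obtain ⟨d, hd⟩ := Groth.Agent.Lead.Depth.exists_nat_ringKrullDim (R := B ⧸ p)
  obtain ⟨E, _, _, f, hf⟩ :=
    Groth.Agent.Helper1.exists_injectiveHull (R := B ⧸ p) (ResidueField (B ⧸ p))
  obtain ⟨K, _, _, _, _, hfin, ⟨eK⟩, ⟨eH⟩⟩ :=
    CanonEx.exists_canonical_ext hsurj d hd hf r (by rw [hker]; exact hr)
  let eq : (B ⧸ RingHom.ker (algebraMap B (B ⧸ p))) ≃ₗ[B] (B ⧸ p) :=
    Submodule.quotEquivOfEq _ _ hker
  let eKω : K ≃ₗ[B] Ext (ModuleCat.of B (B ⧸ p)) (ModuleCat.of B B) r :=
    eK ≪≫ₗ (extCongrLeft eq (ModuleCat.of B B) r).symm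
  haveI : Module.Finite B (B ⧸ p) :=
    Module.Finite.of_surjective (Algebra.linearMap B (B ⧸ p)) hsurj
  haveI : Module.Finite B K := Module.Finite.trans (B ⧸ p) K
  haveI : Module.Finite B (Ext (ModuleCat.of B (B ⧸ p)) (ModuleCat.of B B) r) :=
    Module.Finite.equiv eKω
  have hass := associatedPrimes_canon hd hf eH
  have hregK : ∀ a : B ⧸ p, a ≠ 0 → IsSMulRegular K a := by
    intro a ha
    by_contra hnr
    have hmem : a ∈ {r : B ⧸ p | ∃ x : K, x ≠ 0 ∧ r • x = 0} := by
      unfold IsSMulRegular Function.Injective at hnr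
      push Not at hnr
      obtain ⟨x, y, hxy, hne⟩ := hnr
      refine ⟨x - y, sub_ne_zero.mpr hne, ?_⟩
      rw [smul_sub, sub_eq_zero]
      exact hxy
    rw [← biUnion_associatedPrimes_eq_zero_divisors] at hmem
    obtain ⟨q, hq, haq⟩ := Set.mem_iUnion₂.mp hmem
    rw [hass] at hq
    have := eq_bot_of_ringKrullDim_quotient_eq d hd q hq.2
    rw [this] at haq
    exact ha haq
  have hreg : ∀ b : B, b ∉ p →
      IsSMulRegular (Ext (ModuleCat.of B (B ⧸ p)) (ModuleCat.of B B) r) b := by
    intro b hb x y hxy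
    have ha : (Ideal.Quotient.mk p b) ≠ 0 := by rwa [Ne, Ideal.Quotient.eq_zero_iff_mem]
    apply eKω.symm.injective
    apply hregK _ ha
    change Ideal.Quotient.mk p b • eKω.symm x = Ideal.Quotient.mk p b • eKω.symm y
    have h1 : ∀ k : K, Ideal.Quotient.mk p b • k = b • k := fun k =>
      algebraMap_smul (B ⧸ p) b k
    rw [h1, h1, ← map_smul, ← map_smul]
    exact congrArg _ hxy
  have hkill : ∀ b ∈ p, ∀ x : Ext (ModuleCat.of B (B ⧸ p)) (ModuleCat.of B B) r, b • x = 0 := by
    intro b hb x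
    apply eKω.symm.injective
    rw [map_smul, map_zero, ← algebraMap_smul (B ⧸ p) b, Ideal.Quotient.algebraMap_eq,
      Ideal.Quotient.eq_zero_iff_mem.mpr hb, zero_smul]
  haveI := isSimpleModule_localized_ext p r hr
  obtain ⟨I, hI0, ⟨eI⟩⟩ := exists_ideal_equiv_of_simple p
    (TensorProduct.mk B (Localization.AtPrime p)
      (Ext (ModuleCat.of B (B ⧸ p)) (ModuleCat.of B B) r) 1) hreg hkill
  refine ⟨I, hI0, ⟨eI⟩, ?_⟩
  have eKI : K ≃ₗ[B ⧸ p] I := (eKω ≪≫ₗ eI).extendScalarsOfSurjective hsurj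
  have hdepth : LocCoh.depth (B ⧸ p) I = d := by
    rw [← Groth.Agent.Lead.Depth.depth_congr eKI]
    exact depth_canon hd hf eH
  intro q hq
  exact height_eq_one_of_mem_associatedPrimes d hd I hI0 hdepth q hq

end Main

end Groth.Agent.Helper8.CanonId
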