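import Groth.Agent.Lib.Helper8.LCNoeth

/-!
# Reduction to finitely generated modules, regular elements, Grothendieck vanishing (helper8)
-/

open CategoryTheory CategoryTheory.Limits Opposite Abelian Pointwise
universe u

namespace Groth.Agent.Helper8.LC

variable {R : Type u} [CommRing R]

section ExtFG

/-- over a Noetherian ring, an `Ext` class out of a finite module comes from a finitely generated
submodule of the target -/
theorem ext_exists_fg [IsNoetherianRing R] : ∀ (i : ℕ) (N : Type u) [AddCommGroup N] [Module R N]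
    [Module.Finite R N] (M : Type u) [AddCommGroup M] [Module R M]
    (ξ : Abelian.Ext (ModuleCat.of R N) (ModuleCat.of R M) i),
    ∃ (M' : Submodule R M), M'.FG ∧ ∃ ξ' : Abelian.Ext (ModuleCat.of R N) (ModuleCat.of R M') i,
      ξ'.comp (Abelian.Ext.mk₀ (ModuleCat.ofHom M'.subtype)) (add_zero i) = ξ := by
  intro i
  induction i with
  | zero =>
    intro N _ _ _ M _ _ ξ
    obtain ⟨φ, rfl⟩ : ∃ φ, Abelian.Ext.mk₀ φ = ξ := ⟨_, Ext.mk₀_linearEquiv₀_apply (R := R) ξ⟩
    refine ⟨LinearMap.range φ.hom, ?_, Abelian.Ext.mk₀ (ModuleCat.ofHom φ.hom.rangeRestrict), ?_⟩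
    · rw [← Submodule.map_top]
      exact (Module.Finite.fg_top).map _
    · rw [Ext.mk₀_comp_mk₀]
      rfl
  | succ i ih =>
    intro N _ _ _ M _ _ ξ
    obtain ⟨n, f, hf⟩ := Module.Finite.exists_fin' R N
    have hses := isSES_of_surjective hf
    have hS := hses.shortExact
    have : Projective (ModuleCat.of R (Fin n → R)) :=
      (IsProjective.iff_projective (R := R) (Fin n → R)).mp inferInstance
    have h0 : (Abelian.Ext.mk₀ hses.sc.g).comp ξ (zero_add (i + 1)) = 0 :=
      Ext.eq_zero_of_projective _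
    obtain ⟨η, hη⟩ := Ext.contravariant_sequence_exact₃ hS (ModuleCat.of R M) ξ h0
      (Nat.add_comm 1 i)
    obtain ⟨M', hM', η', hη'⟩ := ih (LinearMap.ker f) M η
    refine ⟨M', hM', hS.extClass.comp η' (Nat.add_comm 1 i), ?_⟩
    rw [Ext.comp_assoc_of_third_deg_zero, hη', hη]

end ExtFG

section FG

variable (I : Ideal R) (i : ℕ)

theorem H_subsingleton_of_subsingleton (M : Type u) [AddCommGroup M] [Module R M]
    [Subsingleton M] : Subsingleton (H I i M) := by
  refine ⟨fun a b => ?_⟩
  have h0 : ∀ y : H I i M, y = 0 := by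
    intro y
    have h1 : (LinearMap.id : M →ₗ[R] M) = 0 := by
      ext m; exact Subsingleton.elim _ _
    have h2 : Hmap I i (LinearMap.id : M →ₗ[R] M) y = y := by rw [Hmap_id]; rfl
    rw [← h2, h1, Hmap_zero]
    rfl
  rw [h0 a, h0 b]

/-- reduction of vanishing to finitely generated submodules (Noetherian case) -/
theorem H_subsingleton_of_forall_fg [IsNoetherianRing R] (M : Type u) [AddCommGroup M]
    [Module R M] (h : ∀ M' : Submodule R M, M'.FG → Subsingleton (H I i M')) :
    Subsingleton (H I i M) := by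
  refine ⟨fun a b => ?_⟩
  have h0 : ∀ y : H I i M, y = 0 := by
    intro y
    obtain ⟨n, ξ, rfl⟩ := exists_rep I i (ModuleCat.of R M) y
    obtain ⟨M', hM', ξ', rfl⟩ := ext_exists_fg i (R ⧸ I ^ n) M ξ
    have := h M' hM'
    have h1 := Hmap_ι I i M'.subtype n ξ'
    rw [← h1, Subsingleton.elim (ι I i (ModuleCat.of R M') n ξ') 0, map_zero]
  rw [h0 a, h0 b]

end FG

section Regular

variable (I : Ideal R) (i : ℕ) (M : Type u) [AddCommGroup M] [Module R M]

theorem isSES_smul {x : R} (hx : IsSMulRegular M x) :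
    IsSES (x • (LinearMap.id : M →ₗ[R] M)) (x • (⊤ : Submodule R M)).mkQ where
  inj := hx
  exact := by
    intro m
    rw [Submodule.mkQ_apply, Submodule.Quotient.mk_eq_zero]
    constructor
    · intro hm
      obtain ⟨m', -, rfl⟩ := (Submodule.mem_smul_pointwise_iff_exists _ _ _).mp hm
      exact ⟨m', rfl⟩
    · rintro ⟨m', rfl⟩
      exact Submodule.smul_mem_pointwise_smul m' x ⊤ Submodule.mem_top
  surj := Submodule.mkQ_surjective _

/-- if `x ∈ I` is `M`-regular and `H^i_I(M/xM) = 0` then `H^{i+1}_I(M) = 0` -/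
theorem H_subsingleton_succ_of_regular {x : R} (hxI : x ∈ I) (hx : IsSMulRegular M x)
    [Subsingleton (H I i (M ⧸ x • (⊤ : Submodule R M)))] : Subsingleton (H I (i + 1) M) := by
  apply H_subsingleton_of_smul_injective I (i + 1) M hxI
  have h := (isSES_smul M hx).Hmap_f_injective_succ I i
  intro a b hab
  apply h
  rw [Hmap_smul_id, Hmap_smul_id]
  exact hab

end Regular

end Groth.Agent.Helper8.LC
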