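import Groth.Agent.Lib.Helper8.LCDepth

/-!
# Uniform annihilators of local cohomology (helper8)

* `H_subsingleton_prod`, `H_subsingleton_pi_fin`, `H_subsingleton_of_free`
* `H_subsingleton_of_lt_idealDepth`: `H^i_b(P) = 0` for `P` finite free and `i < depth_b R`
* `exists_factor_of_free_localization`: if `M_p` is free then `s • id_M` factors through a finite
  free module for some `s ∉ p`
-/

set_option autoImplicit false
set_option linter.style.haveILetI false
universe u

namespace Groth.Agent.Helper8.LC

open Groth.Agent.Lead.Depth Pointwise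

section Prod

variable {R : Type u} [CommRing R] (I : Ideal R) (i : ℕ)

theorem isSES_inl_snd (M N : Type u) [AddCommGroup M] [Module R M] [AddCommGroup N] [Module R N] :
    IsSES (LinearMap.inl R M N) (LinearMap.snd R M N) where
  inj := LinearMap.inl_injective
  exact := by
    intro x
    constructor
    · intro hx
      refine ⟨x.1, ?_⟩
      ext
      · rfl
      · exact hx.symm
    · rintro ⟨m, rfl⟩
      rfl
  surj := LinearMap.snd_surjective

theorem H_subsingleton_prod (M N : Type u) [AddCommGroup M] [Module R M] [AddCommGroup N]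
    [Module R N] [Subsingleton (H I i M)] [Subsingleton (H I i N)] :
    Subsingleton (H I i (M × N)) :=
  (isSES_inl_snd M N).subsingleton_mid I i

theorem H_subsingleton_of_linearEquiv {M N : Type u} [AddCommGroup M] [Module R M]
    [AddCommGroup N] [Module R N] (e : M ≃ₗ[R] N) [Subsingleton (H I i M)] :
    Subsingleton (H I i N) :=
  (Hcongr I i e).symm.toEquiv.subsingleton

theorem H_subsingleton_pi_fin (M : Type u) [AddCommGroup M] [Module R M]
    [Subsingleton (H I i M)] : ∀ n : ℕ, Subsingleton (H I i (Fin n → M)) := by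
  intro n
  induction n with
  | zero => exact H_subsingleton_of_subsingleton I i (Fin 0 → M)
  | succ n ih =>
    haveI := ih
    haveI : Subsingleton (H I i (M × (Fin n → M))) := H_subsingleton_prod I i M (Fin n → M)
    exact H_subsingleton_of_linearEquiv I i (Fin.consLinearEquiv R (fun _ : Fin n.succ => M))

theorem H_subsingleton_of_free (P : Type u) [AddCommGroup P] [Module R P] [Module.Free R P]
    [Module.Finite R P] [Subsingleton (H I i R)] : Subsingleton (H I i P) := by
  rcases subsingleton_or_nontrivial R with hR | hR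
  · haveI : Subsingleton P := Module.subsingleton R P
    exact H_subsingleton_of_subsingleton I i P
  · let b := Module.Free.chooseBasis R P
    haveI : Fintype (Module.Free.ChooseBasisIndex R P) := Module.Free.ChooseBasisIndex.fintype R P
    let e : P ≃ₗ[R] (Fin (Fintype.card (Module.Free.ChooseBasisIndex R P)) → R) :=
      (b.reindex (Fintype.equivFin _)).equivFun
    haveI := H_subsingleton_pi_fin I i R (Fintype.card (Module.Free.ChooseBasisIndex R P))
    exact H_subsingleton_of_linearEquiv I i e.symm

end Prod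

section Depth

variable {R : Type u} [CommRing R] [IsNoetherianRing R]

theorem H_subsingleton_of_lt_idealDepth (b : Ideal R) (M : Type u) [AddCommGroup M] [Module R M]
    [Module.Finite R M] (i : ℕ) (hi : (i : ℕ∞) < LocCoh.idealDepth b M) :
    Subsingleton (H b i M) := by
  have h1 : ((i + 1 : ℕ) : ℕ∞) ≤ LocCoh.idealDepth b M := by
    have := Order.add_one_le_of_lt hi
    simpa using this
  exact (le_idealDepth_iff_H' b (i + 1) M).mp h1 i (Nat.lt_succ_self i)

theorem H_subsingleton_free_of_lt_idealDepth (b : Ideal R) (P : Type u) [AddCommGroup P]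
    [Module R P] [Module.Free R P] [Module.Finite R P] (i : ℕ)
    (hi : (i : ℕ∞) < LocCoh.idealDepth b R) : Subsingleton (H b i P) := by
  haveI := H_subsingleton_of_lt_idealDepth b R i hi
  exact H_subsingleton_of_free b i P

end Depth

section Factor

variable {R : Type u} [CommRing R]

/-- If `s • id_M` factors through a module `P` with `H^i_b(P) = 0`, then `s` kills `H^i_b(M)`. -/
theorem smul_eq_zero_of_factor (b : Ideal R) (i : ℕ) {M P : Type u} [AddCommGroup M] [Module R M]
    [AddCommGroup P] [Module R P] (s : R) (ψ : M →ₗ[R] P) (φ : P →ₗ[R] M)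
    (h : φ ∘ₗ ψ = s • LinearMap.id) [Subsingleton (H b i P)] (x : H b i M) : s • x = 0 := by
  rw [← Hmap_smul_id b i s x, ← h, Hmap_comp_apply, Subsingleton.elim (Hmap b i ψ x) 0, map_zero]

variable [IsNoetherianRing R]

open IsLocalizedModule in
theorem exists_factor_of_free_localization (M : Type u) [AddCommGroup M] [Module R M]
    [Module.Finite R M] (p : Ideal R) [p.IsPrime]
    [Module.Free (Localization.AtPrime p) (LocalizedModule p.primeCompl M)] :
    ∃ s : R, s ∉ p ∧ ∃ (n : ℕ) (ψ : M →ₗ[R] (Fin n → R)) (φ : (Fin n → R) →ₗ[R] M),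
      φ ∘ₗ ψ = s • LinearMap.id := by
  classical
  let S := p.primeCompl
  let Rp := Localization.AtPrime p
  let Mp := LocalizedModule S M
  haveI : Module.Finite Rp Mp := Module.Finite.of_isLocalizedModule S (LocalizedModule.mkLinearMap S M)
  let b := Module.Free.chooseBasis Rp Mp
  haveI : Fintype (Module.Free.ChooseBasisIndex Rp Mp) := Module.Free.ChooseBasisIndex.fintype Rp Mp
  let n := Fintype.card (Module.Free.ChooseBasisIndex Rp Mp)
  let e : Mp ≃ₗ[Rp] (Fin n → Rp) := (b.reindex (Fintype.equivFin _)).equivFun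
  let eR : Mp ≃ₗ[R] (Fin n → Rp) := e.restrictScalars R
  let f : M →ₗ[R] Mp := LocalizedModule.mkLinearMap S M
  let g : (Fin n → R) →ₗ[R] (Fin n → Rp) :=
    LinearMap.pi fun j => (Algebra.linearMap R Rp) ∘ₗ LinearMap.proj j
  haveI : IsLocalizedModule S g := IsLocalizedModule.pi S (fun _ : Fin n => Algebra.linearMap R Rp)
  haveI : Module.FinitePresentation R M := Module.finitePresentation_of_finite R M
  obtain ⟨ψ, s₀, hψ⟩ :=
    Module.FinitePresentation.exists_lift_of_isLocalizedModule S g (eR.toLinearMap ∘ₗ f)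
  obtain ⟨φ, s₀', hφ⟩ :=
    Module.FinitePresentation.exists_lift_of_isLocalizedModule S f (eR.symm.toLinearMap ∘ₗ g)
  have h3 : f ∘ₗ (φ ∘ₗ ψ) = f ∘ₗ (((s₀' * s₀ : S) : R) • LinearMap.id) := by
    ext m
    have h4 : g (ψ m) = (s₀ : R) • eR (f m) := LinearMap.congr_fun hψ m
    have h5 : f (φ (ψ m)) = (s₀' : R) • eR.symm (g (ψ m)) := LinearMap.congr_fun hφ (ψ m)
    change f (φ (ψ m)) = f ((((s₀' * s₀ : S) : R) • LinearMap.id) m)
    rw [h5, h4, map_smul, LinearEquiv.symm_apply_apply, smul_smul, LinearMap.smul_apply,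
      LinearMap.id_apply, map_smul, Submonoid.coe_mul]
  obtain ⟨s₁, h5⟩ := Module.Finite.exists_smul_of_comp_eq_of_isLocalizedModule S f _ _ h3
  refine ⟨((s₁ * (s₀' * s₀) : S) : R), (s₁ * (s₀' * s₀) : S).2, n, (s₁ : R) • ψ, φ, ?_⟩
  rw [LinearMap.comp_smul]
  have h6 : (s₁ : R) • (φ ∘ₗ ψ) = (s₁ : R) • (((s₀' * s₀ : S) : R) • LinearMap.id) := h5
  rw [h6]
  simp only [Submonoid.coe_mul, mul_smul]

end Factor

end Groth.Agent.Helper8.LC
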