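import Mathlib.Topology.NoetherianSpace
import Mathlib.Topology.JacobsonSpace
import Mathlib.Topology.KrullDimension

/-! Dimension of dense opens in locally Noetherian Jacobson spaces with equidimensional components
(helper8). -/

set_option autoImplicit false
universe u

namespace Groth.Agent.Helper8.JacDim

open TopologicalSpace in
/-- If `f` is inducing and `f '' s` is preirreducible then `s` is preirreducible. -/
theorem isPreirreducible_of_image {X Y : Type*} [TopologicalSpace X] [TopologicalSpace Y]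
    {f : Y → X} (hf : Topology.IsInducing f) (s : Set Y) (hs : IsPreirreducible (f '' s)) :
    IsPreirreducible s := by
  intro u v hu hv hsu hsv
  obtain ⟨u', hu', rfl⟩ := hf.isOpen_iff.mp hu
  obtain ⟨v', hv', rfl⟩ := hf.isOpen_iff.mp hv
  obtain ⟨a, has, hau⟩ := hsu
  obtain ⟨b, hbs, hbv⟩ := hsv
  obtain ⟨_, ⟨c, hcs, rfl⟩, hcu, hcv⟩ := hs u' v' hu' hv' ⟨f a, ⟨a, has, rfl⟩, hau⟩
    ⟨f b, ⟨b, hbs, rfl⟩, hbv⟩
  exact ⟨c, hcs, hcu, hcv⟩

open TopologicalSpace in
/-- The height of an irreducible closed subset `Z` contained in a closed set `T` is bounded by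
the dimension of `T`. -/
theorem height_le_dim_of_subset {X : Type*} [TopologicalSpace X] (T : Set X)
    (Z : IrreducibleCloseds X) (hZT : (Z : Set X) ⊆ T) :
    (Order.height Z : WithBot ℕ∞) ≤ topologicalKrullDim ↥T := by
  rw [Order.height_eq_krullDim_Iic]
  let g : Set.Iic Z → IrreducibleCloseds ↥T := fun W =>
    { carrier := Subtype.val ⁻¹' (W.1 : Set X)
      isIrreducible' := by
        have hWT : (W.1 : Set X) ⊆ T := (show (W.1 : Set X) ⊆ Z from W.2).trans hZT
        have himg : Subtype.val '' (Subtype.val ⁻¹' (W.1 : Set X) : Set ↥T) = (W.1 : Set X) := by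
          rw [Subtype.image_preimage_coe]
          exact Set.inter_eq_right.mpr hWT
        refine ⟨?_, isPreirreducible_of_image Topology.IsInducing.subtypeVal _ ?_⟩
        · obtain ⟨w, hw⟩ := W.1.isIrreducible.nonempty
          exact ⟨⟨w, hWT hw⟩, hw⟩
        · rw [himg]
          exact W.1.isIrreducible.isPreirreducible
      isClosed' := W.1.isClosed.preimage continuous_subtype_val }
  refine Order.krullDim_le_of_strictMono g ?_
  intro W₁ W₂ h
  have h1 : (W₁.1 : Set X) ⊆ T := (show (W₁.1 : Set X) ⊆ Z from W₁.2).trans hZT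
  have h2 : (W₂.1 : Set X) ⊆ T := (show (W₂.1 : Set X) ⊆ Z from W₂.2).trans hZT
  have hlt : (W₁.1 : Set X) ⊂ (W₂.1 : Set X) := h
  refine lt_of_le_of_ne ?_ ?_
  · exact fun a ha => hlt.le ha
  · intro heq
    have heq' : (Subtype.val ⁻¹' (W₁.1 : Set X) : Set ↥T) = Subtype.val ⁻¹' (W₂.1 : Set X) :=
      congrArg (fun W : IrreducibleCloseds ↥T => (W : Set ↥T)) heq
    have := congrArg (Set.image Subtype.val) heq'
    simp only [Subtype.image_preimage_coe] at this
    rw [Set.inter_eq_right.mpr h1, Set.inter_eq_right.mpr h2] at this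
    exact hlt.ne this

open TopologicalSpace in
theorem dim_eq_of_dense {X : Type u} [TopologicalSpace X] [JacobsonSpace X]
    (hloc : ∀ x : X, ∃ V : Set X, IsOpen V ∧ x ∈ V ∧ NoetherianSpace ↥V)
    (h3 : ∀ X' ∈ irreducibleComponents X, ∀ x ∈ X', IsClosed ({x} : Set X) →
      topologicalKrullDim (↥X' : Type u) = topologicalKrullDim ↥{t : X | t ∈ X' ∧ t ⤳ x})
    (U : Set X) (hU : IsOpen U) (hd : Dense U) :
    topologicalKrullDim ↥U = topologicalKrullDim X := by
  refine le_antisymm (topologicalKrullDim_subspace_le X U) ?_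
  rw [topologicalKrullDim, Order.krullDim_eq_iSup_height]
  refine iSup_le fun Z => ?_
  obtain ⟨X', hX', hZX'⟩ :=
    exists_mem_irreducibleComponents_subset_of_isIrreducible (Z : Set X) Z.isIrreducible
  refine (height_le_dim_of_subset X' Z hZX').trans ?_
  -- X' contains a nonempty open subset of X
  obtain ⟨x₀, hx₀⟩ := hX'.1.nonempty
  obtain ⟨V, hVo, hx₀V, hVN⟩ := hloc x₀
  have hemb : Topology.IsOpenEmbedding (Subtype.val : ↥V → X) := hVo.isOpenEmbedding_subtypeVal
  have hcomp : (Subtype.val ⁻¹' X' : Set ↥V) ∈ irreducibleComponents ↥V :=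
    preimage_mem_irreducibleComponents hX' hemb ⟨x₀, hx₀, ⟨⟨x₀, hx₀V⟩, rfl⟩⟩
  obtain ⟨o, ho, hone, hosub⟩ :=
    NoetherianSpace.exists_isOpen_nonempty_subset_irreducibleComponent _ hcomp
  have ho' : IsOpen (Subtype.val '' o : Set X) := hemb.isOpenMap _ ho
  obtain ⟨y, hyo, hyU⟩ := hd.inter_open_nonempty _ ho' (hone.image _)
  have hyX' : y ∈ X' := by
    obtain ⟨c, hc, rfl⟩ := hyo
    exact hosub hc
  have hX'cl : IsClosed X' := isClosed_of_mem_irreducibleComponents X' hX'
  obtain ⟨x, ⟨hxU, hxX'⟩, hxcl⟩ := nonempty_inter_closedPoints (Z := U ∩ X') ⟨y, hyU, hyX'⟩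
    (hU.isLocallyClosed.inter hX'cl.isLocallyClosed)
  rw [h3 X' hX' x hxX' hxcl]
  have hGU : {t : X | t ∈ X' ∧ t ⤳ x} ⊆ U := fun t ht => ht.2.mem_open hU hxU
  exact (Topology.IsEmbedding.inclusion hGU).isInducing.topologicalKrullDim_le

end Groth.Agent.Helper8.JacDim
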