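import Groth.Agent.Lib.Helper8.Canon7
import Groth.Agent.Lib.Lead.Depth14

/-!
# Canonical modules over Cohen–Macaulay rings: `K`-regular sequences are `R`-regular (helper8)
-/

set_option autoImplicit false
universe u

namespace Groth.Agent.Helper8.Canon

open TensorProduct IsLocalRing Groth.Agent.Helper8 Groth.Agent.Helper8.LC
open scoped Pointwise

section General

variable {R : Type u} [CommRing R] [IsNoetherianRing R] [IsLocalRing R]

/-- `dim M ≤ dim M/(rs)M + |rs|` for `rs ⊆ m` -/
theorem supportDim_le_quotient_add_length (rs : List R) :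
    ∀ (M : Type u) [AddCommGroup M] [Module R M] [Module.Finite R M],
      (∀ r ∈ rs, r ∈ maximalIdeal R) →
      Module.supportDim R M ≤
        Module.supportDim R (M ⧸ (Ideal.ofList rs • ⊤ : Submodule R M)) + (rs.length : WithBot ℕ∞) := by
  induction rs with
  | nil =>
    intro M _ _ _ _
    have h0 : (Ideal.ofList ([] : List R) • ⊤ : Submodule R M) = ⊥ := by
      rw [Ideal.ofList_nil, Submodule.bot_smul]
    rw [Module.supportDim_eq_of_equiv (Submodule.quotEquivOfEqBot _ h0)]
    simp
  | cons x rs ih =>
    intro M _ _ _ hmem
    have h1 := Module.supportDim_le_supportDim_quotSMulTop_succ (M := M)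
      (hmem x List.mem_cons_self)
    have h2 := ih (QuotSMulTop x M) (fun r hr => hmem r (List.mem_cons_of_mem _ hr))
    rw [Module.supportDim_eq_of_equiv
      (Submodule.quotOfListConsSMulTopEquivQuotSMulTopInner M x rs)]
    calc Module.supportDim R M ≤ Module.supportDim R (QuotSMulTop x M) + 1 := h1
      _ ≤ (Module.supportDim R (QuotSMulTop x M ⧸
            (Ideal.ofList rs • ⊤ : Submodule R (QuotSMulTop x M))) + (rs.length : WithBot ℕ∞)) + 1 := by
          gcongr
      _ = _ := by
          rw [List.length_cons, add_assoc]
          push_cast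
          rfl

theorem withBot_enat_le_of_add_one_le' {a b : WithBot ℕ∞} (h : a + 1 ≤ b + 1) : a ≤ b := by
  induction b with
  | bot =>
    rw [WithBot.bot_add, le_bot_iff] at h
    induction a with
    | bot => exact le_rfl
    | coe a => exact absurd h (by exact WithBot.coe_ne_bot)
  | coe b =>
    induction a with
    | bot => exact bot_le
    | coe a =>
      have h1 : a + 1 ≤ b + 1 := by exact_mod_cast h
      have h2 : a ≤ b := by
        induction b with
        | top => exact le_top
        | coe l =>
          induction a with
          | top =>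
            rw [top_add] at h1
            exact absurd (top_le_iff.mp h1) (by exact_mod_cast ENat.natCast_ne_top (l + 1))
          | coe k =>
            have : k + 1 ≤ l + 1 := by exact_mod_cast h1
            exact_mod_cast Nat.le_of_succ_le_succ this
      exact_mod_cast h2

theorem isCohenMacaulayModule_congr {M N : Type u} [AddCommGroup M] [Module R M] [AddCommGroup N]
    [Module R N] (e : M ≃ₗ[R] N) (hM : LocCoh.IsCohenMacaulayModule R M) :
    LocCoh.IsCohenMacaulayModule R N := by
  unfold LocCoh.IsCohenMacaulayModule at hM ⊢
  rw [← Module.supportDim_eq_of_equiv e, ← Groth.Agent.Lead.Depth.depth_congr (R := R) e]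
  exact hM

/-- a sequence in `m` cutting the dimension of a Cohen–Macaulay module down by its length is
regular -/
theorem isWeaklyRegular_of_supportDim_drop (rs : List R) :
    ∀ (M : Type u) [AddCommGroup M] [Module R M] [Module.Finite R M],
      LocCoh.IsCohenMacaulayModule R M → (∀ r ∈ rs, r ∈ maximalIdeal R) →
      Module.supportDim R (M ⧸ (Ideal.ofList rs • ⊤ : Submodule R M)) + (rs.length : WithBot ℕ∞) =
        Module.supportDim R M → RingTheory.Sequence.IsWeaklyRegular M rs := by
  induction rs with
  | nil =>
    intro M _ _ _ _ _ _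
    exact RingTheory.Sequence.IsWeaklyRegular.nil R M
  | cons x rs ih =>
    intro M _ _ _ hM hmem hdim
    have hxm := hmem x List.mem_cons_self
    have hmem' : ∀ r ∈ rs, r ∈ maximalIdeal R := fun r hr => hmem r (List.mem_cons_of_mem _ hr)
    have h1 := Module.supportDim_le_supportDim_quotSMulTop_succ (M := M) hxm
    have h2 := supportDim_le_quotient_add_length rs (QuotSMulTop x M) hmem'
    rw [Module.supportDim_eq_of_equiv
      (Submodule.quotOfListConsSMulTopEquivQuotSMulTopInner M x rs)] at hdim
    have hdim' : (Module.supportDim R (QuotSMulTop x M ⧸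
        (Ideal.ofList rs • ⊤ : Submodule R (QuotSMulTop x M))) + (rs.length : WithBot ℕ∞)) + 1 =
        Module.supportDim R M := by
      rw [← hdim, List.length_cons, add_assoc]
      push_cast
      rfl
    have h3 : Module.supportDim R (QuotSMulTop x M) + 1 = Module.supportDim R M := by
      refine le_antisymm ?_ h1
      rw [← hdim']
      gcongr
    have h4 : Module.supportDim R (QuotSMulTop x M ⧸
        (Ideal.ofList rs • ⊤ : Submodule R (QuotSMulTop x M))) + (rs.length : WithBot ℕ∞) =
        Module.supportDim R (QuotSMulTop x M) := by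
      refine le_antisymm ?_ h2
      apply withBot_enat_le_of_add_one_le'
      rw [hdim', h3]
    have h5 : Module.supportDim R (M ⧸ Ideal.span {x} • (⊤ : Submodule R M)) + 1 =
        Module.supportDim R M := by
      rw [Module.supportDim_eq_of_equiv (Groth.Agent.Lead.Depth.quotSpanSingletonEquiv M x)]
      exact h3
    obtain ⟨hreg, hCMQ, -⟩ :=
      Groth.Agent.Lead.Depth.cohenMacaulay_quotient_of_supportDim_drop M hM x hxm h5
    have hCMQ' : LocCoh.IsCohenMacaulayModule R (QuotSMulTop x M) :=
      isCohenMacaulayModule_congr (Groth.Agent.Lead.Depth.quotSpanSingletonEquiv M x) hCMQ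
    rw [RingTheory.Sequence.isWeaklyRegular_cons_iff]
    exact ⟨hreg, ih (QuotSMulTop x M) hCMQ' hmem' h4⟩

end General

section Canon

variable {R : Type u} [CommRing R] [hCM : LocCoh.IsCohenMacaulayLocalRing R] {n : ℕ}
  {E : Type u} [AddCommGroup E] [Module R E] {f : ResidueField R →ₗ[R] E}
  {K : Type u} [AddCommGroup K] [Module R K] [Module.Finite R K]

/-- over a Cohen–Macaulay local ring the canonical module has full support -/
theorem support_canon_eq_univ (hn : ringKrullDim R = n) (hf : InjHull.IsInjectiveHull f)
    (eK : (K →ₗ[R] E) ≃ₗ[R] H (maximalIdeal R) n R) : Module.support R K = Set.univ := by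
  rw [Set.eq_univ_iff_forall]
  intro p
  obtain ⟨q, hq, hqp⟩ := Ideal.exists_minimalPrimes_le (I := (⊥ : Ideal R)) (J := p.asIdeal) bot_le
  have hqA : q ∈ associatedPrimes R R := by
    apply Module.associatedPrimes.minimalPrimes_annihilator_subset_associatedPrimes R R
    have : Module.annihilator R R = ⊥ := by
      rw [eq_bot_iff]
      intro a ha
      have := Module.mem_annihilator.mp ha 1
      rw [smul_eq_mul, mul_one] at this
      exact this
    rw [this]
    exact hq
  have hqd : ringKrullDim (R ⧸ q) = n := by
    have := Groth.Agent.Lead.Depth.ringKrullDim_quotient_eq_of_mem_associatedPrimes R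
      hCM.supportDim_eq_depth q hqA
    rw [this, Module.supportDim_self_eq_ringKrullDim, hn]
  have hqK : q ∈ associatedPrimes R K := by
    rw [associatedPrimes_canon hn hf eK]
    exact ⟨hq.1.1, hqd⟩
  have hqp' : q.IsPrime := hq.1.1
  have hqS : (⟨q, hqp'⟩ : PrimeSpectrum R) ∈ Module.support R K := by
    rw [Module.mem_support_iff_of_finite]
    exact Groth.Agent.Lead.Depth.annihilator_le_of_mem_associatedPrimes K q hqK
  exact Module.mem_support_mono (p := ⟨q, hqp'⟩) (q := p) hqp hqS

/-- `K`-regular sequences are `R`-regular. -/
theorem isWeaklyRegular_self_of_canon (hn : ringKrullDim R = n) (hf : InjHull.IsInjectiveHull f)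
    (eK : (K →ₗ[R] E) ≃ₗ[R] H (maximalIdeal R) n R) (rs : List R)
    (hmem : ∀ r ∈ rs, r ∈ maximalIdeal R) (hreg : RingTheory.Sequence.IsRegular K rs) :
    RingTheory.Sequence.IsWeaklyRegular R rs := by
  have hsupp := support_canon_eq_univ hn hf eK
  have h1 := Module.supportDim_add_length_eq_supportDim_of_isRegular rs hreg
  have hsuppR : Module.support R R = Set.univ := by
    rw [Set.eq_univ_iff_forall]
    intro p
    rw [Module.mem_support_iff_of_finite]
    have : Module.annihilator R R = ⊥ := by
      rw [eq_bot_iff]
      intro a ha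
      have := Module.mem_annihilator.mp ha 1
      rw [smul_eq_mul, mul_one] at this
      exact this
    rw [this]
    exact bot_le
  have h2 : Module.supportDim R K = Module.supportDim R R := by
    unfold Module.supportDim
    rw [hsupp, hsuppR]
  have h3 : Module.supportDim R (K ⧸ (Ideal.ofList rs • ⊤ : Submodule R K)) =
      Module.supportDim R (R ⧸ (Ideal.ofList rs • ⊤ : Submodule R R)) := by
    unfold Module.supportDim
    rw [Module.support_quotient, Module.support_quotient, hsupp, hsuppR]
  rw [h2, h3] at h1
  exact isWeaklyRegular_of_supportDim_drop rs R hCM.supportDim_eq_depth hmem h1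

end Canon

end Groth.Agent.Helper8.Canon
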