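import Groth.Agent.Lib.Helper8.ExtBC1

/-!
# `Ext` of finite modules over a Noetherian ring is finite (helper8)
-/

set_option autoImplicit false
universe u

namespace Groth.Agent.Helper8.ExtFin

open CategoryTheory Abelian Groth.Agent.Helper8 Groth.Agent.Helper8.LC Groth.Agent.Helper8.ExtBC

variable {A : Type u} [CommRing A] [IsNoetherianRing A]

theorem finite_ext (N : Type u) [AddCommGroup N] [Module A N] [Module.Finite A N] :
    ∀ (k : ℕ) (M : Type u) [AddCommGroup M] [Module A M] [Module.Finite A M],
      Module.Finite A (Ext (ModuleCat.of A M) (ModuleCat.of A N) k) := by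
  intro k
  induction k with
  | zero =>
    intro M _ _ _
    exact Module.Finite.equiv (ext0Equiv M N).symm
  | succ k ih =>
    intro M _ _ _
    obtain ⟨n, f, hf⟩ := Module.Finite.exists_fin' A M
    have hS : IsSES (LinearMap.ker f).subtype f := isSES_of_surjective hf
    rcases k with _ | k
    · exact Module.Finite.of_surjective (bdry hS N) (bdry_surjective hS N)
    · haveI := ih (LinearMap.ker f)
      exact Module.Finite.of_surjective (extδ hS (ModuleCat.of A N) (k + 1))
        (extδ_bijective hS (ModuleCat.of A N) k).2

end Groth.Agent.Helper8.ExtFin
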