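import Groth.Agent.Lib.Helper8.CanonLoc1
import Groth.Agent.Lib.Helper8.Canon10
import Groth.Agent.Lib.Helper8.ExtFin
import Groth.Agent.Lib.Lead.Bass5

/-!
# Local duality over homomorphic images of Gorenstein local rings (helper8)
Part 1: generic lemmas.
-/

set_option autoImplicit false
universe u

namespace Groth.Agent.Helper8.LDual

open IsLocalRing CategoryTheory Abelian Groth.Agent.Helper8 Groth.Agent.Helper8.LC
  Groth.Agent.Helper8.Canon Groth.Agent.Helper8.Gor
open scoped Pointwise TensorProduct

section Support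

variable {A : Type u} [CommRing A]

/-- for a finite module `D`: `J ≤ √Ann D` iff `D` vanishes at all primes not containing `J` -/
theorem le_radical_annihilator_iff (D : Type u) [AddCommGroup D] [Module A D] [Module.Finite A D]
    (J : Ideal A) :
    J ≤ (Module.annihilator A D).radical ↔
      ∀ (P : Ideal A) [P.IsPrime], ¬ J ≤ P → Subsingleton (LocalizedModule P.primeCompl D) := by
  constructor
  · intro h P hP hJP
    obtain ⟨a, haJ, haP⟩ := SetLike.not_le_iff_exists.mp hJP
    obtain ⟨N, hN⟩ := h haJ
    rw [LocalizedModule.subsingleton_iff]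
    intro m
    exact ⟨a ^ N, fun hmem => haP (hP.mem_of_pow_mem N hmem),
      (Module.mem_annihilator.mp hN) m⟩
  · intro h
    rw [Ideal.radical_eq_sInf]
    apply le_sInf
    rintro P ⟨hle, hP⟩
    by_contra hJP
    haveI := hP
    have hsub := h P hJP
    have hns : (⟨P, hP⟩ : PrimeSpectrum A) ∉ Module.support A D :=
      Module.notMem_support_iff.mpr hsub
    exact hns (Module.mem_support_iff_of_finite.mpr hle)

end Support

section Dual

variable {A : Type u} [CommRing A] [IsLocalRing A]
  {E : Type u} [AddCommGroup E] [Module A E] {f : ResidueField A →ₗ[A] E}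

/-- an element kills the Matlis dual iff it kills the module -/
theorem smul_dual_eq_zero_iff (hf : InjHull.IsInjectiveHull f) (Y : Type u) [AddCommGroup Y]
    [Module A Y] (a : A) :
    (∀ φ : Y →ₗ[A] E, a • φ = 0) ↔ ∀ y : Y, a • y = 0 := by
  constructor
  · intro h y
    apply Matlis.applyₗ_injective hf Y
    refine LinearMap.ext fun χ => ?_
    rw [map_zero, LinearMap.zero_apply, LinearMap.applyₗ_apply_apply, map_smul,
      ← LinearMap.smul_apply, h χ, LinearMap.zero_apply]
  · intro h φ
    ext y
    rw [LinearMap.smul_apply, ← map_smul, h y, map_zero, LinearMap.zero_apply]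

theorem subsingleton_dual_iff (hf : InjHull.IsInjectiveHull f) (Y : Type u) [AddCommGroup Y]
    [Module A Y] : Subsingleton (Y →ₗ[A] E) ↔ Subsingleton Y :=
  ⟨fun h => subsingleton_of_dual_subsingleton hf Y h, fun _ => inferInstance⟩

end Dual

section GorDual

variable {A : Type u} [CommRing A] [hG : LocCoh.IsGorensteinLocalRing A] {s : ℕ}

/-- local duality over a Gorenstein local ring -/
theorem nonempty_gorenstein_duality (hs : ringKrullDim A = s)
    {E : Type u} [AddCommGroup E] [Module A E] {f : ResidueField A →ₗ[A] E}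
    (hf : InjHull.IsInjectiveHull f) (i d : ℕ) (hid : i + d = s)
    (X : Type u) [AddCommGroup X] [Module A X] [Module.Finite A X] :
    Nonempty (H (maximalIdeal A) d X ≃ₗ[A]
      (Ext (ModuleCat.of A X) (ModuleCat.of A A) i →ₗ[A] E)) := by
  haveI hCM := Groth.Agent.Lead.Depth.isCohenMacaulayLocalRing_of_isGorensteinLocalRing A
  have hhi := Groth.Agent.Lead.Depth.gorenstein_ext_residueField_subsingleton (R := A) s hs
    (s + 1) le_rfl
  obtain ⟨e⟩ := nonempty_H_equiv_hull hs hf hhi
  have eK : (A →ₗ[A] E) ≃ₗ[A] H (maximalIdeal A) s A :=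
    LinearMap.ringLmapEquivSelf A A E ≪≫ₗ e.symm
  exact local_duality_aux hs hf eK i d hid X

/-- vanishing of `Ext^i(X, A)` in terms of local cohomology -/
theorem subsingleton_ext_iff (hs : ringKrullDim A = s) (i : ℕ)
    (X : Type u) [AddCommGroup X] [Module A X] [Module.Finite A X] :
    Subsingleton (Ext (ModuleCat.of A X) (ModuleCat.of A A) i) ↔
      (i ≤ s → Subsingleton (H (maximalIdeal A) (s - i) X)) := by
  obtain ⟨E, _, _, f, hf⟩ :=
    Groth.Agent.Helper1.exists_injectiveHull (R := A) (ResidueField A)
  by_cases hi : i ≤ s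
  · obtain ⟨e⟩ := nonempty_gorenstein_duality hs hf i (s - i) (by omega) X
    constructor
    · intro h _
      haveI := h
      exact e.toEquiv.subsingleton
    · intro h
      haveI := h hi
      haveI : Subsingleton (Ext (ModuleCat.of A X) (ModuleCat.of A A) i →ₗ[A] E) :=
        e.symm.toEquiv.subsingleton
      exact subsingleton_of_dual_subsingleton hf _ inferInstance
  · constructor
    · intro _ h
      exact absurd h hi
    · intro _
      exact Groth.Agent.Lead.Depth.gorenstein_ext_subsingleton s hs X i (by omega)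

/-- `dim A = ht I + dim A/I` in a Gorenstein local ring -/
theorem height_add_eq (hs : ringKrullDim A = s) (I : Ideal A) (hI : I ≠ ⊤) (d : ℕ)
    (hd : ringKrullDim (A ⧸ I) = d) (g : ℕ) (hg : I.height = g) : s = g + d := by
  obtain ⟨c, rs, hsc, hlen, hreg, hmem, -⟩ := TLD.exists_regular_sequence hs I hI d hd
  have hIeq : (I • ⊤ : Submodule A A) = I := by
    change I • (⊤ : Ideal A) = I
    rw [smul_eq_mul, Ideal.mul_top]
  have htop : I • (⊤ : Submodule A A) ≠ ⊤ := by
    rw [hIeq]; exact hI
  have h1 : (c : ℕ∞) ≤ LocCoh.idealDepth I A :=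
    (Groth.Agent.Lead.Depth.le_idealDepth_iff I A htop c).mpr ⟨rs, hlen, hreg, hmem⟩
  have h2 := Groth.Agent.Lead.Depth.idealDepth_self_le_height I
  have h3 : c ≤ g := by
    have : (c : ℕ∞) ≤ (g : ℕ∞) := by rw [← hg]; exact h1.trans h2
    exact_mod_cast this
  have h4 := TLD.height_add_le I d s hd hs
  rw [hg] at h4
  have h5 : g + d ≤ s := by exact_mod_cast h4
  omega

end GorDual

end Groth.Agent.Helper8.LDual
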