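import Groth.Agent.Lib.Helper8.Canon14

/-!
# Gorenstein ⇔ the canonical module is free of rank one (helper8)
-/

set_option autoImplicit false
universe u

namespace Groth.Agent.Helper8.Canon

open IsLocalRing CategoryTheory Abelian Groth.Agent.Helper8 Groth.Agent.Helper8.LC
open scoped Pointwise

section General

variable {R : Type u} [CommRing R]

/-- `Hom(R/J, M) ≃ M[J]` -/
noncomputable def homQuotEquivTorsion (J : Ideal R) (M : Type u) [AddCommGroup M] [Module R M] :
    ((R ⧸ J) →ₗ[R] M) ≃ₗ[R] Submodule.torsionBySet R M (J : Set R) where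
  toFun φ := ⟨φ (Submodule.Quotient.mk 1), by
    rw [Submodule.mem_torsionBySet_iff]
    intro a
    rw [← map_smul, ← Submodule.Quotient.mk_smul, smul_eq_mul, mul_one,
      (Submodule.Quotient.mk_eq_zero _).mpr a.2, map_zero]⟩
  map_add' _ _ := rfl
  map_smul' _ _ := rfl
  invFun z := (J : Submodule R R).liftQ (LinearMap.toSpanSingleton R M z.1) (by
    intro a ha
    rw [LinearMap.mem_ker, LinearMap.toSpanSingleton_apply]
    exact (Submodule.mem_torsionBySet_iff _ _).mp z.2 ⟨a, ha⟩)
  left_inv φ := by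
    refine LinearMap.ext fun y => ?_
    obtain ⟨r, rfl⟩ := Submodule.Quotient.mk_surjective _ y
    change r • φ (Submodule.Quotient.mk 1) = φ (Submodule.Quotient.mk r)
    rw [← map_smul, ← Submodule.Quotient.mk_smul, smul_eq_mul, mul_one]
  right_inv z := by
    apply Subtype.ext
    change (1 : R) • z.1 = z.1
    rw [one_smul]

variable [IsLocalRing R] [IsNoetherianRing R]

/-- Nakayama: a lift of a generator of `M/JM` generates `M` -/
theorem span_singleton_eq_top_of_quotient (J : Ideal R) (hJ : J ≤ maximalIdeal R) (M : Type u)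
    [AddCommGroup M] [Module R M] [Module.Finite R M] (c : M)
    (h : Submodule.span R {(Submodule.Quotient.mk c : M ⧸ (J • ⊤ : Submodule R M))} = ⊤) :
    Submodule.span R {c} = ⊤ := by
  apply le_antisymm le_top
  apply Submodule.le_of_le_smul_of_le_jacobson_bot (I := J) Module.Finite.fg_top
    (hJ.trans (maximalIdeal_le_jacobson _))
  intro x _
  have hx : (Submodule.Quotient.mk x : M ⧸ (J • ⊤ : Submodule R M)) ∈
      Submodule.span R {(Submodule.Quotient.mk c : M ⧸ (J • ⊤ : Submodule R M))} := by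
    rw [h]; trivial
  obtain ⟨r, hr⟩ := Submodule.mem_span_singleton.mp hx
  rw [← Submodule.Quotient.mk_smul, Submodule.Quotient.eq] at hr
  have : x = r • c - (r • c - x) := by abel
  rw [this]
  exact Submodule.sub_mem _
    (Submodule.mem_sup_left (Submodule.smul_mem _ _ (Submodule.mem_span_singleton_self c)))
    (Submodule.mem_sup_right hr)

theorem isFiniteLength_of_pow_le_annihilator (M : Type u) [AddCommGroup M] [Module R M]
    [Module.Finite R M] (t : ℕ) (h : maximalIdeal R ^ t ≤ Module.annihilator R M) :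
    IsFiniteLength R M := by
  rw [Groth.Agent.Helper5.HS.isFiniteLength_iff_support]
  intro p hp
  rw [Module.mem_support_iff_of_finite] at hp
  have : p.asIdeal = maximalIdeal R := Matlis.isMaximal_of_pow_le t p.asIdeal (h.trans hp)
  rw [this]
  infer_instance

/-- vanishing of `Ext^i(-, Y)` on finite length modules from the residue field -/
theorem ext_subsingleton_of_isFiniteLength (Y : ModuleCat.{u} R) (i : ℕ)
    (h : Subsingleton (Ext (ModuleCat.of R (ResidueField R)) Y i))
    (N : Type u) [AddCommGroup N] [Module R N] (hN : IsFiniteLength R N) :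
    Subsingleton (Ext (ModuleCat.of R N) Y i) := by
  induction hN with
  | of_subsingleton =>
    exact Groth.Agent.Lead.Depth.ext_subsingleton_of_isZero_left
      (ModuleCat.isZero_of_subsingleton _) _ i
  | @of_simple_quotient M _ _ N' _ hN' ih =>
    have hS := isSES_subtype_mkQ N'
    obtain ⟨I, hI, ⟨e⟩⟩ := isSimpleModule_iff_quot_maximal.1
      (inferInstance : IsSimpleModule R (M ⧸ N'))
    obtain rfl : I = maximalIdeal R := IsLocalRing.eq_maximalIdeal hI
    have e' : Ext (ModuleCat.of R (ResidueField R)) Y i ≃ₗ[R] Ext (ModuleCat.of R (M ⧸ N')) Y i :=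
      extCongrLeft e Y i
    have h3 : Subsingleton (Ext (ModuleCat.of R (M ⧸ N')) Y i) := e'.symm.toEquiv.subsingleton
    exact Groth.Agent.Lead.Depth.ext_subsingleton_left_X₂ hS.shortExact Y i ih h3

end General

theorem enat_eq_one_of_eq_mul {a : ℕ} (ha0 : a ≠ 0) {t : ℕ∞} (h : (a : ℕ∞) = a * t) : t = 1 := by
  induction t using ENat.recTopCoe with
  | top =>
    rw [ENat.mul_top (by exact_mod_cast ha0)] at h
    exact absurd h (ENat.coe_ne_top a)
  | coe t =>
    have h4 : a = a * t := by exact_mod_cast h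
    have h5 : t = 1 := by
      have : a * 1 = a * t := by rw [mul_one]; exact h4
      exact (Nat.eq_of_mul_eq_mul_left (Nat.pos_of_ne_zero ha0) this).symm
    rw [h5]; rfl

section Main

variable {R : Type u} [CommRing R] [hCM : LocCoh.IsCohenMacaulayLocalRing R] {n : ℕ}
  {E : Type u} [AddCommGroup E] [Module R E] {f : ResidueField R →ₗ[R] E}
  {K : Type u} [AddCommGroup K] [Module R K] [Module.Finite R K]

/-- the socle of `R/(xs)` for a maximal regular sequence has length one, if `Ext^{n+1}(k,R) = 0` -/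
theorem length_torsion_quotient_eq_one (hn : ringKrullDim R = n)
    (hhi : Subsingleton (Ext (ModuleCat.of R (ResidueField R)) (ModuleCat.of R R) (n + 1)))
    (rs : List R) (hlen : rs.length = n) (hreg : RingTheory.Sequence.IsWeaklyRegular R rs)
    (hmem : ∀ r ∈ rs, r ∈ maximalIdeal R)
    (hfl : IsFiniteLength R (R ⧸ (Ideal.ofList rs • ⊤ : Submodule R R)))
    (hnt : Nontrivial (R ⧸ (Ideal.ofList rs • ⊤ : Submodule R R))) :
    Module.length R (Submodule.torsionBySet R (R ⧸ (Ideal.ofList rs • ⊤ : Submodule R R))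
      (maximalIdeal R : Set R)) = 1 := by
  -- vanishing below `n` on the residue field
  have hlo : ∀ i < n, Subsingleton (Ext (ModuleCat.of R (ResidueField R)) (ModuleCat.of R R) i) := by
    have h1 := (Groth.Agent.Lead.Depth.le_idealDepth_iff_ext (maximalIdeal R) R
      (maximalIdeal_smul_top_ne_top (R := R) (M := R)) n).mp (depth_eq_of_CM hn).ge
    exact h1
  have hloN : ∀ (N : Type u) [AddCommGroup N] [Module R N], IsFiniteLength R N → ∀ i < n,
      Subsingleton (Ext (ModuleCat.of R N) (ModuleCat.of R R) i) := fun N _ _ hN i hi =>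
    ext_subsingleton_of_isFiniteLength _ i (hlo i hi) N hN
  have hhiN : ∀ (N : Type u) [AddCommGroup N] [Module R N], IsFiniteLength R N →
      Subsingleton (Ext (ModuleCat.of R N) (ModuleCat.of R R) (n + 1)) := fun N _ _ hN =>
    ext_subsingleton_of_isFiniteLength _ (n + 1) hhi N hN
  set A := R ⧸ (Ideal.ofList rs • ⊤ : Submodule R R) with hA
  set t := Module.length R (Ext (ModuleCat.of R (ResidueField R)) (ModuleCat.of R R) n) with ht
  -- `A` is killed by `rs`
  have hkillA : ∀ r ∈ rs, ∀ y : A, r • y = 0 := by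
    intro r hr y
    obtain ⟨x, rfl⟩ := Submodule.Quotient.mk_surjective _ y
    rw [← Submodule.Quotient.mk_smul, Submodule.Quotient.mk_eq_zero]
    exact Submodule.smul_mem_smul (Ideal.subset_span hr) Submodule.mem_top
  have hkillk : ∀ r ∈ rs, ∀ y : ResidueField R, r • y = 0 := fun r hr y =>
    Matlis.residue_smul_eq_zero r (hmem r hr) y
  -- Rees isomorphisms
  obtain ⟨eA⟩ := rees rs R A hreg hkillA (by rw [hlen]; exact hloN A hfl)
  obtain ⟨ek⟩ := rees rs R (ResidueField R) hreg hkillk (by rw [hlen]; exact hlo)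
  rw [hlen] at eA ek
  -- lengths
  have h1 : Module.length R (Ext (ModuleCat.of R A) (ModuleCat.of R R) n) = Module.length R A * t :=
    length_ext_eq_mul _ n hloN hhiN A hfl
  have htorsA : Submodule.torsionBySet R A ((Ideal.ofList rs • ⊤ : Submodule R R) : Set R) = ⊤ := by
    rw [eq_top_iff]
    intro y _
    rw [Submodule.mem_torsionBySet_iff]
    rintro ⟨a, ha⟩
    obtain ⟨x, rfl⟩ := Submodule.Quotient.mk_surjective _ y
    change a • Submodule.Quotient.mk x = 0
    rw [← Submodule.Quotient.mk_smul, Submodule.Quotient.mk_eq_zero, smul_eq_mul]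
    exact Ideal.mul_mem_right _ _ ha
  have h2 : Module.length R (Ext (ModuleCat.of R A) (ModuleCat.of R R) n) = Module.length R A := by
    rw [eA.length_eq, (homQuotEquivTorsion (Ideal.ofList rs • ⊤ : Submodule R R) A).length_eq,
      htorsA, Module.length_top]
  have h3 : t = 1 := by
    rw [h2] at h1
    obtain ⟨a, ha⟩ := ENat.ne_top_iff_exists.mp (Module.length_ne_top_iff.mpr hfl)
    have ha0 : a ≠ 0 := by
      intro h0
      rw [h0] at ha
      have : Module.length R A = 0 := ha.symm
      rw [Module.length_eq_zero_iff] at this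
      exact not_subsingleton A this
    rw [← ha] at h1
    exact enat_eq_one_of_eq_mul ha0 h1
  rw [← (homQuotEquivTorsion (maximalIdeal R) A).length_eq]
  have h6 : Module.length R (ResidueField R →ₗ[R] A) = t := ek.length_eq.symm
  exact h6.trans h3

/-- if `Ext^{n+1}(k, R) = 0` then the canonical module is free of rank one -/
theorem nonempty_equiv_self_of_ext_vanish (hn : ringKrullDim R = n) (hf : InjHull.IsInjectiveHull f)
    (eK : (K →ₗ[R] E) ≃ₗ[R] H (maximalIdeal R) n R)
    (hhi : Subsingleton (Ext (ModuleCat.of R (ResidueField R)) (ModuleCat.of R R) (n + 1))) :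
    Nonempty (K ≃ₗ[R] R) := by
  obtain ⟨rs, hlen, hreg, hmem⟩ := Groth.Agent.Lead.Depth.exists_of_le_idealDepth
    (maximalIdeal R) R (maximalIdeal_smul_top_ne_top (R := R) (M := R)) n (depth_eq_of_CM hn).ge
  obtain ⟨hK, st⟩ := canon_of_isWeaklyRegular hn hf eK rs hmem hreg
  rw [hlen, Nat.sub_self] at st
  obtain ⟨e⟩ := st.iso
  have htors : IsTors (maximalIdeal R) (R ⧸ (Ideal.ofList rs • ⊤ : Submodule R R)) := by
    have hg := gam_eq_top_of_supportDim_le_zero (R ⧸ (Ideal.ofList rs • ⊤ : Submodule R R))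
      (by exact_mod_cast st.dim)
    intro m
    have : m ∈ gam (maximalIdeal R) (R ⧸ (Ideal.ofList rs • ⊤ : Submodule R R)) := by
      rw [hg]; trivial
    exact this
  have e₀ : ((K ⧸ (Ideal.ofList rs • ⊤ : Submodule R K)) →ₗ[R] E) ≃ₗ[R]
      (R ⧸ (Ideal.ofList rs • ⊤ : Submodule R R)) := e ≪≫ₗ htors.H0Equiv (maximalIdeal R)
  obtain ⟨j, hj⟩ := htors.exists_pow_of_fg (maximalIdeal R) Module.Finite.fg_top
  have hfl : IsFiniteLength R (R ⧸ (Ideal.ofList rs • ⊤ : Submodule R R)) :=
    isFiniteLength_of_pow_le_annihilator _ j (fun a ha => Module.mem_annihilator.mpr (hj a ha))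
  have hle : Ideal.ofList rs ≤ maximalIdeal R := by
    rw [Ideal.ofList, Ideal.span_le]
    exact fun x hx => hmem x hx
  have hnt : Nontrivial (R ⧸ (Ideal.ofList rs • ⊤ : Submodule R R)) := by
    rw [Submodule.Quotient.nontrivial_iff, ← lt_top_iff_ne_top]
    refine lt_of_le_of_lt (b := (maximalIdeal R : Submodule R R)) ?_ ?_
    · refine Submodule.smul_le.mpr fun r hr x _ => ?_
      rw [smul_eq_mul]
      exact Ideal.mul_mem_right _ _ (hle hr)
    · exact lt_top_iff_ne_top.mpr (Ideal.IsMaximal.ne_top inferInstance)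
  have hsoc := length_torsion_quotient_eq_one hn hhi rs hlen hreg hmem hfl hnt
  have e1 : (((K ⧸ (Ideal.ofList rs • ⊤ : Submodule R K)) ⧸
      (maximalIdeal R • ⊤ : Submodule R (K ⧸ (Ideal.ofList rs • ⊤ : Submodule R K)))) →ₗ[R] E) ≃ₗ[R]
      Submodule.torsionBySet R (R ⧸ (Ideal.ofList rs • ⊤ : Submodule R R))
        (maximalIdeal R : Set R) :=
    Uniq.dualQuotTorsionEquiv E _ (maximalIdeal R) ≪≫ₗ Uniq.torsionBySetCongr e₀ _
  have hfl0 : IsFiniteLength R ((K ⧸ (Ideal.ofList rs • ⊤ : Submodule R K)) ⧸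
      (maximalIdeal R • ⊤ : Submodule R (K ⧸ (Ideal.ofList rs • ⊤ : Submodule R K)))) := by
    have := Uniq.isFiniteLength_quotient_maximalIdeal_pow (R := R)
      (K ⧸ (Ideal.ofList rs • ⊤ : Submodule R K)) 1
    rwa [pow_one] at this
  have hlen1 : Module.length R ((K ⧸ (Ideal.ofList rs • ⊤ : Submodule R K)) ⧸
      (maximalIdeal R • ⊤ : Submodule R (K ⧸ (Ideal.ofList rs • ⊤ : Submodule R K)))) = 1 := by
    rw [← Matlis.length_hom hf _ hfl0, e1.length_eq, hsoc]
  have hsimple := Module.length_eq_one_iff.mp hlen1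
  have hntQ := hsimple.nontrivial
  obtain ⟨v, hv⟩ := exists_ne (0 : (K ⧸ (Ideal.ofList rs • ⊤ : Submodule R K)) ⧸
      (maximalIdeal R • ⊤ : Submodule R (K ⧸ (Ideal.ofList rs • ⊤ : Submodule R K))))
  obtain ⟨c₀, rfl⟩ := Submodule.Quotient.mk_surjective _ v
  obtain ⟨c, rfl⟩ := Submodule.Quotient.mk_surjective _ c₀
  have h1 := span_singleton_eq_top_of_quotient (maximalIdeal R) le_rfl
    (K ⧸ (Ideal.ofList rs • ⊤ : Submodule R K)) _ (IsSimpleModule.span_singleton_eq_top R hv)
  have h2 : Submodule.span R {c} = ⊤ :=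
    span_singleton_eq_top_of_quotient (Ideal.ofList rs) hle K c h1
  have hann := (homothety_canon hn hf eK).2
  refine ⟨(LinearEquiv.ofBijective (LinearMap.toSpanSingleton R K c) ⟨?_, ?_⟩).symm⟩
  · rw [injective_iff_map_eq_zero]
    intro r hr
    rw [LinearMap.toSpanSingleton_apply] at hr
    have hr' : r ∈ Module.annihilator R K := by
      rw [Module.mem_annihilator]
      intro x
      have hx : x ∈ Submodule.span R {c} := by rw [h2]; trivial
      obtain ⟨s, rfl⟩ := Submodule.mem_span_singleton.mp hx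
      rw [smul_comm, hr, smul_zero]
    exact (Ideal.mem_bot.mp (hann hr'))
  · rw [← LinearMap.range_eq_top, ← LinearMap.span_singleton_eq_range]
    exact h2

end Main

end Groth.Agent.Helper8.Canon
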