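import Mathlib
import Groth.Agent.Lib.Lead.Fib1
import Groth.Agent.Lib.Helper14.FibreSmooth
import Groth.Agent.Lib.Helper14.FibreGeneric
import Groth.Agent.Lib.Helper14.LocalDimSpec

/-!
# The dimension of the fibre local rings of a standard smooth algebra (helper8)

For `A → B` standard smooth of relative dimension `n`, a prime `q` of `B` over `p`:
`dim (B_q / p B_q) + trdeg (κ(q) / κ(p)) = n`.
-/

set_option autoImplicit false

universe u

namespace Groth.Agent.Helper8.SmD

open TensorProduct IsLocalRing Groth.Agent.Lead.Fib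

variable (A B : Type u) [CommRing A] [CommRing B] [Algebra A B]

/-- `dim (FL p q)` is the height of the corresponding prime of the fibre ring -/
theorem ringKrullDim_FL_eq_height (p : Ideal A) [p.IsPrime] (Q : Ideal (p.Fiber B)) [Q.IsPrime]
    (q : Ideal B) [q.IsPrime]
    (hq : Q.comap (Algebra.TensorProduct.includeRight : B →ₐ[A] p.Fiber B) = q) :
    ringKrullDim (FL p q) = ((Q.height : ℕ∞) : WithBot ℕ∞) := by
  subst hq
  rw [← ringKrullDim_eq_of_ringEquiv (fiberLocEquiv (S := B) p Q)]
  exact IsLocalization.AtPrime.ringKrullDim_eq_height Q (Localization.AtPrime Q)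

/-- **dimension of the fibre local ring of a standard smooth algebra** -/
theorem ringKrullDim_FL_add_trdeg (n : ℕ) [Algebra.IsStandardSmoothOfRelativeDimension n A B]
    (p : Ideal A) [p.IsPrime] (q : Ideal B) [q.IsPrime] [q.LiesOver p]
    (t : ℕ) (ht : Algebra.trdeg (A ⧸ p) (B ⧸ q) = t) :
    ringKrullDim (FL p q) + (t : WithBot ℕ∞) = (n : WithBot ℕ∞) := by
  obtain ⟨Q, hQ⟩ := exists_fiber_prime p q
  haveI : Q.asIdeal.IsPrime := Q.isPrime
  haveI : Algebra.FiniteType p.ResidueField (p.Fiber B) := by
    haveI : Algebra.FinitePresentation A B :=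
      (Algebra.IsStandardSmoothOfRelativeDimension.isStandardSmooth n
        (R := A) (S := B)).finitePresentation
    infer_instance
  have h1 := Groth.Agent.Helper14.FibreSmooth.localDim_of_isStandardSmoothOfRelativeDimension
    p.ResidueField (p.Fiber B) n Q
  have h2 := Groth.Agent.Helper14.FibreGeneric.trdeg_fiber_quotient A B p Q.asIdeal q hQ
  have h3 := Groth.Agent.Helper14.LocalDimSpec.localDim_eq p.ResidueField (p.Fiber B) Q.asIdeal t
    (h2.trans ht)
  rw [ringKrullDim_FL_eq_height A B p Q.asIdeal q hQ, ← h3]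
  exact h1

end Groth.Agent.Helper8.SmD
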