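import Mathlib
import Groth.Agent.Lib.Lead.LocLocGen

set_option autoImplicit false
set_option linter.style.haveILetI false
set_option linter.unusedSectionVars false

universe u

open LocCoh IsLocalRing

namespace Groth.Agent.Helper8.SCH

open Groth.Agent.Lead.Depth Groth.Agent.Lead.DimF

section Bij

variable {R R' : Type u} [CommRing R] [CommRing R'] [IsNoetherianRing R] [IsNoetherianRing R']
  [Algebra R R'] (hb : Function.Bijective (algebraMap R R'))
  (N : Type u) [AddCommGroup N] [Module R N] [Module R' N] [IsScalarTower R R' N]
  [Module.Finite R' N]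

include hb in
/-- `(S_k)` only depends on the ring up to isomorphism -/
theorem hasSk_of_bijective (k : ℕ) (h : LocCoh.HasSk k R' N) : LocCoh.HasSk k R N := by
  intro p hp
  let e : R ≃+* R' := RingEquiv.ofBijective (algebraMap R R') hb
  have he : ∀ x, e x = algebraMap R R' x := fun x => rfl
  let p' : Ideal R' := p.comap e.symm.toRingHom
  haveI hp' : p'.IsPrime := Ideal.comap_isPrime _ _
  have hmem : ∀ y : R', y ∈ p' ↔ e.symm y ∈ p := fun y => Iff.rfl
  have hS : Algebra.algebraMapSubmonoid R' p.primeCompl = p'.primeCompl := by
    ext y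
    constructor
    · rintro ⟨x, hx, rfl⟩
      show ¬ (algebraMap R R' x ∈ p')
      rw [hmem, ← he, e.symm_apply_apply]
      exact hx
    · intro hy
      exact ⟨e.symm y, hy, e.apply_symm_apply y⟩
  have h1 := h p'
  have hcomap : p = p'.comap (e : R →+* R') := by
    ext x
    rw [Ideal.mem_comap, hmem]
    simp
  have hmap : p.primeCompl.map (e : R →* R') = p'.primeCompl := by
    ext y
    constructor
    · rintro ⟨x, hx, rfl⟩
      show ¬ (e x ∈ p')
      rw [hmem, e.symm_apply_apply]
      exact hx
    · intro hy
      exact ⟨e.symm y, hy, e.apply_symm_apply y⟩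
  let ep : Localization.AtPrime p ≃+* Localization.AtPrime p' :=
    IsLocalization.ringEquivOfRingEquiv (Localization.AtPrime p) (Localization.AtPrime p') e hmap
  have hep : ∀ x : R, ep (algebraMap R (Localization.AtPrime p) x) =
      algebraMap R' (Localization.AtPrime p') (e x) := by
    intro x
    exact IsLocalization.ringEquivOfRingEquiv_eq _ _
  letI alg : Algebra (Localization.AtPrime p) (Localization.AtPrime p') :=
    ep.toRingHom.toAlgebra
  letI mod : Module (Localization.AtPrime p) (LocalizedModule p'.primeCompl N) :=
    Module.compHom _ ep.toRingHom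
  haveI t1 : IsScalarTower (Localization.AtPrime p) (Localization.AtPrime p')
      (LocalizedModule p'.primeCompl N) :=
    ⟨fun x y n => by
      change (ep x * y) • n = ep x • (y • n)
      exact mul_smul _ _ _⟩
  haveI t2 : IsScalarTower R (Localization.AtPrime p) (LocalizedModule p'.primeCompl N) :=
    ⟨fun a x n => by
      change ep (a • x) • n = a • (ep x • n)
      rw [Algebra.smul_def, map_mul, hep, mul_smul, he, algebraMap_smul, algebraMap_smul]⟩
  have hsurj : Function.Surjective (algebraMap (Localization.AtPrime p)
      (Localization.AtPrime p')) := fun y => ⟨ep.symm y, ep.apply_symm_apply y⟩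
  let f : N →ₗ[R] LocalizedModule p'.primeCompl N :=
    (LocalizedModule.mkLinearMap p'.primeCompl N).restrictScalars R
  haveI hloc : IsLocalizedModule p.primeCompl f := by
    haveI : IsLocalizedModule (Algebra.algebraMapSubmonoid R' p.primeCompl)
        (LocalizedModule.mkLinearMap p'.primeCompl N) := by
      rw [hS]
      infer_instance
    exact IsLocalizedModule.restrictScalars p.primeCompl
      (LocalizedModule.mkLinearMap p'.primeCompl N)
  have hd1 := depth_localizedModule_eq_of_isLocalizedModule p f
  have hd2 := depth_eq_of_surjective hsurj (LocalizedModule p'.primeCompl N)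
  have hs1 := Module.supportDim_eq_of_equiv
    ((IsLocalizedModule.linearEquiv p.primeCompl (LocalizedModule.mkLinearMap p.primeCompl N)
      f).extendScalarsOfIsLocalization p.primeCompl (Localization.AtPrime p))
  have hs2 := supportDim_eq_of_surjective hsurj (LocalizedModule p'.primeCompl N)
  rw [hd1, hd2, hs1, hs2]
  exact h1

end Bij

section Semi

variable {R R' : Type u} [CommRing R] [CommRing R'] [IsNoetherianRing R] [IsNoetherianRing R']
  (σ : R ≃+* R') {M M' : Type u} [AddCommGroup M] [Module R M] [AddCommGroup M'] [Module R' M']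
  [Module.Finite R' M'] (θ : M ≃+ M') (hθ : ∀ (r : R) (m : M), θ (r • m) = σ r • θ m)

include hθ in
/-- **`(S_k)` is invariant under semilinear isomorphisms** -/
theorem hasSk_of_semilinear (k : ℕ) (h : LocCoh.HasSk k R' M') : LocCoh.HasSk k R M := by
  letI alg : Algebra R R' := σ.toRingHom.toAlgebra
  letI mod : Module R M' := Module.compHom M' σ.toRingHom
  haveI t : IsScalarTower R R' M' :=
    ⟨fun r s m => by
      change (σ r * s) • m = σ r • (s • m)
      exact mul_smul _ _ _⟩
  let θ' : M ≃ₗ[R] M' :=
    { θ with
      map_smul' := fun r m => hθ r m }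
  rw [Groth.Agent.Lead.Fib.hasSk_congr k θ']
  exact hasSk_of_bijective (R := R) (R' := R') σ.bijective M' k h

end Semi

end Groth.Agent.Helper8.SCH
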