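import Mathlib

/-!
# The polynomial ring `R[x_1, …, x_n]` is standard smooth of relative dimension `n` (helper8)
-/

set_option autoImplicit false

universe u

namespace Groth.Agent.Helper8.SmD

open Algebra MvPolynomial

variable (R : Type u) [CommRing R] (n : ℕ)

/-- the presentation of the polynomial ring with no relations -/
noncomputable def mvPres : Algebra.Presentation R (MvPolynomial (Fin n) R) (Fin n) PEmpty.{1} where
  toGenerators := Algebra.Generators.mvPolynomial R (Fin n)
  relation := PEmpty.elim
  span_range_relation_eq_ker := by
    rw [Algebra.Generators.ker_mvPolynomial]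
    have : Set.range (PEmpty.elim : PEmpty.{1} → (Algebra.Generators.mvPolynomial R (Fin n)).Ring) = ∅ :=
      Set.range_eq_empty _
    rw [this, Ideal.span_empty]

/-- the pre-submersive presentation of the polynomial ring -/
noncomputable def mvPre :
    Algebra.PreSubmersivePresentation R (MvPolynomial (Fin n) R) (Fin n) PEmpty.{1} where
  toPresentation := mvPres R n
  map := PEmpty.elim
  map_inj (a b : PEmpty) h := by contradiction

theorem mvPre_jacobian : (mvPre R n).jacobian = 1 := by
  rw [Algebra.PreSubmersivePresentation.jacobian_eq_jacobiMatrix_det, RingHom.map_det]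
  exact Matrix.det_isEmpty

/-- the submersive presentation of the polynomial ring -/
noncomputable def mvSub :
    Algebra.SubmersivePresentation R (MvPolynomial (Fin n) R) (Fin n) PEmpty.{1} where
  toPreSubmersivePresentation := mvPre R n
  jacobian_isUnit := by
    rw [mvPre_jacobian]
    exact isUnit_one

instance isStandardSmoothOfRelativeDimension_mvPolynomial :
    Algebra.IsStandardSmoothOfRelativeDimension n R (MvPolynomial (Fin n) R) := by
  refine Algebra.SubmersivePresentation.isStandardSmoothOfRelativeDimension (mvSub R n) ?_
  change Nat.card (Fin n) - Nat.card PEmpty = n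
  simp

end Groth.Agent.Helper8.SmD
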