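import Groth.Agent.Lib.Helper8.LCBasic

/-!
# Torsion properties of `localCohomology`: annihilation, `H⁰ = Γ_I`, vanishing on injectives (helper8)
-/

open CategoryTheory CategoryTheory.Limits Opposite Abelian
universe u

namespace Groth.Agent.Helper8.LC

variable {R : Type u} [CommRing R] (I : Ideal R) (i : ℕ)

section Annihilate

variable {X Y : ModuleCat.{u} R}

theorem ext_smul_eq_mk₀_comp {n : ℕ} (r : R) (x : Abelian.Ext X Y n) :
    r • x = (Abelian.Ext.mk₀ (r • 𝟙 X)).comp x (zero_add n) := by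
  rw [Ext.mk₀_smul, Ext.smul_comp, Ext.mk₀_id_comp]

theorem ext_smul_eq_zero_of_left {n : ℕ} {r : R} (hr : ∀ x : X, r • x = 0)
    (x : Abelian.Ext X Y n) : r • x = 0 := by
  rw [ext_smul_eq_mk₀_comp]
  have : r • 𝟙 X = 0 := by
    ext y
    exact hr y
  rw [this, Ext.mk₀_zero, Ext.zero_comp]

theorem ext_smul_eq_zero_of_right {n : ℕ} {r : R} (hr : ∀ y : Y, r • y = 0)
    (x : Abelian.Ext X Y n) : r • x = 0 := by
  rw [Ext.smul_eq_comp_mk₀]
  have : r • 𝟙 Y = 0 := by
    ext y
    exact hr y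
  rw [this, Ext.mk₀_zero, Ext.comp_zero]

theorem smul_RmodPow_eq_zero {n : ℕ} {a : R} (ha : a ∈ I ^ n) (y : RmodPow I n) : a • y = 0 := by
  obtain ⟨y, rfl⟩ := Submodule.Quotient.mk_surjective _ y
  rw [← Submodule.Quotient.mk_smul, Submodule.Quotient.mk_eq_zero]
  exact Ideal.mul_mem_right _ _ ha

variable (M : ModuleCat.{u} R)

theorem smul_ι_eq_zero {n : ℕ} {a : R} (ha : a ∈ I ^ n) (x : Abelian.Ext (RmodPow I n) M i) :
    a • ι I i M n x = 0 := by
  rw [← map_smul, ext_smul_eq_zero_of_left (smul_RmodPow_eq_zero I ha), map_zero]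

/-- local cohomology is `I`-power torsion -/
theorem exists_pow_smul_eq_zero (x : (localCohomology I i).obj M) :
    ∃ n : ℕ, ∀ a ∈ I ^ n, a • x = 0 := by
  obtain ⟨n, ξ, rfl⟩ := exists_rep I i M x
  exact ⟨n, fun a ha => smul_ι_eq_zero I i M ha ξ⟩

/-- if `a ∈ I` acts injectively on `H^i_I(M)`, then `H^i_I(M) = 0` -/
theorem subsingleton_of_smul_injective {a : R} (ha : a ∈ I)
    (hinj : Function.Injective (fun x : (localCohomology I i).obj M => a • x)) :
    Subsingleton ((localCohomology I i).obj M) := by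
  refine ⟨fun x y => ?_⟩
  have h0 : ∀ z : (localCohomology I i).obj M, z = 0 := by
    intro z
    obtain ⟨n, hn⟩ := exists_pow_smul_eq_zero I i M z
    have h1 : a ^ n • z = 0 := hn _ (Ideal.pow_mem_pow ha n)
    have h2 : ∀ k : ℕ, a ^ k • z = 0 → z = 0 := by
      intro k
      induction k with
      | zero => intro h; simpa using h
      | succ k ih =>
        intro h
        apply ih
        apply hinj
        change a • a ^ k • z = a • (0 : (localCohomology I i).obj M)
        rw [smul_zero, ← mul_smul, ← pow_succ']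
        exact h
    exact h2 n h1
  rw [h0 x, h0 y]

end Annihilate

section Injective

variable (M : ModuleCat.{u} R)

theorem subsingleton_of_injective [Injective M] (hi : 0 < i) :
    Subsingleton ((localCohomology I i).obj M) := by
  obtain ⟨j, rfl⟩ : ∃ j, i = j + 1 := ⟨i - 1, by omega⟩
  refine ⟨fun x y => ?_⟩
  have h0 : ∀ z : (localCohomology I (j + 1)).obj M, z = 0 := by
    intro z
    obtain ⟨n, ξ, rfl⟩ := exists_rep I (j + 1) M z
    rw [Ext.eq_zero_of_injective ξ, map_zero]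
  rw [h0 x, h0 y]

end Injective

section HZero

variable (M : ModuleCat.{u} R)

/-- the `I`-power torsion submodule -/
def gam (M : Type u) [AddCommGroup M] [Module R M] : Submodule R M where
  carrier := {m | ∃ n : ℕ, ∀ a ∈ I ^ n, a • m = 0}
  zero_mem' := ⟨0, fun a _ => smul_zero a⟩
  add_mem' := by
    rintro m m' ⟨n, hn⟩ ⟨n', hn'⟩
    refine ⟨n + n', fun a ha => ?_⟩
    rw [smul_add, hn a (Ideal.pow_le_pow_right (Nat.le_add_right n n') ha),
      hn' a (Ideal.pow_le_pow_right (Nat.le_add_left n' n) ha), add_zero]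
  smul_mem' := by
    rintro c m ⟨n, hn⟩
    exact ⟨n, fun a ha => by rw [smul_comm, hn a ha, smul_zero]⟩

theorem mem_gam {M : Type u} [AddCommGroup M] [Module R M] (m : M) :
    m ∈ gam I M ↔ ∃ n : ℕ, ∀ a ∈ I ^ n, a • m = 0 := Iff.rfl

/-- evaluation at `1` of the morphism underlying a degree-zero Ext class -/
noncomputable def ev (n : ℕ) : Abelian.Ext (RmodPow I n) M 0 →ₗ[R] M :=
  (LinearMap.applyₗ (Submodule.Quotient.mk (1 : R) : R ⧸ I ^ n)) ∘ₗ
    (ModuleCat.homLinearEquiv (S := R)).toLinearMap ∘ₗ (Ext.linearEquiv₀ (R := R)).toLinearMap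

theorem ev_mk₀ (n : ℕ) (φ : RmodPow I n ⟶ M) :
    ev I M n (Abelian.Ext.mk₀ φ) = φ.hom (Submodule.Quotient.mk (1 : R)) := by
  unfold ev
  simp only [LinearMap.comp_apply, LinearEquiv.coe_coe]
  have : Ext.linearEquiv₀ (R := R) (Abelian.Ext.mk₀ φ) = φ := by
    apply (Ext.linearEquiv₀ (R := R)).symm.injective
    simp
  rw [this]
  rfl

theorem ev_trans {n m : ℕ} (h : n ≤ m) (ξ : Abelian.Ext (RmodPow I n) M 0) :
    ev I M m ((Abelian.Ext.mk₀ (trans I h)).comp ξ (zero_add 0)) = ev I M n ξ := by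
  obtain ⟨φ, rfl⟩ : ∃ φ, Abelian.Ext.mk₀ φ = ξ := ⟨_, Ext.mk₀_linearEquiv₀_apply (R := R) ξ⟩
  rw [Ext.mk₀_comp_mk₀, ev_mk₀, ev_mk₀]
  rfl

theorem ev_eq_zero_iff (n : ℕ) (ξ : Abelian.Ext (RmodPow I n) M 0) : ev I M n ξ = 0 ↔ ξ = 0 := by
  constructor
  · intro h
    obtain ⟨φ, rfl⟩ : ∃ φ, Abelian.Ext.mk₀ φ = ξ := ⟨_, Ext.mk₀_linearEquiv₀_apply (R := R) ξ⟩
    rw [ev_mk₀] at h
    have : φ = 0 := by
      apply ModuleCat.hom_ext
      apply LinearMap.ext
      intro y
      obtain ⟨y, rfl⟩ := Submodule.Quotient.mk_surjective _ y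
      have hy : (Submodule.Quotient.mk y : R ⧸ I ^ n) = y • Submodule.Quotient.mk (1 : R) := by
        rw [← Submodule.Quotient.mk_smul, smul_eq_mul, mul_one]
      rw [hy, map_smul, h, smul_zero]
      rfl
    rw [this, Ext.mk₀_zero]
  · rintro rfl
    rw [map_zero]

theorem ev_mem_gam (n : ℕ) (ξ : Abelian.Ext (RmodPow I n) M 0) : ev I M n ξ ∈ gam I M := by
  refine ⟨n, fun a ha => ?_⟩
  rw [← map_smul, ext_smul_eq_zero_of_left (smul_RmodPow_eq_zero I ha), map_zero]

/-- legs of the cocone -/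
noncomputable def toModLeg (n : ℕ) : oldObj I 0 M n ⟶ M :=
  ModuleCat.ofHom (ev I M n ∘ₗ (extEquiv (RmodPow I n) M 0).toLinearMap)

theorem oldTrans_toModLeg {n m : ℕ} (h : n ≤ m) :
    oldTrans I 0 M h ≫ toModLeg I M m = toModLeg I M n := by
  ext y
  change ev I M m (extEquiv _ M 0 ((oldTrans I 0 M h).hom y)) = ev I M n (extEquiv _ M 0 y)
  rw [extEquiv_oldTrans, ev_trans]

/-- the cocone defining `H⁰_I(M) → M` -/
noncomputable def toModCocone : Cocone (lcDiagram I 0 ⋙ (evaluation _ _).obj M) where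
  pt := M
  ι :=
    { app := fun n => toModLeg I M n.unop.unop
      naturality := by
        rintro ⟨⟨n⟩⟩ ⟨⟨m⟩⟩ f
        have hle : n ≤ m := leOfHom f.unop.unop
        have hf : f = (homOfLE hle).op.op := Subsingleton.elim _ _
        subst hf
        simp only [Functor.const_obj_obj, Functor.const_obj_map, Category.comp_id]
        exact oldTrans_toModLeg I M hle }

/-- the canonical map `H⁰_I(M) → M` -/
noncomputable def toMod : (localCohomology I 0).obj M ⟶ M :=
  (evalCoconeIsColimit I 0 M).desc (toModCocone I M)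

theorem toMod_ι (n : ℕ) (ξ : Abelian.Ext (RmodPow I n) M 0) :
    (toMod I M).hom (ι I 0 M n ξ) = ev I M n ξ := by
  rw [ι_apply]
  have h := congrArg (fun t => t.hom ((extEquiv (RmodPow I n) M 0).symm ξ))
    ((evalCoconeIsColimit I 0 M).fac (toModCocone I M) (op (op n)))
  simp only [ModuleCat.hom_comp, LinearMap.comp_apply] at h
  refine h.trans ?_
  change ev I M n (extEquiv _ M 0 ((extEquiv (RmodPow I n) M 0).symm ξ)) = _
  rw [LinearEquiv.apply_symm_apply]

theorem toMod_injective : Function.Injective (toMod I M).hom := by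
  rw [injective_iff_map_eq_zero]
  intro x hx
  obtain ⟨n, ξ, rfl⟩ := exists_rep I 0 M x
  rw [toMod_ι, ev_eq_zero_iff] at hx
  rw [hx, map_zero]

theorem toMod_mem_gam (x : (localCohomology I 0).obj M) : (toMod I M).hom x ∈ gam I M := by
  obtain ⟨n, ξ, rfl⟩ := exists_rep I 0 M x
  rw [toMod_ι]
  exact ev_mem_gam I M n ξ

theorem exists_toMod_eq {m : M} (hm : m ∈ gam I M) : ∃ x, (toMod I M).hom x = m := by
  obtain ⟨n, hn⟩ := hm
  let φ : (R ⧸ I ^ n) →ₗ[R] M :=
    Submodule.liftQ (I ^ n) (LinearMap.toSpanSingleton R M m) (by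
      intro a ha
      rw [LinearMap.mem_ker, LinearMap.toSpanSingleton_apply]
      exact hn a ha)
  refine ⟨ι I 0 M n (Abelian.Ext.mk₀ (ModuleCat.ofHom φ)), ?_⟩
  rw [toMod_ι, ev_mk₀]
  change φ (Submodule.Quotient.mk 1) = m
  rw [Submodule.liftQ_apply, LinearMap.toSpanSingleton_apply, one_smul]

variable {M} {M' : ModuleCat.{u} R}

theorem toMod_naturality (f : M ⟶ M') (x : (localCohomology I 0).obj M) :
    (toMod I M').hom (((localCohomology I 0).map f).hom x) = f.hom ((toMod I M).hom x) := by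
  obtain ⟨n, ξ, rfl⟩ := exists_rep I 0 M x
  rw [map_ι, toMod_ι, toMod_ι]
  obtain ⟨φ, rfl⟩ : ∃ φ, Abelian.Ext.mk₀ φ = ξ := ⟨_, Ext.mk₀_linearEquiv₀_apply (R := R) ξ⟩
  rw [Ext.mk₀_comp_mk₀, ev_mk₀, ev_mk₀]
  rfl

end HZero

section HZeroModule

variable (M : Type u) [AddCommGroup M] [Module R M]

/-- `H⁰_I(M) ≃ Γ_I(M)` -/
noncomputable def H0Equiv : H I 0 M ≃ₗ[R] gam I M :=
  LinearEquiv.ofBijective
    ((toMod I (ModuleCat.of R M)).hom.codRestrict (gam I M) (toMod_mem_gam I (ModuleCat.of R M)))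
    ⟨fun x y h => toMod_injective I (ModuleCat.of R M) (congrArg Subtype.val h),
      fun ⟨m, hm⟩ => by
        obtain ⟨x, hx⟩ := exists_toMod_eq I (ModuleCat.of R M) hm
        exact ⟨x, Subtype.ext hx⟩⟩

theorem H0Equiv_apply (x : H I 0 M) :
    (H0Equiv I M x : M) = (toMod I (ModuleCat.of R M)).hom x := rfl

variable {M} {N : Type u} [AddCommGroup N] [Module R N]

theorem H0Equiv_naturality (f : M →ₗ[R] N) (x : H I 0 M) :
    (H0Equiv I N (Hmap I 0 f x) : N) = f (H0Equiv I M x : M) :=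
  toMod_naturality I (ModuleCat.ofHom f) x

/-- `Γ_I` on maps -/
def gamMap (f : M →ₗ[R] N) : gam I M →ₗ[R] gam I N :=
  f.restrict (fun m hm => by
    obtain ⟨n, hn⟩ := hm
    exact ⟨n, fun a ha => by rw [← map_smul, hn a ha, map_zero]⟩)

@[simp] theorem gamMap_coe (f : M →ₗ[R] N) (x : gam I M) : (gamMap I f x : N) = f x := rfl

theorem H0Equiv_Hmap (f : M →ₗ[R] N) (x : H I 0 M) :
    H0Equiv I N (Hmap I 0 f x) = gamMap I f (H0Equiv I M x) :=
  Subtype.ext (H0Equiv_naturality I f x)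

theorem Hmap_H0Equiv_symm (f : M →ₗ[R] N) (y : gam I M) :
    Hmap I 0 f ((H0Equiv I M).symm y) = (H0Equiv I N).symm (gamMap I f y) := by
  apply (H0Equiv I N).injective
  rw [H0Equiv_Hmap, LinearEquiv.apply_symm_apply, LinearEquiv.apply_symm_apply]

end HZeroModule

section InjectiveModule

variable (M : Type u) [AddCommGroup M] [Module R M]

theorem H_subsingleton_of_injective [Module.Injective R M] (hi : 0 < i) :
    Subsingleton (H I i M) := by
  have := Module.injective_object_of_injective_module R M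
  exact subsingleton_of_injective I i (ModuleCat.of R M) hi

theorem H_exists_pow_smul_eq_zero (x : H I i M) : ∃ n : ℕ, ∀ a ∈ I ^ n, a • x = 0 :=
  exists_pow_smul_eq_zero I i (ModuleCat.of R M) x

theorem H_subsingleton_of_smul_injective {a : R} (ha : a ∈ I)
    (hinj : Function.Injective (fun x : H I i M => a • x)) : Subsingleton (H I i M) :=
  subsingleton_of_smul_injective I i (ModuleCat.of R M) ha hinj

end InjectiveModule

end Groth.Agent.Helper8.LC
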