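import Groth.Agent.Lib.Helper8.LCTors
import Groth.Prelude.Def_DualLC

/-!
# The comparison maps `H^i_{I'}(M) → H^i_I(M)` for `I ≤ I'`, element-level (helper8)
-/

open CategoryTheory CategoryTheory.Limits Opposite Abelian
universe u

namespace Groth.Agent.Helper8.LC

variable {R : Type u} [CommRing R] {I I' I'' : Ideal R} (h : I ≤ I') (i : ℕ)

/-- the surjection `R/I^n → R/I'^n` -/
noncomputable def quotLE (n : ℕ) : RmodPow I n ⟶ RmodPow I' n :=
  ModuleCat.ofHom (Submodule.mapQ (I ^ n) (I' ^ n) LinearMap.id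
    (by simpa using Ideal.pow_right_mono h n))

theorem quotLE_apply (n : ℕ) (r : R) :
    (quotLE h n).hom (Submodule.Quotient.mk r) = Submodule.Quotient.mk r := rfl

section Cat

variable (M : ModuleCat.{u} R)

/-- the comparison map on the category level -/
noncomputable def θ : (localCohomology I' i).obj M ⟶ (localCohomology I i).obj M :=
  (Dual2.HmapOfLE h i).app M

theorem leg_θ (n : ℕ) :
    leg I' i M n ≫ θ h i M =
      ((Ext R (ModuleCat.{u} R) i).map (quotLE h n).op).app M ≫ leg I i M n := by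
  have h1 := ι_colimMap (Functor.whiskerRight (NatTrans.op (Dual2.quotMapOfLE h))
    (Ext R (ModuleCat.{u} R) i)) (op (op n))
  exact congrArg (fun t => t.app M) h1

theorem θ_ι (n : ℕ) (x : Abelian.Ext (RmodPow I' n) M i) :
    (θ h i M).hom (ι I' i M n x) =
      ι I i M n ((Abelian.Ext.mk₀ (quotLE h n)).comp x (zero_add i)) := by
  rw [ι_apply, ι_apply]
  have h1 := congrArg (fun t => t.hom ((extEquiv (RmodPow I' n) M i).symm x)) (leg_θ h i M n)
  simp only [ModuleCat.hom_comp, LinearMap.comp_apply] at h1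
  rw [h1]
  congr 1
  apply (extEquiv (RmodPow I n) M i).injective
  rw [LinearEquiv.apply_symm_apply, extEquiv_naturality_left, LinearEquiv.apply_symm_apply]

end Cat

section Mod

variable (M : Type u) [AddCommGroup M] [Module R M]

/-- the comparison map `H^i_{I'}(M) → H^i_I(M)` as a linear map -/
noncomputable def Hθ : H I' i M →ₗ[R] H I i M :=
  ((Dual2.HmapOfLE h i).app (ModuleCat.of R M)).hom

theorem Hθ_def : Hθ h i M = ((Dual2.HmapOfLE h i).app (ModuleCat.of R M)).hom := rfl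

theorem Hθ_ι (n : ℕ) (x : Abelian.Ext (RmodPow I' n) (ModuleCat.of R M) i) :
    Hθ h i M (ι I' i (ModuleCat.of R M) n x) =
      ι I i (ModuleCat.of R M) n ((Abelian.Ext.mk₀ (quotLE h n)).comp x (zero_add i)) :=
  θ_ι h i (ModuleCat.of R M) n x

variable {M} {N P : Type u} [AddCommGroup N] [Module R N] [AddCommGroup P] [Module R P]

/-- naturality in the module -/
theorem Hθ_Hmap (f : M →ₗ[R] N) (x : H I' i M) :
    Hθ h i N (Hmap I' i f x) = Hmap I i f (Hθ h i M x) := by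
  have h1 := (Dual2.HmapOfLE h i).naturality (ModuleCat.ofHom f)
  have h2 := congrArg (fun t => t.hom x) h1
  simp only [ModuleCat.hom_comp, LinearMap.comp_apply] at h2
  exact h2

/-- compatibility with connecting homomorphisms -/
theorem Hθ_Hδ {f : M →ₗ[R] N} {g : N →ₗ[R] P} (hs : IsSES f g) (x : H I' i P) :
    Hθ h (i + 1) M (Hδ I' i hs x) = Hδ I i hs (Hθ h i P x) := by
  obtain ⟨n, ξ, rfl⟩ := exists_rep I' i (ModuleCat.of R P) x
  rw [Hδ_ι, Hθ_ι, Hθ_ι, Hδ_ι]
  congr 1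
  exact (Ext.comp_assoc (Ext.mk₀ (quotLE h n)) ξ hs.shortExact.extClass (zero_add i) rfl
    (by omega)).symm

variable (M)

theorem ev_quotLE (n : ℕ) (ξ : Abelian.Ext (RmodPow I' n) (ModuleCat.of R M) 0) :
    ev I (ModuleCat.of R M) n ((Abelian.Ext.mk₀ (quotLE h n)).comp ξ (zero_add 0)) =
      ev I' (ModuleCat.of R M) n ξ := by
  obtain ⟨φ, rfl⟩ : ∃ φ, Abelian.Ext.mk₀ φ = ξ := ⟨_, Ext.mk₀_linearEquiv₀_apply (R := R) ξ⟩
  rw [Ext.mk₀_comp_mk₀, ev_mk₀, ev_mk₀]
  rfl

/-- in degree zero the comparison map is the inclusion `Γ_{I'}(M) ⊆ Γ_I(M)` -/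
theorem H0Equiv_Hθ (x : H I' 0 M) :
    (H0Equiv I M (Hθ h 0 M x) : M) = (H0Equiv I' M x : M) := by
  obtain ⟨n, ξ, rfl⟩ := exists_rep I' 0 (ModuleCat.of R M) x
  rw [Hθ_ι, H0Equiv_apply, H0Equiv_apply, toMod_ι, toMod_ι, ev_quotLE]

theorem Hθ_zero_injective : Function.Injective (Hθ h 0 M) := by
  intro x y hxy
  apply (H0Equiv I' M).injective
  apply Subtype.ext
  rw [← H0Equiv_Hθ h, ← H0Equiv_Hθ h, hxy]

include h in
theorem gam_mono : gam I' M ≤ gam I M := by
  rintro m ⟨n, hn⟩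
  exact ⟨n, fun a ha => hn a (Ideal.pow_right_mono h n ha)⟩

/-- the range of the degree-zero comparison map -/
theorem mem_range_Hθ_zero_iff (y : H I 0 M) :
    y ∈ LinearMap.range (Hθ h 0 M) ↔ (H0Equiv I M y : M) ∈ gam I' M := by
  constructor
  · rintro ⟨x, rfl⟩
    rw [H0Equiv_Hθ]
    exact (H0Equiv I' M x).2
  · intro hy
    refine ⟨(H0Equiv I' M).symm ⟨_, hy⟩, ?_⟩
    apply (H0Equiv I M).injective
    apply Subtype.ext
    rw [H0Equiv_Hθ, LinearEquiv.apply_symm_apply]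

variable (h' : I' ≤ I'')

/-- transitivity of comparison maps -/
theorem Hθ_comp (x : H I'' i M) :
    Hθ h i M (Hθ h' i M x) = Hθ (h.trans h') i M x := by
  obtain ⟨n, ξ, rfl⟩ := exists_rep I'' i (ModuleCat.of R M) x
  rw [Hθ_ι, Hθ_ι, Hθ_ι]
  congr 1
  rw [← Ext.comp_assoc (Ext.mk₀ (quotLE h n)) (Ext.mk₀ (quotLE h' n)) ξ (zero_add 0) (zero_add i)
    (by omega), Ext.mk₀_comp_mk₀]
  have hq : quotLE h n ≫ quotLE h' n = quotLE (h.trans h') n := by
    apply ModuleCat.hom_ext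
    apply LinearMap.ext
    intro y
    obtain ⟨r, rfl⟩ := Submodule.Quotient.mk_surjective _ y
    rfl
  rw [hq]

end Mod

end Groth.Agent.Helper8.LC
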