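import Groth.Agent.Lib.Helper8.LCVanish

/-!
# Adding a generator: `cd (a + (b)) ≤ cd a + 1` by dimension shifting (helper8)
-/

open CategoryTheory CategoryTheory.Limits Opposite Abelian Pointwise
universe u

namespace Groth.Agent.Helper8.LC

variable {R : Type u} [CommRing R]

section Bijective

variable (J : Ideal R) (i : ℕ) (M : Type u) [AddCommGroup M] [Module R M]

/-- if `b ∈ J` acts bijectively on `M` then `H^i_J(M) = 0` -/
theorem H_subsingleton_of_smul_bijective {b : R} (hb : b ∈ J)
    (hbij : Function.Bijective (fun m : M => b • m)) : Subsingleton (H J i M) := by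
  apply H_subsingleton_of_smul_injective J i M hb
  let e : M ≃ₗ[R] M := LinearEquiv.ofBijective (b • (LinearMap.id : M →ₗ[R] M)) hbij
  intro x y hxy
  apply (Hcongr J i e).injective
  rw [Hcongr_apply, Hcongr_apply]
  change Hmap J i (b • (LinearMap.id : M →ₗ[R] M)) x = Hmap J i (b • (LinearMap.id : M →ₗ[R] M)) y
  rw [Hmap_smul_id, Hmap_smul_id]
  exact hxy

end Bijective

section GamSup

variable (a : Ideal R) (b : R) {M : Type u} [AddCommGroup M] [Module R M]

theorem gam_sup_eq_of_isTors (hM : IsTors (Ideal.span {b}) M) :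
    gam (a ⊔ Ideal.span {b}) M = gam a M := by
  apply le_antisymm
  · rintro m ⟨n, hn⟩
    exact ⟨n, fun c hc => hn c (Ideal.pow_right_mono le_sup_left n hc)⟩
  · rintro m ⟨n, hn⟩
    obtain ⟨k, hk⟩ := hM m
    refine ⟨n + k, fun c hc => ?_⟩
    have h1 := Ideal.sup_pow_add_le_pow_sup_pow (I := a) (J := Ideal.span {b}) (n := n) (m := k) hc
    obtain ⟨c₁, hc₁, c₂, hc₂, rfl⟩ := Submodule.mem_sup.mp h1
    rw [add_smul, hn c₁ hc₁, hk c₂ hc₂, add_zero]

end GamSup

section TorsionComparison

variable [IsNoetherianRing R] (a : Ideal R) (b : R)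

/-- for `b`-power torsion modules, vanishing of `H^i_a` implies vanishing of `H^i_{a + (b)}` -/
theorem H_sup_subsingleton_of_isTors : ∀ (i : ℕ), 0 < i → ∀ (N : Type u) [AddCommGroup N]
    [Module R N], IsTors (Ideal.span {b}) N → Subsingleton (H a i N) →
      Subsingleton (H (a ⊔ Ideal.span {b}) i N) := by
  intro i
  induction i with
  | zero => intro h; exact absurd h (lt_irrefl 0)
  | succ i ih =>
    intro _ N _ _ hN hvan
    obtain ⟨E, _, _, _, hE, f, hf⟩ := hN.exists_injective_embedding (Ideal.span {b})
    have hses := isSES_of_injective hf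
    have hQ : IsTors (Ideal.span {b}) (E ⧸ LinearMap.range f) := hE.quotient _ _
    have hE1 : Subsingleton (H (a ⊔ Ideal.span {b}) (i + 1) E) :=
      H_subsingleton_of_injective _ (i + 1) E (by omega)
    rcases Nat.eq_zero_or_pos i with rfl | hi
    · -- `H⁰_a(E) → H⁰_a(E/N)` is surjective
      have hsurj_a : Function.Surjective (Hmap a 0 (LinearMap.range f).mkQ) :=
        hses.Hmap_g_surjective a 0
      have hsurj_J : Function.Surjective
          (Hmap (a ⊔ Ideal.span {b}) 0 (LinearMap.range f).mkQ) := by
        intro z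
        -- transport through `H0Equiv`
        have hz : ((H0Equiv (a ⊔ Ideal.span {b}) _ z : E ⧸ LinearMap.range f)) ∈
            gam a (E ⧸ LinearMap.range f) := by
          rw [← gam_sup_eq_of_isTors a b hQ]
          exact (H0Equiv (a ⊔ Ideal.span {b}) _ z).2
        obtain ⟨w, hw⟩ := hsurj_a ((H0Equiv a _).symm ⟨_, hz⟩)
        have hw' : ((LinearMap.range f).mkQ (H0Equiv a E w : E)) =
            (H0Equiv (a ⊔ Ideal.span {b}) _ z : E ⧸ LinearMap.range f) := by
          rw [← H0Equiv_naturality, hw, LinearEquiv.apply_symm_apply]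
        have hwE : (H0Equiv a E w : E) ∈ gam (a ⊔ Ideal.span {b}) E := by
          rw [gam_sup_eq_of_isTors a b hE]
          exact (H0Equiv a E w).2
        refine ⟨(H0Equiv (a ⊔ Ideal.span {b}) E).symm ⟨_, hwE⟩, ?_⟩
        apply (H0Equiv (a ⊔ Ideal.span {b}) _).injective
        apply Subtype.ext
        rw [H0Equiv_naturality, LinearEquiv.apply_symm_apply]
        exact hw'
      refine ⟨fun x y => ?_⟩
      have h0 : ∀ y : H (a ⊔ Ideal.span {b}) (0 + 1) N, y = 0 := by
        intro y
        obtain ⟨z, rfl⟩ := hses.δ_surjective (a ⊔ Ideal.span {b}) 0 y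
        obtain ⟨w, rfl⟩ := hsurj_J z
        exact ((hses.exact_Hmap_δ (a ⊔ Ideal.span {b}) 0 _).mpr ⟨w, rfl⟩)
      rw [h0 x, h0 y]
    · have hEa : Subsingleton (H a i E) := H_subsingleton_of_injective a i E hi
      have hQa : Subsingleton (H a i (E ⧸ LinearMap.range f)) := hses.subsingleton_right a i
      have hQJ : Subsingleton (H (a ⊔ Ideal.span {b}) i (E ⧸ LinearMap.range f)) :=
        ih hi _ hQ hQa
      exact hses.subsingleton_left_succ (a ⊔ Ideal.span {b}) i

end TorsionComparison

section Localization

variable (b : R) (M : Type u) [AddCommGroup M] [Module R M]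

theorem mkLinearMap_injective_of_regular (hb : IsSMulRegular M b) :
    Function.Injective (LocalizedModule.mkLinearMap (Submonoid.powers b) M) := by
  intro m m' h
  rw [LocalizedModule.mkLinearMap_apply, LocalizedModule.mkLinearMap_apply,
    LocalizedModule.mk_eq] at h
  obtain ⟨⟨u, k, rfl⟩, hu⟩ := h
  simp only [one_smul] at hu
  exact (hb.pow k) hu

theorem smul_bijective_localizedModule :
    Function.Bijective (fun x : LocalizedModule (Submonoid.powers b) M => b • x) := by
  have h := IsLocalizedModule.map_units (LocalizedModule.mkLinearMap (Submonoid.powers b) M)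
    ⟨b, Submonoid.mem_powers b⟩
  exact (Module.End.isUnit_iff _).mp h

theorem isTors_quotient_range_mkLinearMap :
    IsTors (Ideal.span {b}) (LocalizedModule (Submonoid.powers b) M ⧸
      LinearMap.range (LocalizedModule.mkLinearMap (Submonoid.powers b) M)) := by
  intro x
  obtain ⟨x, rfl⟩ := Submodule.Quotient.mk_surjective _ x
  induction x using LocalizedModule.induction_on with
  | h m s =>
    obtain ⟨s, k, rfl⟩ := s
    refine ⟨k, fun c hc => ?_⟩
    rw [Ideal.span_singleton_pow, Ideal.mem_span_singleton'] at hc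
    obtain ⟨r, rfl⟩ := hc
    rw [← Submodule.Quotient.mk_smul, Submodule.Quotient.mk_eq_zero]
    refine ⟨r • m, ?_⟩
    rw [LocalizedModule.mkLinearMap_apply, mul_smul, LocalizedModule.smul'_mk,
      LocalizedModule.smul'_mk, LocalizedModule.mk_eq]
    refine ⟨1, ?_⟩
    simp only [one_smul]
    change b ^ k • r • m = r • b ^ k • m
    rw [smul_comm]

end Localization

section AddGenerator

variable [IsNoetherianRing R] (a : Ideal R) (b : R)

/-- `cd (a + (b)) ≤ cd a + 1` -/
theorem H_sup_span_singleton_subsingleton (r : ℕ)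
    (ha : ∀ (N : Type u) [AddCommGroup N] [Module R N] (i : ℕ), r < i → Subsingleton (H a i N))
    (M : Type u) [AddCommGroup M] [Module R M] (i : ℕ) (hi : r + 1 < i) :
    Subsingleton (H (a ⊔ Ideal.span {b}) i M) := by
  obtain ⟨j, rfl⟩ : ∃ j, i = j + 1 := ⟨i - 1, by omega⟩
  have hj : r < j := by omega
  -- the `b`-torsion part
  have h1 : Subsingleton (H (a ⊔ Ideal.span {b}) (j + 1) (gam (Ideal.span {b}) M)) :=
    H_sup_subsingleton_of_isTors a b (j + 1) (by omega) _ (isTors_gam _) (ha _ (j + 1) (by omega))
  -- the torsion-free quotient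
  have h2 : Subsingleton (H (a ⊔ Ideal.span {b}) (j + 1) (M ⧸ gam (Ideal.span {b}) M)) := by
    have hreg : IsSMulRegular (M ⧸ gam (Ideal.span {b}) M) b := by
      have h0 := gam_quotient_gam (Ideal.span {b}) M
      intro x y hxy
      have : x - y ∈ gam (Ideal.span {b}) (M ⧸ gam (Ideal.span {b}) M) := by
        refine ⟨1, fun c hc => ?_⟩
        rw [pow_one, Ideal.mem_span_singleton'] at hc
        obtain ⟨r, rfl⟩ := hc
        have hxy' : b • x = b • y := hxy
        rw [mul_smul, smul_sub, hxy', sub_self, smul_zero]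
      rw [h0, Submodule.mem_bot, sub_eq_zero] at this
      exact this
    have hses := isSES_of_injective
      (mkLinearMap_injective_of_regular b (M ⧸ gam (Ideal.span {b}) M) hreg)
    have h3 : Subsingleton (H (a ⊔ Ideal.span {b}) (j + 1)
        (LocalizedModule (Submonoid.powers b) (M ⧸ gam (Ideal.span {b}) M))) :=
      H_subsingleton_of_smul_bijective _ _ _
        (Ideal.mem_sup_right (Ideal.mem_span_singleton_self b))
        (smul_bijective_localizedModule b _)
    have h4 : Subsingleton (H (a ⊔ Ideal.span {b}) j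
        (LocalizedModule (Submonoid.powers b) (M ⧸ gam (Ideal.span {b}) M) ⧸
          LinearMap.range (LocalizedModule.mkLinearMap (Submonoid.powers b)
            (M ⧸ gam (Ideal.span {b}) M)))) :=
      H_sup_subsingleton_of_isTors a b j (by omega) _
        (isTors_quotient_range_mkLinearMap b _) (ha _ j hj)
    exact hses.subsingleton_left_succ _ j
  exact (isSES_subtype_mkQ (gam (Ideal.span {b}) M)).subsingleton_mid _ (j + 1)

omit [IsNoetherianRing R] in
/-- every module is `⊥`-power torsion -/
theorem isTors_bot (M : Type u) [AddCommGroup M] [Module R M] : IsTors (⊥ : Ideal R) M := by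
  intro m
  refine ⟨1, fun c hc => ?_⟩
  rw [pow_one, Ideal.mem_bot] at hc
  rw [hc, zero_smul]

/-- `cd (s) ≤ |s|` -/
theorem H_span_finset_subsingleton [DecidableEq R] (s : Finset R) :
    ∀ (M : Type u) [AddCommGroup M] [Module R M] (i : ℕ), s.card < i →
      Subsingleton (H (Ideal.span (s : Set R)) i M) := by
  induction s using Finset.induction_on with
  | empty =>
    intro M _ _ i hi
    rw [Finset.coe_empty, Ideal.span_empty]
    exact IsTors.H_subsingleton ⊥ i (by omega) M (isTors_bot M)
  | insert b s hb ih =>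
    intro M _ _ i hi
    rw [Finset.card_insert_of_notMem hb] at hi
    have h1 : Ideal.span ((insert b s : Finset R) : Set R) =
        Ideal.span (s : Set R) ⊔ Ideal.span {b} := by
      rw [Finset.coe_insert, Ideal.span_insert, sup_comm]
    rw [h1]
    exact H_sup_span_singleton_subsingleton _ b s.card ih M i hi

end AddGenerator

end Groth.Agent.Helper8.LC
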