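import Groth.Agent.Lib.Helper8.LCCd

/-!
# Injective modules and one element: `b` acts bijectively on `E / Γ_b(E)` (helper8)
-/

open CategoryTheory CategoryTheory.Limits Opposite Abelian Pointwise
universe u

namespace Groth.Agent.Helper8.LC

section OneElement

variable {R : Type u} [CommRing R] [IsNoetherianRing R] (b : R)
  (E : Type u) [AddCommGroup E] [Module R E]

omit [IsNoetherianRing R] in
theorem mem_gam_span_singleton_iff (m : E) :
    m ∈ gam (Ideal.span {b}) E ↔ ∃ n : ℕ, b ^ n • m = 0 := by
  constructor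
  · rintro ⟨n, hn⟩
    exact ⟨n, hn _ (Ideal.pow_mem_pow (Ideal.mem_span_singleton_self b) n)⟩
  · rintro ⟨n, hn⟩
    refine ⟨n, fun c hc => ?_⟩
    rw [Ideal.span_singleton_pow, Ideal.mem_span_singleton'] at hc
    obtain ⟨r, rfl⟩ := hc
    rw [mul_smul, hn, smul_zero]

theorem smul_injective_quotient_gam :
    Function.Injective (fun x : E ⧸ gam (Ideal.span {b}) E => b • x) := by
  have h0 := gam_quotient_gam (Ideal.span {b}) E
  intro x y hxy
  have : x - y ∈ gam (Ideal.span {b}) (E ⧸ gam (Ideal.span {b}) E) := by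
    rw [mem_gam_span_singleton_iff]
    refine ⟨1, ?_⟩
    have hxy' : b • x = b • y := hxy
    rw [pow_one, smul_sub, hxy', sub_self]
  rw [h0, Submodule.mem_bot, sub_eq_zero] at this
  exact this

theorem smul_surjective_quotient_gam [Module.Injective R E] :
    Function.Surjective (fun x : E ⧸ gam (Ideal.span {b}) E => b • x) := by
  intro x
  obtain ⟨e, rfl⟩ := Submodule.Quotient.mk_surjective _ x
  -- the ascending chain `ann (b^k)` stabilizes
  let c : ℕ →o Submodule R R :=
    { toFun := fun k => LinearMap.ker (LinearMap.toSpanSingleton R R (b ^ k))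
      monotone' := by
        intro k l hkl r hr
        rw [LinearMap.mem_ker, LinearMap.toSpanSingleton_apply] at hr ⊢
        obtain ⟨d, rfl⟩ := Nat.exists_eq_add_of_le hkl
        rw [smul_eq_mul] at hr ⊢
        rw [pow_add, ← mul_assoc, hr, zero_mul] }
  obtain ⟨k, hk⟩ := monotone_stabilizes_iff_noetherian.mpr (inferInstance : IsNoetherian R R) c
  have hk1 : c (k + 1) = c k := (hk (k + 1) (Nat.le_succ k)).symm
  let m : R →ₗ[R] R := LinearMap.toSpanSingleton R R (b ^ (k + 1))
  let μ : (R ⧸ LinearMap.ker m) →ₗ[R] R := Submodule.liftQ (LinearMap.ker m) m le_rfl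
  have hμ : Function.Injective μ := by
    rw [← LinearMap.ker_eq_bot]
    exact Submodule.ker_liftQ_eq_bot' _ _ rfl
  have hle : LinearMap.ker m ≤ LinearMap.ker (LinearMap.toSpanSingleton R E (b ^ k • e)) := by
    intro r hr
    have h1 : r ∈ c k := by rw [← hk1]; exact hr
    have h2 : r • b ^ k = 0 := by
      have := LinearMap.mem_ker.mp h1
      rwa [LinearMap.toSpanSingleton_apply] at this
    rw [LinearMap.mem_ker, LinearMap.toSpanSingleton_apply, ← mul_smul, ← smul_eq_mul, h2,
      zero_smul]
  let ν : (R ⧸ LinearMap.ker m) →ₗ[R] E :=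
    Submodule.liftQ (LinearMap.ker m) (LinearMap.toSpanSingleton R E (b ^ k • e)) hle
  obtain ⟨ψ, hψ⟩ := Module.Injective.extension_property R E _ _ μ hμ ν
  refine ⟨Submodule.Quotient.mk (ψ 1), ?_⟩
  change b • (Submodule.Quotient.mk (ψ 1) : E ⧸ gam (Ideal.span {b}) E) = Submodule.Quotient.mk e
  rw [← Submodule.Quotient.mk_smul, Submodule.Quotient.eq, mem_gam_span_singleton_iff]
  refine ⟨k, ?_⟩
  have h3 : ψ (b ^ (k + 1)) = b ^ k • e := by
    have h4 := congrArg (fun t => t (Submodule.Quotient.mk (1 : R))) hψ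
    simp only [LinearMap.comp_apply] at h4
    have h5 : μ (Submodule.Quotient.mk (1 : R)) = b ^ (k + 1) := by
      change m 1 = _
      rw [LinearMap.toSpanSingleton_apply, one_smul]
    have h6 : ν (Submodule.Quotient.mk (1 : R)) = b ^ k • e := by
      change (LinearMap.toSpanSingleton R E (b ^ k • e)) 1 = _
      rw [LinearMap.toSpanSingleton_apply, one_smul]
    rw [h5, h6] at h4
    exact h4
  have h7 : ψ (b ^ (k + 1)) = b ^ (k + 1) • ψ 1 := by
    rw [← map_smul, smul_eq_mul, mul_one]
  rw [smul_sub, ← mul_smul, ← pow_succ, ← h7, h3, sub_self]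

theorem smul_bijective_quotient_gam [Module.Injective R E] :
    Function.Bijective (fun x : E ⧸ gam (Ideal.span {b}) E => b • x) :=
  ⟨smul_injective_quotient_gam b E, smul_surjective_quotient_gam b E⟩

end OneElement

end Groth.Agent.Helper8.LC
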