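import Groth.Agent.Lib.Helper8.LCSup
import Groth.Agent.Lib.Lead.Depth3

/-!
# Depth and local cohomology (helper8)
-/

set_option autoImplicit false
universe u

namespace Groth.Agent.Helper8.LC

open Groth.Agent.Lead.Depth Pointwise

theorem H_zero_subsingleton_of_regular {R : Type u} [CommRing R] (I : Ideal R) (M : Type u)
    [AddCommGroup M] [Module R M] {x : R} (hxI : x ∈ I) (hx : IsSMulRegular M x) :
    Subsingleton (H I 0 M) := by
  apply H_subsingleton_of_smul_injective I 0 M hxI
  have h := Hmap_zero_injective I (f := x • (LinearMap.id : M →ₗ[R] M)) hx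
  intro a b hab
  apply h
  rw [Hmap_smul_id, Hmap_smul_id]
  exact hab

/-- `n ≤ depth_I M` iff `H^i_I(M) = 0` for all `i < n` (finite `M`, `IM ≠ M`) -/
theorem le_idealDepth_iff_H {R : Type u} [CommRing R] [IsNoetherianRing R] (I : Ideal R) :
    ∀ (n : ℕ) (M : Type u) [AddCommGroup M] [Module R M] [Module.Finite R M],
      I • (⊤ : Submodule R M) ≠ ⊤ →
      ((n : ℕ∞) ≤ LocCoh.idealDepth I M ↔ ∀ i : ℕ, i < n → Subsingleton (H I i M)) := by
  intro n
  induction n with
  | zero =>
    intro M _ _ _ hIM
    simp
  | succ n ih =>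
    intro M _ _ _ hIM
    constructor
    · intro h
      obtain ⟨rs, hlen, hrs, hI⟩ := exists_of_le_idealDepth I M hIM (n + 1) h
      match rs, hlen, hrs, hI with
      | x :: rs', hlen, hrs, hI =>
        have hxI : x ∈ I := hI x (List.mem_cons_self)
        have hreg : IsSMulRegular M x :=
          ((RingTheory.Sequence.isWeaklyRegular_cons_iff M x rs').mp hrs).1
        have hdep := idealDepth_quotSMulTop_add_one I M hIM x hxI hreg
        have hIQ := smul_top_quotSMulTop_ne_top hxI hIM
        have h' : (n : ℕ∞) ≤ LocCoh.idealDepth I (QuotSMulTop x M) := by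
          rw [← hdep] at h
          have h2 : ((n : ℕ∞) + 1) ≤ LocCoh.idealDepth I (QuotSMulTop x M) + 1 := by
            exact_mod_cast h
          exact (ENat.add_le_add_iff_right (by simp)).mp h2
        have hQ := (ih (QuotSMulTop x M) hIQ).mp h'
        intro i hi
        rcases Nat.eq_zero_or_pos i with rfl | hpos
        · exact H_zero_subsingleton_of_regular I M hxI hreg
        · obtain ⟨j, rfl⟩ : ∃ j, i = j + 1 := ⟨i - 1, by omega⟩
          have : Subsingleton (H I j (M ⧸ x • (⊤ : Submodule R M))) := hQ j (by omega)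
          exact H_subsingleton_succ_of_regular I j M hxI hreg
    · intro h
      have h0 := h 0 (by omega)
      obtain ⟨x, hxI, hreg⟩ :=
        exists_regular_of_gam_eq_bot I M (gam_eq_bot_of_H_zero_subsingleton I M)
      have hdep := idealDepth_quotSMulTop_add_one I M hIM x hxI hreg
      have hIQ := smul_top_quotSMulTop_ne_top hxI hIM
      have hses := isSES_smul M hreg
      have hQ : ∀ i : ℕ, i < n → Subsingleton (H I i (QuotSMulTop x M)) := by
        intro i hi
        have := h i (by omega)
        have := h (i + 1) (by omega)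
        exact hses.subsingleton_right I i
      have h' := (ih (QuotSMulTop x M) hIQ).mpr hQ
      rw [← hdep]
      push_cast
      exact add_le_add_left h' 1

/-- if `IM = M` for a finite module then all `H^i_I(M)` vanish -/
theorem H_subsingleton_of_smul_top_eq_top {R : Type u} [CommRing R] (I : Ideal R) (M : Type u)
    [AddCommGroup M] [Module R M] [Module.Finite R M] (h : I • (⊤ : Submodule R M) = ⊤) (i : ℕ) :
    Subsingleton (H I i M) := by
  obtain ⟨r, hrI, hr⟩ := Submodule.exists_sub_one_mem_and_smul_eq_zero_of_fg_of_le_smul I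
    (⊤ : Submodule R M) Module.Finite.fg_top (by rw [h])
  have hmem : (1 - r) ∈ I := by
    have := I.neg_mem hrI
    rwa [neg_sub] at this
  apply H_subsingleton_of_smul_bijective I i M hmem
  have hid : (fun m : M => (1 - r) • m) = id := by
    funext m
    rw [sub_smul, one_smul, hr m Submodule.mem_top, sub_zero]
    rfl
  rw [hid]
  exact Function.bijective_id

/-- `n ≤ depth_I M` iff `H^i_I(M) = 0` for all `i < n` (finite `M`) -/
theorem le_idealDepth_iff_H' {R : Type u} [CommRing R] [IsNoetherianRing R] (I : Ideal R) (n : ℕ)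
    (M : Type u) [AddCommGroup M] [Module R M] [Module.Finite R M] :
    ((n : ℕ∞) ≤ LocCoh.idealDepth I M ↔ ∀ i : ℕ, i < n → Subsingleton (H I i M)) := by
  by_cases htop : I • (⊤ : Submodule R M) = ⊤
  · rw [idealDepth_of_eq_top I M htop]
    exact ⟨fun _ i _ => H_subsingleton_of_smul_top_eq_top I M htop i, fun _ => le_top⟩
  · exact le_idealDepth_iff_H I n M htop

end Groth.Agent.Helper8.LC
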