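import Groth.Agent.Lib.Helper8.LCFlat2
import Groth.Agent.Lib.Helper8.LCDepth

/-!
# Local cohomology and localization: annihilators (helper8)
-/

set_option autoImplicit false
universe u

namespace Groth.Agent.Helper8.LC

open TensorProduct

/-- if `c` kills `H^i_a(M)` then `algebraMap c` kills `H^i_{aR'}(R' ⊗ M)` (flat base change). -/
theorem smul_H_baseChange_eq_zero {R : Type u} [CommRing R] [IsNoetherianRing R]
    (R' : Type u) [CommRing R'] [Algebra R R'] [IsNoetherianRing R'] [Module.Flat R R']
    (a : Ideal R) (M : Type u) [AddCommGroup M] [Module R M] (i : ℕ) (c : R)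
    (hc : ∀ x : H a i M, c • x = 0) (y : H (a.map (algebraMap R R')) i (R' ⊗[R] M)) :
    algebraMap R R' c • y = 0 := by
  obtain ⟨e⟩ := exists_equiv_baseChange (R' := R') a i ⟨M⟩
  obtain ⟨z, rfl⟩ := e.surjective y
  rw [← map_smul]
  have h0 : algebraMap R R' c • z = 0 := by
    induction z using TensorProduct.induction_on with
    | zero => rw [smul_zero]
    | tmul x h =>
      rw [algebraMap_smul_tmul, hc, TensorProduct.tmul_zero]
    | add x y hx hy => rw [smul_add, hx, hy, add_zero]
  rw [h0, map_zero]

/-- if `c` kills `H^i_a(M)` and `c` becomes a unit in the flat `R`-algebra `R'`,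
then `H^i_{aR'}(R' ⊗ M) = 0`. -/
theorem H_baseChange_subsingleton_of_isUnit {R : Type u} [CommRing R] [IsNoetherianRing R]
    (R' : Type u) [CommRing R'] [Algebra R R'] [IsNoetherianRing R'] [Module.Flat R R']
    (a : Ideal R) (M : Type u) [AddCommGroup M] [Module R M] (i : ℕ) (c : R)
    (hc : ∀ x : H a i M, c • x = 0) (hu : IsUnit (algebraMap R R' c)) :
    Subsingleton (H (a.map (algebraMap R R')) i (R' ⊗[R] M)) := by
  refine ⟨fun x y => ?_⟩
  have h0 : ∀ y : H (a.map (algebraMap R R')) i (R' ⊗[R] M), y = 0 := by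
    intro y
    have h1 := smul_H_baseChange_eq_zero R' a M i c hc y
    obtain ⟨u, hu'⟩ := hu
    rw [← hu'] at h1
    have h2 : ((u⁻¹ : R'ˣ) : R') • ((u : R') • y) = y := by
      rw [smul_smul, Units.inv_mul, one_smul]
    rw [← h2, h1, smul_zero]
  rw [h0 x, h0 y]

/-- the localized module as a base change -/
noncomputable def localizedModuleEquivTensor {R : Type u} [CommRing R] (S : Submonoid R)
    (M : Type u) [AddCommGroup M] [Module R M] :
    (Localization S ⊗[R] M) ≃ₗ[Localization S] LocalizedModule S M :=
  (IsLocalizedModule.isBaseChange S (Localization S) (LocalizedModule.mkLinearMap S M)).equiv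

theorem localizedModuleEquivTensor_tmul {R : Type u} [CommRing R] (S : Submonoid R)
    (M : Type u) [AddCommGroup M] [Module R M] (x : Localization S) (m : M) :
    localizedModuleEquivTensor S M (x ⊗ₜ m) = x • LocalizedModule.mkLinearMap S M m :=
  IsBaseChange.equiv_tmul _ _ _

/-- if `c ∈ S` kills `H^i_a(M)` then `H^i_{aS⁻¹R}(S⁻¹M) = 0`. -/
theorem H_localizedModule_subsingleton_of_mem {R : Type u} [CommRing R] [IsNoetherianRing R]
    (S : Submonoid R) (a : Ideal R) (M : Type u) [AddCommGroup M] [Module R M] (i : ℕ) (c : R)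
    (hcS : c ∈ S) (hc : ∀ x : H a i M, c • x = 0) :
    Subsingleton (H (a.map (algebraMap R (Localization S))) i (LocalizedModule S M)) := by
  have hu : IsUnit (algebraMap R (Localization S) c) :=
    IsLocalization.map_units (Localization S) (⟨c, hcS⟩ : S)
  have h1 := H_baseChange_subsingleton_of_isUnit (Localization S) a M i c hc hu
  exact (Hcongr (a.map (algebraMap R (Localization S))) i
    (localizedModuleEquivTensor S M)).symm.toEquiv.subsingleton

end Groth.Agent.Helper8.LC
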