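import Groth.Agent.Lib.Helper8.LCInj

/-!
# `cd (I + J) ≤ cd I + cd J` by dimension shifting (helper8)
-/

open CategoryTheory CategoryTheory.Limits Opposite Abelian Pointwise
universe u

namespace Groth.Agent.Helper8.LC

variable {R : Type u} [CommRing R]

section GamSup

variable (a J : Ideal R) {M : Type u} [AddCommGroup M] [Module R M]

theorem gam_sup_le_left : gam (a ⊔ J) M ≤ gam a M := by
  rintro m ⟨n, hn⟩
  exact ⟨n, fun c hc => hn c (Ideal.pow_right_mono le_sup_left n hc)⟩

theorem gam_sup_le_right : gam (a ⊔ J) M ≤ gam J M := by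
  rintro m ⟨n, hn⟩
  exact ⟨n, fun c hc => hn c (Ideal.pow_right_mono le_sup_right n hc)⟩

theorem gam_sup_eq_of_isTors' (hM : IsTors J M) : gam (a ⊔ J) M = gam a M := by
  apply le_antisymm (gam_sup_le_left a J)
  rintro m ⟨n, hn⟩
  obtain ⟨k, hk⟩ := hM m
  refine ⟨n + k, fun c hc => ?_⟩
  have h1 := Ideal.sup_pow_add_le_pow_sup_pow (I := a) (J := J) (n := n) (m := k) hc
  obtain ⟨c₁, hc₁, c₂, hc₂, rfl⟩ := Submodule.mem_sup.mp h1
  rw [add_smul, hn c₁ hc₁, hk c₂ hc₂, add_zero]

end GamSup

section Retract

/-- a retract of an injective module is injective -/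
theorem injective_of_retract {E Q : Type u} [AddCommGroup E] [Module R E] [AddCommGroup Q]
    [Module R Q] [Module.Injective R E] (s : Q →ₗ[R] E) (p : E →ₗ[R] Q)
    (hps : ∀ q, p (s q) = q) : Module.Injective R Q where
  out X Y _ _ _ _ f hf g := by
    obtain ⟨h, hh⟩ := Module.Injective.out f hf (s ∘ₗ g)
    exact ⟨p ∘ₗ h, fun x => by rw [LinearMap.comp_apply, hh, LinearMap.comp_apply, hps]⟩

/-- the quotient of an injective module by an injective submodule is injective -/
theorem injective_quotient_of_injective {E : Type u} [AddCommGroup E] [Module R E]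
    [Module.Injective R E] (Γ : Submodule R E) [Module.Injective R Γ] :
    Module.Injective R (E ⧸ Γ) := by
  obtain ⟨ρ, hρ⟩ := Module.Injective.out Γ.subtype Γ.injective_subtype (LinearMap.id : Γ →ₗ[R] Γ)
  have hρ' : ∀ x : Γ, ρ x = x := fun x => hρ x
  let σ : E →ₗ[R] E := LinearMap.id - Γ.subtype ∘ₗ ρ
  have hσ : Γ ≤ LinearMap.ker σ := by
    intro e he
    rw [LinearMap.mem_ker]
    change e - ((ρ e : Γ) : E) = 0
    have := hρ' ⟨e, he⟩
    change ρ e = ⟨e, he⟩ at this
    rw [this, sub_self]
  refine injective_of_retract (Submodule.liftQ Γ σ hσ) Γ.mkQ ?_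
  intro q
  obtain ⟨e, rfl⟩ := Submodule.Quotient.mk_surjective _ q
  rw [Submodule.liftQ_apply]
  change Submodule.Quotient.mk (e - ((ρ e : Γ) : E)) = Submodule.Quotient.mk e
  rw [Submodule.Quotient.eq]
  simp

end Retract

section TorsionComparison

variable [IsNoetherianRing R] (a J : Ideal R)

/-- for `J`-power torsion modules, vanishing of `H^i_a` implies vanishing of `H^i_{a + J}` -/
theorem H_sup_subsingleton_of_isTors' : ∀ (i : ℕ), 0 < i → ∀ (N : Type u) [AddCommGroup N]
    [Module R N], IsTors J N → Subsingleton (H a i N) → Subsingleton (H (a ⊔ J) i N) := by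
  intro i
  induction i with
  | zero => intro h; exact absurd h (lt_irrefl 0)
  | succ i ih =>
    intro _ N _ _ hN hvan
    obtain ⟨E, _, _, _, hE, f, hf⟩ := hN.exists_injective_embedding J
    have hses := isSES_of_injective hf
    have hQ : IsTors J (E ⧸ LinearMap.range f) := hE.quotient _ _
    have hE1 : Subsingleton (H (a ⊔ J) (i + 1) E) :=
      H_subsingleton_of_injective _ (i + 1) E (by omega)
    rcases Nat.eq_zero_or_pos i with rfl | hi
    · have hsurj_a : Function.Surjective (Hmap a 0 (LinearMap.range f).mkQ) :=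
        hses.Hmap_g_surjective a 0
      have hsurj_J : Function.Surjective (Hmap (a ⊔ J) 0 (LinearMap.range f).mkQ) := by
        intro z
        have hz : ((H0Equiv (a ⊔ J) _ z : E ⧸ LinearMap.range f)) ∈
            gam a (E ⧸ LinearMap.range f) := by
          rw [← gam_sup_eq_of_isTors' a J hQ]
          exact (H0Equiv (a ⊔ J) _ z).2
        obtain ⟨w, hw⟩ := hsurj_a ((H0Equiv a _).symm ⟨_, hz⟩)
        have hw' : ((LinearMap.range f).mkQ (H0Equiv a E w : E)) =
            (H0Equiv (a ⊔ J) _ z : E ⧸ LinearMap.range f) := by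
          rw [← H0Equiv_naturality, hw, LinearEquiv.apply_symm_apply]
        have hwE : (H0Equiv a E w : E) ∈ gam (a ⊔ J) E := by
          rw [gam_sup_eq_of_isTors' a J hE]
          exact (H0Equiv a E w).2
        refine ⟨(H0Equiv (a ⊔ J) E).symm ⟨_, hwE⟩, ?_⟩
        apply (H0Equiv (a ⊔ J) _).injective
        apply Subtype.ext
        rw [H0Equiv_naturality, LinearEquiv.apply_symm_apply]
        exact hw'
      refine ⟨fun x y => ?_⟩
      have h0 : ∀ y : H (a ⊔ J) (0 + 1) N, y = 0 := by
        intro y
        obtain ⟨z, rfl⟩ := hses.δ_surjective (a ⊔ J) 0 y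
        obtain ⟨w, rfl⟩ := hsurj_J z
        exact ((hses.exact_Hmap_δ (a ⊔ J) 0 _).mpr ⟨w, rfl⟩)
      rw [h0 x, h0 y]
    · have hEa : Subsingleton (H a i E) := H_subsingleton_of_injective a i E hi
      have hQa : Subsingleton (H a i (E ⧸ LinearMap.range f)) := hses.subsingleton_right a i
      have hQJ : Subsingleton (H (a ⊔ J) i (E ⧸ LinearMap.range f)) := ih hi _ hQ hQa
      exact hses.subsingleton_left_succ (a ⊔ J) i

end TorsionComparison

section Acyclic

variable [IsNoetherianRing R] (a J : Ideal R)

/-- a module with `Γ_J = 0` embeds into an injective module with `Γ_J = 0` -/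
theorem exists_injective_embedding_of_gam_eq_bot (N : Type u) [AddCommGroup N] [Module R N]
    (hN : gam J N = ⊥) :
    ∃ (E : Type u) (_ : AddCommGroup E) (_ : Module R E) (_ : Module.Injective R E)
      (_ : gam J E = ⊥) (f : N →ₗ[R] E), Function.Injective f := by
  obtain ⟨E, _, _, _, f, hf⟩ := exists_injective_embedding (R := R) N
  have := injective_gam J E
  have := injective_quotient_of_injective (gam J E)
  refine ⟨E ⧸ gam J E, inferInstance, inferInstance, inferInstance, gam_quotient_gam J E,
    (gam J E).mkQ ∘ₗ f, ?_⟩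
  rw [← LinearMap.ker_eq_bot, eq_bot_iff]
  intro x hx
  rw [LinearMap.mem_ker, LinearMap.comp_apply, Submodule.mkQ_apply,
    Submodule.Quotient.mk_eq_zero] at hx
  obtain ⟨n, hn⟩ := hx
  have hx' : x ∈ gam J N := ⟨n, fun c hc => hf (by rw [map_smul, hn c hc, map_zero])⟩
  rw [hN] at hx'
  exact hx'

omit [IsNoetherianRing R] in
theorem H_zero_subsingleton_of_gam_eq_bot (N : Type u) [AddCommGroup N] [Module R N]
    (hN : gam J N = ⊥) : Subsingleton (H J 0 N) := by
  have : Subsingleton (gam J N) := by rw [hN]; infer_instance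
  exact (H0Equiv J N).injective.subsingleton

omit [IsNoetherianRing R] in
theorem gam_eq_bot_of_H_zero_subsingleton (N : Type u) [AddCommGroup N] [Module R N]
    [Subsingleton (H J 0 N)] : gam J N = ⊥ := by
  have : Subsingleton (gam J N) := (H0Equiv J N).symm.injective.subsingleton
  exact Submodule.eq_bot_of_subsingleton

/-- modules that are acyclic for `H_J` in all degrees are acyclic for `H_{a + J}` -/
theorem H_sup_subsingleton_of_forall : ∀ (i : ℕ) (N : Type u) [AddCommGroup N] [Module R N],
    (∀ q, Subsingleton (H J q N)) → Subsingleton (H (a ⊔ J) i N) := by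
  intro i
  induction i with
  | zero =>
    intro N _ _ hN
    have := hN 0
    have h0 : gam (a ⊔ J) N = ⊥ :=
      eq_bot_iff.mpr ((gam_sup_le_right a J).trans (gam_eq_bot_of_H_zero_subsingleton J N).le)
    exact H_zero_subsingleton_of_gam_eq_bot (a ⊔ J) N h0
  | succ i ih =>
    intro N _ _ hN
    have := hN 0
    obtain ⟨E, _, _, _, hE, f, hf⟩ :=
      exists_injective_embedding_of_gam_eq_bot J N (gam_eq_bot_of_H_zero_subsingleton J N)
    have hses := isSES_of_injective hf
    have hEq : ∀ q, Subsingleton (H J q E) := by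
      intro q
      rcases Nat.eq_zero_or_pos q with rfl | hq
      · exact H_zero_subsingleton_of_gam_eq_bot J E hE
      · exact H_subsingleton_of_injective J q E hq
    have hQ : ∀ q, Subsingleton (H J q (E ⧸ LinearMap.range f)) := by
      intro q
      have := hEq q
      have := hN (q + 1)
      exact hses.subsingleton_right J q
    have h1 := ih (E ⧸ LinearMap.range f) hQ
    have h2 : Subsingleton (H (a ⊔ J) (i + 1) E) :=
      H_subsingleton_of_injective _ (i + 1) E (by omega)
    exact hses.subsingleton_left_succ (a ⊔ J) i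

/-- the key inductive claim for `cd (a + J) ≤ cd a + cd J` -/
theorem H_sup_subsingleton_aux (r : ℕ)
    (ha : ∀ (N : Type u) [AddCommGroup N] [Module R N] (i : ℕ), r < i → Subsingleton (H a i N)) :
    ∀ (b : ℕ) (N : Type u) [AddCommGroup N] [Module R N],
      (∀ q, b < q → Subsingleton (H J q N)) → ∀ i, r + b < i → Subsingleton (H (a ⊔ J) i N) := by
  intro b
  induction b with
  | zero =>
    intro N _ _ hN i hi
    -- torsion part
    have hT : Subsingleton (H (a ⊔ J) i (gam J N)) :=
      H_sup_subsingleton_of_isTors' a J i (by omega) _ (isTors_gam J) (ha _ i (by omega))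
    have hses := isSES_subtype_mkQ (gam J N)
    have hN' : ∀ q, Subsingleton (H J q (N ⧸ gam J N)) := by
      intro q
      rcases Nat.eq_zero_or_pos q with rfl | hq
      · exact H_zero_subsingleton_of_gam_eq_bot J _ (gam_quotient_gam J N)
      · have := hN q hq
        have : Subsingleton (H J (q + 1) (gam J N)) :=
          IsTors.H_subsingleton J (q + 1) (by omega) _ (isTors_gam J)
        exact hses.subsingleton_right J q
    have := H_sup_subsingleton_of_forall a J i (N ⧸ gam J N) hN'
    exact hses.subsingleton_mid (a ⊔ J) i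
  | succ b ih =>
    intro N _ _ hN i hi
    have hT : Subsingleton (H (a ⊔ J) i (gam J N)) :=
      H_sup_subsingleton_of_isTors' a J i (by omega) _ (isTors_gam J) (ha _ i (by omega))
    have hses := isSES_subtype_mkQ (gam J N)
    -- `N' = N / Γ_J N`
    have hN' : ∀ q, b + 1 < q → Subsingleton (H J q (N ⧸ gam J N)) := by
      intro q hq
      have := hN q hq
      have : Subsingleton (H J (q + 1) (gam J N)) :=
        IsTors.H_subsingleton J (q + 1) (by omega) _ (isTors_gam J)
      exact hses.subsingleton_right J q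
    obtain ⟨E, _, _, _, hE, f, hf⟩ :=
      exists_injective_embedding_of_gam_eq_bot J (N ⧸ gam J N) (gam_quotient_gam J N)
    have hses2 := isSES_of_injective hf
    have hEq : ∀ q, Subsingleton (H J q E) := by
      intro q
      rcases Nat.eq_zero_or_pos q with rfl | hq
      · exact H_zero_subsingleton_of_gam_eq_bot J E hE
      · exact H_subsingleton_of_injective J q E hq
    have hQ : ∀ q, b < q → Subsingleton (H J q (E ⧸ LinearMap.range f)) := by
      intro q hq
      have := hEq q
      have := hN' (q + 1) (by omega)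
      exact hses2.subsingleton_right J q
    obtain ⟨j, rfl⟩ : ∃ j, i = j + 1 := ⟨i - 1, by omega⟩
    have h1 : Subsingleton (H (a ⊔ J) j (E ⧸ LinearMap.range f)) :=
      ih (E ⧸ LinearMap.range f) hQ j (by omega)
    have h2 : Subsingleton (H (a ⊔ J) (j + 1) E) := H_sup_subsingleton_of_forall a J (j + 1) E hEq
    have h3 : Subsingleton (H (a ⊔ J) (j + 1) (N ⧸ gam J N)) :=
      hses2.subsingleton_left_succ (a ⊔ J) j
    exact hses.subsingleton_mid (a ⊔ J) (j + 1)

/-- `cd (a + J) ≤ cd a + cd J` -/
theorem H_sup_subsingleton (r b : ℕ)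
    (ha : ∀ (N : Type u) [AddCommGroup N] [Module R N] (i : ℕ), r < i → Subsingleton (H a i N))
    (hJ : ∀ (N : Type u) [AddCommGroup N] [Module R N] (i : ℕ), b < i → Subsingleton (H J i N))
    (N : Type u) [AddCommGroup N] [Module R N] (i : ℕ) (hi : r + b < i) :
    Subsingleton (H (a ⊔ J) i N) :=
  H_sup_subsingleton_aux a J r ha b N (fun q hq => hJ N q hq) i hi

end Acyclic

end Groth.Agent.Helper8.LC
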