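import Groth.Agent.Lib.Helper8.LCLes
import Groth.Agent.Lib.Helper8.LCComp
import Groth.Agent.Lib.Helper8.LCFlat2
import Groth.Agent.Lib.Helper8.LCLoc
import Groth.Agent.Lib.Helper8.LCInj
import Groth.Agent.Lib.Helper8.LCNoeth
import Groth.Agent.Lib.Helper8.LCGen
import Groth.Agent.Lib.Helper8.LCSup

/-!
# Local cohomology as an effaceable family; comparison maps; localization at one element (helper8)
-/

open CategoryTheory CategoryTheory.Limits Opposite Abelian
universe u

namespace Groth.Agent.Helper8.LC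

variable {R : Type u} [CommRing R]

section Fam

/-- `H^•_I` as an effaceable family on `R`-modules -/
noncomputable def HFam (I : Ideal R) :
    EffFam R (fun i (X : RMod R) => H I i X.carrier) RMod.E RMod.Q where
  ι X := Hmap I 0 X.emb
  α i X := Hmap I i X.proj
  δ i X := Hδ I i X.isSES
  ι_inj X := Hmap_zero_injective I X.isSES.inj
  exact_ι_α X := X.isSES.exact_Hmap I 0
  exact_α_δ X := X.isSES.exact_Hmap_δ I 0
  δ_surj i X := by
    have : Subsingleton (H I (i + 1) X.E.carrier) :=
      H_subsingleton_of_injective I (i + 1) _ (by omega)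
    exact X.isSES.δ_surjective I i
  δ_inj i X hi := by
    have : Subsingleton (H I i X.E.carrier) := H_subsingleton_of_injective I i _ hi
    exact X.isSES.δ_injective I i

/-- the comparison maps as a morphism of effaceable families -/
noncomputable def θHom {I I' : Ideal R} (h : I ≤ I') : EffHom (HFam I') (HFam I) where
  app i X := Hθ h i X.carrier
  comm_ι X x := Hθ_Hmap h 0 X.emb x
  comm_α X x := Hθ_Hmap h 0 X.proj x
  comm_δ i X x := Hθ_Hδ h i X.isSES x

end Fam

section DeltaNat

variable {M N P M' N' P' : Type u} [AddCommGroup M] [Module R M] [AddCommGroup N] [Module R N]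
  [AddCommGroup P] [Module R P] [AddCommGroup M'] [Module R M'] [AddCommGroup N'] [Module R N']
  [AddCommGroup P'] [Module R P']

/-- naturality of the connecting homomorphism in the short exact sequence -/
theorem Hδ_naturality (I : Ideal R) (i : ℕ) {f : M →ₗ[R] N} {g : N →ₗ[R] P} (hs : IsSES f g)
    {f' : M' →ₗ[R] N'} {g' : N' →ₗ[R] P'} (hs' : IsSES f' g')
    (a : M →ₗ[R] M') (b : N →ₗ[R] N') (c : P →ₗ[R] P')
    (h1 : b ∘ₗ f = f' ∘ₗ a) (h2 : c ∘ₗ g = g' ∘ₗ b) (x : H I i P) :
    Hmap I (i + 1) a (Hδ I i hs x) = Hδ I i hs' (Hmap I i c x) := by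
  obtain ⟨n, ξ, rfl⟩ := exists_rep I i (ModuleCat.of R P) x
  rw [Hδ_ι, Hmap_ι, Hmap_ι, Hδ_ι]
  congr 1
  let φ : hs.sc ⟶ hs'.sc :=
    { τ₁ := ModuleCat.ofHom a
      τ₂ := ModuleCat.ofHom b
      τ₃ := ModuleCat.ofHom c
      comm₁₂ := by
        change ModuleCat.ofHom a ≫ ModuleCat.ofHom f' = ModuleCat.ofHom f ≫ ModuleCat.ofHom b
        rw [← ModuleCat.ofHom_comp, ← ModuleCat.ofHom_comp, h1]
      comm₂₃ := by
        change ModuleCat.ofHom b ≫ ModuleCat.ofHom g' = ModuleCat.ofHom g ≫ ModuleCat.ofHom c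
        rw [← ModuleCat.ofHom_comp, ← ModuleCat.ofHom_comp, h2] }
  have hn := ShortComplex.ShortExact.extClass_naturality hs.shortExact hs'.shortExact φ
  rw [Ext.comp_assoc ξ hs.shortExact.extClass (Ext.mk₀ (ModuleCat.ofHom a)) rfl (add_zero 1)
    (by omega)]
  rw [Ext.comp_assoc ξ (Ext.mk₀ (ModuleCat.ofHom c)) hs'.shortExact.extClass (add_zero i)
    (zero_add 1) (by omega)]
  exact congrArg (fun t => ξ.comp t rfl) hn

end DeltaNat

section GamInf

variable (a J : Ideal R) (M : Type u) [AddCommGroup M] [Module R M]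

theorem gam_sup_eq_inf : gam (a ⊔ J) M = gam a M ⊓ gam J M := by
  apply le_antisymm (le_inf (gam_sup_le_left a J) (gam_sup_le_right a J))
  rintro m ⟨⟨n, hn⟩, ⟨k, hk⟩⟩
  refine ⟨n + k, fun c hc => ?_⟩
  have h1 := Ideal.sup_pow_add_le_pow_sup_pow (I := a) (J := J) (n := n) (m := k) hc
  obtain ⟨c₁, hc₁, c₂, hc₂, rfl⟩ := Submodule.mem_sup.mp h1
  rw [add_smul, hn c₁ hc₁, hk c₂ hc₂, add_zero]

end GamInf

section Loc

variable (b : R) {M N P : Type u} [AddCommGroup M] [Module R M] [AddCommGroup N] [Module R N]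
  [AddCommGroup P] [Module R P]

/-- localization away from `b` on maps -/
noncomputable def locMap (f : M →ₗ[R] N) :
    LocalizedModule (Submonoid.powers b) M →ₗ[R] LocalizedModule (Submonoid.powers b) N :=
  IsLocalizedModule.map (Submonoid.powers b) (LocalizedModule.mkLinearMap (Submonoid.powers b) M)
    (LocalizedModule.mkLinearMap (Submonoid.powers b) N) f

theorem locMap_mk (f : M →ₗ[R] N) (m : M) :
    locMap b f (LocalizedModule.mkLinearMap (Submonoid.powers b) M m) =
      LocalizedModule.mkLinearMap (Submonoid.powers b) N (f m) :=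
  IsLocalizedModule.map_apply _ _ _ f m

theorem locMap_injective {f : M →ₗ[R] N} (hf : Function.Injective f) :
    Function.Injective (locMap b f) :=
  IsLocalizedModule.map_injective _ _ _ f hf

theorem locMap_surjective {f : M →ₗ[R] N} (hf : Function.Surjective f) :
    Function.Surjective (locMap b f) :=
  IsLocalizedModule.map_surjective _ _ _ f hf

theorem locMap_exact {f : M →ₗ[R] N} {g : N →ₗ[R] P} (h : Function.Exact f g) :
    Function.Exact (locMap b f) (locMap b g) :=
  IsLocalizedModule.map_exact (Submonoid.powers b) _ _ _ f g h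

theorem IsSES.loc {f : M →ₗ[R] N} {g : N →ₗ[R] P} (h : IsSES f g) :
    IsSES (locMap b f) (locMap b g) :=
  ⟨locMap_injective b h.inj, locMap_exact b h.exact, locMap_surjective b h.surj⟩

/-- kernel of the localization map away from `b` -/
theorem mkLinearMap_eq_zero_iff (m : M) :
    LocalizedModule.mkLinearMap (Submonoid.powers b) M m = 0 ↔ ∃ n : ℕ, b ^ n • m = 0 := by
  rw [LocalizedModule.mkLinearMap_apply, ← LocalizedModule.zero_mk 1, LocalizedModule.mk_eq]
  constructor
  · rintro ⟨⟨u, n, rfl⟩, hu⟩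
    refine ⟨n, ?_⟩
    simpa [Submonoid.smul_def] using hu
  · rintro ⟨n, hn⟩
    refine ⟨⟨b ^ n, n, rfl⟩, ?_⟩
    simpa [Submonoid.smul_def] using hn

/-- every element of `M_b` is `b^{-n}` times an element of `M` -/
theorem exists_pow_smul_eq_mk (z : LocalizedModule (Submonoid.powers b) M) :
    ∃ (n : ℕ) (m : M), b ^ n • z = LocalizedModule.mkLinearMap (Submonoid.powers b) M m := by
  induction z using LocalizedModule.induction_on with
  | h m s =>
    obtain ⟨s, k, rfl⟩ := s
    refine ⟨k, m, ?_⟩
    rw [LocalizedModule.mkLinearMap_apply, LocalizedModule.smul'_mk, LocalizedModule.mk_eq]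
    refine ⟨1, ?_⟩
    simp only [one_smul]
    rfl

variable (E : Type u) [AddCommGroup E] [Module R E]

/-- for an injective module `E` over a Noetherian ring, `b` is divisible on `E` modulo `b`-power
torsion -/
theorem exists_pow_smul_sub_eq_zero_of_injective [IsNoetherianRing R] [Module.Injective R E]
    (e : E) (n : ℕ) : ∃ (e' : E) (k : ℕ), b ^ k • (b ^ n • e' - e) = 0 := by
  have hsurj : ∀ n : ℕ,
      Function.Surjective (fun x : E ⧸ gam (Ideal.span {b}) E => b ^ n • x) := by
    intro n
    induction n with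
    | zero => intro x; exact ⟨x, by simp⟩
    | succ k ih =>
      intro x
      obtain ⟨y, hy⟩ := ih x
      obtain ⟨w, hw⟩ := (smul_bijective_quotient_gam b E).2 y
      refine ⟨w, ?_⟩
      change b ^ (k + 1) • w = x
      have hw' : b • w = y := hw
      have hy' : b ^ k • y = x := hy
      rw [pow_succ, mul_smul, hw', hy']
  obtain ⟨w, hw⟩ := hsurj n (Submodule.Quotient.mk e)
  obtain ⟨e', rfl⟩ := Submodule.Quotient.mk_surjective _ w
  have hw' : (Submodule.Quotient.mk (b ^ n • e' - e) : E ⧸ gam (Ideal.span {b}) E) = 0 := by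
    rw [Submodule.Quotient.mk_sub, Submodule.Quotient.mk_smul]
    exact sub_eq_zero.mpr hw
  rw [Submodule.Quotient.mk_eq_zero, mem_gam_span_singleton_iff] at hw'
  obtain ⟨k, hk⟩ := hw'
  exact ⟨e', k, hk⟩

variable {E} in
/-- powers of `b` act injectively on `E_b` -/
theorem pow_smul_injective_localizedModule (j : ℕ) : Function.Injective
    (fun x : LocalizedModule (Submonoid.powers b) E => b ^ j • x) := by
  induction j with
  | zero => intro x y hxy; simpa using hxy
  | succ j ih =>
    intro x y hxy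
    apply ih
    apply (smul_bijective_localizedModule b E).1
    change b • b ^ j • x = b • b ^ j • y
    rw [← mul_smul, ← mul_smul, ← pow_succ']
    exact hxy

/-- for an injective module `E` over a Noetherian ring, `E → E_b` is surjective -/
theorem mkLinearMap_surjective_of_injective [IsNoetherianRing R] [Module.Injective R E] :
    Function.Surjective (LocalizedModule.mkLinearMap (Submonoid.powers b) E) := by
  intro z
  obtain ⟨n, e, hne⟩ := exists_pow_smul_eq_mk b z
  obtain ⟨e', k, hk⟩ := exists_pow_smul_sub_eq_zero_of_injective b E e n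
  refine ⟨e', ?_⟩
  apply pow_smul_injective_localizedModule b (k + n)
  change b ^ (k + n) • _ = b ^ (k + n) • z
  rw [pow_add, mul_smul, mul_smul, hne, ← map_smul, ← map_smul, ← map_smul]
  rw [← sub_eq_zero, ← map_sub, ← smul_sub]
  rw [hk, map_zero]

/-- a uniform power of `b` for a finitely generated ideal -/
theorem exists_pow_smul_eq_zero_of_fg (J : Ideal R) (hJ : J.FG) (e : E)
    (h : ∀ c ∈ J, ∃ m : ℕ, b ^ m • c • e = 0) : ∃ m : ℕ, ∀ c ∈ J, b ^ m • c • e = 0 := by
  classical
  obtain ⟨s, rfl⟩ := hJ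
  choose! m hm using h
  refine ⟨s.sup m, fun c hc => ?_⟩
  induction hc using Submodule.span_induction with
  | mem c hc =>
    have hle : m c ≤ s.sup m := Finset.le_sup hc
    obtain ⟨d, hd⟩ := Nat.exists_eq_add_of_le hle
    rw [hd, pow_add, mul_comm, mul_smul, hm c (Ideal.subset_span hc), smul_zero]
  | zero => rw [zero_smul, smul_zero]
  | add x y _ _ hx hy => rw [add_smul, smul_add, hx, hy, add_zero]
  | smul r x _ hx => rw [smul_eq_mul, mul_smul, smul_comm, hx, smul_zero]

end Loc

end Groth.Agent.Helper8.LC
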