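import Groth.Agent.Lib.Helper8.LCBridge

/-!
# Element-level API for Mathlib's `localCohomology` as a filtered colimit of `Abelian.Ext` (helper8)
-/

open CategoryTheory CategoryTheory.Limits Opposite Abelian
universe u

namespace Groth.Agent.Helper8.LC

variable {R : Type u} [CommRing R] (I : Ideal R) (i : ℕ)

/-- the diagram whose colimit is local cohomology -/
noncomputable abbrev lcDiagram : (ℕᵒᵖ)ᵒᵖ ⥤ ModuleCat.{u} R ⥤ ModuleCat.{u} R :=
  localCohomology.diagram (localCohomology.idealPowersDiagram I) i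

/-- `R ⧸ I ^ n` as an object of `ModuleCat` -/
noncomputable abbrev RmodPow (n : ℕ) : ModuleCat.{u} R := ModuleCat.of R (R ⧸ I ^ n)

/-- the transition map `R/I^m → R/I^n` for `n ≤ m` -/
noncomputable def trans {n m : ℕ} (h : n ≤ m) : RmodPow I m ⟶ RmodPow I n :=
  ModuleCat.ofHom (Submodule.mapQ _ _ LinearMap.id (Ideal.pow_le_pow_right h))

variable (M : ModuleCat.{u} R)

instance forgetPreservesSmallFiltered :
    PreservesFilteredColimitsOfSize.{0, 0} (forget (ModuleCat.{u} R)) :=
  preservesSmallestFilteredColimits_of_preservesFilteredColimits _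

/-- the old Ext module `Ext^i(R/I^n, M)` -/
noncomputable abbrev oldObj (n : ℕ) : ModuleCat.{u} R :=
  ((Ext R (ModuleCat.{u} R) i).obj (op (RmodPow I n))).obj M

/-- the leg of the colimit cocone -/
noncomputable def leg (n : ℕ) : oldObj I i M n ⟶ (localCohomology I i).obj M :=
  (colimit.ι (lcDiagram I i) (op (op n))).app M

/-- transition maps of old Ext -/
noncomputable def oldTrans {n m : ℕ} (h : n ≤ m) : oldObj I i M n ⟶ oldObj I i M m :=
  ((Ext R (ModuleCat.{u} R) i).map (trans I h).op).app M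

theorem oldTrans_leg {n m : ℕ} (h : n ≤ m) : oldTrans I i M h ≫ leg I i M m = leg I i M n := by
  have hw := colimit.w (lcDiagram I i) ((homOfLE h).op.op)
  exact congrArg (fun t => t.app M) hw

/-- the evaluated colimit cocone -/
noncomputable def evalCocone : Cocone (lcDiagram I i ⋙ (evaluation _ _).obj M) :=
  ((evaluation (ModuleCat.{u} R) (ModuleCat.{u} R)).obj M).mapCocone (colimit.cocone (lcDiagram I i))

/-- it is a colimit cocone -/
noncomputable def evalCoconeIsColimit : IsColimit (evalCocone I i M) :=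
  isColimitOfPreserves _ (colimit.isColimit _)

theorem leg_exists_rep (h : (localCohomology I i).obj M) :
    ∃ (n : ℕ) (y : oldObj I i M n), (leg I i M n).hom y = h := by
  obtain ⟨⟨⟨n⟩⟩, y, hy⟩ := Concrete.isColimit_exists_rep _ (evalCoconeIsColimit I i M) h
  exact ⟨n, y, hy⟩

theorem leg_eq_zero (n : ℕ) (y : oldObj I i M n) (hy : (leg I i M n).hom y = 0) :
    ∃ (m : ℕ) (h : n ≤ m), (oldTrans I i M h).hom y = 0 := by
  have h0 : ((evalCocone I i M).ι.app (op (op n))) y =
      ((evalCocone I i M).ι.app (op (op n))) (0 : oldObj I i M n) :=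
    hy.trans (map_zero (leg I i M n).hom).symm
  obtain ⟨⟨⟨m⟩⟩, f, g, hfg⟩ :=
    Concrete.isColimit_exists_of_rep_eq _ (evalCoconeIsColimit I i M) _ _ h0
  have hle : n ≤ m := leOfHom f.unop.unop
  refine ⟨m, hle, ?_⟩
  exact hfg.trans (map_zero (oldTrans I i M hle).hom)


/-- the canonical map from `Ext^i(R/I^n, M)` to local cohomology -/
noncomputable def ι (n : ℕ) : Abelian.Ext (RmodPow I n) M i →ₗ[R] (localCohomology I i).obj M :=
  (leg I i M n).hom ∘ₗ (extEquiv (RmodPow I n) M i).symm.toLinearMap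

theorem ι_apply (n : ℕ) (x : Abelian.Ext (RmodPow I n) M i) :
    ι I i M n x = (leg I i M n).hom ((extEquiv (RmodPow I n) M i).symm x) := rfl

theorem extEquiv_oldTrans {n m : ℕ} (h : n ≤ m) (y : oldObj I i M n) :
    extEquiv (RmodPow I m) M i ((oldTrans I i M h).hom y) =
      (Abelian.Ext.mk₀ (trans I h)).comp (extEquiv (RmodPow I n) M i y) (zero_add i) :=
  extEquiv_naturality_left (trans I h) M i y

theorem ι_trans {n m : ℕ} (h : n ≤ m) (x : Abelian.Ext (RmodPow I n) M i) :
    ι I i M m ((Abelian.Ext.mk₀ (trans I h)).comp x (zero_add i)) = ι I i M n x := by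
  rw [ι_apply, ι_apply]
  have h1 := extEquiv_oldTrans I i M h ((extEquiv (RmodPow I n) M i).symm x)
  rw [LinearEquiv.apply_symm_apply] at h1
  rw [← h1, LinearEquiv.symm_apply_apply]
  have h2 := oldTrans_leg I i M h
  exact congrArg (fun t => t.hom ((extEquiv (RmodPow I n) M i).symm x)) h2

theorem exists_rep (h : (localCohomology I i).obj M) :
    ∃ (n : ℕ) (x : Abelian.Ext (RmodPow I n) M i), ι I i M n x = h := by
  obtain ⟨n, y, hy⟩ := leg_exists_rep I i M h
  refine ⟨n, extEquiv _ M i y, ?_⟩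
  rw [ι_apply, LinearEquiv.symm_apply_apply]
  exact hy

theorem ι_eq_zero_iff (n : ℕ) (x : Abelian.Ext (RmodPow I n) M i) :
    ι I i M n x = 0 ↔
      ∃ (m : ℕ) (h : n ≤ m), (Abelian.Ext.mk₀ (trans I h)).comp x (zero_add i) = 0 := by
  constructor
  · intro hx
    obtain ⟨m, h, hm⟩ := leg_eq_zero I i M n ((extEquiv (RmodPow I n) M i).symm x) hx
    refine ⟨m, h, ?_⟩
    have h1 := extEquiv_oldTrans I i M h ((extEquiv (RmodPow I n) M i).symm x)
    rw [LinearEquiv.apply_symm_apply, hm, map_zero] at h1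
    exact h1.symm
  · rintro ⟨m, h, hm⟩
    rw [← ι_trans I i M h, hm, map_zero]

variable {M} {M' : ModuleCat.{u} R}

theorem map_leg (f : M ⟶ M') (n : ℕ) :
    leg I i M n ≫ (localCohomology I i).map f =
      ((Ext R (ModuleCat.{u} R) i).obj (op (RmodPow I n))).map f ≫ leg I i M' n :=
  ((colimit.ι (lcDiagram I i) (op (op n))).naturality f).symm

theorem map_ι (f : M ⟶ M') (n : ℕ) (x : Abelian.Ext (RmodPow I n) M i) :
    ((localCohomology I i).map f).hom (ι I i M n x) =
      ι I i M' n (x.comp (Abelian.Ext.mk₀ f) (add_zero i)) := by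
  rw [ι_apply, ι_apply]
  have h1 := congrArg (fun t => t.hom ((extEquiv (RmodPow I n) M i).symm x)) (map_leg I i f n)
  simp only [ModuleCat.hom_comp, LinearMap.comp_apply] at h1
  rw [h1]
  congr 1
  apply (extEquiv (RmodPow I n) M' i).injective
  rw [LinearEquiv.apply_symm_apply, extEquiv_naturality_right, LinearEquiv.apply_symm_apply]

end Groth.Agent.Helper8.LC
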