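import Groth.Agent.Lib.Helper8.LCFaltFin
import Groth.Agent.S0315

/-!
# Artinianness of local cohomology with support in the maximal ideal (helper8)
-/

open CategoryTheory CategoryTheory.Limits Opposite Abelian Pointwise
universe u

namespace Groth.Agent.Helper8.LC

open IsLocalRing

variable {R : Type u} [CommRing R] [IsLocalRing R] [IsNoetherianRing R]

/-- a criterion for Artinianness over a Noetherian local ring -/
theorem isArtinian_of_powerTorsion_of_torsionBy_le (N : Type u) [AddCommGroup N] [Module R N]
    (hN : LocCoh.IsPowerTorsion (maximalIdeal R) N) (S : Submodule R N) [IsArtinian R S]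
    (hle : LocCoh.torsionBy (maximalIdeal R) N ≤ S) : IsArtinian R N := by
  apply (Groth.Agent.S0315.result R N).mpr
  refine ⟨hN, ?_⟩
  let _ : Field (R ⧸ maximalIdeal R) := Ideal.Quotient.field _
  have h1 : IsArtinian R ↥(LocCoh.torsionBy (maximalIdeal R) N) :=
    isArtinian_of_injective (Submodule.inclusion hle) (Submodule.inclusion_injective hle)
  have h2 : IsArtinian (R ⧸ maximalIdeal R) ↥(LocCoh.torsionBy (maximalIdeal R) N) :=
    isArtinian_of_tower R h1
  exact ((IsSemisimpleModule.finite_tfae (R := R ⧸ maximalIdeal R)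
    (M := ↥(LocCoh.torsionBy (maximalIdeal R) N))).out 2 0).1 h2

/-- `H^i_m(M)` is Artinian for finite `M` -/
theorem isArtinian_H_maximalIdeal : ∀ (i : ℕ) (M : Type u) [AddCommGroup M] [Module R M]
    [Module.Finite R M], IsArtinian R (H (maximalIdeal R) i M) := by
  intro i
  induction i with
  | zero =>
    intro M _ _ _
    have hfin : Module.Finite R (H (maximalIdeal R) 0 M) := finite_H_zero _ M
    have : IsNoetherian R (H (maximalIdeal R) 0 M) := isNoetherian_of_isNoetherianRing_of_finite R _
    apply (Groth.Agent.S0315.result R _).mpr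
    refine ⟨fun x => H_exists_pow_smul_eq_zero _ 0 _ x, ?_⟩
    have h1 : Module.Finite R ↥(LocCoh.torsionBy (maximalIdeal R) (H (maximalIdeal R) 0 M)) :=
      inferInstance
    exact Module.Finite.of_restrictScalars_finite R (R ⧸ maximalIdeal R) _
  | succ i ih =>
    intro M _ _ _
    -- pass to `M' = M / Γ_m(M)`
    have hses' := isSES_subtype_mkQ (gam (maximalIdeal R) M)
    have hsub : Subsingleton (H (maximalIdeal R) (i + 1) (gam (maximalIdeal R) M)) :=
      IsTors.H_subsingleton _ (i + 1) (by omega) _ (isTors_gam _)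
    have hinj : Function.Injective (Hmap (maximalIdeal R) (i + 1) (gam (maximalIdeal R) M).mkQ) :=
      hses'.Hmap_g_injective _ (i + 1)
    suffices hsuff : IsArtinian R (H (maximalIdeal R) (i + 1) (M ⧸ gam (maximalIdeal R) M)) from
      isArtinian_of_injective _ hinj
    obtain ⟨r, hrm, hr⟩ := exists_regular_of_gam_eq_bot (maximalIdeal R)
      (M ⧸ gam (maximalIdeal R) M) (gam_quotient_gam _ M)
    have hses := isSES_smul (M ⧸ gam (maximalIdeal R) M) hr
    have hA := ih ((M ⧸ gam (maximalIdeal R) M) ⧸
      r • (⊤ : Submodule R (M ⧸ gam (maximalIdeal R) M)))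
    have hS : IsArtinian R (LinearMap.range (Hδ (maximalIdeal R) i hses)) :=
      isArtinian_of_surjective _ (LinearMap.rangeRestrict _) (LinearMap.surjective_rangeRestrict _)
    refine isArtinian_of_powerTorsion_of_torsionBy_le _
      (fun x => H_exists_pow_smul_eq_zero _ (i + 1) _ x)
      (LinearMap.range (Hδ (maximalIdeal R) i hses)) ?_
    intro x hx
    have hx' : r • x = 0 := by
      rw [Submodule.mem_torsionBySet_iff] at hx
      exact hx ⟨r, hrm⟩
    have h1 : Hmap (maximalIdeal R) (i + 1)
        (r • (LinearMap.id : (M ⧸ gam (maximalIdeal R) M) →ₗ[R] _)) x = 0 := by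
      rw [Hmap_smul_id]; exact hx'
    exact (hses.exact_δ_Hmap _ i x).mp h1

end Groth.Agent.Helper8.LC
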