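import Groth.Agent.Lib.Helper8.Gor2
import Groth.Agent.Lib.Helper1.InjHullLib

/-!
# `H^n_m(R)` is an injective hull of the residue field of a Gorenstein local ring (helper8)
-/

set_option autoImplicit false
universe u

namespace Groth.Agent.Helper8.Gor

open IsLocalRing CategoryTheory Abelian Groth.Agent.Helper8 Groth.Agent.Helper8.LC
  Groth.Agent.Helper8.Canon

section Transport

variable {R : Type u} [CommRing R] {M E T : Type u} [AddCommGroup M] [Module R M]
  [AddCommGroup E] [Module R E] [AddCommGroup T] [Module R T]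

/-- injective hulls transport along linear equivalences of the target -/
theorem isInjectiveHull_congr {f : M →ₗ[R] E} (hf : InjHull.IsInjectiveHull f) (e : E ≃ₗ[R] T) :
    InjHull.IsInjectiveHull (e.toLinearMap ∘ₗ f) := by
  refine ⟨⟨e.injective.comp hf.injective, ?_⟩,
    Groth.Agent.Helper1.injective_of_linearEquiv e hf.isInjective⟩
  intro N hN
  have hN' : N.map e.symm.toLinearMap ≠ ⊥ := by
    intro h
    apply hN
    rw [eq_bot_iff]
    intro x hx
    have h1 : e.symm x ∈ N.map e.symm.toLinearMap := ⟨x, hx, rfl⟩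
    rw [h, Submodule.mem_bot] at h1
    rw [Submodule.mem_bot]
    exact (injective_iff_map_eq_zero e.symm).mp e.symm.injective x h1
  obtain ⟨y, ⟨⟨x, hxN, rfl⟩, ⟨c, hc⟩⟩, hy0⟩ := (Submodule.ne_bot_iff _).mp (hf.essential _ hN')
  rw [Submodule.ne_bot_iff]
  refine ⟨x, ⟨hxN, ⟨c, ?_⟩⟩, ?_⟩
  · rw [LinearMap.comp_apply, hc]
    exact e.apply_symm_apply x
  · intro hx0
    apply hy0
    rw [hx0]
    exact map_zero _

end Transport

section Main

variable {R : Type u} [CommRing R] [hCM : LocCoh.IsCohenMacaulayLocalRing R] {n : ℕ}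

/-- if `Ext^{n+1}(k, R) = 0` then `H^n_m(R)` is an injective hull of `k` -/
theorem exists_isInjectiveHull_H (hn : ringKrullDim R = n)
    (hhi : Subsingleton (Ext (ModuleCat.of R (ResidueField R)) (ModuleCat.of R R) (n + 1))) :
    ∃ g : ResidueField R →ₗ[R] H (maximalIdeal R) n R, InjHull.IsInjectiveHull g := by
  obtain ⟨E, _, _, f, hf⟩ := Groth.Agent.Helper1.exists_injectiveHull (R := R) (ResidueField R)
  obtain ⟨e⟩ := nonempty_H_equiv_hull hn hf hhi
  exact ⟨e.symm.toLinearMap ∘ₗ f, isInjectiveHull_congr hf e.symm⟩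

end Main

end Groth.Agent.Helper8.Gor
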