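import Groth.Agent.Lib.Helper8.LCFin
import Mathlib.RingTheory.KrullDimension.Regular

/-!
# Grothendieck's vanishing theorem for `localCohomology` (helper8)
-/

open CategoryTheory CategoryTheory.Limits Opposite Abelian Pointwise
universe u

namespace Groth.Agent.Helper8.LC

variable {R : Type u} [CommRing R] (I : Ideal R)

section TorsFinite

variable {M : Type u} [AddCommGroup M] [Module R M]

/-- a finitely generated torsion module is killed by a single power of `I` -/
theorem IsTors.exists_pow_of_fg (h : IsTors I M) (hfg : (⊤ : Submodule R M).FG) :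
    ∃ k : ℕ, ∀ a ∈ I ^ k, ∀ m : M, a • m = 0 := by
  obtain ⟨S, hS⟩ := hfg
  choose n hn using h
  refine ⟨S.sup n, fun a ha m => ?_⟩
  have hm : m ∈ Submodule.span R (S : Set M) := by rw [hS]; trivial
  induction hm using Submodule.span_induction with
  | mem x hx => exact hn x a (Ideal.pow_le_pow_right (Finset.le_sup hx) ha)
  | zero => exact smul_zero a
  | add x y _ _ hx hy => rw [smul_add, hx, hy, add_zero]
  | smul r x _ hx => rw [smul_comm, hx, smul_zero]

theorem gam_quotient_gam [IsNoetherianRing R] (M : Type u) [AddCommGroup M] [Module R M] :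
    gam I (M ⧸ gam I M) = ⊥ := by
  rw [eq_bot_iff]
  rintro x ⟨n, hn⟩
  obtain ⟨m, rfl⟩ := Submodule.Quotient.mk_surjective _ x
  rw [Submodule.mem_bot, Submodule.Quotient.mk_eq_zero]
  -- the finitely generated submodule `I^n • m` of `gam I M`
  let φ : (I ^ n : Ideal R) →ₗ[R] M := (LinearMap.toSpanSingleton R M m) ∘ₗ (I ^ n).subtype
  have hφ : ∀ a : (I ^ n : Ideal R), φ a ∈ gam I M := by
    intro a
    have := hn a.1 a.2
    rw [← Submodule.Quotient.mk_smul, Submodule.Quotient.mk_eq_zero] at this
    exact this
  let ψ : (I ^ n : Ideal R) →ₗ[R] gam I M := φ.codRestrict _ hφ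
  have hT : IsTors I (LinearMap.range ψ) := (isTors_gam I).submodule I _
  have hfg : (⊤ : Submodule R (LinearMap.range ψ)).FG := by
    rw [← Module.finite_def]
    exact Module.Finite.range ψ
  obtain ⟨k, hk⟩ := hT.exists_pow_of_fg I hfg
  refine ⟨k + n, fun b hb => ?_⟩
  rw [pow_add] at hb
  refine Submodule.mul_induction_on hb ?_ ?_
  · intro c hc a ha
    have h1 := hk c hc ⟨ψ ⟨a, ha⟩, LinearMap.mem_range_self ψ _⟩
    have h2 : c • (a • m) = 0 :=
      congrArg (fun t : LinearMap.range ψ => ((t : gam I M) : M)) h1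
    rw [mul_smul]
    exact h2
  · intro x y hx hy
    rw [add_smul, hx, hy, add_zero]

/-- if `Γ_I(M) = 0` for a nonzero finite module over a Noetherian ring, then `I` contains an
`M`-regular element -/
theorem exists_regular_of_gam_eq_bot [IsNoetherianRing R] (M : Type u) [AddCommGroup M]
    [Module R M] [Module.Finite R M] (h : gam I M = ⊥) :
    ∃ x ∈ I, IsSMulRegular M x := by
  by_contra hcon
  push Not at hcon
  obtain ⟨p, hp, hIp⟩ : ∃ p ∈ associatedPrimes R M, I ≤ p := by
    refine (I.subset_union_prime_finite (associatedPrimes.finite R M) (f := id) 0 0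
      fun _ h _ _ => h.isPrime).1 ?_
    simp_rw [id, biUnion_associatedPrimes_eq_compl_regular R M]
    exact fun x hx => hcon x hx
  obtain ⟨hprime, m, hm⟩ := (isAssociatedPrime_iff (I := p) (M := M)).mp hp
  have hm0 : m ∈ gam I M := by
    refine ⟨1, fun a ha => ?_⟩
    rw [pow_one] at ha
    have : a ∈ p := hIp ha
    rw [hm, Submodule.mem_colon_singleton] at this
    exact (Submodule.mem_bot R).mp this
  rw [h, Submodule.mem_bot] at hm0
  subst hm0
  apply hprime.ne_top
  rw [hm, Ideal.eq_top_iff_one, Submodule.mem_colon_singleton, smul_zero]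
  exact Submodule.zero_mem _

end TorsFinite

section Vanishing

variable [IsNoetherianRing R]

/-- passing to `M / Γ_I(M)` does not change `H^i_I` for `i > 0` -/
theorem H_subsingleton_of_quotient_gam (i : ℕ) (hi : 0 < i) (M : Type u) [AddCommGroup M]
    [Module R M] [Subsingleton (H I i (M ⧸ gam I M))] : Subsingleton (H I i M) := by
  have hses := isSES_subtype_mkQ (gam I M)
  have : Subsingleton (H I i (gam I M)) := IsTors.H_subsingleton I i hi _ (isTors_gam I)
  exact hses.subsingleton_mid I i

theorem supportDim_le_of_succ_le {a b : WithBot ℕ∞} {k : ℕ} (h1 : a + 1 ≤ b)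
    (h2 : b ≤ ((k + 1 : ℕ) : WithBot ℕ∞)) : a ≤ (k : WithBot ℕ∞) := by
  have h3 : a + 1 ≤ ((k + 1 : ℕ) : WithBot ℕ∞) := h1.trans h2
  induction a with
  | bot => exact bot_le
  | coe a =>
    induction a with
    | top =>
      exfalso
      have : ((⊤ : ℕ∞) : WithBot ℕ∞) + 1 = ((⊤ : ℕ∞) : WithBot ℕ∞) := rfl
      rw [this] at h3
      have h4 : (⊤ : ℕ∞) ≤ ((k + 1 : ℕ) : ℕ∞) := by exact_mod_cast h3
      exact absurd h4 (by simp)
    | coe a =>
      have h4 : ((a + 1 : ℕ) : WithBot ℕ∞) ≤ ((k + 1 : ℕ) : WithBot ℕ∞) := by exact_mod_cast h3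
      have h5 : a + 1 ≤ k + 1 := by exact_mod_cast h4
      exact_mod_cast Nat.le_of_succ_le_succ h5

/-- Grothendieck vanishing for finite modules, inductive form -/
theorem H_subsingleton_of_supportDim_le : ∀ (n : ℕ) (M : Type u) [AddCommGroup M] [Module R M]
    [Module.Finite R M], Module.supportDim R M ≤ (n : WithBot ℕ∞) → ∀ i : ℕ, n < i →
      Subsingleton (H I i M) := by
  intro n
  induction n with
  | zero =>
    intro M _ _ _ hdim i hi
    have : Subsingleton (H I i (M ⧸ gam I M)) := by
      by_cases hM : Subsingleton (M ⧸ gam I M)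
      · exact H_subsingleton_of_subsingleton I i _
      · obtain ⟨x, hxI, hx⟩ := exists_regular_of_gam_eq_bot I (M ⧸ gam I M) (gam_quotient_gam I M)
        have h1 : Module.supportDim R (QuotSMulTop x (M ⧸ gam I M)) + 1 ≤
            Module.supportDim R (M ⧸ gam I M) :=
          Module.supportDim_quotSMulTop_succ_le_of_notMem_minimalPrimes
            (fun _ => hx.notMem_of_mem_minimalPrimes)
        have h2 : Module.supportDim R (M ⧸ gam I M) ≤ ((0 : ℕ) : WithBot ℕ∞) :=
          (Module.supportDim_le_of_surjective _ (Submodule.mkQ_surjective _)).trans hdim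
        have h3 : Module.supportDim R (QuotSMulTop x (M ⧸ gam I M)) = ⊥ := by
          have h4 := h1.trans h2
          induction hh : Module.supportDim R (QuotSMulTop x (M ⧸ gam I M)) with
          | bot => rfl
          | coe a =>
            exfalso
            rw [hh] at h4
            have h5 : a + 1 ≤ (0 : ℕ∞) := by exact_mod_cast h4
            simp at h5
        have h4 : Subsingleton (QuotSMulTop x (M ⧸ gam I M)) :=
          (Module.supportDim_eq_bot_iff_subsingleton R _).mp h3
        obtain ⟨j, rfl⟩ : ∃ j, i = j + 1 := ⟨i - 1, by omega⟩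
        have : Subsingleton (H I j ((M ⧸ gam I M) ⧸ x • (⊤ : Submodule R (M ⧸ gam I M)))) :=
          @H_subsingleton_of_subsingleton R _ I j _ _ _ h4
        exact H_subsingleton_succ_of_regular I j _ hxI hx
    exact H_subsingleton_of_quotient_gam I i hi M
  | succ n ih =>
    intro M _ _ _ hdim i hi
    have : Subsingleton (H I i (M ⧸ gam I M)) := by
      by_cases hM : Subsingleton (M ⧸ gam I M)
      · exact H_subsingleton_of_subsingleton I i _
      · obtain ⟨x, hxI, hx⟩ := exists_regular_of_gam_eq_bot I (M ⧸ gam I M) (gam_quotient_gam I M)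
        have h1 : Module.supportDim R (QuotSMulTop x (M ⧸ gam I M)) + 1 ≤
            Module.supportDim R (M ⧸ gam I M) :=
          Module.supportDim_quotSMulTop_succ_le_of_notMem_minimalPrimes
            (fun _ => hx.notMem_of_mem_minimalPrimes)
        have h2 : Module.supportDim R (M ⧸ gam I M) ≤ ((n + 1 : ℕ) : WithBot ℕ∞) :=
          (Module.supportDim_le_of_surjective _ (Submodule.mkQ_surjective _)).trans hdim
        have h3 : Module.supportDim R (QuotSMulTop x (M ⧸ gam I M)) ≤ (n : WithBot ℕ∞) :=
          supportDim_le_of_succ_le h1 h2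
        obtain ⟨j, rfl⟩ : ∃ j, i = j + 1 := ⟨i - 1, by omega⟩
        have : Subsingleton (H I j ((M ⧸ gam I M) ⧸ x • (⊤ : Submodule R (M ⧸ gam I M)))) :=
          ih (QuotSMulTop x (M ⧸ gam I M)) h3 j (by omega)
        exact H_subsingleton_succ_of_regular I j _ hxI hx
    exact H_subsingleton_of_quotient_gam I i (by omega) M

/-- Grothendieck vanishing for finite modules -/
theorem H_subsingleton_of_supportDim_lt_of_finite (M : Type u) [AddCommGroup M] [Module R M]
    [Module.Finite R M] (i : ℕ) (hi : Module.supportDim R M < (i : WithBot ℕ∞)) :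
    Subsingleton (H I i M) := by
  rcases Nat.eq_zero_or_pos i with rfl | hpos
  · have h1 : Module.supportDim R M = ⊥ := by
      induction hh : Module.supportDim R M with
      | bot => rfl
      | coe a =>
        exfalso
        rw [hh] at hi
        have : a < (0 : ℕ∞) := by exact_mod_cast hi
        simp at this
    have := (Module.supportDim_eq_bot_iff_subsingleton R _).mp h1
    exact H_subsingleton_of_subsingleton I 0 M
  · obtain ⟨j, rfl⟩ : ∃ j, i = j + 1 := ⟨i - 1, by omega⟩
    refine H_subsingleton_of_supportDim_le I j M ?_ (j + 1) (by omega)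
    induction hh : Module.supportDim R M with
    | bot => exact bot_le
    | coe a =>
      rw [hh] at hi
      have h1 : a < ((j + 1 : ℕ) : ℕ∞) := by exact_mod_cast hi
      have h2 : a ≤ (j : ℕ∞) := by
        rw [Nat.cast_add, Nat.cast_one] at h1
        exact Order.le_of_lt_add_one h1
      exact_mod_cast h2

/-- Grothendieck vanishing for arbitrary modules -/
theorem H_subsingleton_of_supportDim_lt (M : Type u) [AddCommGroup M] [Module R M]
    (i : ℕ) (hi : Module.supportDim R M < (i : WithBot ℕ∞)) :
    Subsingleton (H I i M) := by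
  apply H_subsingleton_of_forall_fg
  intro M' hM'
  have : Module.Finite R M' := Module.Finite.iff_fg.mpr hM'
  apply H_subsingleton_of_supportDim_lt_of_finite
  exact (Module.supportDim_le_of_injective _ M'.injective_subtype).trans_lt hi

end Vanishing

end Groth.Agent.Helper8.LC
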