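import Groth.Agent.Lib.Helper8.LCCd
import Groth.Agent.Lib.Helper8.LCVanish
import Mathlib.RingTheory.KrullDimension.NonZeroDivisors

/-!
# Top local cohomology `H^d_I` for `d = dim R` (helper8)
-/

open CategoryTheory CategoryTheory.Limits Opposite Abelian Pointwise
universe u

namespace Groth.Agent.Helper8.LC

variable {R : Type u} [CommRing R] [IsNoetherianRing R] (I : Ideal R)

/-- Grothendieck vanishing above the dimension of the ring -/
theorem H_subsingleton_of_ringKrullDim_lt (d : ℕ) (hd : ringKrullDim R = d) (N : Type u)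
    [AddCommGroup N] [Module R N] (i : ℕ) (hi : d < i) : Subsingleton (H I i N) := by
  apply H_subsingleton_of_supportDim_lt
  refine lt_of_le_of_lt (Module.supportDim_le_ringKrullDim R N) ?_
  rw [hd]
  exact_mod_cast hi

omit [IsNoetherianRing R] in
/-- a prime `p` with `dim R/p = dim R` is a minimal prime -/
theorem mem_minimalPrimes_of_ringKrullDim_quotient_eq (d : ℕ) (hd : ringKrullDim R = d)
    (p : Ideal R) [hp : p.IsPrime] (hpd : ringKrullDim (R ⧸ p) = d) : p ∈ minimalPrimes R := by
  obtain ⟨q, hq, hqp⟩ := Ideal.exists_minimalPrimes_le (I := (⊥ : Ideal R)) (J := p) bot_le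
  rcases eq_or_lt_of_le hqp with h | h
  · rw [← h]; exact hq
  exfalso
  have hqprime : q.IsPrime := hq.1.1
  -- a chain of length `d` in `V(p)` extends by `q`
  rw [ringKrullDim_quotient] at hpd
  have h1 : ((d : ℕ) : WithBot ℕ∞) ≤ Order.krullDim (PrimeSpectrum.zeroLocus (R := R) p) := hpd.ge
  obtain ⟨l, hl⟩ := Order.le_krullDim_iff.mp h1
  let l' : LTSeries (PrimeSpectrum R) := l.map Subtype.val (fun _ _ h => h)
  have hhead : (⟨q, hqprime⟩ : PrimeSpectrum R) < RelSeries.head l' := by
    have h2 : p ≤ (RelSeries.head l').asIdeal := by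
      have := (RelSeries.head l).2
      rw [PrimeSpectrum.mem_zeroLocus] at this
      exact this
    have h2' : q < (RelSeries.head l').asIdeal := lt_of_lt_of_le h h2
    exact h2'
  have h3 := Order.LTSeries.length_le_krullDim (l'.cons ⟨q, hqprime⟩ hhead)
  have h4 : Order.krullDim (PrimeSpectrum R) = d := hd
  rw [h4] at h3
  have h5 : (l'.cons ⟨q, hqprime⟩ hhead).length = d + 1 := by
    rw [RelSeries.cons_length]
    change l.length + 1 = d + 1
    rw [hl]
  rw [h5] at h3
  have h6 : d + 1 ≤ d := by exact_mod_cast h3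
  omega

omit [IsNoetherianRing R] in
/-- if `f` kills the finite module `N` and avoids the top-dimensional minimal primes then
`dim N < dim R` -/
theorem supportDim_lt_of_smul_eq_zero (d : ℕ) (hd : ringKrullDim R = d) (f : R)
    (hf : ∀ p ∈ minimalPrimes R, ringKrullDim (R ⧸ p) = d → f ∉ p) (N : Type u) [AddCommGroup N]
    [Module R N] [Module.Finite R N] (hN : ∀ y : N, f • y = 0) :
    Module.supportDim R N < (d : WithBot ℕ∞) := by
  rw [Module.supportDim, Order.krullDim_lt_coe_iff]
  intro l
  by_contra hlen
  rw [not_lt] at hlen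
  have hfmem : ∀ x : Module.support R N, f ∈ x.1.asIdeal := by
    intro x
    have h1 := Module.mem_support_iff_of_finite.mp x.2
    exact h1 (Module.mem_annihilator.mpr hN)
  let l' : LTSeries (PrimeSpectrum R) := l.map Subtype.val (fun _ _ h => h)
  set p0 : PrimeSpectrum R := RelSeries.head l' with hp0
  obtain ⟨q, hq, hqp⟩ := Ideal.exists_minimalPrimes_le (I := (⊥ : Ideal R)) (J := p0.asIdeal) bot_le
  have hqprime : q.IsPrime := hq.1.1
  have hkd : Order.krullDim (PrimeSpectrum R) = d := hd
  rcases eq_or_lt_of_le hqp with h | h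
  · -- `p0` is a minimal prime with `dim R/p0 = d`
    have hp0min : p0.asIdeal ∈ minimalPrimes R := by rw [← h]; exact hq
    have hdim : ringKrullDim (R ⧸ p0.asIdeal) = d := by
      apply le_antisymm
      · exact (ringKrullDim_quotient_le _).trans hd.le
      · rw [ringKrullDim_quotient]
        let l'' : LTSeries (PrimeSpectrum.zeroLocus (R := R) p0.asIdeal) :=
          { length := l.length
            toFun := fun i => ⟨(l i).1, by
              rw [PrimeSpectrum.mem_zeroLocus]
              exact LTSeries.head_le l' i⟩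
            step := fun i => l.step i }
        have h1 := Order.LTSeries.length_le_krullDim l''
        refine le_trans ?_ h1
        change ((d : ℕ) : WithBot ℕ∞) ≤ ((l.length : ℕ) : WithBot ℕ∞)
        exact_mod_cast hlen
    exact hf _ hp0min hdim (hfmem (RelSeries.head l))
  · have hhead : (⟨q, hqprime⟩ : PrimeSpectrum R) < RelSeries.head l' := h
    have h3 := Order.LTSeries.length_le_krullDim (l'.cons ⟨q, hqprime⟩ hhead)
    rw [hkd] at h3
    have h5 : (l'.cons ⟨q, hqprime⟩ hhead).length = l.length + 1 := by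
      rw [RelSeries.cons_length]
      rfl
    rw [h5] at h3
    have h6 : l.length + 1 ≤ d := by exact_mod_cast h3
    omega

/-- multiplication by `f` is surjective on `H^d_I(M)`, `d = dim R`, when `f` avoids the
top-dimensional minimal primes -/
theorem smul_surjective_H_top (d : ℕ) (hd : ringKrullDim R = d) (f : R)
    (hf : ∀ p ∈ minimalPrimes R, ringKrullDim (R ⧸ p) = d → f ∉ p) (M : Type u) [AddCommGroup M]
    [Module R M] [Module.Finite R M] : Function.Surjective (fun x : H I d M => f • x) := by
  have hvan : ∀ (N : Type u) [AddCommGroup N] [Module R N], Subsingleton (H I (d + 1) N) :=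
    fun N _ _ => H_subsingleton_of_ringKrullDim_lt I d hd N (d + 1) (by omega)
  let φ : M →ₗ[R] M := f • (LinearMap.id : M →ₗ[R] M)
  let K : Submodule R M := LinearMap.range φ
  have h1 : Function.Surjective (Hmap I d φ.rangeRestrict) :=
    Hmap_surjective_of_surjective I d hvan (LinearMap.surjective_rangeRestrict φ)
  have hses := isSES_subtype_mkQ K
  have hQ : ∀ y : M ⧸ K, f • y = 0 := by
    intro y
    obtain ⟨m, rfl⟩ := Submodule.Quotient.mk_surjective _ y
    rw [← Submodule.Quotient.mk_smul, Submodule.Quotient.mk_eq_zero]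
    exact ⟨m, rfl⟩
  have hQ0 : Subsingleton (H I d (M ⧸ K)) :=
    H_subsingleton_of_supportDim_lt I _ d (supportDim_lt_of_smul_eq_zero d hd f hf (M ⧸ K) hQ)
  have h2 : Function.Surjective (Hmap I d K.subtype) := by
    intro y
    exact (hses.exact_Hmap I d y).mp (Subsingleton.elim _ _)
  intro y
  obtain ⟨z, rfl⟩ := h2 y
  obtain ⟨x, rfl⟩ := h1 z
  refine ⟨x, ?_⟩
  change f • x = _
  rw [← Hmap_smul_id I d f x, ← Hmap_comp_apply]
  rfl

end Groth.Agent.Helper8.LC
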