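import Groth.Agent.Lib.Helper8.LCVanish
import Groth.Prelude.Def_W4bk5brsh7111920

/-!
# Finiteness dimensions: invariance under killing `b`-torsion-like submodules (helper8)
-/

set_option autoImplicit false
universe u

namespace Groth.Agent.Helper8.LC

variable {R : Type u} [CommRing R]

/-- if `y` kills `G` then `y` kills `H^i_a(G)` -/
theorem smul_H_eq_zero_of_smul_eq_zero (a : Ideal R) (i : ℕ) {G : Type u} [AddCommGroup G]
    [Module R G] (y : R) (hy : ∀ g : G, y • g = 0) (z : H a i G) : y • z = 0 := by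
  rw [← Hmap_smul_id a i y z]
  have h1 : y • (LinearMap.id : G →ₗ[R] G) = 0 := by
    ext g
    exact hy g
  rw [h1, Hmap_zero]
  rfl

theorem le_radical_iff_exists_pow_le [IsNoetherianRing R] (b J : Ideal R) :
    b ≤ J.radical ↔ ∃ n : ℕ, b ^ n ≤ J := by
  constructor
  · intro h
    exact Ideal.exists_pow_le_of_le_radical_of_fg h (IsNoetherian.noetherian b)
  · rintro ⟨n, hn⟩ x hx
    exact ⟨n, hn (Ideal.pow_mem_pow hx n)⟩

section Quot

variable [IsNoetherianRing R] (a b : Ideal R) {M : Type u} [AddCommGroup M] [Module R M]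
  (G : Submodule R M) (k : ℕ) (hG : ∀ y ∈ b ^ k, ∀ g ∈ G, y • g = 0)

include hG in
theorem le_radical_annihilator_H_quotient_iff (i : ℕ) :
    b ≤ (Module.annihilator R (H a i M)).radical ↔
      b ≤ (Module.annihilator R (H a i (M ⧸ G))).radical := by
  have hses := isSES_subtype_mkQ G
  have hkill : ∀ (j : ℕ) (y : R), y ∈ b ^ k → ∀ z : H a j G, y • z = 0 := by
    intro j y hy z
    exact smul_H_eq_zero_of_smul_eq_zero a j y (fun g => Subtype.ext (hG y hy g.1 g.2)) z
  rw [le_radical_iff_exists_pow_le, le_radical_iff_exists_pow_le]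
  constructor
  · rintro ⟨n, hn⟩
    refine ⟨n + k, ?_⟩
    rw [pow_add, Ideal.mul_le]
    intro x hx y hy
    rw [Module.mem_annihilator]
    intro z
    have h1 : Hδ a i hses (y • z) = 0 := by
      rw [map_smul]
      exact hkill (i + 1) y hy _
    obtain ⟨w, hw⟩ := (hses.exact_Hmap_δ a i (y • z)).mp h1
    rw [mul_smul, ← hw, ← map_smul, Module.mem_annihilator.mp (hn hx) w, map_zero]
  · rintro ⟨n, hn⟩
    refine ⟨n + k, ?_⟩
    rw [pow_add, mul_comm, Ideal.mul_le]
    intro y hy x hx
    rw [Module.mem_annihilator]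
    intro w
    have h1 : Hmap a i G.mkQ (x • w) = 0 := by
      rw [map_smul]
      exact Module.mem_annihilator.mp (hn hx) _
    obtain ⟨v, hv⟩ := (hses.exact_Hmap a i (x • w)).mp h1
    rw [mul_smul, ← hv, ← map_smul, hkill i y hy v, map_zero]

include hG in
theorem finDimRel_quotient_eq :
    LocCoh.finDimRel a b M = LocCoh.finDimRel a b (M ⧸ G) := by
  unfold LocCoh.finDimRel
  refine iInf_congr fun i => ?_
  refine iInf_congr_Prop ?_ (fun _ => rfl)
  exact not_congr (le_radical_annihilator_H_quotient_iff a b G k hG i)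

end Quot

/-- the `c`-power-torsion submodule in the form used by the statements -/
theorem iSup_torsionBy_eq_gam [IsNoetherianRing R] (c : Ideal R) (M : Type u) [AddCommGroup M]
    [Module R M] : (⨆ n : ℕ, LocCoh.torsionBy (c ^ n) M) = gam c M :=
  (gam_eq_iSup c M).symm

/-- a power of `c` kills `Γ_c(M)` for finite `M` -/
theorem exists_pow_smul_gam_eq_zero [IsNoetherianRing R] (c : Ideal R) (M : Type u)
    [AddCommGroup M] [Module R M] [Module.Finite R M] :
    ∃ k : ℕ, ∀ y ∈ c ^ k, ∀ g ∈ gam c M, y • g = 0 := by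
  have hfg : (⊤ : Submodule R (gam c M)).FG := by
    have : IsNoetherian R M := isNoetherian_of_isNoetherianRing_of_finite R M
    exact (inferInstance : Module.Finite R (gam c M)).fg_top
  obtain ⟨k, hk⟩ := IsTors.exists_pow_of_fg c (isTors_gam c (M := M)) hfg
  exact ⟨k, fun y hy g hg => congrArg Subtype.val (hk y hy ⟨g, hg⟩)⟩

end Groth.Agent.Helper8.LC
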