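import Groth.Agent.Lib.Helper8.LCLes2

/-!
# The two long exact sequences for `a ⊆ a + (b)` (helper8)

* `H^i_{a+(b)}(M) → H^i_a(M) → H^i_a(M)_b` with `coker ≃ ker` in the next degree;
* `H^i_{a+(b)}(M) → H^i_a(M) → H^i_a(M_b)` with `coker ≃ ker` in the next degree.
-/

open CategoryTheory CategoryTheory.Limits Opposite Abelian
universe u

namespace Groth.Agent.Helper8.LC

variable {R : Type u} [CommRing R]

section DegreeZero

variable (a : Ideal R) (b : R) (M : Type u) [AddCommGroup M] [Module R M]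

/-- the range of `H⁰_{a+(b)}(M) → H⁰_a(M)` consists of the `b`-power torsion elements -/
theorem mem_range_Hθ_sup_zero_iff (y : H a 0 M) :
    y ∈ LinearMap.range (Hθ (le_sup_left : a ≤ a ⊔ Ideal.span {b}) 0 M) ↔
      ∃ n : ℕ, b ^ n • y = 0 := by
  rw [mem_range_Hθ_zero_iff, gam_sup_eq_inf, Submodule.mem_inf]
  constructor
  · rintro ⟨_, h2⟩
    rw [mem_gam_span_singleton_iff] at h2
    obtain ⟨n, hn⟩ := h2
    refine ⟨n, ?_⟩
    apply (H0Equiv a M).injective
    apply Subtype.ext
    rw [map_smul, map_zero]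
    exact hn
  · rintro ⟨n, hn⟩
    refine ⟨(H0Equiv a M y).2, ?_⟩
    rw [mem_gam_span_singleton_iff]
    refine ⟨n, ?_⟩
    have h1 := congrArg (fun t => ((H0Equiv a M t : gam a M) : M)) hn
    simp only [map_smul, map_zero] at h1
    exact h1

end DegreeZero

section First

variable [IsNoetherianRing R] (a : Ideal R) (b : R)

/-- the family `X ↦ H^i_a(X)_b` -/
noncomputable def LocHFam : EffFam R
    (fun i (X : RMod R) => LocalizedModule (Submonoid.powers b) (H a i X.carrier))
    RMod.E RMod.Q where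
  ι X := locMap b (Hmap a 0 X.emb)
  α i X := locMap b (Hmap a i X.proj)
  δ i X := locMap b (Hδ a i X.isSES)
  ι_inj X := locMap_injective b ((HFam a).ι_inj X)
  exact_ι_α X := locMap_exact b ((HFam a).exact_ι_α X)
  exact_α_δ X := locMap_exact b ((HFam a).exact_α_δ X)
  δ_surj i X := locMap_surjective b ((HFam a).δ_surj i X)
  δ_inj i X hi := locMap_injective b ((HFam a).δ_inj i X hi)

/-- the localization maps `H^i_a(X) → H^i_a(X)_b` -/
noncomputable def mkHom : EffHom (HFam a) (LocHFam a b) where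
  app i X := LocalizedModule.mkLinearMap (Submonoid.powers b) (H a i X.carrier)
  comm_ι _ x := (locMap_mk b _ x).symm
  comm_α _ x := (locMap_mk b _ x).symm
  comm_δ _ _ x := (locMap_mk b _ x).symm

theorem injective_H_zero (E : Type u) [AddCommGroup E] [Module R E] [Module.Injective R E] :
    Module.Injective R (H a 0 E) := by
  have h1 : Module.Injective R (gam a E) := injective_gam a E
  exact (Module.Baer.of_equiv (H0Equiv a E).symm (Module.Baer.of_injective h1)).injective

omit [IsNoetherianRing R] in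
theorem mkHom_hyp_exact (X : RMod R) :
    Function.Exact ((θHom (le_sup_left : a ≤ a ⊔ Ideal.span {b})).app 0 X)
      ((mkHom a b).app 0 X) := by
  intro y
  change LocalizedModule.mkLinearMap (Submonoid.powers b) (H a 0 X.carrier) y = 0 ↔
    y ∈ LinearMap.range (Hθ (le_sup_left : a ≤ a ⊔ Ideal.span {b}) 0 X.carrier)
  rw [mkLinearMap_eq_zero_iff, mem_range_Hθ_sup_zero_iff]

theorem mkHom_hyp_surj (X : RMod R) : Function.Surjective ((mkHom a b).app 0 (RMod.E X)) := by
  have := injective_H_zero a X.E.carrier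
  exact mkLinearMap_surjective_of_injective b (H a 0 X.E.carrier)

variable (M : Type u) [AddCommGroup M] [Module R M]

/-- exactness of `H^i_{a+(b)}(M) → H^i_a(M) → H^i_a(M)_b` -/
theorem exact_Hθ_mkLinearMap (i : ℕ) :
    Function.Exact (Hθ (le_sup_left : a ≤ a ⊔ Ideal.span {b}) i M)
      (LocalizedModule.mkLinearMap (Submonoid.powers b) (H a i M)) :=
  EffHom.exact (θHom (le_sup_left : a ≤ a ⊔ Ideal.span {b})) (mkHom a b)
    (mkHom_hyp_exact a b) (mkHom_hyp_surj a b) i ⟨M⟩

/-- the range of `H^i_{a+(b)}(M) → H^i_a(M)` is the `b`-power torsion -/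
theorem mem_range_Hθ_sup_iff (i : ℕ) (y : H a i M) :
    y ∈ LinearMap.range (Hθ (le_sup_left : a ≤ a ⊔ Ideal.span {b}) i M) ↔
      ∃ n : ℕ, b ^ n • y = 0 := by
  rw [← mkLinearMap_eq_zero_iff]
  exact (exact_Hθ_mkLinearMap a b M i y).symm

/-- `coker(H^i_a(M) → H^i_a(M)_b) ≃ ker(H^{i+1}_{a+(b)}(M) → H^{i+1}_a(M))` -/
theorem nonempty_coker_mkLinearMap_equiv_ker_Hθ (i : ℕ) :
    Nonempty ((LocalizedModule (Submonoid.powers b) (H a i M) ⧸
        LinearMap.range (LocalizedModule.mkLinearMap (Submonoid.powers b) (H a i M))) ≃ₗ[R]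
      LinearMap.ker (Hθ (le_sup_left : a ≤ a ⊔ Ideal.span {b}) (i + 1) M)) :=
  EffHom.nonempty_coker_equiv_ker (θHom (le_sup_left : a ≤ a ⊔ Ideal.span {b})) (mkHom a b)
    (fun X => Hθ_zero_injective _ X.carrier) (mkHom_hyp_exact a b) (mkHom_hyp_surj a b) i ⟨M⟩

end First

section Second

variable [IsNoetherianRing R] (a : Ideal R) (b : R)

/-- `E_b` is `Γ_a`-acyclic for injective `E` -/
theorem H_localizedModule_subsingleton_of_injective (E : Type u) [AddCommGroup E] [Module R E]
    [Module.Injective R E] (i : ℕ) (hi : 0 < i) :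
    Subsingleton (H a i (LocalizedModule (Submonoid.powers b) E)) := by
  let R' := Localization (Submonoid.powers b)
  have hN : IsNoetherianRing R' := IsLocalization.isNoetherianRing (Submonoid.powers b) R' inferInstance
  let X : BMod R R' := { carrier := LocalizedModule (Submonoid.powers b) E }
  obtain ⟨e⟩ := exists_equiv_base a i X
  have h1 : Subsingleton (H (a.map (algebraMap R R')) i (TensorProduct R R' E)) :=
    H_map_subsingleton_baseChange_of_injective a E i hi
  have h2 : Subsingleton (H (a.map (algebraMap R R')) i (LocalizedModule (Submonoid.powers b) E)) :=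
    (Hcongr (a.map (algebraMap R R')) i (localizedModuleEquivTensor (Submonoid.powers b) E)).symm.toEquiv.subsingleton
  have h3 : Subsingleton (HA a i X) := h2
  exact e.symm.toEquiv.subsingleton

/-- the family `X ↦ H^i_a(X_b)` -/
noncomputable def HLocFam : EffFam R
    (fun i (X : RMod R) => H a i (LocalizedModule (Submonoid.powers b) X.carrier))
    RMod.E RMod.Q where
  ι X := Hmap a 0 (locMap b X.emb)
  α i X := Hmap a i (locMap b X.proj)
  δ i X := Hδ a i (X.isSES.loc b)
  ι_inj X := Hmap_zero_injective a (X.isSES.loc b).inj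
  exact_ι_α X := (X.isSES.loc b).exact_Hmap a 0
  exact_α_δ X := (X.isSES.loc b).exact_Hmap_δ a 0
  δ_surj i X := by
    have : Subsingleton (H a (i + 1) (LocalizedModule (Submonoid.powers b) X.E.carrier)) :=
      H_localizedModule_subsingleton_of_injective a b _ (i + 1) (by omega)
    exact (X.isSES.loc b).δ_surjective a i
  δ_inj i X hi := by
    have : Subsingleton (H a i (LocalizedModule (Submonoid.powers b) X.E.carrier)) :=
      H_localizedModule_subsingleton_of_injective a b _ i hi
    exact (X.isSES.loc b).δ_injective a i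

omit [IsNoetherianRing R] in
theorem locMap_comp_mk {M N : Type u} [AddCommGroup M] [Module R M] [AddCommGroup N] [Module R N]
    (f : M →ₗ[R] N) :
    locMap b f ∘ₗ LocalizedModule.mkLinearMap (Submonoid.powers b) M =
      LocalizedModule.mkLinearMap (Submonoid.powers b) N ∘ₗ f :=
  IsLocalizedModule.map_comp _ _ _ f

/-- the maps `H^i_a(X) → H^i_a(X_b)` -/
noncomputable def HmkHom : EffHom (HFam a) (HLocFam a b) where
  app i X := Hmap a i (LocalizedModule.mkLinearMap (Submonoid.powers b) X.carrier)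
  comm_ι X x := by
    change Hmap a 0 _ (Hmap a 0 X.emb x) = Hmap a 0 (locMap b X.emb) (Hmap a 0 _ x)
    rw [← Hmap_comp_apply, ← Hmap_comp_apply, locMap_comp_mk]
  comm_α X x := by
    change Hmap a 0 _ (Hmap a 0 X.proj x) = Hmap a 0 (locMap b X.proj) (Hmap a 0 _ x)
    rw [← Hmap_comp_apply, ← Hmap_comp_apply, locMap_comp_mk]
  comm_δ i X x :=
    Hδ_naturality a i X.isSES (X.isSES.loc b) _ _ _ (locMap_comp_mk b X.emb).symm
      (locMap_comp_mk b X.proj).symm x

theorem HmkHom_hyp_exact (X : RMod R) :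
    Function.Exact ((θHom (le_sup_left : a ≤ a ⊔ Ideal.span {b})).app 0 X)
      ((HmkHom a b).app 0 X) := by
  intro y
  change Hmap a 0 (LocalizedModule.mkLinearMap (Submonoid.powers b) X.carrier) y = 0 ↔
    y ∈ LinearMap.range (Hθ (le_sup_left : a ≤ a ⊔ Ideal.span {b}) 0 X.carrier)
  rw [mem_range_Hθ_sup_zero_iff]
  have h1 : Hmap a 0 (LocalizedModule.mkLinearMap (Submonoid.powers b) X.carrier) y = 0 ↔
      LocalizedModule.mkLinearMap (Submonoid.powers b) X.carrier (H0Equiv a X.carrier y : X.carrier)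
        = 0 := by
    rw [← H0Equiv_naturality]
    constructor
    · intro h; rw [h, map_zero]; rfl
    · intro h
      apply (H0Equiv a _).injective
      apply Subtype.ext
      rw [h, map_zero]; rfl
  rw [h1, mkLinearMap_eq_zero_iff]
  constructor
  · rintro ⟨n, hn⟩
    refine ⟨n, ?_⟩
    apply (H0Equiv a X.carrier).injective
    apply Subtype.ext
    rw [map_smul, map_zero]
    exact hn
  · rintro ⟨n, hn⟩
    refine ⟨n, ?_⟩
    have h2 := congrArg (fun t => ((H0Equiv a X.carrier t : gam a X.carrier) : X.carrier)) hn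
    simp only [map_smul, map_zero] at h2
    exact h2

/-- `Γ_a(E) → Γ_a(E_b)` is surjective for injective `E` -/
theorem exists_mem_gam_mk_eq (E : Type u) [AddCommGroup E] [Module R E] [Module.Injective R E]
    (z : LocalizedModule (Submonoid.powers b) E)
    (hz : z ∈ gam a (LocalizedModule (Submonoid.powers b) E)) :
    ∃ e' ∈ gam a E, LocalizedModule.mkLinearMap (Submonoid.powers b) E e' = z := by
  obtain ⟨n, e, hne⟩ := exists_pow_smul_eq_mk b z
  obtain ⟨k, hk⟩ := hz
  have h1 : ∀ c ∈ a ^ k, ∃ m : ℕ, b ^ m • c • e = 0 := by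
    intro c hc
    rw [← mkLinearMap_eq_zero_iff, map_smul, ← hne, smul_comm, hk c hc, smul_zero]
  obtain ⟨m, hm⟩ := exists_pow_smul_eq_zero_of_fg b E (a ^ k) (IsNoetherian.noetherian _) e h1
  have hmem : b ^ m • e ∈ gam a E := ⟨k, fun c hc => by rw [smul_comm]; exact hm c hc⟩
  have hinj : Module.Injective R (gam a E) := injective_gam a E
  obtain ⟨e', j, hj⟩ := exists_pow_smul_sub_eq_zero_of_injective b (gam a E) ⟨b ^ m • e, hmem⟩
    (n + m)
  refine ⟨e'.1, e'.2, ?_⟩
  have hj' : b ^ j • (b ^ (n + m) • (e' : E) - b ^ m • e) = 0 := congrArg Subtype.val hj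
  have hj'' : b ^ j • b ^ (n + m) • (e' : E) = b ^ j • b ^ m • e := by
    rw [smul_sub, sub_eq_zero] at hj'
    exact hj'
  apply pow_smul_injective_localizedModule b (j + (n + m))
  change b ^ (j + (n + m)) • _ = b ^ (j + (n + m)) • z
  have hp : b ^ (j + (n + m)) = b ^ j * (b ^ m * b ^ n) := by ring
  rw [hp, mul_smul (b ^ j) _ z, mul_smul (b ^ m) (b ^ n) z, hne, ← map_smul, ← map_smul,
    ← map_smul, ← hj'', ← mul_smul, ← pow_add]
  congr 2
  ring

theorem HmkHom_hyp_surj (X : RMod R) : Function.Surjective ((HmkHom a b).app 0 (RMod.E X)) := by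
  intro y''
  obtain ⟨e', he', hmk⟩ := exists_mem_gam_mk_eq a b X.E.carrier
    (H0Equiv a _ y'' : LocalizedModule (Submonoid.powers b) X.E.carrier) (H0Equiv a _ y'').2
  refine ⟨(H0Equiv a X.E.carrier).symm ⟨e', he'⟩, ?_⟩
  apply (H0Equiv a _).injective
  apply Subtype.ext
  have h := H0Equiv_naturality a (LocalizedModule.mkLinearMap (Submonoid.powers b) X.E.carrier)
    ((H0Equiv a X.E.carrier).symm ⟨e', he'⟩)
  rw [LinearEquiv.apply_symm_apply] at h
  exact h.trans hmk

variable (M : Type u) [AddCommGroup M] [Module R M]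

/-- exactness of `H^i_{a+(b)}(M) → H^i_a(M) → H^i_a(M_b)` -/
theorem exact_Hθ_Hmap_mkLinearMap (i : ℕ) :
    Function.Exact (Hθ (le_sup_left : a ≤ a ⊔ Ideal.span {b}) i M)
      (Hmap a i (LocalizedModule.mkLinearMap (Submonoid.powers b) M)) :=
  EffHom.exact (θHom (le_sup_left : a ≤ a ⊔ Ideal.span {b})) (HmkHom a b)
    (HmkHom_hyp_exact a b) (HmkHom_hyp_surj a b) i ⟨M⟩

/-- `coker(H^i_a(M) → H^i_a(M_b)) ≃ ker(H^{i+1}_{a+(b)}(M) → H^{i+1}_a(M))` -/
theorem nonempty_coker_Hmap_mkLinearMap_equiv_ker_Hθ (i : ℕ) :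
    Nonempty ((H a i (LocalizedModule (Submonoid.powers b) M) ⧸
        LinearMap.range (Hmap a i (LocalizedModule.mkLinearMap (Submonoid.powers b) M))) ≃ₗ[R]
      LinearMap.ker (Hθ (le_sup_left : a ≤ a ⊔ Ideal.span {b}) (i + 1) M)) :=
  EffHom.nonempty_coker_equiv_ker (θHom (le_sup_left : a ≤ a ⊔ Ideal.span {b})) (HmkHom a b)
    (fun X => Hθ_zero_injective _ X.carrier) (HmkHom_hyp_exact a b) (HmkHom_hyp_surj a b) i ⟨M⟩

end Second

end Groth.Agent.Helper8.LC
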