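import Groth.Agent.Lib.Helper8.LCLoc
import Groth.Agent.Lib.Lead.Depth20

/-!
# Localization at a minimal prime of `a + p` (helper8)
-/

set_option autoImplicit false
universe u

namespace Groth.Agent.Helper8.LC

open IsLocalRing TensorProduct

variable {R : Type u} [CommRing R]

/-- if `c` kills `H^i_a(M)` then `c/1` kills `H^i_{aS⁻¹R}(S⁻¹M)`. -/
theorem smul_H_localizedModule_eq_zero [IsNoetherianRing R]
    (S : Submonoid R) (a : Ideal R) (M : Type u) [AddCommGroup M] [Module R M] (i : ℕ) (c : R)
    (hc : ∀ x : H a i M, c • x = 0)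
    (y : H (a.map (algebraMap R (Localization S))) i (LocalizedModule S M)) :
    algebraMap R (Localization S) c • y = 0 := by
  set e := Hcongr (a.map (algebraMap R (Localization S))) i (localizedModuleEquivTensor S M)
  obtain ⟨z, rfl⟩ := e.surjective y
  rw [← map_smul, smul_H_baseChange_eq_zero (Localization S) a M i c hc z, map_zero]

/-- there is a minimal prime of `a ⊔ p` realising the height of `(a + p)/p`. -/
theorem exists_minimalPrimes_height_eq (a p : Ideal R) [p.IsPrime] (t : ℕ)
    (ht : ((a ⊔ p).map (Ideal.Quotient.mk p)).height = t) :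
    ∃ q ∈ (a ⊔ p).minimalPrimes, (q.map (Ideal.Quotient.mk p)).height = t := by
  set I' := (a ⊔ p).map (Ideal.Quotient.mk p) with hI'
  have h1 : ∃ q' ∈ I'.minimalPrimes, q'.height ≤ t := by
    by_contra hcon
    push Not at hcon
    have h2 : ((t + 1 : ℕ) : ℕ∞) ≤ I'.height := by
      rw [Ideal.height_eq_inf_minimalPrimes]
      refine le_iInf₂ fun q' hq' => ?_
      have := hcon q' hq'
      exact Order.add_one_le_of_lt this
    rw [ht] at h2
    have : t + 1 ≤ t := by exact_mod_cast h2
    omega
  obtain ⟨q', hq', hle⟩ := h1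
  have hge : I'.height ≤ q'.height := by
    rw [Ideal.height_eq_inf_minimalPrimes]
    exact iInf₂_le q' hq'
  rw [ht] at hge
  have hq'ht : q'.height = t := le_antisymm hle hge
  refine ⟨q'.comap (Ideal.Quotient.mk p), ?_, ?_⟩
  · have h3 := Ideal.minimalPrimes_comap_of_surjective
      (f := Ideal.Quotient.mk p) Ideal.Quotient.mk_surjective hq'
    have h4 : I'.comap (Ideal.Quotient.mk p) = a ⊔ p := by
      rw [hI', Ideal.comap_map_of_surjective _ Ideal.Quotient.mk_surjective,
        ← RingHom.ker_eq_comap_bot, Ideal.mk_ker, sup_assoc, sup_idem]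
    rwa [h4] at h3
  · rw [Ideal.map_comap_of_surjective _ Ideal.Quotient.mk_surjective]
    exact hq'ht

/-- in `R_q` with `q` a minimal prime of `J`, the radical of `J R_q` is the maximal ideal -/
theorem maximalIdeal_le_radical_map_of_mem_minimalPrimes (J q : Ideal R) [q.IsPrime]
    (hq : q ∈ J.minimalPrimes) :
    maximalIdeal (Localization.AtPrime q) ≤
      (J.map (algebraMap R (Localization.AtPrime q))).radical := by
  rw [← Ideal.sInf_minimalPrimes]
  refine le_sInf fun Q hQ => ?_
  have hQp : Q.IsPrime := hQ.1.1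
  rw [IsLocalization.minimalPrimes_map q.primeCompl (Localization.AtPrime q) J] at hQ
  have hQ' : Q.under R ∈ J.minimalPrimes := hQ
  have hQm : Q ≤ maximalIdeal (Localization.AtPrime q) := le_maximalIdeal hQp.ne_top
  have h1 : Q.under R ≤ q := by
    have h0 : Q.under R ≤ (maximalIdeal (Localization.AtPrime q)).under R :=
      Ideal.comap_mono (f := algebraMap R (Localization.AtPrime q)) hQm
    rwa [IsLocalization.AtPrime.under_maximalIdeal (Localization.AtPrime q) q] at h0
  have h2 : q ≤ Q.under R := hq.2 hQ'.1 h1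
  have h3 : Q.under R = q := le_antisymm h1 h2
  have h4 : Q = (Q.under R).map (algebraMap R (Localization.AtPrime q)) :=
    (IsLocalization.map_under q.primeCompl (Localization.AtPrime q) Q).symm
  rw [h4, h3, Localization.AtPrime.map_eq_maximalIdeal]

end Groth.Agent.Helper8.LC
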