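import Groth.Agent.Lib.Helper8.LCFinDim
import Groth.Agent.Lib.Helper8.LCVanish

/-!
# Faltings' finiteness criterion: `H^i_I(M)` f.g. for `i ≤ n` iff a power of `I` kills them (helper8)
-/

open CategoryTheory CategoryTheory.Limits Opposite Abelian Pointwise
universe u

namespace Groth.Agent.Helper8.LC

variable {R : Type u} [CommRing R] [IsNoetherianRing R] (I : Ideal R)

theorem finite_H_zero (M : Type u) [AddCommGroup M] [Module R M] [Module.Finite R M] :
    Module.Finite R (H I 0 M) := by
  have : IsNoetherian R M := isNoetherian_of_isNoetherianRing_of_finite R M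
  exact Module.Finite.equiv (H0Equiv I M).symm

omit [IsNoetherianRing R] in
theorem exists_pow_le_annihilator_of_finite (i : ℕ) (M : Type u) [AddCommGroup M] [Module R M]
    (h : Module.Finite R (H I i M)) : ∃ k : ℕ, I ^ k ≤ Module.annihilator R (H I i M) := by
  have ht : IsTors I (H I i M) := fun x => H_exists_pow_smul_eq_zero I i M x
  obtain ⟨k, hk⟩ := IsTors.exists_pow_of_fg I ht h.fg_top
  exact ⟨k, fun a ha => Module.mem_annihilator.mpr (hk a ha)⟩

/-- the hard direction of Faltings' finiteness criterion -/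
theorem finite_H_of_le_radical_annihilator : ∀ (n : ℕ) (M : Type u) [AddCommGroup M] [Module R M]
    [Module.Finite R M], (∀ i : ℕ, i ≤ n → I ≤ (Module.annihilator R (H I i M)).radical) →
    ∀ i : ℕ, i ≤ n → Module.Finite R (H I i M) := by
  intro n
  induction n with
  | zero =>
    intro M _ _ _ _ i hi
    obtain rfl : i = 0 := by omega
    exact finite_H_zero I M
  | succ n ih =>
    intro M _ _ _ hM i hi
    rcases Nat.eq_zero_or_pos i with rfl | hpos
    · exact finite_H_zero I M
    -- pass to `M' = M / Γ_I(M)`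
    obtain ⟨k₀, hk₀⟩ := exists_pow_smul_gam_eq_zero I M
    have hM' : ∀ j : ℕ, j ≤ n + 1 →
        I ≤ (Module.annihilator R (H I j (M ⧸ gam I M))).radical := fun j hj =>
      (le_radical_annihilator_H_quotient_iff I I (gam I M) k₀ hk₀ j).mp (hM j hj)
    suffices hsuff : Module.Finite R (H I i (M ⧸ gam I M)) by
      have hses := isSES_subtype_mkQ (gam I M)
      have hsub : Subsingleton (H I i (gam I M)) :=
        IsTors.H_subsingleton I i hpos _ (isTors_gam I)
      have hinj : Function.Injective (Hmap I i (gam I M).mkQ) := hses.Hmap_g_injective I i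
      have : IsNoetherian R (H I i (M ⧸ gam I M)) :=
        isNoetherian_of_isNoetherianRing_of_finite R _
      exact Module.Finite.of_injective _ hinj
    -- a uniform exponent
    have hex : ∀ j : ℕ, ∃ k : ℕ, j ≤ n + 1 → I ^ k ≤ Module.annihilator R (H I j (M ⧸ gam I M)) := by
      intro j
      by_cases hj : j ≤ n + 1
      · obtain ⟨k, hk⟩ := (le_radical_iff_exists_pow_le I _).mp (hM' j hj)
        exact ⟨k, fun _ => hk⟩
      · exact ⟨0, fun h => absurd h hj⟩
    choose kf hkf using hex
    let k := (Finset.range (n + 2)).sup kf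
    have hk : ∀ j : ℕ, j ≤ n + 1 → I ^ k ≤ Module.annihilator R (H I j (M ⧸ gam I M)) := by
      intro j hj
      exact (Ideal.pow_le_pow_right (Finset.le_sup (Finset.mem_range.mpr (by omega)))).trans
        (hkf j hj)
    -- a regular element
    obtain ⟨r, hrI, hr⟩ := exists_regular_of_gam_eq_bot I (M ⧸ gam I M) (gam_quotient_gam I M)
    have hrk : IsSMulRegular (M ⧸ gam I M) (r ^ k) := hr.pow k
    have hrkI : r ^ k ∈ I ^ k := Ideal.pow_mem_pow hrI k
    have hses := isSES_smul (M ⧸ gam I M) hrk
    -- the quotient `N = M' / r^k M'`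
    have hN : ∀ j : ℕ, j ≤ n → I ≤ (Module.annihilator R
        (H I j ((M ⧸ gam I M) ⧸ (r ^ k) • (⊤ : Submodule R (M ⧸ gam I M))))).radical := by
      intro j hj
      rw [le_radical_iff_exists_pow_le]
      refine ⟨k + k, ?_⟩
      rw [pow_add, Ideal.mul_le]
      intro a ha b hb
      rw [Module.mem_annihilator]
      intro x
      have h1 : Hδ I j hses (b • x) = 0 := by
        rw [map_smul]
        exact Module.mem_annihilator.mp (hk (j + 1) (by omega) hb) _
      obtain ⟨w, hw⟩ := (hses.exact_Hmap_δ I j (b • x)).mp h1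
      rw [mul_smul, ← hw, ← map_smul, Module.mem_annihilator.mp (hk j (by omega) ha) w, map_zero]
    have hNfin := ih _ hN
    obtain ⟨j, rfl⟩ : ∃ j, i = j + 1 := ⟨i - 1, by omega⟩
    have hsurj : Function.Surjective (Hδ I j hses) := by
      intro y
      have h1 : Hmap I (j + 1) ((r ^ k) • (LinearMap.id : (M ⧸ gam I M) →ₗ[R] (M ⧸ gam I M))) y = 0 := by
        rw [Hmap_smul_id]
        exact Module.mem_annihilator.mp (hk (j + 1) hi hrkI) y
      exact (hses.exact_δ_Hmap I j y).mp h1
    have := hNfin j (by omega)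
    exact Module.Finite.of_surjective _ hsurj

/-- Faltings' finiteness criterion -/
theorem finite_H_iff_exists_radical (M : Type u) [AddCommGroup M] [Module R M]
    [Module.Finite R M] (n : ℕ) :
    (∀ i : ℕ, i ≤ n → Module.Finite R (H I i M)) ↔
      ∃ J : Ideal R, I ≤ J.radical ∧ ∀ i : ℕ, i ≤ n → ∀ a ∈ J, ∀ x : H I i M, a • x = 0 := by
  constructor
  · intro h
    have hex : ∀ j : ℕ, ∃ k : ℕ, j ≤ n → I ^ k ≤ Module.annihilator R (H I j M) := by
      intro j
      by_cases hj : j ≤ n
      · obtain ⟨k, hk⟩ := exists_pow_le_annihilator_of_finite I j M (h j hj)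
        exact ⟨k, fun _ => hk⟩
      · exact ⟨0, fun h => absurd h hj⟩
    choose kf hkf using hex
    refine ⟨I ^ ((Finset.range (n + 1)).sup kf), ?_, ?_⟩
    · rw [le_radical_iff_exists_pow_le]
      exact ⟨_, le_rfl⟩
    · intro i hi a ha x
      have h1 := (Ideal.pow_le_pow_right (Finset.le_sup (f := kf)
        (Finset.mem_range.mpr (by omega : i < n + 1)))).trans (hkf i hi)
      exact Module.mem_annihilator.mp (h1 ha) x
  · rintro ⟨J, hJ, hkill⟩
    refine finite_H_of_le_radical_annihilator I n M ?_
    intro i hi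
    refine hJ.trans (Ideal.radical_mono ?_)
    intro a ha
    exact Module.mem_annihilator.mpr (hkill i hi a ha)

end Groth.Agent.Helper8.LC
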