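import Mathlib.LinearAlgebra.Isomorphisms
import Mathlib.Algebra.Exact.Basic

/-!
# Abstract long exact sequence for three effaceable cohomological families (helper8)

`F i X` are modules over a ring `S`, indexed by degrees and "objects" `X : Obj`; each object has an
effacing sequence `X ↪ E X ↠ Q X`.  An `EffFam` records the pieces of the long exact sequence of a
family needed for dimension shifting.  Given three families `A'`, `A`, `A''` and natural maps
`u : A' → A`, `v : A → A''` with `0 → A'⁰ → A⁰ → A''⁰` exact and `A⁰(E X) → A''⁰(E X)` surjective, we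
get exactness of `A'ⁱ → Aⁱ → A''ⁱ` and isomorphisms `coker(Aⁱ → A''ⁱ) ≃ ker(A'ⁱ⁺¹ → Aⁱ⁺¹)`.
-/

universe v w

namespace Groth.Agent.Helper8.LC

section Aux

variable {S : Type*} [CommRing S]

/-- lifting a map through an injective map whose range contains its range -/
theorem exists_linearMap_lift {P Y Z : Type*} [AddCommGroup P] [Module S P] [AddCommGroup Y]
    [Module S Y] [AddCommGroup Z] [Module S Z] (j : Z →ₗ[S] Y) (hj : Function.Injective j)
    (g : P →ₗ[S] Y) (h : ∀ p, g p ∈ LinearMap.range j) :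
    ∃ ψ : P →ₗ[S] Z, ∀ p, j (ψ p) = g p := by
  refine ⟨(LinearEquiv.ofInjective j hj).symm.toLinearMap ∘ₗ g.codRestrict (LinearMap.range j) h,
    fun p => ?_⟩
  have h1 := (LinearEquiv.ofInjective j hj).apply_symm_apply (g.codRestrict (LinearMap.range j) h p)
  have h2 := congrArg Subtype.val h1
  exact h2

/-- transport of cokernels and kernels along compatible isomorphisms -/
theorem nonempty_coker_equiv_of_equiv {M N M' N' : Type*} [AddCommGroup M] [Module S M]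
    [AddCommGroup N] [Module S N] [AddCommGroup M'] [Module S M'] [AddCommGroup N'] [Module S N']
    (f : M →ₗ[S] N) (f' : M' →ₗ[S] N') (eM : M ≃ₗ[S] M') (eN : N ≃ₗ[S] N')
    (h : ∀ m, eN (f m) = f' (eM m)) :
    Nonempty ((N ⧸ LinearMap.range f) ≃ₗ[S] (N' ⧸ LinearMap.range f')) := by
  refine ⟨Submodule.Quotient.equiv _ _ eN ?_⟩
  ext y
  constructor
  · rintro ⟨_, ⟨m, rfl⟩, rfl⟩
    exact ⟨eM m, (h m).symm⟩
  · rintro ⟨m', rfl⟩
    refine ⟨f (eM.symm m'), ⟨_, rfl⟩, ?_⟩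
    change eN _ = _
    rw [h, LinearEquiv.apply_symm_apply]

theorem nonempty_ker_equiv_of_equiv {M N M' N' : Type*} [AddCommGroup M] [Module S M]
    [AddCommGroup N] [Module S N] [AddCommGroup M'] [Module S M'] [AddCommGroup N'] [Module S N']
    (f : M →ₗ[S] N) (f' : M' →ₗ[S] N') (eM : M ≃ₗ[S] M') (eN : N ≃ₗ[S] N')
    (h : ∀ m, eN (f m) = f' (eM m)) :
    Nonempty (LinearMap.ker f ≃ₗ[S] LinearMap.ker f') := by
  refine ⟨LinearEquiv.ofSubmodules eM _ _ ?_⟩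
  ext y
  constructor
  · rintro ⟨m, hm, rfl⟩
    rw [SetLike.mem_coe, LinearMap.mem_ker] at hm
    change f' (eM m) = 0
    rw [← h, hm, map_zero]
  · intro hy
    have hy' : f' y = 0 := hy
    refine ⟨eM.symm y, ?_, by simp⟩
    rw [SetLike.mem_coe, LinearMap.mem_ker]
    apply eN.injective
    rw [h, LinearEquiv.apply_symm_apply, hy', map_zero]

/-- transport of a cokernel along compatible surjections -/
theorem nonempty_coker_equiv_of_surjective {M₀ N₀ M N : Type*} [AddCommGroup M₀] [Module S M₀]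
    [AddCommGroup N₀] [Module S N₀] [AddCommGroup M] [Module S M] [AddCommGroup N] [Module S N]
    (f₀ : M₀ →ₗ[S] N₀) (f : M →ₗ[S] N) (dM : M₀ →ₗ[S] M) (dN : N₀ →ₗ[S] N)
    (hdM : Function.Surjective dM) (hdN : Function.Surjective dN)
    (h : ∀ m, dN (f₀ m) = f (dM m)) (hker : LinearMap.ker dN ≤ LinearMap.range f₀) :
    Nonempty ((N₀ ⧸ LinearMap.range f₀) ≃ₗ[S] (N ⧸ LinearMap.range f)) := by
  let g : N₀ →ₗ[S] (N ⧸ LinearMap.range f) := (LinearMap.range f).mkQ ∘ₗ dN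
  have hg : Function.Surjective g := (Submodule.mkQ_surjective _).comp hdN
  have hk : LinearMap.ker g = LinearMap.range f₀ := by
    ext n₀
    rw [LinearMap.mem_ker]
    change Submodule.Quotient.mk (dN n₀) = 0 ↔ _
    rw [Submodule.Quotient.mk_eq_zero]
    constructor
    · rintro ⟨m, hm⟩
      obtain ⟨m₀, rfl⟩ := hdM m
      have h1 : n₀ - f₀ m₀ ∈ LinearMap.ker dN := by
        rw [LinearMap.mem_ker, map_sub, h, hm, sub_self]
      obtain ⟨m₁, hm₁⟩ := hker h1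
      exact ⟨m₁ + m₀, by rw [map_add, hm₁, sub_add_cancel]⟩
    · rintro ⟨m₀, rfl⟩
      exact ⟨dM m₀, (h m₀).symm⟩
  exact ⟨(Submodule.quotEquivOfEq _ _ hk).symm.trans (LinearMap.quotKerEquivOfSurjective g hg)⟩

end Aux

section Abstract

variable (S : Type*) [CommRing S] {Obj : Type w}

/-- an effaceable cohomological family (the part needed for dimension shifting) -/
structure EffFam (F : ℕ → Obj → Type v) [∀ i X, AddCommGroup (F i X)] [∀ i X, Module S (F i X)]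
    (E Q : Obj → Obj) where
  /-- `F⁰(X) → F⁰(E X)` -/
  ι : ∀ X, F 0 X →ₗ[S] F 0 (E X)
  /-- `Fⁱ(E X) → Fⁱ(Q X)` -/
  α : ∀ i X, F i (E X) →ₗ[S] F i (Q X)
  /-- the connecting map `Fⁱ(Q X) → Fⁱ⁺¹(X)` -/
  δ : ∀ i X, F i (Q X) →ₗ[S] F (i + 1) X
  ι_inj : ∀ X, Function.Injective (ι X)
  exact_ι_α : ∀ X, Function.Exact (ι X) (α 0 X)
  exact_α_δ : ∀ X, Function.Exact (α 0 X) (δ 0 X)
  δ_surj : ∀ i X, Function.Surjective (δ i X)
  δ_inj : ∀ i X, 0 < i → Function.Injective (δ i X)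

variable {S}
variable {A' A A'' : ℕ → Obj → Type v}
  [∀ i X, AddCommGroup (A' i X)] [∀ i X, Module S (A' i X)]
  [∀ i X, AddCommGroup (A i X)] [∀ i X, Module S (A i X)]
  [∀ i X, AddCommGroup (A'' i X)] [∀ i X, Module S (A'' i X)]
  {E Q : Obj → Obj}

/-- a morphism of effaceable families -/
structure EffHom (f' : EffFam S A' E Q) (f : EffFam S A E Q) where
  /-- the components -/
  app : ∀ i X, A' i X →ₗ[S] A i X
  comm_ι : ∀ X x, app 0 (E X) (f'.ι X x) = f.ι X (app 0 X x)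
  comm_α : ∀ X x, app 0 (Q X) (f'.α 0 X x) = f.α 0 X (app 0 (E X) x)
  comm_δ : ∀ i X x, app (i + 1) X (f'.δ i X x) = f.δ i X (app i (Q X) x)

variable {f' : EffFam S A' E Q} {f : EffFam S A E Q} {f'' : EffFam S A'' E Q}
  (u : EffHom f' f) (v : EffHom f f'')
  (hu0 : ∀ X, Function.Injective (u.app 0 X))
  (huv0 : ∀ X, Function.Exact (u.app 0 X) (v.app 0 X))
  (hvE : ∀ X, Function.Surjective (v.app 0 (E X)))

include huv0 hvE in
/-- exactness of `A'ⁱ → Aⁱ → A''ⁱ` in all degrees -/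
theorem EffHom.exact : ∀ i X, Function.Exact (u.app i X) (v.app i X) := by
  intro i
  induction i with
  | zero => exact huv0
  | succ j ih =>
    intro X y
    constructor
    · intro hy
      obtain ⟨q, rfl⟩ := f.δ_surj j X y
      rw [v.comm_δ] at hy
      rcases Nat.eq_zero_or_pos j with rfl | hj
      · obtain ⟨e'', he''⟩ := (f''.exact_α_δ X _).mp hy
        obtain ⟨e, rfl⟩ := hvE X e''
        have h1 : v.app 0 (Q X) (q - f.α 0 X e) = 0 := by
          rw [map_sub, ← he'', v.comm_α, sub_self]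
        obtain ⟨q', hq'⟩ := (huv0 (Q X) _).mp h1
        refine ⟨f'.δ 0 X q', ?_⟩
        rw [u.comm_δ, hq', map_sub]
        have h2 : f.δ 0 X (f.α 0 X e) = 0 := (f.exact_α_δ X _).mpr ⟨e, rfl⟩
        rw [h2, sub_zero]
      · have h1 : v.app j (Q X) q = 0 := by
          apply f''.δ_inj j X hj
          rw [hy, map_zero]
        obtain ⟨q', hq'⟩ := (ih (Q X) q).mp h1
        exact ⟨f'.δ j X q', by rw [u.comm_δ, hq']⟩
    · rintro ⟨y', rfl⟩
      obtain ⟨q', rfl⟩ := f'.δ_surj j X y'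
      rw [u.comm_δ, v.comm_δ]
      have h1 : v.app j (Q X) (u.app j (Q X) q') = 0 := (ih (Q X) _).mpr ⟨q', rfl⟩
      rw [h1, map_zero]

include hu0 huv0 hvE in
/-- the base case: `coker(A⁰ → A''⁰) ≃ ker(A'¹ → A¹)` -/
theorem EffHom.nonempty_coker_equiv_ker_zero (X : Obj) :
    Nonempty ((A'' 0 X ⧸ LinearMap.range (v.app 0 X)) ≃ₗ[S] LinearMap.ker (u.app 1 X)) := by
  -- `P = {e ∈ A⁰(E X) | v e ∈ range ι''}`
  let P : Submodule S (A 0 (E X)) := (LinearMap.range (f''.ι X)).comap (v.app 0 (E X))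
  obtain ⟨ψ₁, hψ₁⟩ := exists_linearMap_lift (f''.ι X) (f''.ι_inj X)
    (v.app 0 (E X) ∘ₗ P.subtype) (fun p => p.2)
  have hP2 : ∀ p : P, (f.α 0 X ∘ₗ P.subtype) p ∈ LinearMap.range (u.app 0 (Q X)) := by
    intro p
    obtain ⟨z'', hz''⟩ := p.2
    apply (huv0 (Q X) _).mp
    change v.app 0 (Q X) (f.α 0 X p.1) = 0
    rw [v.comm_α, ← hz'']
    exact (f''.exact_ι_α X _).mpr ⟨z'', rfl⟩
  obtain ⟨ψ₂, hψ₂⟩ := exists_linearMap_lift (u.app 0 (Q X)) (hu0 (Q X))
    (f.α 0 X ∘ₗ P.subtype) hP2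
  let φ₁ : P →ₗ[S] (A'' 0 X ⧸ LinearMap.range (v.app 0 X)) :=
    (LinearMap.range (v.app 0 X)).mkQ ∘ₗ ψ₁
  have hφ₂mem : ∀ p : P, (f'.δ 0 X ∘ₗ ψ₂) p ∈ LinearMap.ker (u.app 1 X) := by
    intro p
    rw [LinearMap.mem_ker]
    change u.app (0 + 1) X (f'.δ 0 X (ψ₂ p)) = 0
    rw [u.comm_δ, hψ₂]
    exact (f.exact_α_δ X _).mpr ⟨p.1, rfl⟩
  let φ₂ : P →ₗ[S] LinearMap.ker (u.app 1 X) :=
    (f'.δ 0 X ∘ₗ ψ₂).codRestrict (LinearMap.ker (u.app 1 X)) hφ₂mem
  have hφ₁surj : Function.Surjective φ₁ := by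
    intro z
    obtain ⟨z'', rfl⟩ := Submodule.mkQ_surjective _ z
    obtain ⟨e, he⟩ := hvE X (f''.ι X z'')
    have heP : e ∈ P := ⟨z'', he.symm⟩
    refine ⟨⟨e, heP⟩, ?_⟩
    have h1 : ψ₁ ⟨e, heP⟩ = z'' := by
      apply f''.ι_inj X
      rw [hψ₁]
      exact he
    change (LinearMap.range (v.app 0 X)).mkQ (ψ₁ ⟨e, heP⟩) = _
    rw [h1]
  have hφ₂surj : Function.Surjective φ₂ := by
    rintro ⟨y', hy'⟩
    rw [LinearMap.mem_ker] at hy'
    obtain ⟨q', rfl⟩ := f'.δ_surj 0 X y'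
    have h0 : u.app (0 + 1) X (f'.δ 0 X q') = 0 := hy'
    rw [u.comm_δ] at h0
    obtain ⟨e, he⟩ := (f.exact_α_δ X _).mp h0
    have h1 : f''.α 0 X (v.app 0 (E X) e) = 0 := by
      rw [← v.comm_α, he]
      exact (huv0 (Q X) _).mpr ⟨q', rfl⟩
    obtain ⟨z'', hz''⟩ := (f''.exact_ι_α X _).mp h1
    have heP : e ∈ P := ⟨z'', hz''⟩
    refine ⟨⟨e, heP⟩, ?_⟩
    apply Subtype.ext
    change f'.δ 0 X (ψ₂ ⟨e, heP⟩) = f'.δ 0 X q'
    have h2 : ψ₂ ⟨e, heP⟩ = q' := by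
      apply hu0 (Q X)
      rw [hψ₂]
      exact he
    rw [h2]
  have hker : LinearMap.ker φ₁ = LinearMap.ker φ₂ := by
    ext p
    rw [LinearMap.mem_ker, LinearMap.mem_ker]
    constructor
    · intro hp
      have hp' : (LinearMap.range (v.app 0 X)).mkQ (ψ₁ p) = 0 := hp
      rw [Submodule.mkQ_apply, Submodule.Quotient.mk_eq_zero] at hp'
      obtain ⟨z, hz⟩ := hp'
      have h1 : v.app 0 (E X) (p.1 - f.ι X z) = 0 := by
        rw [map_sub, v.comm_ι, hz, hψ₁]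
        exact sub_self _
      obtain ⟨e', he'⟩ := (huv0 (E X) _).mp h1
      have h2 : ψ₂ p = f'.α 0 X e' := by
        apply hu0 (Q X)
        rw [hψ₂, u.comm_α, he', map_sub]
        have h3 : f.α 0 X (f.ι X z) = 0 := (f.exact_ι_α X _).mpr ⟨z, rfl⟩
        rw [h3, sub_zero]
        rfl
      apply Subtype.ext
      change f'.δ 0 X (ψ₂ p) = 0
      rw [h2]
      exact (f'.exact_α_δ X _).mpr ⟨e', rfl⟩
    · intro hp
      have hp' : f'.δ 0 X (ψ₂ p) = 0 := congrArg Subtype.val hp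
      obtain ⟨e', he'⟩ := (f'.exact_α_δ X _).mp hp'
      have h1 : f.α 0 X (p.1 - u.app 0 (E X) e') = 0 := by
        rw [map_sub, ← u.comm_α, he', hψ₂]
        exact sub_self _
      obtain ⟨z, hz⟩ := (f.exact_ι_α X _).mp h1
      change (LinearMap.range (v.app 0 X)).mkQ (ψ₁ p) = 0
      rw [Submodule.mkQ_apply, Submodule.Quotient.mk_eq_zero]
      refine ⟨z, ?_⟩
      apply f''.ι_inj X
      rw [← v.comm_ι, hz, hψ₁, map_sub]
      have h2 : v.app 0 (E X) (u.app 0 (E X) e') = 0 := (huv0 (E X) _).mpr ⟨e', rfl⟩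
      rw [h2, sub_zero]
      rfl
  exact ⟨((LinearMap.quotKerEquivOfSurjective φ₁ hφ₁surj).symm.trans
    (Submodule.quotEquivOfEq _ _ hker)).trans (LinearMap.quotKerEquivOfSurjective φ₂ hφ₂surj)⟩

include hu0 huv0 hvE in
/-- `coker(Aⁱ → A''ⁱ) ≃ ker(A'ⁱ⁺¹ → Aⁱ⁺¹)` in all degrees -/
theorem EffHom.nonempty_coker_equiv_ker : ∀ i X,
    Nonempty ((A'' i X ⧸ LinearMap.range (v.app i X)) ≃ₗ[S] LinearMap.ker (u.app (i + 1) X)) := by
  intro i
  induction i with
  | zero => exact EffHom.nonempty_coker_equiv_ker_zero u v hu0 huv0 hvE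
  | succ j ih =>
    intro X
    obtain ⟨e0⟩ := ih (Q X)
    -- kernels: degree `j + 1 > 0`
    have eA' : A' (j + 1) (Q X) ≃ₗ[S] A' (j + 1 + 1) X :=
      LinearEquiv.ofBijective (f'.δ (j + 1) X) ⟨f'.δ_inj (j + 1) X (by omega), f'.δ_surj (j + 1) X⟩
    have eA : A (j + 1) (Q X) ≃ₗ[S] A (j + 1 + 1) X :=
      LinearEquiv.ofBijective (f.δ (j + 1) X) ⟨f.δ_inj (j + 1) X (by omega), f.δ_surj (j + 1) X⟩
    obtain ⟨e1⟩ := nonempty_ker_equiv_of_equiv (u.app (j + 1) (Q X)) (u.app (j + 1 + 1) X)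
      (LinearEquiv.ofBijective (f'.δ (j + 1) X) ⟨f'.δ_inj (j + 1) X (by omega), f'.δ_surj (j + 1) X⟩)
      (LinearEquiv.ofBijective (f.δ (j + 1) X) ⟨f.δ_inj (j + 1) X (by omega), f.δ_surj (j + 1) X⟩)
      (fun m => (u.comm_δ (j + 1) X m).symm)
    -- cokernels
    have hker : LinearMap.ker (f''.δ j X) ≤ LinearMap.range (v.app j (Q X)) := by
      rcases Nat.eq_zero_or_pos j with rfl | hj
      · intro z hz
        obtain ⟨e'', rfl⟩ := (f''.exact_α_δ X z).mp hz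
        obtain ⟨e, rfl⟩ := hvE X e''
        exact ⟨f.α 0 X e, v.comm_α X e⟩
      · intro z hz
        have : z = 0 := f''.δ_inj j X hj (by rw [LinearMap.mem_ker.mp hz, map_zero])
        rw [this]
        exact Submodule.zero_mem _
    obtain ⟨e2⟩ := nonempty_coker_equiv_of_surjective (v.app j (Q X)) (v.app (j + 1) X)
      (f.δ j X) (f''.δ j X) (f.δ_surj j X) (f''.δ_surj j X)
      (fun m => (v.comm_δ j X m).symm) hker
    exact ⟨(e2.symm.trans e0).trans e1⟩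

end Abstract

end Groth.Agent.Helper8.LC
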