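import Groth.Agent.Lib.Helper8.LCTop
import Groth.Agent.Lib.Helper8.LCLes
import Mathlib.RingTheory.Ideal.AssociatedPrime.Finiteness

/-!
# `cd(I) < dim R` from the vanishing of `H^d_I` on one module of full support (helper8)
-/

open CategoryTheory CategoryTheory.Limits Opposite Abelian Pointwise
universe u

namespace Groth.Agent.Helper8.LC

variable {R : Type u} [CommRing R]

/-- a finitely generated module killed by the prime `p` but by no element outside `p` has a nonzero
map to `R/p` -/
theorem exists_linearMap_quotient_prime_ne_zero (p : Ideal R) [hp : p.IsPrime] : ∀ (k : ℕ)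
    (N : Type u) [AddCommGroup N] [Module R N] (t : Finset N), t.card ≤ k →
    Submodule.span R (t : Set N) = ⊤ → (∀ a ∈ p, ∀ n : N, a • n = 0) →
    (∀ s : R, (∀ n : N, s • n = 0) → s ∈ p) → ∃ ψ : N →ₗ[R] R ⧸ p, ψ ≠ 0 := by
  classical
  intro k
  induction k with
  | zero =>
    intro N _ _ t ht hspan _ hnt
    exfalso
    have ht0 : t = ∅ := Finset.card_eq_zero.mp (by omega)
    rw [ht0, Finset.coe_empty, Submodule.span_empty] at hspan
    apply hp.ne_top
    rw [Ideal.eq_top_iff_one]
    apply hnt
    intro n
    have : n ∈ (⊥ : Submodule R N) := by rw [hspan]; trivial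
    rw [Submodule.mem_bot] at this
    rw [this, smul_zero]
  | succ k ih =>
    intro N _ _ t ht hspan hpN hnt
    rcases Nat.lt_or_ge t.card (k + 1) with hlt | hge
    · exact ih N t (by omega) hspan hpN hnt
    have hne : t.Nonempty := Finset.card_pos.mp (by omega)
    obtain ⟨n₁, hn₁⟩ := hne
    let L : Submodule R N := Submodule.span R {n₁}
    let t'' : Finset (N ⧸ L) := (t.erase n₁).image L.mkQ
    have ht'' : t''.card ≤ k := by
      refine Finset.card_image_le.trans ?_
      rw [Finset.card_erase_of_mem hn₁]
      omega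
    have hspan'' : Submodule.span R (t'' : Set (N ⧸ L)) = ⊤ := by
      rw [eq_top_iff]
      intro y _
      obtain ⟨n, rfl⟩ := Submodule.mkQ_surjective L y
      clear * - hspan hn₁
      have hn : n ∈ Submodule.span R (t : Set N) := by rw [hspan]; trivial
      induction hn using Submodule.span_induction with
      | mem x hx =>
        by_cases hxn : x = n₁
        · have : L.mkQ x = 0 := by
            rw [hxn, Submodule.mkQ_apply, Submodule.Quotient.mk_eq_zero]
            exact Submodule.mem_span_singleton_self n₁
          rw [this]; exact Submodule.zero_mem _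
        · apply Submodule.subset_span
          rw [Finset.coe_image]
          exact ⟨x, Finset.mem_erase.mpr ⟨hxn, hx⟩, rfl⟩
      | zero => rw [map_zero]; exact Submodule.zero_mem _
      | add x y _ _ hx hy => rw [map_add]; exact Submodule.add_mem _ hx hy
      | smul r x _ hx => rw [map_smul]; exact Submodule.smul_mem _ r hx
    have hpN' : ∀ a ∈ p, ∀ n' : N ⧸ L, a • n' = 0 := by
      intro a ha n'
      obtain ⟨n, rfl⟩ := Submodule.mkQ_surjective L n'
      rw [← map_smul, hpN a ha n, map_zero]
    by_cases hN' : ∀ s : R, (∀ n' : N ⧸ L, s • n' = 0) → s ∈ p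
    · obtain ⟨ψ', hψ'⟩ := ih (N ⧸ L) t'' ht'' hspan'' hpN' hN'
      refine ⟨ψ' ∘ₗ L.mkQ, ?_⟩
      intro h0
      apply hψ'
      apply LinearMap.ext
      intro n'
      obtain ⟨n, rfl⟩ := Submodule.mkQ_surjective L n'
      exact LinearMap.congr_fun h0 n
    · push Not at hN'
      obtain ⟨s, hs, hsp⟩ := hN'
      have hsL : ∀ n : N, s • n ∈ L := by
        intro n
        have := hs (L.mkQ n)
        rw [← map_smul, Submodule.mkQ_apply, Submodule.Quotient.mk_eq_zero] at this
        exact this
      let ι : (R ⧸ p) →ₗ[R] N :=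
        Submodule.liftQ p (LinearMap.toSpanSingleton R N n₁) (by
          intro a ha
          rw [LinearMap.mem_ker, LinearMap.toSpanSingleton_apply]
          exact hpN a ha n₁)
      have hι : ∀ a : R, ι (Submodule.Quotient.mk a) = a • n₁ := fun a => rfl
      have hιinj : Function.Injective ι := by
        rw [← LinearMap.ker_eq_bot, eq_bot_iff]
        intro x hx
        obtain ⟨a, rfl⟩ := Submodule.Quotient.mk_surjective _ x
        rw [LinearMap.mem_ker, hι] at hx
        rw [Submodule.mem_bot, Submodule.Quotient.mk_eq_zero]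
        have h1 : a * s ∈ p := by
          apply hnt
          intro n
          obtain ⟨b, hb⟩ := Submodule.mem_span_singleton.mp (hsL n)
          rw [mul_smul, ← hb, smul_comm, hx, smul_zero]
        exact (hp.mem_or_mem h1).resolve_right hsp
      have hrange : ∀ n : N, (s • (LinearMap.id : N →ₗ[R] N)) n ∈ LinearMap.range ι := by
        intro n
        obtain ⟨b, hb⟩ := Submodule.mem_span_singleton.mp (hsL n)
        exact ⟨Submodule.Quotient.mk b, by rw [hι, hb]; rfl⟩
      obtain ⟨ψ, hψ⟩ := exists_linearMap_lift ι hιinj (s • (LinearMap.id : N →ₗ[R] N)) hrange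
      refine ⟨ψ, ?_⟩
      intro h0
      apply hsp
      have h1 := hψ n₁
      rw [h0, LinearMap.zero_apply, map_zero] at h1
      have h2 : ι (Submodule.Quotient.mk s) = 0 := by
        rw [hι]
        exact h1.symm
      have h3 := hιinj (h2.trans (map_zero ι).symm)
      exact (Submodule.Quotient.mk_eq_zero _).mp h3

/-- a finite module killed by the prime `p` and by some `f ∉ p` has dimension `< dim R` -/
theorem supportDim_lt_of_prime_of_smul_eq_zero (d : ℕ) (hd : ringKrullDim R = d) (p : Ideal R)
    [hp : p.IsPrime] (f : R) (hf : f ∉ p) (N : Type u) [AddCommGroup N] [Module R N]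
    [Module.Finite R N] (hpN : ∀ a ∈ p, ∀ n : N, a • n = 0) (hfN : ∀ n : N, f • n = 0) :
    Module.supportDim R N < (d : WithBot ℕ∞) := by
  rw [Module.supportDim, Order.krullDim_lt_coe_iff]
  intro l
  have hmem : ∀ x : Module.support R N, p ≤ x.1.asIdeal ∧ f ∈ x.1.asIdeal := by
    intro x
    have h1 := Module.mem_support_iff_of_finite.mp x.2
    exact ⟨fun a ha => h1 (Module.mem_annihilator.mpr (hpN a ha)),
      h1 (Module.mem_annihilator.mpr hfN)⟩
  let l' : LTSeries (PrimeSpectrum R) := l.map Subtype.val (fun _ _ h => h)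
  have hhead : (⟨p, hp⟩ : PrimeSpectrum R) < RelSeries.head l' := by
    have h1 : p ≤ (RelSeries.head l').asIdeal := (hmem (RelSeries.head l)).1
    have h2 : p < (RelSeries.head l').asIdeal := by
      refine lt_of_le_of_ne h1 ?_
      intro h
      apply hf
      rw [h]
      exact (hmem (RelSeries.head l)).2
    exact h2
  have h3 := Order.LTSeries.length_le_krullDim (l'.cons ⟨p, hp⟩ hhead)
  have hkd : Order.krullDim (PrimeSpectrum R) = d := hd
  rw [hkd] at h3
  have h5 : (l'.cons ⟨p, hp⟩ hhead).length = l.length + 1 := by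
    rw [RelSeries.cons_length]
    rfl
  rw [h5] at h3
  have h6 : l.length + 1 ≤ d := by exact_mod_cast h3
  omega

variable [IsNoetherianRing R] (I : Ideal R)

/-- if `H^d_I(M) = 0` for one finite module `M` whose support contains all top-dimensional minimal
primes, then `H^i_I = 0` for all `i ≥ d = dim R` -/
theorem H_subsingleton_of_top_vanishing (d : ℕ) (hd : ringKrullDim R = d) (M : Type u)
    [AddCommGroup M] [Module R M] [Module.Finite R M]
    (hsupp : ∀ p ∈ minimalPrimes R, ringKrullDim (R ⧸ p) = d → ∀ hp : p.IsPrime,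
      (⟨p, hp⟩ : PrimeSpectrum R) ∈ Module.support R M)
    (hvan : Subsingleton (H I d M)) (N : Type u) [AddCommGroup N] [Module R N] (i : ℕ)
    (hi : d ≤ i) : Subsingleton (H I i N) := by
  classical
  have hvan1 : ∀ (N : Type u) [AddCommGroup N] [Module R N], Subsingleton (H I (d + 1) N) :=
    fun N _ _ => H_subsingleton_of_ringKrullDim_lt I d hd N (d + 1) (by omega)
  rcases Nat.eq_or_lt_of_le hi with rfl | hlt
  swap
  · exact H_subsingleton_of_ringKrullDim_lt I d hd N i hlt
  -- step C: primes
  have hC : ∀ p : PrimeSpectrum R, Subsingleton (H I d (R ⧸ p.asIdeal)) := by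
    intro p
    by_cases hdim : ringKrullDim (R ⧸ p.asIdeal) = d
    · have pmin := mem_minimalPrimes_of_ringKrullDim_quotient_eq d hd p.asIdeal hdim
      have hpM : p ∈ Module.support R M := hsupp _ pmin hdim p.isPrime
      have hpN₀ : p ∈ Module.support R (M ⧸ (p.asIdeal • ⊤ : Submodule R M)) := by
        rw [Module.support_quotient]
        exact ⟨hpM, by rw [PrimeSpectrum.mem_zeroLocus]⟩
      obtain ⟨t, ht⟩ := (Module.Finite.fg_top : (⊤ : Submodule R
        (M ⧸ (p.asIdeal • ⊤ : Submodule R M))).FG)
      have hpN : ∀ a ∈ p.asIdeal, ∀ n : M ⧸ (p.asIdeal • ⊤ : Submodule R M), a • n = 0 := by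
        intro a ha n
        obtain ⟨m, rfl⟩ := Submodule.Quotient.mk_surjective _ n
        rw [← Submodule.Quotient.mk_smul, Submodule.Quotient.mk_eq_zero]
        exact Submodule.smul_mem_smul ha Submodule.mem_top
      have hnt : ∀ s : R, (∀ n : M ⧸ (p.asIdeal • ⊤ : Submodule R M), s • n = 0) →
          s ∈ p.asIdeal := by
        intro s hs
        exact (Module.mem_support_iff_of_finite.mp hpN₀) (Module.mem_annihilator.mpr hs)
      obtain ⟨ψ, hψ⟩ := exists_linearMap_quotient_prime_ne_zero p.asIdeal t.card _ t le_rfl ht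
        hpN hnt
      -- the image `J'`
      have hJ' : Subsingleton (H I d (LinearMap.range ψ)) := by
        have hsurj : Function.Surjective
            (ψ.rangeRestrict ∘ₗ (p.asIdeal • ⊤ : Submodule R M).mkQ) :=
          (LinearMap.surjective_rangeRestrict ψ).comp (Submodule.mkQ_surjective _)
        exact H_subsingleton_of_surjective I d hvan1 hsurj
      -- the quotient
      obtain ⟨n₀, hn₀⟩ : ∃ n₀, ψ n₀ ≠ 0 := by
        by_contra hcon
        push Not at hcon
        exact hψ (LinearMap.ext hcon)
      obtain ⟨f, hf⟩ := Submodule.Quotient.mk_surjective _ (ψ n₀)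
      have hfp : f ∉ p.asIdeal := by
        intro hfp
        apply hn₀
        rw [← hf]
        exact (Submodule.Quotient.mk_eq_zero _).mpr hfp
      have hQp : ∀ a ∈ p.asIdeal, ∀ y : (R ⧸ p.asIdeal) ⧸ LinearMap.range ψ, a • y = 0 := by
        intro a ha y
        obtain ⟨y, rfl⟩ := Submodule.Quotient.mk_surjective _ y
        obtain ⟨r, rfl⟩ := Submodule.Quotient.mk_surjective _ y
        rw [← Submodule.Quotient.mk_smul, ← Submodule.Quotient.mk_smul]
        have : (Submodule.Quotient.mk (a • r) : R ⧸ p.asIdeal) = 0 := by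
          rw [Submodule.Quotient.mk_eq_zero, smul_eq_mul]
          exact Ideal.mul_mem_right _ _ ha
        rw [this]
        exact (Submodule.Quotient.mk_eq_zero _).mpr (Submodule.zero_mem _)
      have hQf : ∀ y : (R ⧸ p.asIdeal) ⧸ LinearMap.range ψ, f • y = 0 := by
        intro y
        obtain ⟨y, rfl⟩ := Submodule.Quotient.mk_surjective _ y
        obtain ⟨r, rfl⟩ := Submodule.Quotient.mk_surjective _ y
        rw [← Submodule.Quotient.mk_smul, Submodule.Quotient.mk_eq_zero]
        refine ⟨r • n₀, ?_⟩
        rw [map_smul, ← hf, ← Submodule.Quotient.mk_smul, ← Submodule.Quotient.mk_smul,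
          smul_eq_mul, smul_eq_mul, mul_comm]
      have hQ : Subsingleton (H I d ((R ⧸ p.asIdeal) ⧸ LinearMap.range ψ)) :=
        H_subsingleton_of_supportDim_lt I _ d
          (supportDim_lt_of_prime_of_smul_eq_zero d hd p.asIdeal f hfp _ hQp hQf)
      exact (isSES_subtype_mkQ (LinearMap.range ψ)).subsingleton_mid I d
    · apply H_subsingleton_of_supportDim_lt
      rw [Module.supportDim_quotient_eq_ringKrullDim]
      exact lt_of_le_of_ne ((ringKrullDim_quotient_le _).trans hd.le) hdim
  -- step D: finite modules
  have hD : ∀ (N : Type u) [AddCommGroup N] [Module R N] [Module.Finite R N],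
      Subsingleton (H I d N) := by
    intro N _ _ hN
    induction hN using IsNoetherianRing.induction_on_isQuotientEquivQuotientPrime R with
    | subsingleton N => exact H_subsingleton_of_subsingleton I d N
    | quotient N p e =>
      have := hC p
      exact (Hcongr I d e).toEquiv.subsingleton
    | exact N₁ N₂ N₃ f g hf hg hex h1 h3 =>
      have hses : IsSES f g := ⟨hf, hex, hg⟩
      exact hses.subsingleton_mid I d
  apply H_subsingleton_of_forall_fg
  intro M' hM'
  have : Module.Finite R M' := Module.Finite.iff_fg.mpr hM'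
  exact hD M'

end Groth.Agent.Helper8.LC
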