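import Groth.Agent.Lib.Helper8.LCLes2
import Groth.Agent.Lib.Helper8.LCDelta
import Groth.Agent.Lib.Helper8.LCFinDim

/-!
# Local cohomology only depends on the radical of the ideal (helper8)
-/

open CategoryTheory CategoryTheory.Limits Opposite Abelian
universe u

namespace Groth.Agent.Helper8.LC

variable {R : Type u} [CommRing R] [IsNoetherianRing R]

theorem gam_le_of_le_radical {I J : Ideal R} (h : I ≤ J.radical) (M : Type u) [AddCommGroup M]
    [Module R M] : gam J M ≤ gam I M := by
  obtain ⟨k, hk⟩ := (le_radical_iff_exists_pow_le I J).mp h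
  rintro m ⟨n, hn⟩
  refine ⟨k * n, fun c hc => hn c ?_⟩
  rw [pow_mul] at hc
  exact Ideal.pow_right_mono hk n hc

theorem gam_eq_of_radical_eq {I J : Ideal R} (h : I.radical = J.radical) (M : Type u)
    [AddCommGroup M] [Module R M] : gam I M = gam J M :=
  le_antisymm (gam_le_of_le_radical (h ▸ Ideal.le_radical) M)
    (gam_le_of_le_radical (h ▸ Ideal.le_radical) M)

/-- `H^i_I(M) ≃ H^i_J(M)` when `√I = √J` -/
theorem nonempty_H_equiv_of_radical_eq {I J : Ideal R} (h : I.radical = J.radical) (i : ℕ)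
    (M : Type u) [AddCommGroup M] [Module R M] : Nonempty (H I i M ≃ₗ[R] H J i M) := by
  refine exists_equiv_of_effaceable (S := R) (Obj := RMod R)
    (fun i X => H I i X.carrier) (fun i X => H J i X.carrier) RMod.E RMod.Q
    (HFam I).α (HFam I).δ (HFam J).α (HFam J).δ
    (HFam I).exact_α_δ (HFam I).δ_surj (HFam I).δ_inj
    (HFam J).exact_α_δ (HFam J).δ_surj (HFam J).δ_inj
    (fun X => ((H0Equiv I X.carrier).trans
      (LinearEquiv.ofEq _ _ (gam_eq_of_radical_eq h X.carrier))).trans (H0Equiv J X.carrier).symm)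
    ?_ i ⟨M⟩
  intro X x
  apply (H0Equiv J X.Q.carrier).injective
  apply Subtype.ext
  change ((H0Equiv J X.Q.carrier) ((H0Equiv J X.Q.carrier).symm _) : X.Q.carrier) =
    ((H0Equiv J X.Q.carrier) (Hmap J 0 X.proj ((H0Equiv J X.E.carrier).symm _)) : X.Q.carrier)
  rw [LinearEquiv.apply_symm_apply, H0Equiv_naturality, LinearEquiv.apply_symm_apply]
  change ((H0Equiv I X.Q.carrier) (Hmap I 0 X.proj x) : X.Q.carrier) = _
  rw [H0Equiv_naturality]
  rfl

theorem H_subsingleton_of_radical_eq {I J : Ideal R} (h : I.radical = J.radical) (i : ℕ)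
    (M : Type u) [AddCommGroup M] [Module R M] (hJ : Subsingleton (H J i M)) :
    Subsingleton (H I i M) := by
  obtain ⟨e⟩ := nonempty_H_equiv_of_radical_eq h i M
  exact e.toEquiv.subsingleton

end Groth.Agent.Helper8.LC
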