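import Groth.Agent.Lib.Helper8.LCHL
import Groth.Agent.Lib.Helper1.CompletionDim

/-!
# The easy half of the Lichtenbaum–Hartshorne theorem (helper8)

If `H^n_a(R) = 0` (`n = dim R`), then for every prime `P` of the completion with
`dim R^/P = n`, `dim R^/(aR^ + P) ≥ 1`.
-/

open CategoryTheory CategoryTheory.Limits Opposite Abelian IsLocalRing
open scoped TensorProduct
universe u

namespace Groth.Agent.Helper8.LC

variable {R : Type u} [CommRing R] [IsNoetherianRing R] [IsLocalRing R]

/-- in a local ring, if `dim S/J < 1` for a proper ideal `J` then `√J = m` -/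
theorem radical_eq_maximalIdeal_of_not_one_le {S : Type u} [CommRing S] [IsLocalRing S]
    (J : Ideal S) (hJ : J ≤ maximalIdeal S) (h : ¬ 1 ≤ ringKrullDim (S ⧸ J)) :
    J.radical = maximalIdeal S := by
  apply le_antisymm
  · exact (Ideal.IsPrime.radical_le_iff inferInstance).mpr hJ
  · rw [Ideal.radical_eq_sInf]
    refine le_sInf ?_
    rintro Q ⟨hJQ, hQ⟩
    by_contra hcon
    apply h
    rw [ringKrullDim_quotient, Order.one_le_krullDim_iff]
    have hQm : Q ≠ maximalIdeal S := fun h => hcon (by rw [h])
    refine ⟨⟨⟨Q, hQ⟩, ?_⟩, ⟨closedPoint S, ?_⟩, ?_⟩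
    · rw [PrimeSpectrum.mem_zeroLocus]; exact hJQ
    · rw [PrimeSpectrum.mem_zeroLocus]; exact hJ
    · refine lt_of_le_of_ne (le_maximalIdeal hQ.ne_top) ?_
      intro h'
      exact hQm (congrArg (fun z => z.1.asIdeal) h')

theorem one_le_ringKrullDim_completion_quotient (n : ℕ) (hn : ringKrullDim R = n) (a : Ideal R)
    (ha : a ≠ ⊤) (hvan : Subsingleton (H a n R))
    (P : Ideal (AdicCompletion (maximalIdeal R) R)) [P.IsPrime]
    (hP : ringKrullDim ((AdicCompletion (maximalIdeal R) R) ⧸ P) = n) :
    1 ≤ ringKrullDim ((AdicCompletion (maximalIdeal R) R) ⧸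
      (a.map (algebraMap R (AdicCompletion (maximalIdeal R) R)) ⊔ P)) := by
  have hNS : IsNoetherianRing (AdicCompletion (maximalIdeal R) R) :=
    Groth.Agent.S0543.result R (maximalIdeal R)
  have hdimS : ringKrullDim (AdicCompletion (maximalIdeal R) R) = n :=
    (Groth.Agent.Helper1.ringKrullDim_adicCompletion_eq R).trans hn
  by_contra hcon
  have hJle : a.map (algebraMap R (AdicCompletion (maximalIdeal R) R)) ⊔ P ≤
      maximalIdeal (AdicCompletion (maximalIdeal R) R) := by
    refine sup_le ?_ (le_maximalIdeal (Ideal.IsPrime.ne_top inferInstance))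
    rw [AdicCompletion.maximalIdeal_eq_map]
    exact Ideal.map_mono (le_maximalIdeal ha)
  have hrad := radical_eq_maximalIdeal_of_not_one_le _ hJle hcon
  rw [sup_comm] at hrad
  have h1 : Nontrivial (H (a.map (algebraMap R (AdicCompletion (maximalIdeal R) R))) n
      ((AdicCompletion (maximalIdeal R) R) ⧸ P)) :=
    nontrivial_H_quotient_prime _ P hrad n hP
  have hvan' : Subsingleton (H (a.map (algebraMap R (AdicCompletion (maximalIdeal R) R)))
      (n + 1) (LinearMap.ker (P.mkQ))) :=
    H_subsingleton_of_ringKrullDim_lt _ n hdimS _ (n + 1) (by omega)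
  have hsurj := (isSES_of_surjective (Submodule.mkQ_surjective P)).Hmap_g_surjective
    (a.map (algebraMap R (AdicCompletion (maximalIdeal R) R))) n
  have h2 : Nontrivial (H (a.map (algebraMap R (AdicCompletion (maximalIdeal R) R))) n
      (AdicCompletion (maximalIdeal R) R)) := hsurj.nontrivial
  obtain ⟨e⟩ := exists_equiv_baseChange (R' := AdicCompletion (maximalIdeal R) R) a n (RMod.mk R)
  have h3 : Subsingleton (AdicCompletion (maximalIdeal R) R ⊗[R] H a n R) := inferInstance
  have h4 : Subsingleton (H (a.map (algebraMap R (AdicCompletion (maximalIdeal R) R))) n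
      (AdicCompletion (maximalIdeal R) R ⊗[R] R)) := e.symm.injective.subsingleton
  have h5 : Subsingleton (H (a.map (algebraMap R (AdicCompletion (maximalIdeal R) R))) n
      (AdicCompletion (maximalIdeal R) R)) :=
    (Hcongr _ n (TensorProduct.AlgebraTensorModule.rid R (AdicCompletion (maximalIdeal R) R)
      (AdicCompletion (maximalIdeal R) R))).symm.injective.subsingleton
  exact not_subsingleton _ h5

end Groth.Agent.Helper8.LC
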