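import Groth.Agent.Lib.Helper8.SecRep
import Groth.Agent.Lib.Helper8.LCArt
import Groth.Agent.Lib.Helper8.LCArt2
import Groth.Agent.Lib.Helper8.LCVanish
import Mathlib.RingTheory.KrullDimension.Regular
import Mathlib.RingTheory.Spectrum.Prime.Module

/-!
# Grothendieck's non-vanishing theorem (helper8)

For a finite module `M` of dimension `n` over a Noetherian local ring `(R, m)`,
`H^n_m(M) ≠ 0`.  The proof is the elementary one via secondary representations of the Artinian
modules `H^i_m(M)` (Macdonald–Sharp), by induction on `n`.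
-/

open CategoryTheory CategoryTheory.Limits Opposite Abelian IsLocalRing
open scoped Pointwise
universe u

namespace Groth.Agent.Helper8.LC

section General

variable {R : Type u} [CommRing R] [IsNoetherianRing R] (I : Ideal R)

/-- a surjection with torsion kernel induces bijections on `H^i_I`, `i ≥ 1` -/
theorem Hmap_bijective_of_surjective_of_isTors_ker {M N : Type u} [AddCommGroup M] [Module R M]
    [AddCommGroup N] [Module R N] (f : M →ₗ[R] N) (hf : Function.Surjective f)
    (hker : IsTors I (LinearMap.ker f)) (i : ℕ) (hi : 1 ≤ i) :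
    Function.Bijective (Hmap I i f) := by
  have hs := isSES_of_surjective hf
  obtain ⟨j, rfl⟩ : ∃ j, i = j + 1 := ⟨i - 1, by omega⟩
  have : Subsingleton (H I (j + 1) (LinearMap.ker f)) :=
    IsTors.H_subsingleton I (j + 1) (by omega) _ hker
  have : Subsingleton (H I (j + 1 + 1) (LinearMap.ker f)) :=
    IsTors.H_subsingleton I (j + 1 + 1) (by omega) _ hker
  exact ⟨hs.Hmap_g_injective I (j + 1), hs.Hmap_g_surjective I (j + 1)⟩

/-- `H^i_I(M) → H^i_I(M / Γ_I(M))` is bijective for `i ≥ 1` -/
theorem Hmap_mkQ_gam_bijective (M : Type u) [AddCommGroup M] [Module R M] (i : ℕ) (hi : 1 ≤ i) :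
    Function.Bijective (Hmap I i (gam I M).mkQ) := by
  refine Hmap_bijective_of_surjective_of_isTors_ker I _ (Submodule.mkQ_surjective _) ?_ i hi
  rw [Submodule.ker_mkQ]
  exact isTors_gam I

/-- regular elements avoiding finitely many further primes -/
theorem exists_regular_notMem_of_gam_eq_bot (M : Type u) [AddCommGroup M] [Module R M]
    [Module.Finite R M] (h : gam I M = ⊥) (t : Finset (Ideal R))
    (ht : ∀ p ∈ t, p.IsPrime ∧ ¬ I ≤ p) :
    ∃ x ∈ I, IsSMulRegular M x ∧ ∀ p ∈ t, x ∉ p := by
  by_contra hcon
  push Not at hcon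
  obtain ⟨p, hp, hIp⟩ : ∃ p ∈ associatedPrimes R M ∪ (t : Set (Ideal R)), I ≤ p := by
    refine (I.subset_union_prime_finite
      ((associatedPrimes.finite R M).union t.finite_toSet) (f := id) 0 0 ?_).1 ?_
    · intro p hp _ _
      rcases hp with hp | hp
      · exact hp.isPrime
      · exact (ht p hp).1
    · intro x hx
      by_cases hreg : IsSMulRegular M x
      · obtain ⟨p, hpt, hxp⟩ := hcon x hx hreg
        exact Set.mem_biUnion (Or.inr hpt) hxp
      · have h1 : x ∈ (⋃ p ∈ associatedPrimes R M, (p : Set R)) := by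
          rw [biUnion_associatedPrimes_eq_compl_regular R M]
          exact hreg
        obtain ⟨p, hp, hxp⟩ := Set.mem_iUnion₂.mp h1
        exact Set.mem_biUnion (Or.inl hp) hxp
  rcases hp with hp | hp
  · obtain ⟨hprime, m, hm⟩ := (isAssociatedPrime_iff (I := p) (M := M)).mp hp
    have hm0 : m ∈ gam I M := by
      refine ⟨1, fun a ha => ?_⟩
      rw [pow_one] at ha
      have : a ∈ p := hIp ha
      rw [hm, Submodule.mem_colon_singleton] at this
      exact (Submodule.mem_bot R).mp this
    rw [h, Submodule.mem_bot] at hm0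
    subst hm0
    apply hprime.ne_top
    rw [hm, Ideal.eq_top_iff_one, Submodule.mem_colon_singleton, smul_zero]
    exact Submodule.zero_mem _
  · exact (ht p hp).2 hIp

end General

section Local

variable {R : Type u} [CommRing R] [IsNoetherianRing R] [IsLocalRing R]

theorem support_gam_subset (M : Type u) [AddCommGroup M] [Module R M] [Module.Finite R M] :
    Module.support R (gam (maximalIdeal R) M) ⊆ {closedPoint R} := by
  intro p hp
  have : IsNoetherian R M := isNoetherian_of_isNoetherianRing_of_finite R M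
  have h1 := Module.annihilator_le_of_mem_support hp
  obtain ⟨k, hk⟩ := exists_pow_smul_gam_eq_zero (maximalIdeal R) M
  have h2 : maximalIdeal R ^ k ≤ Module.annihilator R (gam (maximalIdeal R) M) := by
    intro y hy
    rw [Module.mem_annihilator]
    rintro ⟨g, hg⟩
    exact Subtype.ext (hk y hy g hg)
  have h3 : maximalIdeal R ≤ p.asIdeal := p.2.le_of_pow_le (h2.trans h1)
  rw [Set.mem_singleton_iff]
  apply PrimeSpectrum.ext
  exact le_antisymm (le_maximalIdeal p.2.ne_top) h3

/-- passing to `M / Γ_m(M)` does not change the dimension if it is positive -/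
theorem supportDim_quotient_gam (M : Type u) [AddCommGroup M] [Module R M] [Module.Finite R M]
    (hd : ¬ Module.supportDim R M ≤ 0) :
    Module.supportDim R (M ⧸ gam (maximalIdeal R) M) = Module.supportDim R M := by
  apply le_antisymm (Module.supportDim_le_of_surjective _ (Submodule.mkQ_surjective _))
  have hsupp : Module.support R M = Module.support R (gam (maximalIdeal R) M) ∪
      Module.support R (M ⧸ gam (maximalIdeal R) M) :=
    Module.support_of_exact (LinearMap.exact_subtype_mkQ (gam (maximalIdeal R) M))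
      (Submodule.injective_subtype _) (Submodule.mkQ_surjective _)
  by_cases hM' : Subsingleton (M ⧸ gam (maximalIdeal R) M)
  · exfalso
    apply hd
    have h1 : Module.support R M ⊆ {closedPoint R} := by
      rw [hsupp, Module.support_eq_empty (M := M ⧸ gam (maximalIdeal R) M), Set.union_empty]
      exact support_gam_subset M
    have : Subsingleton (Module.support R M) :=
      ⟨fun a b => Subtype.ext ((h1 a.2).trans (h1 b.2).symm)⟩
    exact Order.krullDim_nonpos_of_subsingleton
  · rw [not_subsingleton_iff_nontrivial] at hM'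
    have h0 : closedPoint R ∈ Module.support R (M ⧸ gam (maximalIdeal R) M) :=
      IsLocalRing.closedPoint_mem_support R _
    have h1 : Module.support R M ⊆ Module.support R (M ⧸ gam (maximalIdeal R) M) := by
      rw [hsupp]
      apply Set.union_subset _ subset_rfl
      intro p hp
      rw [support_gam_subset M hp]
      exact h0
    exact Order.krullDim_le_of_strictMono (Set.inclusion h1) (fun a b hab => hab)

/-- for `dim N ≤ k`, `k ≥ 1`, some `y ∈ m` acts surjectively on `H^k_m(N)` -/
theorem exists_smul_surjective_H_top (N : Type u) [AddCommGroup N] [Module R N]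
    [Module.Finite R N] (k : ℕ) (hk : 1 ≤ k)
    (hdim : Module.supportDim R N ≤ (k : WithBot ℕ∞)) :
    ∃ y ∈ maximalIdeal R, ∀ h : H (maximalIdeal R) k N,
      ∃ h' : H (maximalIdeal R) k N, y • h' = h := by
  obtain ⟨k', rfl⟩ : ∃ k', k = k' + 1 := ⟨k - 1, by omega⟩
  obtain ⟨y, hym, hy⟩ := exists_regular_of_gam_eq_bot (maximalIdeal R)
    (N ⧸ gam (maximalIdeal R) N) (gam_quotient_gam _ N)
  refine ⟨y, hym, ?_⟩
  have h1 : Module.supportDim R (QuotSMulTop y (N ⧸ gam (maximalIdeal R) N)) + 1 =
      Module.supportDim R (N ⧸ gam (maximalIdeal R) N) :=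
    Module.supportDim_quotSMulTop_succ_eq_supportDim hy hym
  have h2 : Module.supportDim R (N ⧸ gam (maximalIdeal R) N) ≤ ((k' + 1 : ℕ) : WithBot ℕ∞) :=
    (Module.supportDim_le_of_surjective _ (Submodule.mkQ_surjective _)).trans hdim
  have h3 : Module.supportDim R (QuotSMulTop y (N ⧸ gam (maximalIdeal R) N)) ≤
      (k' : WithBot ℕ∞) := supportDim_le_of_succ_le h1.le h2
  have h4 : Subsingleton (H (maximalIdeal R) (k' + 1)
      ((N ⧸ gam (maximalIdeal R) N) ⧸ y • (⊤ : Submodule R (N ⧸ gam (maximalIdeal R) N)))) := by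
    apply H_subsingleton_of_supportDim_lt
    refine lt_of_le_of_lt h3 ?_
    exact_mod_cast Nat.lt_succ_self k'
  have hs := isSES_smul (N ⧸ gam (maximalIdeal R) N) hy
  have h5 := hs.Hmap_f_surjective (maximalIdeal R) (k' + 1)
  have hbij := Hmap_mkQ_gam_bijective (maximalIdeal R) N (k' + 1) (by omega)
  intro h
  obtain ⟨z, hz⟩ := h5 (Hmap (maximalIdeal R) (k' + 1) (gam (maximalIdeal R) N).mkQ h)
  obtain ⟨h', rfl⟩ := hbij.2 z
  refine ⟨h', ?_⟩
  apply hbij.1
  rw [map_smul, ← hz, Hmap_smul_id]

theorem withBot_enat_add_one_cancel {a : WithBot ℕ∞} {n : ℕ}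
    (h : a + 1 = ((n + 1 : ℕ) : WithBot ℕ∞)) : a = (n : WithBot ℕ∞) := by
  induction a with
  | bot =>
    rw [WithBot.bot_add] at h
    exact absurd h WithBot.bot_ne_coe
  | coe a =>
    have h1 : a + 1 = ((n + 1 : ℕ) : ℕ∞) := by exact_mod_cast h
    have h2 : a = (n : ℕ∞) := by
      induction a with
      | top =>
        rw [top_add] at h1
        exact absurd h1 (ENat.top_ne_natCast _)
      | coe a =>
        have : a + 1 = n + 1 := by exact_mod_cast h1
        have : a = n := by omega
        rw [this]
    rw [h2]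
    rfl

/-- **Grothendieck's non-vanishing theorem**: `H^n_m(M) ≠ 0` for a finite module of dimension
`n` over a Noetherian local ring -/
theorem nontrivial_H_of_supportDim_eq : ∀ (n : ℕ) (M : Type u) [AddCommGroup M] [Module R M]
    [Module.Finite R M], Module.supportDim R M = (n : WithBot ℕ∞) →
      Nontrivial (H (maximalIdeal R) n M) := by
  intro n
  induction n with
  | zero =>
    intro M _ _ _ hdim
    have hg : gam (maximalIdeal R) M = ⊤ := gam_eq_top_of_supportDim_le_zero M (le_of_eq hdim)
    have htors : IsTors (maximalIdeal R) M := fun m => by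
      have : m ∈ gam (maximalIdeal R) M := by rw [hg]; trivial
      exact this
    have hM : Nontrivial M := by
      rw [← Module.supportDim_ne_bot_iff_nontrivial R, hdim]
      exact WithBot.coe_ne_bot
    exact (htors.H0Equiv (maximalIdeal R)).toEquiv.nontrivial
  | succ n ih =>
    intro M _ _ _ hdim
    by_contra hcon
    rw [not_nontrivial_iff_subsingleton] at hcon
    -- pass to `M' = M / Γ_m(M)`
    have hd0 : ¬ Module.supportDim R M ≤ 0 := by
      rw [hdim]
      intro h
      have h1 : ((n + 1 : ℕ) : ℕ∞) ≤ 0 := by exact_mod_cast h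
      simp at h1
    have hdim' : Module.supportDim R (M ⧸ gam (maximalIdeal R) M) = ((n + 1 : ℕ) : WithBot ℕ∞) :=
      (supportDim_quotient_gam M hd0).trans hdim
    have hg' : gam (maximalIdeal R) (M ⧸ gam (maximalIdeal R) M) = ⊥ := gam_quotient_gam _ M
    have hsub' : Subsingleton (H (maximalIdeal R) (n + 1) (M ⧸ gam (maximalIdeal R) M)) :=
      (Hmap_mkQ_gam_bijective (maximalIdeal R) M (n + 1) (by omega)).2.subsingleton
    have hart : IsArtinian R (H (maximalIdeal R) n (M ⧸ gam (maximalIdeal R) M)) :=
      isArtinian_H_maximalIdeal n _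
    obtain ⟨s, hs, hsup⟩ := SecRep.exists_secondary_rep
      (⊤ : Submodule R (H (maximalIdeal R) n (M ⧸ gam (maximalIdeal R) M)))
    classical
    let t : Finset (Ideal R) := (s.image (fun S => (Module.annihilator R S).radical)).filter
      (fun p => ¬ maximalIdeal R ≤ p)
    have ht : ∀ p ∈ t, p.IsPrime ∧ ¬ maximalIdeal R ≤ p := by
      intro p hp
      obtain ⟨hp1, hp2⟩ := Finset.mem_filter.mp hp
      obtain ⟨S, hS, rfl⟩ := Finset.mem_image.mp hp1
      exact ⟨(hs S hS).isPrime, hp2⟩
    obtain ⟨x, hxm, hxreg, hxt⟩ := exists_regular_notMem_of_gam_eq_bot (maximalIdeal R)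
      (M ⧸ gam (maximalIdeal R) M) hg' t ht
    have hN1 : Module.supportDim R (QuotSMulTop x (M ⧸ gam (maximalIdeal R) M)) + 1 =
        ((n + 1 : ℕ) : WithBot ℕ∞) :=
      (Module.supportDim_quotSMulTop_succ_eq_supportDim hxreg hxm).trans hdim'
    have hN : Module.supportDim R (QuotSMulTop x (M ⧸ gam (maximalIdeal R) M)) =
        (n : WithBot ℕ∞) := withBot_enat_add_one_cancel hN1
    have hnt : Nontrivial (H (maximalIdeal R) n
        ((M ⧸ gam (maximalIdeal R) M) ⧸ x • (⊤ : Submodule R (M ⧸ gam (maximalIdeal R) M)))) :=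
      ih (QuotSMulTop x (M ⧸ gam (maximalIdeal R) M)) hN
    have hses := isSES_smul (M ⧸ gam (maximalIdeal R) M) hxreg
    have hπ := hses.Hmap_g_surjective (maximalIdeal R) n
    have hx0 : ∀ l : H (maximalIdeal R) n (M ⧸ gam (maximalIdeal R) M),
        Hmap (maximalIdeal R) n
          (x • (⊤ : Submodule R (M ⧸ gam (maximalIdeal R) M))).mkQ (x • l) = 0 := by
      intro l
      rw [← Hmap_smul_id]
      exact (hses.exact_Hmap (maximalIdeal R) n).apply_apply_eq_zero l
    rcases Nat.eq_zero_or_pos n with hn0 | hnpos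
    · subst hn0
      have hL : Subsingleton (H (maximalIdeal R) 0 (M ⧸ gam (maximalIdeal R) M)) := by
        have e := H0Equiv (maximalIdeal R) (M ⧸ gam (maximalIdeal R) M)
        have : Subsingleton (gam (maximalIdeal R) (M ⧸ gam (maximalIdeal R) M)) := by
          rw [hg']
          infer_instance
        exact e.toEquiv.subsingleton
      have := hπ.subsingleton
      exact not_subsingleton _ this
    · obtain ⟨y, hym, hy⟩ := exists_smul_surjective_H_top
        (QuotSMulTop x (M ⧸ gam (maximalIdeal R) M)) n hnpos (le_of_eq hN)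
      have hxy : ∀ S ∈ s, x ∉ (Module.annihilator R S).radical ∨
          y ∈ (Module.annihilator R S).radical := by
        intro S hS
        by_cases hmS : maximalIdeal R ≤ (Module.annihilator R S).radical
        · exact Or.inr (hmS hym)
        · left
          apply hxt
          exact Finset.mem_filter.mpr ⟨Finset.mem_image.mpr ⟨S, hS, rfl⟩, hmS⟩
      have := SecRep.subsingleton_of_secondary_rep
        (Hmap (maximalIdeal R) n (x • (⊤ : Submodule R (M ⧸ gam (maximalIdeal R) M))).mkQ)
        hπ x y hx0 hy s hs hsup hxy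
      exact not_subsingleton _ this

end Local

end Groth.Agent.Helper8.LC
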