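import Groth.Agent.Lib.Helper8.LCLes2
import Mathlib.RingTheory.Filtration

/-!
# Mayer–Vietoris for local cohomology (helper8)
-/

open CategoryTheory CategoryTheory.Limits Opposite Abelian
universe u v w

namespace Groth.Agent.Helper8.LC

section Prod

variable {S : Type*} [CommRing S] {Obj : Type w}
  {A B : ℕ → Obj → Type v}
  [∀ i X, AddCommGroup (A i X)] [∀ i X, Module S (A i X)]
  [∀ i X, AddCommGroup (B i X)] [∀ i X, Module S (B i X)]
  {E Q : Obj → Obj}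

theorem exact_prodMap {M₁ M₂ M₃ N₁ N₂ N₃ : Type*} [AddCommGroup M₁] [Module S M₁]
    [AddCommGroup M₂] [Module S M₂] [AddCommGroup M₃] [Module S M₃] [AddCommGroup N₁] [Module S N₁]
    [AddCommGroup N₂] [Module S N₂] [AddCommGroup N₃] [Module S N₃]
    {f : M₁ →ₗ[S] M₂} {g : M₂ →ₗ[S] M₃} {f' : N₁ →ₗ[S] N₂} {g' : N₂ →ₗ[S] N₃}
    (h : Function.Exact f g) (h' : Function.Exact f' g') :
    Function.Exact (f.prodMap f') (g.prodMap g') := by
  rintro ⟨y, y'⟩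
  constructor
  · intro hy
    have h1 : g y = 0 := congrArg Prod.fst hy
    have h2 : g' y' = 0 := congrArg Prod.snd hy
    obtain ⟨x, rfl⟩ := (h y).mp h1
    obtain ⟨x', rfl⟩ := (h' y').mp h2
    exact ⟨(x, x'), rfl⟩
  · rintro ⟨⟨x, x'⟩, hx⟩
    have h1 : f x = y := congrArg Prod.fst hx
    have h2 : f' x' = y' := congrArg Prod.snd hx
    subst h1 h2
    change (g (f x), g' (f' x')) = 0
    rw [(h _).mpr ⟨x, rfl⟩, (h' _).mpr ⟨x', rfl⟩]
    rfl

/-- the product of two effaceable families -/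
def EffFam.prod (f : EffFam S A E Q) (g : EffFam S B E Q) :
    EffFam S (fun i X => A i X × B i X) E Q where
  ι X := (f.ι X).prodMap (g.ι X)
  α i X := (f.α i X).prodMap (g.α i X)
  δ i X := (f.δ i X).prodMap (g.δ i X)
  ι_inj X := Function.Injective.prodMap (f.ι_inj X) (g.ι_inj X)
  exact_ι_α X := exact_prodMap (f.exact_ι_α X) (g.exact_ι_α X)
  exact_α_δ X := exact_prodMap (f.exact_α_δ X) (g.exact_α_δ X)
  δ_surj i X := Function.Surjective.prodMap (f.δ_surj i X) (g.δ_surj i X)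
  δ_inj i X hi := Function.Injective.prodMap (f.δ_inj i X hi) (g.δ_inj i X hi)

end Prod

variable {R : Type u} [CommRing R]

section ArtinRees

variable [IsNoetherianRing R] (I J : Ideal R)

/-- the `(I^k ∩ J^k)`-topology is finer than the `(I ∩ J)`-adic topology -/
theorem exists_pow_inf_pow_le (n : ℕ) : ∃ k : ℕ, I ^ k ⊓ J ^ k ≤ (I ⊓ J) ^ n := by
  obtain ⟨c, hc⟩ := Ideal.exists_pow_inf_eq_pow_smul I (J ^ n : Submodule R R)
  refine ⟨n + c, ?_⟩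
  have h1 := hc (n + c) (by omega)
  rw [Nat.add_sub_cancel] at h1
  have h2 : I ^ (n + c) ⊓ J ^ (n + c) ≤ I ^ (n + c) • (⊤ : Submodule R R) ⊓ J ^ n := by
    refine le_inf ?_ (inf_le_right.trans (Ideal.pow_le_pow_right (by omega)))
    rw [smul_eq_mul, Ideal.mul_top]
    exact inf_le_left
  refine h2.trans ?_
  rw [h1]
  have h3 : I ^ n • (I ^ c • (⊤ : Submodule R R) ⊓ J ^ n) ≤ I ^ n • J ^ n :=
    Submodule.smul_mono le_rfl inf_le_right
  refine h3.trans ?_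
  rw [smul_eq_mul, ← mul_pow]
  exact Ideal.pow_right_mono Ideal.mul_le_inf n

variable (E : Type u) [AddCommGroup E] [Module R E] [Module.Injective R E]

/-- `Γ_{I∩J}(E) = Γ_I(E) + Γ_J(E)` for injective `E` -/
theorem gam_inf_le_sup : gam (I ⊓ J) E ≤ gam I E ⊔ gam J E := by
  rintro m ⟨n, hn⟩
  obtain ⟨k, hk⟩ := exists_pow_inf_pow_le I J n
  let K : Ideal R := I ^ k ⊓ J ^ k
  let φ : (R ⧸ K) →ₗ[R] E :=
    Submodule.liftQ K (LinearMap.toSpanSingleton R E m) (by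
      intro a ha
      rw [LinearMap.mem_ker, LinearMap.toSpanSingleton_apply]
      exact hn a (hk ha))
  let ι0 : R →ₗ[R] (R ⧸ I ^ k) × (R ⧸ J ^ k) :=
    LinearMap.prod (Submodule.mkQ (I ^ k)) (Submodule.mkQ (J ^ k))
  have hker : LinearMap.ker ι0 = K := by
    ext a
    rw [LinearMap.mem_ker]
    change (Submodule.Quotient.mk a, Submodule.Quotient.mk a) = (0, 0) ↔ _
    rw [Prod.mk.injEq, Submodule.Quotient.mk_eq_zero, Submodule.Quotient.mk_eq_zero]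
    exact Iff.rfl
  let ι1 : (R ⧸ K) →ₗ[R] (R ⧸ I ^ k) × (R ⧸ J ^ k) := Submodule.liftQ K ι0 hker.ge
  have hι1 : Function.Injective ι1 := by
    rw [← LinearMap.ker_eq_bot]
    exact Submodule.ker_liftQ_eq_bot _ _ _ hker.le
  obtain ⟨ψ, hψ⟩ := Module.Injective.extension_property R E _ _ ι1 hι1 φ
  have h1 : m = ψ (Submodule.Quotient.mk 1, 0) + ψ (0, Submodule.Quotient.mk 1) := by
    have h2 : φ (Submodule.Quotient.mk 1) = m := by
      change LinearMap.toSpanSingleton R E m 1 = m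
      rw [LinearMap.toSpanSingleton_apply, one_smul]
    rw [← map_add, ← h2, ← hψ]
    change ψ (Submodule.Quotient.mk 1, Submodule.Quotient.mk 1) = _
    congr 1
    simp
  rw [h1]
  refine Submodule.add_mem_sup ⟨k, fun c hc => ?_⟩ ⟨k, fun c hc => ?_⟩
  · rw [← map_smul, Prod.smul_mk, smul_zero, ← Submodule.Quotient.mk_smul,
      (Submodule.Quotient.mk_eq_zero _).mpr (by simpa using hc)]
    exact map_zero ψ
  · rw [← map_smul, Prod.smul_mk, smul_zero, ← Submodule.Quotient.mk_smul,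
      (Submodule.Quotient.mk_eq_zero _).mpr (by simpa using hc)]
    exact map_zero ψ

end ArtinRees

section MV

variable (I J : Ideal R)

/-- `H_{I+J} → H_I × H_J` -/
noncomputable def mvU : EffHom (HFam (I ⊔ J)) ((HFam I).prod (HFam J)) where
  app i X := LinearMap.prod (Hθ (le_sup_left : I ≤ I ⊔ J) i X.carrier)
    (Hθ (le_sup_right : J ≤ I ⊔ J) i X.carrier)
  comm_ι X x := Prod.ext (Hθ_Hmap _ 0 X.emb x) (Hθ_Hmap _ 0 X.emb x)
  comm_α X x := Prod.ext (Hθ_Hmap _ 0 X.proj x) (Hθ_Hmap _ 0 X.proj x)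
  comm_δ i X x := Prod.ext (Hθ_Hδ _ i X.isSES x) (Hθ_Hδ _ i X.isSES x)

/-- `H_I × H_J → H_{I∩J}`, the difference -/
noncomputable def mvV : EffHom ((HFam I).prod (HFam J)) (HFam (I ⊓ J)) where
  app i X := Hθ (inf_le_left : I ⊓ J ≤ I) i X.carrier ∘ₗ LinearMap.fst R _ _ -
    Hθ (inf_le_right : I ⊓ J ≤ J) i X.carrier ∘ₗ LinearMap.snd R _ _
  comm_ι X x := by
    obtain ⟨x₁, x₂⟩ := x
    change Hθ _ 0 _ (Hmap I 0 X.emb x₁) - Hθ _ 0 _ (Hmap J 0 X.emb x₂) =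
      Hmap (I ⊓ J) 0 X.emb (Hθ _ 0 _ x₁ - Hθ _ 0 _ x₂)
    rw [map_sub, Hθ_Hmap, Hθ_Hmap]
  comm_α X x := by
    obtain ⟨x₁, x₂⟩ := x
    change Hθ _ 0 _ (Hmap I 0 X.proj x₁) - Hθ _ 0 _ (Hmap J 0 X.proj x₂) =
      Hmap (I ⊓ J) 0 X.proj (Hθ _ 0 _ x₁ - Hθ _ 0 _ x₂)
    rw [map_sub, Hθ_Hmap, Hθ_Hmap]
  comm_δ i X x := by
    obtain ⟨x₁, x₂⟩ := x
    change Hθ _ (i + 1) _ (Hδ I i X.isSES x₁) - Hθ _ (i + 1) _ (Hδ J i X.isSES x₂) =
      Hδ (I ⊓ J) i X.isSES (Hθ _ i _ x₁ - Hθ _ i _ x₂)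
    rw [map_sub, Hθ_Hδ, Hθ_Hδ]

theorem mvU_zero_injective (X : RMod R) : Function.Injective ((mvU I J).app 0 X) := by
  intro x y hxy
  exact Hθ_zero_injective _ X.carrier (congrArg Prod.fst hxy)

theorem mv_exact_zero (X : RMod R) :
    Function.Exact ((mvU I J).app 0 X) ((mvV I J).app 0 X) := by
  rintro ⟨y₁, y₂⟩
  change Hθ (inf_le_left : I ⊓ J ≤ I) 0 X.carrier y₁ - Hθ (inf_le_right : I ⊓ J ≤ J) 0 X.carrier y₂
    = 0 ↔ _
  constructor
  · intro h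
    rw [sub_eq_zero] at h
    have h1 : (H0Equiv I X.carrier y₁ : X.carrier) = (H0Equiv J X.carrier y₂ : X.carrier) := by
      rw [← H0Equiv_Hθ (inf_le_left : I ⊓ J ≤ I), ← H0Equiv_Hθ (inf_le_right : I ⊓ J ≤ J), h]
    have h2 : (H0Equiv I X.carrier y₁ : X.carrier) ∈ gam (I ⊔ J) X.carrier := by
      rw [gam_sup_eq_inf, Submodule.mem_inf]
      refine ⟨(H0Equiv I X.carrier y₁).2, ?_⟩
      rw [h1]
      exact (H0Equiv J X.carrier y₂).2
    refine ⟨(H0Equiv (I ⊔ J) X.carrier).symm ⟨_, h2⟩, ?_⟩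
    refine Prod.ext ?_ ?_
    · apply (H0Equiv I X.carrier).injective
      apply Subtype.ext
      change (H0Equiv I X.carrier (Hθ _ 0 _ _) : X.carrier) = _
      rw [H0Equiv_Hθ, LinearEquiv.apply_symm_apply]
    · apply (H0Equiv J X.carrier).injective
      apply Subtype.ext
      change (H0Equiv J X.carrier (Hθ _ 0 _ _) : X.carrier) = _
      rw [H0Equiv_Hθ, LinearEquiv.apply_symm_apply, h1]
  · rintro ⟨x, hx⟩
    have h1 : Hθ (le_sup_left : I ≤ I ⊔ J) 0 X.carrier x = y₁ := congrArg Prod.fst hx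
    have h2 : Hθ (le_sup_right : J ≤ I ⊔ J) 0 X.carrier x = y₂ := congrArg Prod.snd hx
    rw [← h1, ← h2, Hθ_comp, Hθ_comp, sub_self]

variable [IsNoetherianRing R]

theorem mvV_zero_surjective (X : RMod R) : Function.Surjective ((mvV I J).app 0 (RMod.E X)) := by
  intro y
  have h1 := gam_inf_le_sup I J X.E.carrier (H0Equiv (I ⊓ J) X.E.carrier y).2
  obtain ⟨m₁, hm₁, m₂, hm₂, h12⟩ := Submodule.mem_sup.mp h1
  refine ⟨((H0Equiv I X.E.carrier).symm ⟨m₁, hm₁⟩,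
    (H0Equiv J X.E.carrier).symm ⟨-m₂, Submodule.neg_mem _ hm₂⟩), ?_⟩
  change Hθ (inf_le_left : I ⊓ J ≤ I) 0 _ _ - Hθ (inf_le_right : I ⊓ J ≤ J) 0 _ _ = y
  apply (H0Equiv (I ⊓ J) X.E.carrier).injective
  apply Subtype.ext
  rw [map_sub]
  change (H0Equiv (I ⊓ J) X.E.carrier (Hθ _ 0 _ _) : X.E.carrier) -
    (H0Equiv (I ⊓ J) X.E.carrier (Hθ _ 0 _ _) : X.E.carrier) = _
  rw [H0Equiv_Hθ, H0Equiv_Hθ, ← h12]
  change ((H0Equiv I X.E.carrier) ((H0Equiv I X.E.carrier).symm ⟨m₁, hm₁⟩) : X.E.carrier) -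
    ((H0Equiv J X.E.carrier) ((H0Equiv J X.E.carrier).symm ⟨-m₂, Submodule.neg_mem _ hm₂⟩) :
      X.E.carrier) = m₁ + m₂
  rw [LinearEquiv.apply_symm_apply, LinearEquiv.apply_symm_apply]
  change m₁ - -m₂ = m₁ + m₂
  rw [sub_neg_eq_add]

variable (M : Type u) [AddCommGroup M] [Module R M]

/-- exactness of `H^i_{I+J}(M) → H^i_I(M) × H^i_J(M) → H^i_{I∩J}(M)` -/
theorem mv_exact (i : ℕ) :
    Function.Exact (LinearMap.prod (Hθ (le_sup_left : I ≤ I ⊔ J) i M)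
        (Hθ (le_sup_right : J ≤ I ⊔ J) i M))
      (Hθ (inf_le_left : I ⊓ J ≤ I) i M ∘ₗ LinearMap.fst R (H I i M) (H J i M) -
        Hθ (inf_le_right : I ⊓ J ≤ J) i M ∘ₗ LinearMap.snd R (H I i M) (H J i M)) :=
  EffHom.exact (mvU I J) (mvV I J) (mv_exact_zero I J) (mvV_zero_surjective I J) i ⟨M⟩

/-- the connecting isomorphism of Mayer–Vietoris -/
theorem mv_nonempty_coker_equiv_ker (i : ℕ) :
    Nonempty ((H (I ⊓ J) i M ⧸ LinearMap.range
        (Hθ (inf_le_left : I ⊓ J ≤ I) i M ∘ₗ LinearMap.fst R (H I i M) (H J i M) -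
          Hθ (inf_le_right : I ⊓ J ≤ J) i M ∘ₗ LinearMap.snd R (H I i M) (H J i M))) ≃ₗ[R]
      LinearMap.ker (LinearMap.prod (Hθ (le_sup_left : I ≤ I ⊔ J) (i + 1) M)
        (Hθ (le_sup_right : J ≤ I ⊔ J) (i + 1) M))) :=
  EffHom.nonempty_coker_equiv_ker (mvU I J) (mvV I J) (mvU_zero_injective I J)
    (mv_exact_zero I J) (mvV_zero_surjective I J) i ⟨M⟩

end MV

end Groth.Agent.Helper8.LC
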