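import Mathlib.RingTheory.Localization.Away.Basic
import Mathlib.RingTheory.Localization.Away.AdjoinRoot
import Mathlib.RingTheory.Localization.FractionRing
import Mathlib.RingTheory.Localization.Integral
import Mathlib.RingTheory.Localization.Ideal
import Mathlib.RingTheory.FiniteType
import Mathlib.RingTheory.Spectrum.Prime.Topology
import Mathlib.RingTheory.Jacobson.Ring
import Mathlib.RingTheory.IntegralClosure.IsIntegralClosure.Basic
import Mathlib.RingTheory.Ideal.KrullsHeightTheorem
import Mathlib.RingTheory.Ideal.MinimalPrime.Noetherian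
import Mathlib.RingTheory.Spectrum.Maximal.Basic

/-!
# Goldman domains (helper8 library)

For a domain `B`: `B_f` is a field for some `f ≠ 0` iff the fraction field is a finitely generated
`B`-algebra iff the generic point of `Spec B` is open.
-/

set_option autoImplicit false

namespace Groth.Agent.Helper8.Goldman

universe u

variable {B : Type u} [CommRing B] [IsDomain B]

/-- `B_f` is a field iff every prime not containing `f` is zero. -/
theorem isField_away_iff {f : B} (hf : f ≠ 0) :
    IsField (Localization.Away f) ↔ ∀ q : Ideal B, q.IsPrime → f ∉ q → q = ⊥ := by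
  have hle : Submonoid.powers f ≤ nonZeroDivisors B := powers_le_nonZeroDivisors_of_noZeroDivisors hf
  have hdom : IsDomain (Localization.Away f) := IsLocalization.isDomain_localization hle
  have hinj : Function.Injective (algebraMap B (Localization.Away f)) :=
    IsLocalization.injective (M := Submonoid.powers f) _ hle
  constructor
  · intro hF q hq hfq
    let _ : Field (Localization.Away f) := hF.toField
    have hdisj : Disjoint (Submonoid.powers f : Set B) (q : Set B) := by
      rw [Set.disjoint_left]
      rintro _ ⟨n, rfl⟩ hmem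
      exact hfq (hq.mem_of_pow_mem n hmem)
    have h1 := IsLocalization.under_map_of_isPrime_disjoint (Submonoid.powers f)
      (Localization.Away f) hq hdisj
    have h2 : q.map (algebraMap B (Localization.Away f)) = ⊥ := by
      rcases Ideal.eq_bot_or_top (q.map (algebraMap B (Localization.Away f))) with h | h
      · exact h
      · exfalso
        have := IsLocalization.isPrime_of_isPrime_disjoint (Submonoid.powers f)
          (Localization.Away f) q hq hdisj
        exact this.ne_top h
    rw [h2] at h1
    rw [← h1]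
    ext x
    rw [Ideal.mem_comap, Ideal.mem_bot, Ideal.mem_bot]
    exact (map_eq_zero_iff _ hinj)
  · intro h
    rw [Ring.isField_iff_maximal_bot]
    obtain ⟨m', hm'⟩ := Ideal.exists_maximal (Localization.Away f)
    have hq : m'.comap (algebraMap B (Localization.Away f)) = ⊥ := by
      apply h _ (Ideal.comap_isPrime _ _)
      intro hmem
      rw [Ideal.mem_comap] at hmem
      have hunit : IsUnit (algebraMap B (Localization.Away f) f) :=
        IsLocalization.map_units _ (⟨_, Submonoid.mem_powers _⟩ : Submonoid.powers f)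
      exact hm'.ne_top (Ideal.eq_top_of_isUnit_mem _ hmem hunit)
    have hm'bot : m' = ⊥ := by
      rw [← IsLocalization.map_under (Submonoid.powers f) (Localization.Away f) m']
      show Ideal.map _ (Ideal.comap _ m') = ⊥
      rw [hq, Ideal.map_bot]
    rw [← hm'bot]
    exact hm'

/-- The generic point of `Spec B` is open iff some `B_f`, `f ≠ 0`, is a field. -/
theorem isOpen_generic_iff :
    IsOpen ({⟨⊥, Ideal.isPrime_bot⟩} : Set (PrimeSpectrum B)) ↔
      ∃ f : B, f ≠ 0 ∧ ∀ q : Ideal B, q.IsPrime → f ∉ q → q = ⊥ := by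
  constructor
  · intro ho
    obtain ⟨_, ⟨f, rfl⟩, hmem, hsub⟩ :=
      PrimeSpectrum.isTopologicalBasis_basic_opens.exists_subset_of_mem_open
        (Set.mem_singleton _) ho
    refine ⟨f, ?_, fun q hq hfq => ?_⟩
    · rintro rfl
      exact hmem (Ideal.zero_mem _)
    · have : (⟨q, hq⟩ : PrimeSpectrum B) ∈ ({⟨⊥, Ideal.isPrime_bot⟩} : Set (PrimeSpectrum B)) :=
        hsub hfq
      rw [Set.mem_singleton_iff] at this
      exact congrArg PrimeSpectrum.asIdeal this
  · rintro ⟨f, hf, h⟩
    have : ({⟨⊥, Ideal.isPrime_bot⟩} : Set (PrimeSpectrum B)) = (PrimeSpectrum.basicOpen f : Set _) := by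
      ext q
      rw [Set.mem_singleton_iff]
      constructor
      · rintro rfl
        exact fun h0 => hf h0
      · intro hq
        exact PrimeSpectrum.ext (h q.asIdeal q.2 hq)
    rw [this]
    exact (PrimeSpectrum.basicOpen f).isOpen

/-- If `B_f` is a field, then the fraction field is generated by `1/f`. -/
theorem finiteType_fractionRing_of_isField_away {f : B} (hf : f ≠ 0)
    (hF : IsField (Localization.Away f)) : Algebra.FiniteType B (FractionRing B) := by
  have hle : Submonoid.powers f ≤ nonZeroDivisors B := powers_le_nonZeroDivisors_of_noZeroDivisors hf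
  have hinj : Function.Injective (algebraMap B (Localization.Away f)) :=
    IsLocalization.injective (M := Submonoid.powers f) _ hle
  refine ⟨⟨{(algebraMap B (FractionRing B) f)⁻¹}, ?_⟩⟩
  rw [Finset.coe_singleton, eq_top_iff]
  intro z _
  obtain ⟨b, ⟨c, hc⟩, rfl⟩ := IsLocalization.exists_mk'_eq (nonZeroDivisors B) z
  have hc0 : c ≠ 0 := nonZeroDivisors.ne_zero hc
  -- `c` is invertible in `B_f`
  have hcL : algebraMap B (Localization.Away f) c ≠ 0 := by
    rwa [Ne, map_eq_zero_iff _ hinj]
  obtain ⟨t, ht⟩ := hF.mul_inv_cancel hcL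
  obtain ⟨b', ⟨_, n, rfl⟩, rfl⟩ := IsLocalization.exists_mk'_eq (Submonoid.powers f) t
  have h1 : c * b' = f ^ n := by
    apply hinj
    rw [map_mul, map_pow]
    have := IsLocalization.mk'_spec (Localization.Away f) b' (⟨f ^ n, n, rfl⟩ : Submonoid.powers f)
    simp only at this
    calc algebraMap B (Localization.Away f) c * algebraMap B (Localization.Away f) b'
        = algebraMap B (Localization.Away f) c *
          (IsLocalization.mk' (Localization.Away f) b' (⟨f ^ n, n, rfl⟩ : Submonoid.powers f) *
            algebraMap B (Localization.Away f) (f ^ n)) := by rw [this]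
      _ = (algebraMap B (Localization.Away f) c *
          IsLocalization.mk' (Localization.Away f) b' (⟨f ^ n, n, rfl⟩ : Submonoid.powers f)) *
            algebraMap B (Localization.Away f) (f ^ n) := by ring
      _ = algebraMap B (Localization.Away f) f ^ n := by rw [ht, one_mul, map_pow]
  have hfK : algebraMap B (FractionRing B) f ≠ 0 := by
    rwa [Ne, map_eq_zero_iff _ (IsFractionRing.injective B (FractionRing B))]
  have hcK : algebraMap B (FractionRing B) c ≠ 0 := by
    rwa [Ne, map_eq_zero_iff _ (IsFractionRing.injective B (FractionRing B))]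
  have h2 : IsLocalization.mk' (FractionRing B) b (⟨c, hc⟩ : nonZeroDivisors B) =
      (b * b') • ((algebraMap B (FractionRing B) f)⁻¹) ^ n := by
    rw [IsLocalization.mk'_eq_iff_eq_mul, Algebra.smul_def, map_mul]
    have h3 : algebraMap B (FractionRing B) c * algebraMap B (FractionRing B) b' =
        algebraMap B (FractionRing B) f ^ n := by
      rw [← map_mul, h1, map_pow]
    simp only
    rw [inv_pow]
    field_simp
    rw [mul_assoc, mul_comm (algebraMap B (FractionRing B) b'), h3]
  rw [h2]
  exact Subalgebra.smul_mem _ (Subalgebra.pow_mem _ (Algebra.subset_adjoin (Set.mem_singleton _)) n) _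

/-- If a field `K` is a finitely generated algebra over the domain `B ⊆ K`, then `B_f` is a field for
some `f ≠ 0`. -/
theorem exists_isField_away_of_finiteType (K : Type u) [Field K] [Algebra B K]
    (hinj : Function.Injective (algebraMap B K)) (hft : Algebra.FiniteType B K) :
    ∃ f : B, f ≠ 0 ∧ IsField (Localization.Away f) := by
  classical
  obtain ⟨s, hs⟩ := hft.out
  -- `K` is algebraic over `B`
  let F := FractionRing B
  let algFK : Algebra F K := (IsFractionRing.lift hinj).toAlgebra
  have htower : IsScalarTower B F K :=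
    IsScalarTower.of_algebraMap_eq (fun x => (IsFractionRing.lift_algebraMap hinj x).symm)
  have hftF : Algebra.FiniteType F K := Algebra.FiniteType.of_restrictScalars_finiteType B F K
  have hfin : Module.Finite F K := finite_of_finite_type_of_isJacobsonRing F K
  have halg : ∀ x : K, IsAlgebraic B x := by
    intro x
    rw [IsFractionRing.isAlgebraic_iff B F K]
    exact (Algebra.IsIntegral.of_finite F K).isIntegral x |>.isAlgebraic
  have hy : ∀ x : K, ∃ y : B, y ≠ 0 ∧ IsIntegral B (y • x) := fun x =>
    (halg x).exists_integral_multiple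
  choose y hy0 hyint using hy
  set f : B := ∏ x ∈ s, y x with hfdef
  have hf : f ≠ 0 := Finset.prod_ne_zero_iff.mpr (fun x _ => hy0 x)
  refine ⟨f, hf, ?_⟩
  have hle : Submonoid.powers f ≤ nonZeroDivisors B := powers_le_nonZeroDivisors_of_noZeroDivisors hf
  have hfK : IsUnit (algebraMap B K f) := by
    rw [isUnit_iff_ne_zero, Ne, map_eq_zero_iff _ hinj]
    exact hf
  let algLK : Algebra (Localization.Away f) K := (IsLocalization.Away.lift f hfK).toAlgebra
  have htower' : IsScalarTower B (Localization.Away f) K :=
    IsScalarTower.of_algebraMap_eq (fun x => (IsLocalization.Away.lift_eq f hfK x).symm)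
  have hinjL : Function.Injective (algebraMap (Localization.Away f) K) := by
    show Function.Injective (IsLocalization.lift (M := Submonoid.powers f) _)
    rw [IsLocalization.lift_injective_iff]
    intro a b
    rw [(IsLocalization.injective (M := Submonoid.powers f) (Localization.Away f) hle).eq_iff,
      hinj.eq_iff]
  -- every element of `K` is integral over `B_f`
  have hint : Algebra.IsIntegral (Localization.Away f) K := by
    have hsub : (s : Set K) ⊆ (integralClosure (Localization.Away f) K : Set K) := by
      intro x hx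
      -- `y x` is a unit of `B_f`
      have hdvd : y x ∣ f := Finset.dvd_prod_of_mem y hx
      have hunit : IsUnit (algebraMap B (Localization.Away f) (y x)) := by
        have hfu : IsUnit (algebraMap B (Localization.Away f) f) :=
          IsLocalization.map_units _ (⟨_, Submonoid.mem_powers _⟩ : Submonoid.powers f)
        obtain ⟨c, hc⟩ := hdvd
        have h3 : algebraMap B (Localization.Away f) f =
            algebraMap B (Localization.Away f) (y x) * algebraMap B (Localization.Away f) c := by
          rw [← map_mul, ← hc]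
        rw [h3] at hfu
        exact isUnit_of_mul_isUnit_left hfu
      obtain ⟨u, hu⟩ := hunit
      have h1 : IsIntegral (Localization.Away f) (y x • x) := (hyint x).tower_top
      have h2 : x = (↑u⁻¹ : Localization.Away f) • (y x • x) := by
        rw [← algebraMap_smul (Localization.Away f) (y x) x, ← hu, smul_smul, Units.inv_mul, one_smul]
      show IsIntegral (Localization.Away f) x
      rw [h2]
      exact h1.smul _
    have hadj : Algebra.adjoin (Localization.Away f) (s : Set K) = ⊤ := by
      rw [eq_top_iff]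
      rintro z -
      have hz : z ∈ Algebra.adjoin B (s : Set K) := by rw [hs]; trivial
      induction hz using Algebra.adjoin_induction with
      | mem x hx => exact Algebra.subset_adjoin hx
      | algebraMap r =>
        rw [IsScalarTower.algebraMap_apply B (Localization.Away f) K]
        exact Subalgebra.algebraMap_mem _ _
      | add x y _ _ hx hy => exact Subalgebra.add_mem _ hx hy
      | mul x y _ _ hx hy => exact Subalgebra.mul_mem _ hx hy
    have hle' : Algebra.adjoin (Localization.Away f) (s : Set K) ≤
        integralClosure (Localization.Away f) K := Algebra.adjoin_le hsub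
    rw [hadj] at hle'
    exact ⟨fun z => hle' (Algebra.mem_top)⟩
  exact isField_of_isIntegral_of_isField hinjL (Field.toIsField K)

section Noetherian

variable [IsNoetherianRing B]

/-- In a Noetherian domain in which every nonzero prime contains `f ≠ 0`, every nonzero prime is a
minimal prime over `(f)`. -/
theorem mem_minimalPrimes_span_of_ne_bot {f : B} (hf : f ≠ 0)
    (h : ∀ q : Ideal B, q.IsPrime → f ∉ q → q = ⊥) {p : Ideal B} (hp : p.IsPrime) (hp0 : p ≠ ⊥) :
    p ∈ (Ideal.span {f}).minimalPrimes := by
  classical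
  have hfp : f ∈ p := by
    by_contra hfp
    exact hp0 (h p hp hfp)
  have hle : Ideal.span {f} ≤ p := (Ideal.span_singleton_le_iff_mem p).mpr hfp
  obtain ⟨p', hp', hp'p⟩ := Ideal.exists_minimalPrimes_le hle
  by_contra hpmin
  have hne : p' ≠ p := fun h' => hpmin (h' ▸ hp')
  have hlt : p' < p := lt_of_le_of_ne hp'p hne
  have hfin := Ideal.finite_minimalPrimes_of_isNoetherianRing B (Ideal.span {f})
  -- prime avoidance
  have hnot : ¬ ((p : Set B) ⊆ ⋃ q ∈ (↑hfin.toFinset : Set (Ideal B)), (q : Set B)) := by
    rw [Ideal.subset_union_prime (f := fun q : Ideal B => q) ⊥ ⊥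
      (fun q hq _ _ => ((hfin.mem_toFinset).mp hq).1.1)]
    rintro ⟨q, hq, hpq⟩
    rw [hfin.mem_toFinset] at hq
    have hq' : q ≤ p' := hq.2 ⟨hp'.1.1, hp'.1.2⟩ (hp'p.trans hpq)
    exact absurd (le_antisymm (hpq.trans hq') hp'p) (Ne.symm hne)
  obtain ⟨x, hxp, hx⟩ := Set.not_subset.mp hnot
  have hx' : ∀ q ∈ (Ideal.span {f}).minimalPrimes, x ∉ q := by
    intro q hq hxq
    apply hx
    simp only [Set.mem_iUnion]
    exact ⟨q, by simpa using hq, hxq⟩
  have hx0 : x ≠ 0 := by
    rintro rfl
    exact hx' p' hp' (Ideal.zero_mem _)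
  have hlex : Ideal.span {x} ≤ p := (Ideal.span_singleton_le_iff_mem p).mpr hxp
  obtain ⟨p'', hp'', hp''p⟩ := Ideal.exists_minimalPrimes_le hlex
  have hp''prime : p''.IsPrime := hp''.1.1
  have hxp'' : x ∈ p'' := hp''.1.2 (Ideal.mem_span_singleton_self x)
  have hht : p''.height ≤ 1 :=
    Ideal.height_le_one_of_isPrincipal_of_mem_minimalPrimes (Ideal.span {x}) p'' hp''
  have hp''0 : p'' ≠ ⊥ := by
    rintro rfl
    exact hx0 ((Ideal.mem_bot).mp hxp'')
  have hfp'' : f ∈ p'' := by
    by_contra hfp''
    exact hp''0 (h p'' hp''prime hfp'')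
  obtain ⟨q, hq, hqp''⟩ := Ideal.exists_minimalPrimes_le
    ((Ideal.span_singleton_le_iff_mem p'').mpr hfp'')
  have hqprime : q.IsPrime := hq.1.1
  have hq0 : q ≠ ⊥ := by
    rintro rfl
    have : f ∈ (⊥ : Ideal B) := hq.1.2 (Ideal.mem_span_singleton_self f)
    exact hf ((Ideal.mem_bot).mp this)
  have hqeq : q = p'' := by
    by_contra hqne
    have hlt' : q < p'' := lt_of_le_of_ne hqp'' hqne
    have h0q : (⊥ : Ideal B) < q := bot_lt_iff_ne_bot.mpr hq0
    have hbp : (⊥ : Ideal B).IsPrime := Ideal.isPrime_bot
    have h1 := Ideal.height_add_one_le_of_lt_of_isPrime h0q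
    have h2 := Ideal.height_add_one_le_of_lt_of_isPrime hlt'
    have h3 : (1 : ℕ∞) + 1 ≤ 1 := by
      calc (1 : ℕ∞) + 1 ≤ ((⊥ : Ideal B).height + 1) + 1 := by
            gcongr; exact le_add_self
        _ ≤ q.height + 1 := by gcongr
        _ ≤ p''.height := h2
        _ ≤ 1 := hht
    exact absurd h3 (by decide)
  exact hx' q hq (hqeq ▸ hxp'')

theorem finite_primeSpectrum_of {f : B} (hf : f ≠ 0)
    (h : ∀ q : Ideal B, q.IsPrime → f ∉ q → q = ⊥) : Finite (PrimeSpectrum B) := by
  classical
  have hfin := Ideal.finite_minimalPrimes_of_isNoetherianRing B (Ideal.span {f})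
  have hT : (insert ⊥ (Ideal.span {f}).minimalPrimes : Set (Ideal B)).Finite := hfin.insert ⊥
  have : Finite ↑(insert ⊥ (Ideal.span {f}).minimalPrimes : Set (Ideal B)) := hT.to_subtype
  let φ : PrimeSpectrum B → ↑(insert ⊥ (Ideal.span {f}).minimalPrimes : Set (Ideal B)) := fun p =>
    ⟨p.asIdeal, by
      by_cases hp0 : p.asIdeal = ⊥
      · exact Or.inl hp0
      · exact Or.inr (mem_minimalPrimes_span_of_ne_bot hf h p.2 hp0)⟩
  apply Finite.of_injective φ
  intro p q hpq
  exact PrimeSpectrum.ext (congrArg Subtype.val hpq)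

theorem ringKrullDim_le_one_of {f : B} (hf : f ≠ 0)
    (h : ∀ q : Ideal B, q.IsPrime → f ∉ q → q = ⊥) : ringKrullDim B ≤ 1 := by
  rw [ringKrullDim_le_iff_height_le]
  intro p hp
  by_cases hp0 : p = ⊥
  · subst hp0
    rw [Ideal.height_bot]
    exact zero_le_one
  · have := Ideal.height_le_one_of_isPrincipal_of_mem_minimalPrimes (Ideal.span {f}) p
      (mem_minimalPrimes_span_of_ne_bot hf h hp hp0)
    exact_mod_cast this

end Noetherian

/-- In a domain with finite spectrum some nonzero element lies in every nonzero prime. -/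
theorem exists_of_finite_primeSpectrum [Finite (PrimeSpectrum B)] :
    ∃ f : B, f ≠ 0 ∧ ∀ q : Ideal B, q.IsPrime → f ∉ q → q = ⊥ := by
  classical
  have : Fintype (PrimeSpectrum B) := Fintype.ofFinite _
  have hg : ∀ q : PrimeSpectrum B, ∃ g : B, g ≠ 0 ∧ (q.asIdeal ≠ ⊥ → g ∈ q.asIdeal) := by
    intro q
    by_cases hq : q.asIdeal = ⊥
    · exact ⟨1, one_ne_zero, fun h => absurd hq h⟩
    · obtain ⟨g, hgq, hg0⟩ := Submodule.exists_mem_ne_zero_of_ne_bot hq
      exact ⟨g, hg0, fun _ => hgq⟩
  choose g hg0 hgq using hg
  refine ⟨∏ q : PrimeSpectrum B, g q, Finset.prod_ne_zero_iff.mpr (fun q _ => hg0 q), ?_⟩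
  intro q hq hf
  by_contra hq0
  apply hf
  have hdvd : g ⟨q, hq⟩ ∣ ∏ q : PrimeSpectrum B, g q := Finset.dvd_prod_of_mem g (Finset.mem_univ _)
  exact Ideal.mem_of_dvd q hdvd (hgq ⟨q, hq⟩ hq0)

/-- A semi-local domain of dimension at most one has finite spectrum. -/
theorem finite_primeSpectrum_of_finite_maximalSpectrum [Finite (MaximalSpectrum B)]
    (hdim : ringKrullDim B ≤ 1) : Finite (PrimeSpectrum B) := by
  classical
  have hmax : ∀ p : Ideal B, p.IsPrime → p ≠ ⊥ → p.IsMaximal := by
    intro p hp hp0
    obtain ⟨m, hm, hpm⟩ := Ideal.exists_le_maximal p hp.ne_top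
    by_contra hpmax
    have hne : p ≠ m := fun h' => hpmax (h' ▸ hm)
    have hlt : p < m := lt_of_le_of_ne hpm hne
    have h0p : (⊥ : Ideal B) < p := bot_lt_iff_ne_bot.mpr hp0
    have hbp : (⊥ : Ideal B).IsPrime := Ideal.isPrime_bot
    have hmp : m.IsPrime := hm.isPrime
    have h1 := Ideal.height_add_one_le_of_lt_of_isPrime h0p
    have h2 := Ideal.height_add_one_le_of_lt_of_isPrime hlt
    have h3 : (m.height : WithBot ℕ∞) ≤ 1 := (Ideal.height_le_ringKrullDim_of_isPrime).trans hdim
    have h3' : m.height ≤ 1 := by exact_mod_cast h3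
    have h4 : (1 : ℕ∞) + 1 ≤ 1 := by
      calc (1 : ℕ∞) + 1 ≤ ((⊥ : Ideal B).height + 1) + 1 := by
            gcongr; exact le_add_self
        _ ≤ p.height + 1 := by gcongr
        _ ≤ m.height := h2
        _ ≤ 1 := h3'
    exact absurd h4 (by decide)
  let φ : PrimeSpectrum B → Option (MaximalSpectrum B) := fun p =>
    if hp0 : p.asIdeal = ⊥ then none else some ⟨p.asIdeal, hmax p.asIdeal p.2 hp0⟩
  apply Finite.of_injective φ
  intro p q hpq
  by_cases hp0 : p.asIdeal = ⊥ <;> by_cases hq0 : q.asIdeal = ⊥
  · exact PrimeSpectrum.ext (hp0.trans hq0.symm)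
  · simp [φ, hp0, hq0] at hpq
  · simp [φ, hp0, hq0] at hpq
  · simp only [φ, hp0, hq0, dite_false, Option.some.injEq] at hpq
    exact PrimeSpectrum.ext (congrArg MaximalSpectrum.asIdeal hpq)

end Groth.Agent.Helper8.Goldman
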