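import Groth.Agent.Lib.Helper8.LCLes3
import Groth.Agent.Lib.Helper8.LCFlat2
import Groth.Agent.Lib.Helper8.LCLoc
import Groth.Agent.Lib.Helper8.LCLoc2
import Groth.Agent.Lib.Helper8.LCRad
import Mathlib.RingTheory.Localization.BaseChange

/-!
# Comparison `H^i_{I'}(M) → H^i_I(M)` under punctual vanishing (helper8)

If `H^i_{m_p}(M_p) = 0` for every prime `p ⊇ I` with `p ⊉ I'`, then `H^i_{I'}(M) → H^i_I(M)` is
surjective and `H^{i+1}_{I'}(M) → H^{i+1}_I(M)` is injective.
-/

open CategoryTheory CategoryTheory.Limits Opposite Abelian IsLocalRing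
universe u

namespace Groth.Agent.Helper8.LC

variable {R : Type u} [CommRing R] [IsNoetherianRing R]

/-- the punctual vanishing hypothesis at a prime -/
def PunctVanish (N : Type u) [AddCommGroup N] [Module R N] (i : ℕ) (p : Ideal R) [p.IsPrime] :
    Prop :=
  Subsingleton (H (maximalIdeal (Localization.AtPrime p)) i (LocalizedModule p.primeCompl N))

theorem radical_map_eq_of_mem_minimalPrimes (J p : Ideal R) [p.IsPrime]
    (hp : p ∈ J.minimalPrimes) :
    (J.map (algebraMap R (Localization.AtPrime p))).radical =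
      (maximalIdeal (Localization.AtPrime p)).radical := by
  apply le_antisymm
  · apply Ideal.radical_mono
    rw [Ideal.map_le_iff_le_comap]
    have h0 : (maximalIdeal (Localization.AtPrime p)).comap (algebraMap R (Localization.AtPrime p))
        = p := IsLocalization.AtPrime.under_maximalIdeal (Localization.AtPrime p) p
    rw [h0]
    exact hp.1.2
  · rw [Ideal.radical_le_radical_iff]
    exact maximalIdeal_le_radical_map_of_mem_minimalPrimes J p hp

/-- at a minimal prime `p` of `J` with `H^i_{m_p}(N_p) = 0`, every class of `H^i_J(N)` is killed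
by some `s ∉ p` -/
theorem exists_smul_eq_zero_of_mem_minimalPrimes (J p : Ideal R) [p.IsPrime]
    (hp : p ∈ J.minimalPrimes) (N : Type u) [AddCommGroup N] [Module R N] (i : ℕ)
    (hv : PunctVanish N i p) (y : H J i N) : ∃ s : R, s ∉ p ∧ s • y = 0 := by
  have hN : IsNoetherianRing (Localization.AtPrime p) :=
    IsLocalization.isNoetherianRing p.primeCompl _ inferInstance
  have hF : Module.Flat R (Localization.AtPrime p) := IsLocalization.flat _ p.primeCompl
  obtain ⟨e⟩ := exists_equiv_baseChange (R' := Localization.AtPrime p) J i (RMod.mk N)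
  have e1 : TensorProduct R (Localization.AtPrime p) (H J i N) ≃ₗ[Localization.AtPrime p]
      LocalizedModule p.primeCompl (H J i N) :=
    (LocalizedModule.isBaseChange p.primeCompl (H J i N)).equiv
  have hv' : Subsingleton (H (maximalIdeal (Localization.AtPrime p)) i
      (LocalizedModule p.primeCompl N)) := hv
  have h0 : Subsingleton (H (maximalIdeal (Localization.AtPrime p)) i
      (TensorProduct R (Localization.AtPrime p) N)) :=
    (Hcongr (maximalIdeal (Localization.AtPrime p)) i
      (localizedModuleEquivTensor p.primeCompl N)).toEquiv.subsingleton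
  have h1 : Subsingleton (H (J.map (algebraMap R (Localization.AtPrime p))) i
      (TensorProduct R (Localization.AtPrime p) N)) :=
    H_subsingleton_of_radical_eq (radical_map_eq_of_mem_minimalPrimes J p hp) i _ h0
  have h2 : Subsingleton (TensorProduct R (Localization.AtPrime p) (H J i N)) :=
    e.injective.subsingleton
  have h3 : Subsingleton (LocalizedModule p.primeCompl (H J i N)) :=
    e1.symm.injective.subsingleton
  have h4 : LocalizedModule.mk y (1 : p.primeCompl) = LocalizedModule.mk 0 (1 : p.primeCompl) :=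
    Subsingleton.elim _ _
  rw [LocalizedModule.mk_eq] at h4
  obtain ⟨u, hu⟩ := h4
  refine ⟨u.1, u.2, ?_⟩
  rw [smul_zero, smul_zero, one_smul] at hu
  exact hu

/-- if `H^i_{m_p}(N_p) = 0` for all primes `p ⊇ J` with `b ∉ p`, then `H^i_J(N)` is
`b`-power torsion -/
theorem exists_pow_smul_eq_zero_of_forall_prime (b : R) (N : Type u) [AddCommGroup N] [Module R N]
    (i : ℕ) : ∀ J : Ideal R,
      (∀ (p : Ideal R) [p.IsPrime], J ≤ p → b ∉ p → PunctVanish N i p) →
      ∀ y : H J i N, ∃ n : ℕ, b ^ n • y = 0 := by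
  intro J
  refine IsNoetherian.induction (P := fun J : Ideal R =>
      (∀ (p : Ideal R) [p.IsPrime], J ≤ p → b ∉ p → PunctVanish N i p) →
      ∀ y : H J i N, ∃ n : ℕ, b ^ n • y = 0) ?_ J
  · intro (J : Ideal R) IH hyp y
    by_cases hb : b ∈ Ideal.radical J
    · obtain ⟨k, hk⟩ := hb
      obtain ⟨n, hn⟩ := H_exists_pow_smul_eq_zero J i N y
      refine ⟨k * n, ?_⟩
      rw [pow_mul]
      exact hn _ (Ideal.pow_mem_pow hk n)
    · rw [← Ideal.sInf_minimalPrimes, Submodule.mem_sInf] at hb
      push Not at hb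
      obtain ⟨p, hp, hbp⟩ : ∃ p : Ideal R, p ∈ J.minimalPrimes ∧ b ∉ p := hb
      have : p.IsPrime := hp.1.1
      obtain ⟨s, hsp, hsy⟩ := exists_smul_eq_zero_of_mem_minimalPrimes J p hp N i
        (hyp p hp.1.2 hbp) y
      have hy : y ∈ LinearMap.range (Hθ (le_sup_left : J ≤ J ⊔ Ideal.span {s}) i N) := by
        rw [mem_range_Hθ_sup_iff]
        exact ⟨1, by rw [pow_one]; exact hsy⟩
      obtain ⟨y', rfl⟩ := hy
      have hlt : J < J ⊔ Ideal.span {s} := by
        refine lt_of_le_of_ne le_sup_left ?_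
        intro heq
        apply hsp
        apply hp.1.2
        rw [heq]
        exact Ideal.mem_sup_right (Ideal.subset_span rfl)
      obtain ⟨n, hn⟩ := IH (J ⊔ Ideal.span {s}) hlt
        (fun q _ hq hbq => hyp q (le_sup_left.trans hq) hbq) y'
      refine ⟨n, ?_⟩
      rw [← map_smul, hn, map_zero]

/-- one step: `H^i_{J+(b)}(N) → H^i_J(N)` is surjective under punctual vanishing -/
theorem Hθ_sup_surjective_of_punctVanish (J : Ideal R) (b : R) (N : Type u) [AddCommGroup N]
    [Module R N] (i : ℕ)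
    (hyp : ∀ (p : Ideal R) [p.IsPrime], J ≤ p → b ∉ p → PunctVanish N i p) :
    Function.Surjective (Hθ (le_sup_left : J ≤ J ⊔ Ideal.span {b}) i N) := by
  intro y
  have hy : y ∈ LinearMap.range (Hθ (le_sup_left : J ≤ J ⊔ Ideal.span {b}) i N) := by
    rw [mem_range_Hθ_sup_iff]
    exact exists_pow_smul_eq_zero_of_forall_prime b N i J hyp y
  exact hy

/-- one step: `H^{i+1}_{J+(b)}(N) → H^{i+1}_J(N)` is injective under punctual vanishing in
degree `i` -/
theorem Hθ_sup_injective_of_punctVanish (J : Ideal R) (b : R) (N : Type u) [AddCommGroup N]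
    [Module R N] (i : ℕ)
    (hyp : ∀ (p : Ideal R) [p.IsPrime], J ≤ p → b ∉ p → PunctVanish N i p) :
    Function.Injective (Hθ (le_sup_left : J ≤ J ⊔ Ideal.span {b}) (i + 1) N) := by
  obtain ⟨e⟩ := nonempty_coker_mkLinearMap_equiv_ker_Hθ J b N i
  have h1 : Subsingleton (LocalizedModule (Submonoid.powers b) (H J i N)) := by
    refine ⟨fun z w => ?_⟩
    have hz : ∀ z : LocalizedModule (Submonoid.powers b) (H J i N), z = 0 := by
      intro z
      obtain ⟨n, m, hnm⟩ := exists_pow_smul_eq_mk b z
      have hm : LocalizedModule.mkLinearMap (Submonoid.powers b) (H J i N) m = 0 := by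
        rw [mkLinearMap_eq_zero_iff]
        exact exists_pow_smul_eq_zero_of_forall_prime b N i J hyp m
      rw [hm] at hnm
      apply pow_smul_injective_localizedModule b n
      change b ^ n • z = b ^ n • 0
      rw [hnm, smul_zero]
    rw [hz z, hz w]
  have h2 : Subsingleton (LocalizedModule (Submonoid.powers b) (H J i N) ⧸
      LinearMap.range (LocalizedModule.mkLinearMap (Submonoid.powers b) (H J i N))) :=
    (Submodule.Quotient.mk_surjective _).subsingleton
  have h3 : Subsingleton (LinearMap.ker (Hθ (le_sup_left : J ≤ J ⊔ Ideal.span {b}) (i + 1) N)) :=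
    e.symm.injective.subsingleton
  rw [← LinearMap.ker_eq_bot]
  exact Submodule.eq_bot_of_subsingleton

theorem lt_sup_span_of_notMem {J : Ideal R} {b : R} (hb : b ∉ J) : J < J ⊔ Ideal.span {b} := by
  refine lt_of_le_of_ne le_sup_left ?_
  intro heq
  apply hb
  rw [heq]
  exact Ideal.mem_sup_right (Ideal.subset_span rfl)

/-- `H^i_{I'}(M) → H^i_I(M)` is surjective if `H^i_{m_p}(M_p) = 0` for all primes `p ⊇ I`,
`p ⊉ I'` -/
theorem Hθ_surjective_of_punctVanish {I I' : Ideal R} (h : I ≤ I') (M : Type u) [AddCommGroup M]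
    [Module R M] (i : ℕ)
    (hyp : ∀ (p : Ideal R) [p.IsPrime], I ≤ p → ¬ I' ≤ p → PunctVanish M i p) :
    Function.Surjective (Hθ h i M) := by
  have key : ∀ J : Ideal R, ∀ (hIJ : I ≤ J) (_ : J ≤ I'),
      Function.Surjective (Hθ hIJ i M) → Function.Surjective (Hθ h i M) := by
    intro J
    refine IsNoetherian.induction (P := fun J : Ideal R => ∀ (hIJ : I ≤ J) (_ : J ≤ I'),
      Function.Surjective (Hθ hIJ i M) → Function.Surjective (Hθ h i M)) ?_ J
    intro (J : Ideal R) IH hIJ hJI' hs
    by_cases heq : J = I'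
    · subst heq
      exact hs
    · have hlt : J < I' := lt_of_le_of_ne hJI' heq
      obtain ⟨b, hbI', hbJ⟩ := SetLike.exists_of_lt hlt
      refine IH (J ⊔ Ideal.span {b}) (lt_sup_span_of_notMem hbJ) (hIJ.trans le_sup_left)
        (sup_le hJI' (by rw [Ideal.span_le]; simpa using hbI')) ?_
      have h1 := Hθ_sup_surjective_of_punctVanish J b M i
        (fun p _ hJp hbp => hyp p (hIJ.trans hJp) (fun hI'p => hbp (hI'p hbI')))
      intro y
      obtain ⟨y1, rfl⟩ := hs y
      obtain ⟨y2, rfl⟩ := h1 y1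
      exact ⟨y2, (Hθ_comp hIJ i M le_sup_left y2).symm⟩
  refine key (I ⊔ Ideal.span {0}) le_sup_left (sup_le h (by simp)) ?_
  exact Hθ_sup_surjective_of_punctVanish I 0 M i (fun p _ _ h0 => absurd (zero_mem p) h0)

/-- `H^{i+1}_{I'}(M) → H^{i+1}_I(M)` is injective if `H^i_{m_p}(M_p) = 0` for all primes `p ⊇ I`,
`p ⊉ I'` -/
theorem Hθ_injective_of_punctVanish {I I' : Ideal R} (h : I ≤ I') (M : Type u) [AddCommGroup M]
    [Module R M] (i : ℕ)
    (hyp : ∀ (p : Ideal R) [p.IsPrime], I ≤ p → ¬ I' ≤ p → PunctVanish M i p) :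
    Function.Injective (Hθ h (i + 1) M) := by
  have key : ∀ J : Ideal R, ∀ (hIJ : I ≤ J) (_ : J ≤ I'),
      Function.Injective (Hθ hIJ (i + 1) M) → Function.Injective (Hθ h (i + 1) M) := by
    intro J
    refine IsNoetherian.induction (P := fun J : Ideal R => ∀ (hIJ : I ≤ J) (_ : J ≤ I'),
      Function.Injective (Hθ hIJ (i + 1) M) → Function.Injective (Hθ h (i + 1) M)) ?_ J
    intro (J : Ideal R) IH hIJ hJI' hs
    by_cases heq : J = I'
    · subst heq
      exact hs
    · have hlt : J < I' := lt_of_le_of_ne hJI' heq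
      obtain ⟨b, hbI', hbJ⟩ := SetLike.exists_of_lt hlt
      refine IH (J ⊔ Ideal.span {b}) (lt_sup_span_of_notMem hbJ) (hIJ.trans le_sup_left)
        (sup_le hJI' (by rw [Ideal.span_le]; simpa using hbI')) ?_
      have h1 := Hθ_sup_injective_of_punctVanish J b M i
        (fun p _ hJp hbp => hyp p (hIJ.trans hJp) (fun hI'p => hbp (hI'p hbI')))
      intro y y' hyy
      rw [← Hθ_comp hIJ (i + 1) M le_sup_left y, ← Hθ_comp hIJ (i + 1) M le_sup_left y'] at hyy
      exact h1 (hs hyy)
  refine key (I ⊔ Ideal.span {0}) le_sup_left (sup_le h (by simp)) ?_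
  exact Hθ_sup_injective_of_punctVanish I 0 M i (fun p _ _ h0 => absurd (zero_mem p) h0)

end Groth.Agent.Helper8.LC
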