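import Groth.Agent.Lib.Helper8.LCGNV
import Groth.Agent.Lib.Helper8.LCPunct
import Mathlib.RingTheory.Ideal.Height
import Groth.Agent.Lib.Helper8.LCIndep

/-!
# Consequences of Grothendieck's non-vanishing theorem (helper8)

* `H^h_I(R) ≠ 0` for `h = ht I`.
-/

open CategoryTheory CategoryTheory.Limits Opposite Abelian IsLocalRing
open scoped TensorProduct
universe u

namespace Groth.Agent.Helper8.LC

variable {R : Type u} [CommRing R] [IsNoetherianRing R]

/-- non-vanishing can be tested after localization -/
theorem nontrivial_H_of_localization (I p : Ideal R) [p.IsPrime] (i : ℕ) (M : Type u)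
    [AddCommGroup M] [Module R M]
    (h : Nontrivial (H (I.map (algebraMap R (Localization.AtPrime p))) i
      (Localization.AtPrime p ⊗[R] M))) : Nontrivial (H I i M) := by
  have hN : IsNoetherianRing (Localization.AtPrime p) :=
    IsLocalization.isNoetherianRing p.primeCompl _ inferInstance
  have hF : Module.Flat R (Localization.AtPrime p) := IsLocalization.flat _ p.primeCompl
  obtain ⟨e⟩ := exists_equiv_baseChange (R' := Localization.AtPrime p) I i (RMod.mk M)
  by_contra hcon
  rw [not_nontrivial_iff_subsingleton] at hcon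
  have h1 : Subsingleton (Localization.AtPrime p ⊗[R] H I i M) := inferInstance
  have h2 : Subsingleton (H (I.map (algebraMap R (Localization.AtPrime p))) i
      (Localization.AtPrime p ⊗[R] M)) := e.symm.injective.subsingleton
  exact not_subsingleton _ h2

/-- a minimal prime realising the height -/
theorem exists_minimalPrimes_height_eq' (I : Ideal R) (h : ℕ) (hh : I.height = h) :
    ∃ q ∈ I.minimalPrimes, q.height = h := by
  have h1 : ∃ q ∈ I.minimalPrimes, q.height ≤ h := by
    by_contra hcon
    push Not at hcon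
    have h2 : ((h + 1 : ℕ) : ℕ∞) ≤ I.height := by
      rw [Ideal.height_eq_inf_minimalPrimes]
      refine le_iInf₂ fun q hq => ?_
      have := hcon q hq
      exact Order.add_one_le_of_lt this
    rw [hh] at h2
    have : h + 1 ≤ h := by exact_mod_cast h2
    omega
  obtain ⟨q, hq, hle⟩ := h1
  have hge : I.height ≤ q.height := by
    rw [Ideal.height_eq_inf_minimalPrimes]
    exact iInf₂_le q hq
  rw [hh] at hge
  exact ⟨q, hq, le_antisymm hle hge⟩

/-- `H^h_I(R) ≠ 0` for `h = ht I` -/
theorem nontrivial_H_height (I : Ideal R) (h : ℕ) (hh : I.height = h) :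
    Nontrivial (H I h R) := by
  obtain ⟨p, hp, hph⟩ := exists_minimalPrimes_height_eq' I h hh
  have : p.IsPrime := hp.1.1
  have hN : IsNoetherianRing (Localization.AtPrime p) :=
    IsLocalization.isNoetherianRing p.primeCompl _ inferInstance
  apply nontrivial_H_of_localization I p h R
  have hdim : Module.supportDim (Localization.AtPrime p) (Localization.AtPrime p) =
      (h : WithBot ℕ∞) := by
    rw [Module.supportDim_self_eq_ringKrullDim,
      IsLocalization.AtPrime.ringKrullDim_eq_height p (Localization.AtPrime p), hph]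
    rfl
  have h1 : Nontrivial (H (maximalIdeal (Localization.AtPrime p)) h (Localization.AtPrime p)) :=
    nontrivial_H_of_supportDim_eq h _ hdim
  obtain ⟨e⟩ := nonempty_H_equiv_of_radical_eq (radical_map_eq_of_mem_minimalPrimes I p hp) h
    (Localization.AtPrime p)
  have h2 : Nontrivial (H (I.map (algebraMap R (Localization.AtPrime p))) h
      (Localization.AtPrime p)) := e.toEquiv.nontrivial
  exact (Hcongr (I.map (algebraMap R (Localization.AtPrime p))) h
    (TensorProduct.AlgebraTensorModule.rid R (Localization.AtPrime p)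
      (Localization.AtPrime p))).toEquiv.nontrivial

/-- if `p + I` is `m`-primary and `dim R/p = d`, then `H^d_I(R/p) ≠ 0` -/
theorem nontrivial_H_quotient_prime [IsLocalRing R] (I p : Ideal R) [p.IsPrime]
    (hpI : (p ⊔ I).radical = maximalIdeal R) (d : ℕ) (hd : ringKrullDim (R ⧸ p) = d) :
    Nontrivial (H I d (R ⧸ p)) := by
  have hloc : IsLocalRing (R ⧸ p) :=
    IsLocalRing.of_surjective' (Ideal.Quotient.mk p) Ideal.Quotient.mk_surjective
  obtain ⟨e⟩ := exists_equiv_base I d (BMod.mk (R := R) (R' := R ⧸ p) (R ⧸ p))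
  have hdim : Module.supportDim (R ⧸ p) (R ⧸ p) = (d : WithBot ℕ∞) := by
    rw [Module.supportDim_self_eq_ringKrullDim, hd]
  have h1 : Nontrivial (H (maximalIdeal (R ⧸ p)) d (R ⧸ p)) :=
    nontrivial_H_of_supportDim_eq d _ hdim
  have hrad : (I.map (algebraMap R (R ⧸ p))).radical = (maximalIdeal (R ⧸ p)).radical := by
    apply le_antisymm
    · apply Ideal.radical_mono
      apply le_maximalIdeal
      intro htop
      have h2 : (I.map (algebraMap R (R ⧸ p))).comap (algebraMap R (R ⧸ p)) = ⊤ := by
        rw [htop]; rfl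
      have h3 : (I.map (algebraMap R (R ⧸ p))).comap (algebraMap R (R ⧸ p)) = I ⊔ p := by
        change (I.map (Ideal.Quotient.mk p)).comap (Ideal.Quotient.mk p) = I ⊔ p
        rw [Ideal.comap_map_of_surjective _ Ideal.Quotient.mk_surjective,
          ← RingHom.ker_eq_comap_bot, Ideal.mk_ker]
      rw [h3, sup_comm] at h2
      have h4 : (p ⊔ I).radical = ⊤ := by rw [h2, Ideal.radical_top]
      rw [hpI] at h4
      exact (maximalIdeal.isMaximal R).ne_top h4
    · rw [Ideal.radical_le_radical_iff]
      intro x' hx'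
      obtain ⟨x, rfl⟩ := Ideal.Quotient.mk_surjective x'
      have hxm : x ∈ maximalIdeal R := by
        rw [mem_maximalIdeal, mem_nonunits_iff]
        intro hu
        exact hx' (hu.map (Ideal.Quotient.mk p))
      rw [← hpI] at hxm
      obtain ⟨k, hk⟩ := hxm
      obtain ⟨a, ha, b, hb, hab⟩ := Submodule.mem_sup.mp hk
      refine ⟨k, ?_⟩
      rw [← map_pow, ← hab, map_add, Ideal.Quotient.eq_zero_iff_mem.mpr ha, zero_add]
      exact Ideal.mem_map_of_mem _ hb
  obtain ⟨e2⟩ := nonempty_H_equiv_of_radical_eq hrad d (R ⧸ p)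
  have h2 : Nontrivial (H (I.map (algebraMap R (R ⧸ p))) d (R ⧸ p)) := e2.toEquiv.nontrivial
  have h3 : Nontrivial (HA I d (BMod.mk (R := R) (R' := R ⧸ p) (R ⧸ p))) := h2
  exact e.symm.toEquiv.nontrivial

end Groth.Agent.Helper8.LC
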