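import Groth.Agent.Lib.Helper8.Gor4

/-!
# Gorenstein ⇔ local cohomology concentrated in one degree and injective there (helper8)
-/

set_option autoImplicit false
universe u

namespace Groth.Agent.Helper8.Gor

open IsLocalRing CategoryTheory Abelian Groth.Agent.Helper8 Groth.Agent.Helper8.LC
  Groth.Agent.Helper8.Canon

variable (A : Type u) [CommRing A] [IsLocalRing A] [IsNoetherianRing A]

theorem gorenstein_iff_H :
    LocCoh.IsGorensteinLocalRing A ↔ ∃ d : ℕ,
      (∀ i : ℕ, i ≠ d → Subsingleton (H (maximalIdeal A) i A)) ∧
        Module.Injective A (H (maximalIdeal A) d A) := by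
  constructor
  · intro hG
    haveI := hG
    haveI hCM := Groth.Agent.Lead.Depth.isCohenMacaulayLocalRing_of_isGorensteinLocalRing A
    obtain ⟨n, hn⟩ := Groth.Agent.Lead.Depth.exists_nat_ringKrullDim (R := A)
    have hhi := Groth.Agent.Lead.Depth.gorenstein_ext_residueField_subsingleton (R := A) n hn
      (n + 1) le_rfl
    obtain ⟨g, hg⟩ := exists_isInjectiveHull_H hn hhi
    refine ⟨n, fun i hi => ?_, hg.isInjective⟩
    rcases lt_or_gt_of_ne hi with h | h
    · exact H_subsingleton_of_lt_depth A n (depth_eq_of_CM hn) i h
    · exact H_subsingleton_of_ringKrullDim_lt (maximalIdeal A) n hn A i h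
  · rintro ⟨d, hvan, hinj⟩
    obtain ⟨n, hn⟩ := Groth.Agent.Lead.Depth.exists_nat_ringKrullDim (R := A)
    have h1 : Nontrivial (H (maximalIdeal A) n A) :=
      nontrivial_H_of_supportDim_eq n A (by rw [Module.supportDim_self_eq_ringKrullDim, hn])
    have hnd : n = d := by
      by_contra h
      have := hvan n h
      exact not_subsingleton _ this
    obtain ⟨t, ht⟩ := exists_nat_depth_eq (R := A) A
    have h2 : Nontrivial (H (maximalIdeal A) t A) := nontrivial_H_depth A t ht
    have htd : t = d := by
      by_contra h
      have := hvan t h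
      exact not_subsingleton _ this
    subst hnd
    subst htd
    haveI hCM : LocCoh.IsCohenMacaulayLocalRing A :=
      { supportDim_eq_depth := by
          rw [Module.supportDim_self_eq_ringKrullDim, hn, ht]
          rfl }
    exact isGorenstein_of_socle hn (isSimpleModule_socle_of_injective hn hinj)

end Groth.Agent.Helper8.Gor
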