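import Groth.Agent.Lib.Helper8.LCGNV
import Groth.Agent.Lib.Helper8.LCDepth
import Groth.Agent.Lib.Lead.Depth16

/-!
# Depth, dimension and the non-vanishing of `H^i_m(M)` (helper8)
-/

open CategoryTheory CategoryTheory.Limits Opposite Abelian IsLocalRing
open scoped Pointwise
universe u

namespace Groth.Agent.Helper8.LC

variable {R : Type u} [CommRing R] [IsNoetherianRing R] [IsLocalRing R]
variable (M : Type u) [AddCommGroup M] [Module R M] [Module.Finite R M]

omit [IsNoetherianRing R] in
/-- Nakayama: `m M ≠ M` for a nonzero finite module -/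
theorem maximalIdeal_smul_top_ne_top [Nontrivial M] :
    maximalIdeal R • (⊤ : Submodule R M) ≠ ⊤ := by
  intro h
  have h1 : (⊤ : Submodule R M) = ⊥ :=
    Submodule.eq_bot_of_le_smul_of_le_jacobson_bot (maximalIdeal R) _ Module.Finite.fg_top
      (by rw [h]) (IsLocalRing.maximalIdeal_le_jacobson _)
  exact top_ne_bot h1

/-- the dimension of a nonzero finite module over a Noetherian local ring is a natural number -/
theorem exists_nat_supportDim_eq [Nontrivial M] :
    ∃ n : ℕ, Module.supportDim R M = (n : WithBot ℕ∞) := by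
  have h1 : Module.supportDim R M ≠ ⊥ := Module.supportDim_ne_bot_of_nontrivial R M
  have h2 : Module.supportDim R M ≠ ⊤ := by
    intro h
    have h3 := Module.supportDim_le_ringKrullDim R M
    rw [h, top_le_iff] at h3
    exact ringKrullDim_ne_top h3
  induction hd : Module.supportDim R M with
  | bot => exact absurd hd h1
  | coe a =>
    induction a with
    | top => exact absurd hd h2
    | coe n => exact ⟨n, rfl⟩

/-- the depth of a nonzero finite module over a Noetherian local ring is a natural number -/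
theorem exists_nat_depth_eq [Nontrivial M] : ∃ t : ℕ, LocCoh.depth R M = (t : ℕ∞) := by
  have h1 : LocCoh.depth R M ≠ ⊤ :=
    Groth.Agent.Lead.Depth.idealDepth_ne_top (maximalIdeal R) M (maximalIdeal_smul_top_ne_top M)
  induction hd : LocCoh.depth R M with
  | top => exact absurd hd h1
  | coe t => exact ⟨t, rfl⟩

/-- `H^i_m(M) = 0` below the depth -/
theorem H_subsingleton_of_lt_depth (t : ℕ) (ht : LocCoh.depth R M = (t : ℕ∞)) (i : ℕ)
    (hi : i < t) : Subsingleton (H (maximalIdeal R) i M) :=
  (le_idealDepth_iff_H' (maximalIdeal R) t M).mp (le_of_eq ht.symm) i hi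

/-- `H^t_m(M) ≠ 0` for `t = depth M` -/
theorem nontrivial_H_depth (t : ℕ) (ht : LocCoh.depth R M = (t : ℕ∞)) :
    Nontrivial (H (maximalIdeal R) t M) := by
  by_contra hcon
  rw [not_nontrivial_iff_subsingleton] at hcon
  have h1 : ((t + 1 : ℕ) : ℕ∞) ≤ LocCoh.idealDepth (maximalIdeal R) M := by
    rw [le_idealDepth_iff_H']
    intro i hi
    rcases Nat.lt_succ_iff_lt_or_eq.mp hi with h | h
    · exact H_subsingleton_of_lt_depth M t ht i h
    · rw [h]; exact hcon
  have h2 : LocCoh.idealDepth (maximalIdeal R) M = (t : ℕ∞) := ht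
  rw [h2] at h1
  have : t + 1 ≤ t := by exact_mod_cast h1
  omega

/-- `H^i_m(M) ≠ 0` forces `depth M ≤ i ≤ dim M` -/
theorem depth_le_of_nontrivial_H (t : ℕ) (ht : LocCoh.depth R M = (t : ℕ∞)) (i : ℕ)
    (hi : Nontrivial (H (maximalIdeal R) i M)) : t ≤ i := by
  by_contra hcon
  have := H_subsingleton_of_lt_depth M t ht i (by omega)
  exact not_subsingleton _ this

theorem le_dim_of_nontrivial_H (n : ℕ) (hn : Module.supportDim R M = (n : WithBot ℕ∞)) (i : ℕ)
    (hi : Nontrivial (H (maximalIdeal R) i M)) : i ≤ n := by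
  by_contra hcon
  have : Subsingleton (H (maximalIdeal R) i M) := by
    apply H_subsingleton_of_supportDim_lt
    rw [hn]
    exact_mod_cast (by omega : n < i)
  exact not_subsingleton _ this

/-- exactly one nonvanishing `H^i_m(M)` iff `M` is Cohen–Macaulay -/
theorem existsUnique_nontrivial_H_iff [Nontrivial M] :
    (∃! i : ℕ, Nontrivial (H (maximalIdeal R) i M)) ↔ LocCoh.IsCohenMacaulayModule R M := by
  obtain ⟨n, hn⟩ := exists_nat_supportDim_eq (R := R) M
  obtain ⟨t, ht⟩ := exists_nat_depth_eq (R := R) M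
  have hHn := nontrivial_H_of_supportDim_eq n M hn
  have hHt := nontrivial_H_depth M t ht
  unfold LocCoh.IsCohenMacaulayModule
  rw [hn, ht]
  constructor
  · rintro ⟨i, _, hi2⟩
    have h1 : n = i := hi2 n hHn
    have h2 : t = i := hi2 t hHt
    rw [h1, h2]
    rfl
  · intro h
    have hnt : n = t := by exact_mod_cast h
    refine ⟨n, hHn, fun i hi => ?_⟩
    have h1 := depth_le_of_nontrivial_H M t ht i hi
    have h2 := le_dim_of_nontrivial_H M n hn i hi
    omega

end Groth.Agent.Helper8.LC
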