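import Groth.Agent.Lib.Helper8.ExtBC1

/-!
# Flat base change for `Ext` of finite modules over Noetherian rings (helper8)
Part 2: the base change isomorphism.
-/

set_option autoImplicit false
universe u

namespace Groth.Agent.Helper8.ExtBC

open CategoryTheory Abelian Groth.Agent.Helper8 Groth.Agent.Helper8.LC
  Groth.Agent.Helper8.Canon Groth.Agent.Helper8.ExtRep
open scoped TensorProduct

variable {A B : Type u} [CommRing A] [CommRing B] [Algebra A B]

section SES

variable {K P F : Type u} [AddCommGroup K] [Module A K] [AddCommGroup P] [Module A P]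
  [AddCommGroup F] [Module A F] {i : K →ₗ[A] P} {p : P →ₗ[A] F}

theorem isSES_baseChange [Module.Flat A B] (h : IsSES i p) :
    IsSES (i.baseChange B) (p.baseChange B) where
  inj := Module.Flat.lTensor_preserves_injective_linearMap (M := B) i h.inj
  exact := lTensor_exact B h.exact h.surj
  surj := LinearMap.lTensor_surjective B h.surj

end SES

section Main

variable [Module.Flat A B] [IsNoetherianRing A] (N : Type u) [AddCommGroup N] [Module A N]

theorem hom_comm {K P : Type u} [AddCommGroup K] [Module A K] [AddCommGroup P] [Module A P]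
    [Module.FinitePresentation A K] [Module.FinitePresentation A P] (i : K →ₗ[A] P)
    (x : B ⊗[A] (P →ₗ[A] N)) :
    (Module.FinitePresentation.isBaseChange_map A K N B).equiv
        ((LinearMap.lcomp A N i).baseChange B x) =
      LinearMap.lcomp B (B ⊗[A] N) (i.baseChange B)
        ((Module.FinitePresentation.isBaseChange_map A P N B).equiv x) := by
  induction x using TensorProduct.induction_on with
  | zero => simp only [map_zero]
  | tmul b ψ =>
    rw [LinearMap.baseChange_tmul, IsBaseChange.equiv_tmul, IsBaseChange.equiv_tmul]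
    simp only [LinearMap.baseChangeHom_apply, LinearMap.lcomp_apply', map_smul]
    rw [LinearMap.baseChange_comp]
  | add x y hx hy => simp only [map_add, hx, hy]

theorem ext_baseChange : ∀ (r : ℕ) (M : Type u) [AddCommGroup M] [Module A M]
    [Module.Finite A M],
    Nonempty ((B ⊗[A] Ext (ModuleCat.of A M) (ModuleCat.of A N) r) ≃ₗ[B]
      Ext (ModuleCat.of B (B ⊗[A] M)) (ModuleCat.of B (B ⊗[A] N)) r) := by
  intro r
  induction r using Nat.strong_induction_on with
  | _ r ih =>
    intro M _ _ _
    haveI : Module.FinitePresentation A M := Module.finitePresentation_of_finite A M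
    rcases r with _ | r
    · -- degree 0
      exact ⟨LinearEquiv.baseChange A B _ _ (ext0Equiv M N) ≪≫ₗ
        (Module.FinitePresentation.isBaseChange_map A M N B).equiv ≪≫ₗ
        (ext0Equiv (B ⊗[A] M) (B ⊗[A] N)).symm⟩
    · obtain ⟨n, f, hf⟩ := Module.Finite.exists_fin' A M
      have h := isSES_of_surjective hf
      have hB := isSES_baseChange (B := B) h
      haveI : Module.Projective B (B ⊗[A] (Fin n → A)) := inferInstance
      haveI : Module.FinitePresentation A (LinearMap.ker f) :=
        Module.finitePresentation_of_finite A _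
      rcases r with _ | r
      · -- degree 1
        have hg1 : Function.Surjective ((bdry h N).baseChange B) :=
          LinearMap.lTensor_surjective B (bdry_surjective h N)
        have hfg1 : Function.Exact ((LinearMap.lcomp A N (LinearMap.ker f).subtype).baseChange B)
            ((bdry h N).baseChange B) :=
          lTensor_exact B (bdry_exact h N) (bdry_surjective h N)
        let f1 : (B ⊗[A] ((Fin n → A) →ₗ[A] N)) →ₗ[B] (B ⊗[A] ((LinearMap.ker f) →ₗ[A] N)) :=
          (LinearMap.lcomp A N (LinearMap.ker f).subtype).baseChange B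
        let g1 : (B ⊗[A] ((LinearMap.ker f) →ₗ[A] N)) →ₗ[B]
            (B ⊗[A] Ext (ModuleCat.of A M) (ModuleCat.of A N) (0 + 1)) :=
          (bdry h N).baseChange B
        let f1' : ((B ⊗[A] (Fin n → A)) →ₗ[B] (B ⊗[A] N)) →ₗ[B]
            ((B ⊗[A] (LinearMap.ker f)) →ₗ[B] (B ⊗[A] N)) :=
          LinearMap.lcomp B (B ⊗[A] N) ((LinearMap.ker f).subtype.baseChange B)
        let g1' : ((B ⊗[A] (LinearMap.ker f)) →ₗ[B] (B ⊗[A] N)) →ₗ[B]
            Ext (ModuleCat.of B (B ⊗[A] M)) (ModuleCat.of B (B ⊗[A] N)) (0 + 1) :=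
          bdry hB (B ⊗[A] N)
        let e1 : (B ⊗[A] ((Fin n → A) →ₗ[A] N)) ≃ₗ[B] ((B ⊗[A] (Fin n → A)) →ₗ[B] (B ⊗[A] N)) :=
          (Module.FinitePresentation.isBaseChange_map A (Fin n → A) N B).equiv
        let e2 : (B ⊗[A] ((LinearMap.ker f) →ₗ[A] N)) ≃ₗ[B]
            ((B ⊗[A] (LinearMap.ker f)) →ₗ[B] (B ⊗[A] N)) :=
          (Module.FinitePresentation.isBaseChange_map A (LinearMap.ker f) N B).equiv
        have hcomm : ∀ x, e2 (f1 x) = f1' (e1 x) := fun x =>
          hom_comm N (LinearMap.ker f).subtype x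
        exact nonempty_equiv_of_presentations
          (X' := ((B ⊗[A] (Fin n → A)) →ₗ[B] (B ⊗[A] N)))
          (Y' := ((B ⊗[A] (LinearMap.ker f)) →ₗ[B] (B ⊗[A] N)))
          (Z' := Ext (ModuleCat.of B (B ⊗[A] M)) (ModuleCat.of B (B ⊗[A] N)) (0 + 1))
          f1 g1 f1' g1' hfg1 hg1 (bdry_exact hB _)
          (bdry_surjective hB _) e1 e2 hcomm
      · -- degree `r + 2`
        obtain ⟨e⟩ := ih (r + 1) (by omega) (LinearMap.ker f)
        have e1 := LinearEquiv.ofBijective (extδ h (ModuleCat.of A N) (r + 1))
          (extδ_bijective h _ r)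
        have e2 := LinearEquiv.ofBijective (extδ hB (ModuleCat.of B (B ⊗[A] N)) (r + 1))
          (extδ_bijective hB _ r)
        exact ⟨LinearEquiv.baseChange A B _ _ e1.symm ≪≫ₗ e ≪≫ₗ e2⟩

end Main

end Groth.Agent.Helper8.ExtBC
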