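import Groth.Agent.Lib.Helper8.LOC9

/-!
# Localization of dualizing complexes, part 10: `δ` is a dimension function (helper8)
-/

set_option autoImplicit false

open CategoryTheory CategoryTheory.Limits Opposite Pretriangulated

universe u

namespace Groth.Agent.Helper8.LOC

open DerivedCategory ChangeOfRings IsLocalRing

attribute [local instance] HasDerivedCategory.standard

section DimOne

variable {B : Type u} [CommRing B] [IsLocalRing B] [IsNoetherianRing B] (ν : Dual.D B)
  (hν : Dual.IsDualizing B ν) (hn : Dual.IsNormalized B ν)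

theorem ringKrullDim_quotient_le_one (P : Ideal B)
    (hcov : ∀ x : Ideal B, x.IsPrime → P ≤ x → x = P ∨ x = maximalIdeal B) :
    ringKrullDim (B ⧸ P) ≤ 1 := by
  rw [ringKrullDim_quotient, Order.krullDim_le_one_iff]
  rintro ⟨x, hx⟩
  have hPx : P ≤ x.asIdeal := (PrimeSpectrum.mem_zeroLocus _ _).mp hx
  rcases hcov x.asIdeal x.isPrime hPx with h | h
  · left
    rintro ⟨y, hy⟩ _
    have hPy : P ≤ y.asIdeal := (PrimeSpectrum.mem_zeroLocus _ _).mp hy
    show x.asIdeal ≤ y.asIdeal
    rw [h]
    exact hPy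
  · right
    rintro ⟨y, hy⟩ _
    show y.asIdeal ≤ x.asIdeal
    rw [h]
    exact IsLocalRing.le_maximalIdeal y.isPrime.ne_top

include hν hn in
/-- for a prime `P` covered by the maximal ideal, `Ext^j(B/P, ν) ≠ 0` only for `j = -1` -/
theorem eq_neg_one_of_nontrivial_hom (P : Ideal B) [P.IsPrime] (hP : P ≠ maximalIdeal B)
    (hcov : ∀ x : Ideal B, x.IsPrime → P ≤ x → x = P ∨ x = maximalIdeal B) (j : ℤ)
    (hj : Nontrivial (Dual.inD B (B ⧸ P) ⟶ ν⟦j⟧)) : j = -1 := by
  rw [← not_subsingleton_iff_nontrivial] at hj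
  by_contra hne
  apply hj
  rcases lt_trichotomy j 0 with h | h | h
  · -- `j ≤ -2`
    obtain ⟨k, hk⟩ : ∃ k : ℕ, j = -(k : ℤ) := ⟨(-j).toNat, by omega⟩
    subst hk
    rw [← Groth.Agent.Helper8.LD.subsingleton_H_iff ν hν hn (B ⧸ P) k]
    apply Groth.Agent.Helper8.LC.H_subsingleton_of_supportDim_lt
    rw [Module.supportDim_quotient_eq_ringKrullDim]
    refine lt_of_le_of_lt (ringKrullDim_quotient_le_one P hcov) ?_
    have hk2 : 2 ≤ k := by omega
    exact_mod_cast hk2
  · -- `j = 0`
    subst h
    have h0 := Groth.Agent.Helper8.LD.subsingleton_H_iff ν hν hn (B ⧸ P) 0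
    have hz : (-((0 : ℕ) : ℤ)) = 0 := by simp
    rw [hz] at h0
    rw [← h0]
    have hlt : P < maximalIdeal B :=
      lt_of_le_of_ne (IsLocalRing.le_maximalIdeal (Ideal.IsPrime.ne_top inferInstance)) hP
    obtain ⟨x, hxm, hxP⟩ := SetLike.exists_of_lt hlt
    apply Groth.Agent.Helper8.LC.H_zero_subsingleton_of_regular (maximalIdeal B) (B ⧸ P) hxm
    intro a b hab
    obtain ⟨a, rfl⟩ := Ideal.Quotient.mk_surjective a
    obtain ⟨b, rfl⟩ := Ideal.Quotient.mk_surjective b
    have h1 : Ideal.Quotient.mk P (x * a) = Ideal.Quotient.mk P (x * b) := hab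
    rw [Ideal.Quotient.eq, ← mul_sub] at h1
    rw [Ideal.Quotient.eq]
    exact (Ideal.IsPrime.mem_or_mem inferInstance h1).resolve_left hxP
  · exact Groth.Agent.Helper8.LD.subsingleton_hom_of_pos ν hν hn (B ⧸ P) j h

end DimOne

section QuotLoc

variable {A : Type u} [CommRing A] (S : Submonoid A) (B : Type u) [CommRing B] [Algebra A B]
  [IsLocalization S B] (I : Ideal A)

/-- the localization map `A/I → B/IB` -/
noncomputable def quotLocMap : (A ⧸ I) →ₗ[A] (B ⧸ I.map (algebraMap A B)) :=
  ((Submodule.quotEquivOfEq _ _ (Ideal.localized'_eq_map B S I)).restrictScalars A).toLinearMap ∘ₗ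
    (Submodule.toLocalizedQuotient' B S (Algebra.linearMap A B) I)

instance : IsLocalizedModule S (quotLocMap S B I) := by
  unfold quotLocMap
  infer_instance

end QuotLoc

section Cover

variable {A : Type u} [CommRing A]

theorem nontrivial_localizedModule_of_le {p q : Ideal A} [p.IsPrime] [q.IsPrime] (hpq : p ≤ q)
    (E : Type*) [AddCommGroup E] [Module A E]
    (h : Nontrivial (LocalizedModule p.primeCompl E)) :
    Nontrivial (LocalizedModule q.primeCompl E) := by
  rw [← not_subsingleton_iff_nontrivial] at h ⊢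
  intro hq
  apply h
  rw [LocalizedModule.subsingleton_iff] at hq ⊢
  intro m
  obtain ⟨r, hr, hrm⟩ := hq m
  exact ⟨r, fun hrp => hr (hpq hrp), hrm⟩

variable [IsNoetherianRing A] (ω : Dual.D A) (hω : Dual.IsDualizing A ω)

/-- **`δ` is a dimension function** -/
theorem degAt_eq_of_covBy (p q : PrimeSpectrum A) (h : p ⋖ q) :
    degAt ω hω p.asIdeal = degAt ω hω q.asIdeal - 1 := by
  have hpq : p.asIdeal ≤ q.asIdeal := h.le
  have hB : IsNoetherianRing (Localization.AtPrime q.asIdeal) :=
    IsLocalization.isNoetherianRing q.asIdeal.primeCompl _ inferInstance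
  -- the prime `P = pB`
  have hdisj : Disjoint (q.asIdeal.primeCompl : Set A) (p.asIdeal : Set A) :=
    Set.disjoint_left.mpr fun x hx hxp => hx (hpq hxp)
  have hPprime : (p.asIdeal.map (algebraMap A (Localization.AtPrime q.asIdeal))).IsPrime :=
    IsLocalization.isPrime_of_isPrime_disjoint q.asIdeal.primeCompl _ _ p.isPrime hdisj
  have hunder : (p.asIdeal.map (algebraMap A (Localization.AtPrime q.asIdeal))).under A =
      p.asIdeal :=
    IsLocalization.under_map_of_isPrime_disjoint q.asIdeal.primeCompl _ p.isPrime hdisj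
  have hP : p.asIdeal.map (algebraMap A (Localization.AtPrime q.asIdeal)) ≠
      maximalIdeal (Localization.AtPrime q.asIdeal) := by
    intro heq
    have h1 := hunder
    rw [heq, Localization.AtPrime.under_maximalIdeal] at h1
    exact h.lt.ne (PrimeSpectrum.ext h1.symm)
  have hcov : ∀ x : Ideal (Localization.AtPrime q.asIdeal), x.IsPrime →
      p.asIdeal.map (algebraMap A (Localization.AtPrime q.asIdeal)) ≤ x →
      x = p.asIdeal.map (algebraMap A (Localization.AtPrime q.asIdeal)) ∨
        x = maximalIdeal (Localization.AtPrime q.asIdeal) := by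
    intro x hx hPx
    have hxp : (x.under A).IsPrime := Ideal.IsPrime.under A x
    have h1 : p.asIdeal ≤ x.under A := by
      rw [← hunder]
      exact Ideal.comap_mono hPx
    have h2 : x.under A ≤ q.asIdeal := by
      have := Ideal.comap_mono (f := algebraMap A (Localization.AtPrime q.asIdeal))
        (IsLocalRing.le_maximalIdeal hx.ne_top)
      rwa [← Ideal.under_def, ← Ideal.under_def, Localization.AtPrime.under_maximalIdeal] at this
    have h3 := h.eq_or_eq (c := ⟨x.under A, hxp⟩) h1 h2
    have h4 := IsLocalization.map_under q.asIdeal.primeCompl (Localization.AtPrime q.asIdeal) x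
    rcases h3 with h3 | h3
    · left
      rw [← h4, show x.under A = p.asIdeal from congrArg PrimeSpectrum.asIdeal h3]
    · right
      rw [← h4, show x.under A = q.asIdeal from congrArg PrimeSpectrum.asIdeal h3,
        Localization.AtPrime.map_eq_maximalIdeal]
  -- nonvanishing at `p`, hence at `q`
  have h1 : Nontrivial (LocalizedModule p.asIdeal.primeCompl
      (Dual.inD A (A ⧸ p.asIdeal) ⟶ ω⟦degAt ω hω p.asIdeal⟧)) :=
    (nontrivial_locHom_quot_iff ω hω p.asIdeal _).mpr rfl
  have h2 := nontrivial_localizedModule_of_le hpq _ h1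
  rw [← not_subsingleton_iff_nontrivial, subsingleton_locHom_nuAt_iff ω hω q.asIdeal
    (quotLocMap q.asIdeal.primeCompl (Localization.AtPrime q.asIdeal) p.asIdeal)
    (degAt ω hω p.asIdeal) (degAt ω hω p.asIdeal - degAt ω hω q.asIdeal) (by omega),
    not_subsingleton_iff_nontrivial] at h2
  have h3 := eq_neg_one_of_nontrivial_hom (nuAt ω hω q.asIdeal) (isDualizing_nuAt ω hω q.asIdeal)
    (isNormalized_nuAt ω hω q.asIdeal) _ hP hcov _ h2
  omega

end Cover

end Groth.Agent.Helper8.LOC
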