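import Groth.Agent.Lib.Helper8.RMod9
import Groth.Agent.Lib.Helper8.LOC10
import Groth.Prelude.Def_Found

/-!
# Rings with a dualizing complex are universally catenary (helper8)
-/

set_option autoImplicit false

open CategoryTheory CategoryTheory.Limits

universe u

namespace Groth.Agent.Helper8.Caten

variable {S : Type u} [CommRing S] [IsNoetherianRing S]

theorem wellFoundedGT_primeSpectrum : WellFoundedGT (PrimeSpectrum S) := by
  have h1 : WellFoundedGT (Ideal S) := inferInstance
  have hm : StrictMono (fun p : PrimeSpectrum S => p.asIdeal) := fun p q h =>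
    (PrimeSpectrum.asIdeal_lt_asIdeal p q).mpr h
  exact hm.wellFoundedGT

/-- below `q` and above `p < q` there is a prime covered by `q` -/
theorem exists_covBy (p q : PrimeSpectrum S) (h : p < q) : ∃ r, p ≤ r ∧ r ⋖ q := by
  have hwf := wellFoundedGT_primeSpectrum (S := S)
  let T : Set (PrimeSpectrum S) := {r | p ≤ r ∧ r < q}
  have hT : T.Nonempty := ⟨p, le_refl p, h⟩
  obtain ⟨r, hr, hmax⟩ := hwf.wf.has_min T hT
  refine ⟨r, hr.1, hr.2, fun c hrc hcq => ?_⟩
  exact hmax c ⟨le_trans hr.1 (le_of_lt hrc), hcq⟩ hrc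

theorem height_lt_top (q : PrimeSpectrum S) : Order.height q < ⊤ := by
  rw [← PrimeSpectrum.height_eq_orderHeight]
  exact Ideal.height_lt_top_of_isPrime

variable (δ : PrimeSpectrum S → ℤ) (hδ : ∀ p q : PrimeSpectrum S, p ⋖ q → δ p = δ q + 1)

include hδ

theorem dimFun_anti_aux : ∀ (n : ℕ) (q : PrimeSpectrum S), Order.height q = n →
    ∀ p : PrimeSpectrum S, p < q → δ q < δ p := by
  intro n
  induction n using Nat.strong_induction_on with
  | _ n ih =>
    intro q hq p hpq
    obtain ⟨r, hpr, hrq⟩ := exists_covBy p q hpq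
    have h1 := hδ r q hrq
    rcases eq_or_lt_of_le hpr with rfl | hlt
    · omega
    · have hr : Order.height r < Order.height q := Order.height_strictMono hrq.lt (height_lt_top r)
      obtain ⟨m, hm⟩ := ENat.ne_top_iff_exists.mp (height_lt_top r).ne
      have hmn : m < n := by
        rw [← hm, hq] at hr
        exact_mod_cast hr
      have := ih m hmn r hm.symm p hlt
      omega

theorem dimFun_anti (p q : PrimeSpectrum S) (h : p < q) : δ q < δ p := by
  obtain ⟨n, hn⟩ := ENat.ne_top_iff_exists.mp (height_lt_top q).ne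
  exact dimFun_anti_aux δ hδ n q hn.symm p h

theorem series_le (s : LTSeries (PrimeSpectrum S)) :
    ∀ (i : ℕ) (hi : i < s.length + 1), δ (s.toFun ⟨i, hi⟩) + i ≤ δ (s.toFun 0) := by
  intro i
  induction i with
  | zero => intro hi; simp
  | succ i ih =>
    intro hi
    have h1 := ih (by omega)
    have h2 : s.toFun ⟨i, by omega⟩ < s.toFun ⟨i + 1, hi⟩ := s.step ⟨i, by omega⟩
    have h3 := dimFun_anti δ hδ _ _ h2
    push_cast
    omega

theorem series_eq (s : LTSeries (PrimeSpectrum S))
    (hs : ∀ i : Fin s.length, s (Fin.castSucc i) ⋖ s (Fin.succ i)) :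
    ∀ (i : ℕ) (hi : i < s.length + 1), δ (s.toFun ⟨i, hi⟩) + i = δ (s.toFun 0) := by
  intro i
  induction i with
  | zero => intro hi; simp
  | succ i ih =>
    intro hi
    have h1 := ih (by omega)
    have h2 : s.toFun ⟨i, by omega⟩ ⋖ s.toFun ⟨i + 1, hi⟩ := hs ⟨i, by omega⟩
    have h3 := hδ _ _ h2
    push_cast
    omega

/-- a Noetherian ring with a dimension function is catenary -/
theorem isCatenary_of_dimFun : CAlg.IsCatenary S := by
  constructor
  · intro p q _
    refine ⟨(δ p - δ q).toNat, fun s hsp hsq => ?_⟩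
    have h := series_le δ hδ s s.length (by omega)
    have h1 : s.toFun ⟨s.length, by omega⟩ = q := hsq
    have h2 : s.toFun 0 = p := hsp
    rw [h1, h2] at h
    omega
  · intro s t hst hst' hs ht
    have h := series_eq δ hδ s hs s.length (by omega)
    have h' := series_eq δ hδ t ht t.length (by omega)
    have h1 : s.toFun ⟨s.length, by omega⟩ = s.last := rfl
    have h2 : s.toFun 0 = s.head := rfl
    have h1' : t.toFun ⟨t.length, by omega⟩ = t.last := rfl
    have h2' : t.toFun 0 = t.head := rfl
    rw [h1, h2] at h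
    rw [h1', h2'] at h'
    rw [hst, hst'] at h
    omega

end Groth.Agent.Helper8.Caten

namespace Groth.Agent.Helper8.Caten

attribute [local instance] HasDerivedCategory.standard

/-- a Noetherian ring with a dualizing complex is catenary -/
theorem isCatenary_of_isDualizing {S : Type u} [CommRing S] (ω : Dual.D S)
    (hω : Dual.IsDualizing S ω) : CAlg.IsCatenary S := by
  haveI := hω.isNoetherianRing
  refine isCatenary_of_dimFun (fun p => -Groth.Agent.Helper8.LOC.degAt ω hω p.asIdeal)
    (fun p q h => ?_)
  have := Groth.Agent.Helper8.LOC.degAt_eq_of_covBy ω hω p q h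
  show -Groth.Agent.Helper8.LOC.degAt ω hω p.asIdeal =
    -Groth.Agent.Helper8.LOC.degAt ω hω q.asIdeal + 1
  omega

/-- a Noetherian ring with a dualizing complex is universally catenary -/
theorem isUniversallyCatenary_of_isDualizing {A : Type u} [CommRing A] [IsNoetherianRing A]
    (ω : Dual.D A) (hω : Dual.IsDualizing A ω) : CAlg.IsUniversallyCatenary A := by
  refine ⟨inferInstance, fun C _ _ hC => ?_⟩
  haveI := hC
  obtain ⟨ω', hω'⟩ := Groth.Agent.Helper8.RMod.exists_isDualizing_of_finiteType ω hω C
  exact isCatenary_of_isDualizing ω' hω'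

end Groth.Agent.Helper8.Caten
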