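import Groth.Agent.Lib.Helper8.DualMod2
import Groth.Agent.Lib.Lead.Bass4
import Groth.Agent.Lib.Lead.Depth2

/-!
# `A[0]` is dualizing when `A` has finite injective dimension (helper8)
-/

set_option autoImplicit false
universe u

namespace Groth.Agent.Helper8.DualMod

open CategoryTheory Abelian DerivedCategory

attribute [local instance] HasDerivedCategory.standard

variable (A : Type u) [CommRing A]

theorem isDualizing_inD_self_of_hasInjectiveDimensionLT [IsNoetherianRing A] (n : ℕ)
    (hn : HasInjectiveDimensionLT (ModuleCat.of A A) n) :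
    Dual.IsDualizing A (Dual.inD A A) := by
  refine ⟨inferInstance, ⟨0, (n : ℤ), ?_⟩, ?_, ?_, ?_⟩
  · intro M _ _ i hi
    rcases hi with hi | hi
    · exact subsingleton_hom_inD_shift_of_neg A M A i hi
    · obtain ⟨m, rfl⟩ : ∃ m : ℕ, i = (m : ℤ) := ⟨i.toNat, by omega⟩
      haveI : Subsingleton (Ext (ModuleCat.of A M) (ModuleCat.of A A) m) :=
        HasInjectiveDimensionLT.subsingleton (ModuleCat.of A A) n m (by omega)
          (ModuleCat.of A M)
      exact (homInDEquivExt A M A m).symm.subsingleton
  · intro i
    exact finite_HD_inD A A i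
  · exact toEnd_inD_self_bijective A
  · intro i hi
    rcases lt_or_gt_of_ne hi with hi | hi
    · exact subsingleton_hom_inD_shift_of_neg A A A i hi
    · obtain ⟨m, rfl⟩ : ∃ m : ℕ, i = ((m + 1 : ℕ) : ℤ) := ⟨i.toNat - 1, by omega⟩
      haveI : Projective (ModuleCat.of A A) :=
        (IsProjective.iff_projective (R := A) A).mp inferInstance
      haveI : Subsingleton (Ext (ModuleCat.of A A) (ModuleCat.of A A) (m + 1)) :=
        ⟨fun x y => (Ext.eq_zero_of_projective x).trans (Ext.eq_zero_of_projective y).symm⟩
      exact (homInDEquivExt A A A (m + 1)).symm.subsingleton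

theorem isDualizing_inD_self_of_regular [IsNoetherianRing A]
    (hreg : ∀ p : PrimeSpectrum A, IsRegularLocalRing (Localization.AtPrime p.asIdeal))
    (hdim : ringKrullDim A < ⊤) : Dual.IsDualizing A (Dual.inD A A) := by
  have hG : LocCoh.IsGorensteinRing A :=
    { isGorensteinLocalRing_localization := fun p hp => by
        haveI := hreg ⟨p, hp⟩
        exact Groth.Agent.Lead.Depth.isGorensteinLocalRing_of_isRegularLocalRing
          (Localization.AtPrime p) }
  obtain ⟨n, hn⟩ := (Groth.Agent.Lead.Depth.exists_hasInjectiveDimensionLT_self_iff A).mpr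
    ⟨hG, hdim⟩
  exact isDualizing_inD_self_of_hasInjectiveDimensionLT A n hn

end Groth.Agent.Helper8.DualMod
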