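import Groth.Agent.Lib.Helper8.RMod5
import Groth.Agent.Lib.Helper11.DCRestrict

/-!
# `Hom_A(B, J)` is a dualizing complex for `B`, without assuming a right adjoint (helper8)

For a finite homomorphism `A → B` of Noetherian rings and a bounded complex of injectives `J`
representing a dualizing complex of `A`, the complex `Hom_A(B, J)` is a dualizing complex of `B`.
In particular finite `A`-algebras have dualizing complexes when `A` does.
-/

set_option autoImplicit false

open CategoryTheory CategoryTheory.Limits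

universe u

namespace Groth.Agent.Helper8.RMod

open DerivedCategory Groth.Agent.Helper8.BiDual Groth.Agent.Helper3.HT

attribute [local instance] HasDerivedCategory.standard

section Shift

variable {A B : Type u} [CommRing A] [CommRing B] (φ : A →+* B)

theorem Theta_zero (J : DRing.Cx A) (X : Dual.D B) :
    Theta φ J X 0 = 0 := by
  have := Theta_sub φ J X 0 0
  rwa [sub_self, sub_self] at this

/-- vanishing of maps into shifts of `Hom_A(B, J)` from vanishing after restriction -/
theorem hom_shift_W_eq_zero (J : DRing.Cx A) (a : ℤ) (ha : ∀ i : ℤ, i < a → IsZero (J.X i))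
    (hJ : ∀ i : ℤ, Injective (J.X i)) (X : Dual.D B) (i : ℤ)
    (h : ∀ s : (DRing.restrictD φ).obj X ⟶ (Q.obj J)⟦i⟧, s = 0)
    (t : X ⟶ (Q.obj ((coC φ).obj J))⟦i⟧) : t = 0 := by
  let J' : DRing.Cx A := (shiftFunctor (CochainComplex (ModuleCat.{u} A) ℤ) i).obj J
  have ha' : ∀ n : ℤ, n < a - i → IsZero (J'.X n) := fun n hn => ha (n + i) (by omega)
  have hJ' : ∀ n : ℤ, Injective (J'.X n) := fun n => hJ (n + i)
  let ι1 : (Q.obj ((coC φ).obj J))⟦i⟧ ≅
      Q.obj ((shiftFunctor (CochainComplex (ModuleCat.{u} B) ℤ) i).obj ((coC φ).obj J)) :=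
    ((Q.commShiftIso i).app ((coC φ).obj J)).symm
  let ι2 : Q.obj ((shiftFunctor (CochainComplex (ModuleCat.{u} B) ℤ) i).obj ((coC φ).obj J)) ≅
      Q.obj ((coC φ).obj J') :=
    Q.mapIso (((coF φ).mapCochainComplexShiftIso i).app J).symm
  let ιW : (Q.obj ((coC φ).obj J))⟦i⟧ ≅ Q.obj ((coC φ).obj J') := ι1 ≪≫ ι2
  let ιJ : Q.obj J' ≅ (Q.obj J)⟦i⟧ := (Q.commShiftIso i).app J
  let T := Q.objPreimage X
  let eX : Q.obj T ≅ X := Q.objObjPreimageIso X
  have hΘ := Theta_bijective_Q φ J' (a - i) ha' hJ' T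
  have h0 : Theta φ J' (Q.obj T) (eX.hom ≫ t ≫ ιW.hom) = 0 := by
    have h1 := h ((DRing.restrictD φ).map eX.inv ≫
      Theta φ J' (Q.obj T) (eX.hom ≫ t ≫ ιW.hom) ≫ ιJ.hom)
    have h2 : (DRing.restrictD φ).map eX.hom ≫ ((DRing.restrictD φ).map eX.inv ≫
      Theta φ J' (Q.obj T) (eX.hom ≫ t ≫ ιW.hom) ≫ ιJ.hom) ≫ ιJ.inv =
        Theta φ J' (Q.obj T) (eX.hom ≫ t ≫ ιW.hom) := by
      simp only [Category.assoc, Iso.hom_inv_id, Category.comp_id]
      rw [← Category.assoc, ← Functor.map_comp, Iso.hom_inv_id, CategoryTheory.Functor.map_id,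
        Category.id_comp]
    rw [← h2, h1, zero_comp, comp_zero]
  have h3 : eX.hom ≫ t ≫ ιW.hom = 0 := hΘ.1 (h0.trans (Theta_zero φ J' (Q.obj T)).symm)
  have h4 : t ≫ ιW.hom = 0 := (cancel_epi eX.hom).mp (h3.trans comp_zero.symm)
  exact (cancel_mono ιW.hom).mp (h4.trans zero_comp.symm)

/-- finiteness descends along restriction of scalars -/
theorem finite_of_restrictScalars (M : ModuleCat.{u} B)
    (h : Module.Finite A ((resF φ).obj M)) : Module.Finite B M := by
  classical
  obtain ⟨s, hs⟩ := h.fg_top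
  let ι : ((resF φ).obj M) → M := fun x => x
  refine ⟨⟨s.image ι, ?_⟩⟩
  rw [eq_top_iff]
  intro y _
  have hy : (y : (resF φ).obj M) ∈ Submodule.span A (s : Set ((resF φ).obj M)) := by
    rw [hs]; trivial
  induction hy using Submodule.span_induction with
  | mem x hx =>
    apply Submodule.subset_span
    rw [Finset.coe_image]
    exact ⟨x, hx, rfl⟩
  | zero => exact Submodule.zero_mem _
  | add x y _ _ hx hy => exact Submodule.add_mem _ (hx trivial) (hy trivial)
  | smul c x _ hx => exact Submodule.smul_mem _ (φ c) (hx trivial)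

end Shift

section Dualizing

variable {A B : Type u} [CommRing A] [CommRing B] [Algebra A B] [IsNoetherianRing A]
  [IsNoetherianRing B] [Module.Finite A B]

/-- `Hom_A(B, J)` is a dualizing complex for `B` -/
theorem isDualizing_coC (ω : Dual.D A) (hω : Dual.IsDualizing A ω) (J : DRing.Cx A) (a b : ℤ)
    (e : Q.obj J ≅ ω)
    (hvan : DRing.VanishesOutside J a b) (hinj : DRing.TermwiseInjective J)
    (hend : Function.Bijective (fun x : A => x • 𝟙 (Q.obj J)))
    (hext : ∀ i : ℤ, i ≠ 0 → ∀ f : Q.obj J ⟶ (Q.obj J)⟦i⟧, f = 0)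
    (hfinH : ∀ i : ℤ, Module.Finite A ((homologyFunctor (ModuleCat.{u} A) i).obj (Q.obj J))) :
    Dual.IsDualizing B (Q.obj ((coC (algebraMap A B)).obj J)) := by
  have hfinB : Module.Finite A (BA (algebraMap A B)) :=
    Groth.Agent.Helper8.RFin.finite_restrictScalars_self
  have hJ : ∀ n : ℤ, Injective (J.X n) := fun n =>
    (Module.injective_iff_injective_object A (J.X n)).mp (hinj n)
  have hlow : ∀ i : ℤ, i < a → IsZero (J.X i) := fun i hi => hvan i (Or.inl hi)
  have hP := P_BA (algebraMap A B) J a b hvan hinj hend hext hfinB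
  refine ⟨inferInstance, ?_, ?_, ?_, ?_⟩
  · obtain ⟨a', b', hab⟩ := hω.finite_injective_dimension
    refine ⟨a', b', fun N _ _ i hi => ⟨fun t t' => ?_⟩⟩
    have key : ∀ t : Dual.inD B N ⟶ (Q.obj ((coC (algebraMap A B)).obj J))⟦i⟧, t = 0 := by
      intro t
      apply hom_shift_W_eq_zero (algebraMap A B) J a hlow hJ
      intro s
      let σ := ((resF (algebraMap A B)).mapDerivedCategorySingleFunctor 0).app (ModuleCat.of B N)
      have hsub := hab ((resF (algebraMap A B)).obj (ModuleCat.of B N)) i hi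
      have h2 : σ.inv ≫ s ≫ (shiftFunctor (Dual.D A) i).map e.hom = 0 :=
        @Subsingleton.elim _ hsub _ _
      have h3 : s ≫ (shiftFunctor (Dual.D A) i).map e.hom = 0 :=
        (cancel_epi σ.inv).mp (h2.trans comp_zero.symm)
      exact (cancel_mono ((shiftFunctor (Dual.D A) i).map e.hom)).mp (h3.trans zero_comp.symm)
    rw [key t, key t']
  · intro i
    apply finite_of_restrictScalars (algebraMap A B)
    obtain ⟨e1⟩ := nonempty_homology_Z_equiv J a b hvan hinj (BA (algebraMap A B)) i
    have h1 := finite_hom_single J a b hvan hinj hfinH (BA (algebraMap A B)) i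
    have h2 : Module.Finite A ((homologyFunctor (ModuleCat.{u} A) i).obj
        (Z J (BA (algebraMap A B)))) := Module.Finite.equiv e1.symm
    have h3 : Module.Finite A ((homologyFunctor (ModuleCat.{u} A) i).obj
        ((DRing.restrictD (algebraMap A B)).obj (Q.obj ((coC (algebraMap A B)).obj J)))) :=
      Module.Finite.equiv ((homologyFunctor (ModuleCat.{u} A) i).mapIso
        (alphaD (algebraMap A B) J)).symm.toLinearEquiv
    exact Module.Finite.equiv (Groth.Agent.Helper11.DC.homologyRestrictIso (algebraMap A B)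
      (Q.obj ((coC (algebraMap A B)).obj J)) i).toLinearEquiv
  · exact end_bijective (algebraMap A B) J a b hvan hinj hend hext hfinB
  · intro i hi
    refine ⟨fun f g => ?_⟩
    have key : ∀ f : Q.obj ((coC (algebraMap A B)).obj J) ⟶
        (Q.obj ((coC (algebraMap A B)).obj J))⟦i⟧, f = 0 := by
      intro f
      apply hom_shift_W_eq_zero (algebraMap A B) J a hlow hJ
      intro s
      have h2 : (alphaD (algebraMap A B) J).inv ≫ s = 0 := hP.1 i hi _
      have h3 : s = (alphaD (algebraMap A B) J).hom ≫ (alphaD (algebraMap A B) J).inv ≫ s := by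
        rw [Iso.hom_inv_id_assoc]
      rw [h3, h2, comp_zero]
    rw [key f, key g]

/-- a finite algebra over a Noetherian ring with a dualizing complex has a dualizing complex -/
theorem exists_isDualizing_of_finite (ω : Dual.D A) (hω : Dual.IsDualizing A ω) :
    ∃ ω' : Dual.D B, Dual.IsDualizing B ω' := by
  obtain ⟨J, a, b, e, h1, h2, h3, h4, h5⟩ := exists_model ω hω
  exact ⟨_, isDualizing_coC ω hω J a b e h1 h2 h3 h4 h5⟩

end Dualizing

end Groth.Agent.Helper8.RMod
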