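import Groth.Agent.Lib.Helper8.Canon11

/-!
# `R → End(K)` is bijective for a canonical module (helper8)
-/

set_option autoImplicit false
universe u

namespace Groth.Agent.Helper8.Canon

open TensorProduct IsLocalRing CategoryTheory Groth.Agent.Helper8 Groth.Agent.Helper8.LC
open scoped Pointwise

section Homothety

variable {R : Type u} [CommRing R]

/-- "`R/J → End(M)` is bijective": every endomorphism is a homothety and `ann M ≤ J` -/
def Homothety (J : Ideal R) (M : Type u) [AddCommGroup M] [Module R M] : Prop :=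
  (∀ g : M →ₗ[R] M, ∃ r : R, g = r • LinearMap.id) ∧ Module.annihilator R M ≤ J

theorem Homothety.congr {J : Ideal R} {M M' : Type u} [AddCommGroup M] [Module R M]
    [AddCommGroup M'] [Module R M'] (h : Homothety J M) (e : M ≃ₗ[R] M') : Homothety J M' := by
  refine ⟨fun g => ?_, ?_⟩
  · obtain ⟨r, hr⟩ := h.1 (e.symm.toLinearMap ∘ₗ g ∘ₗ e.toLinearMap)
    refine ⟨r, LinearMap.ext fun x => ?_⟩
    have h1 := LinearMap.congr_fun hr (e.symm x)
    simp only [LinearMap.comp_apply, LinearEquiv.coe_coe, LinearEquiv.apply_symm_apply,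
      LinearMap.smul_apply, LinearMap.id_apply] at h1
    have h2 := congrArg e h1
    rw [LinearEquiv.apply_symm_apply, map_smul, LinearEquiv.apply_symm_apply] at h2
    rw [h2]
    rfl
  · rw [← LinearEquiv.annihilator_eq e]
    exact h.2

theorem Homothety.mono {J J' : Ideal R} {M : Type u} [AddCommGroup M] [Module R M]
    (h : Homothety J M) (hJ : J ≤ J') : Homothety J' M := ⟨h.1, h.2.trans hJ⟩

variable [IsLocalRing R] [IsNoetherianRing R]

/-- lifting the homothety property along a regular element -/
theorem Homothety.step {J : Ideal R} {M : Type u} [AddCommGroup M] [Module R M] [Module.Finite R M]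
    (a : R) (ha : a ∈ maximalIdeal R) (hreg : IsSMulRegular M a)
    (hJ : J ≤ Module.annihilator R M)
    (h : Homothety (J ⊔ Ideal.span {a}) (QuotSMulTop a M)) : Homothety J M := by
  have hjac : (Ideal.span {a} : Ideal R) ≤ Ideal.jacobson ⊥ := by
    rw [Ideal.span_le, Set.singleton_subset_iff]
    exact IsLocalRing.maximalIdeal_le_jacobson _ ha
  refine ⟨?_, ?_⟩
  · -- surjectivity by Nakayama
    have key : (⊤ : Submodule R (M →ₗ[R] M)) ≤
        Submodule.span R {(LinearMap.id : M →ₗ[R] M)} := by
      apply Submodule.le_of_le_smul_of_le_jacobson_bot (I := Ideal.span {a}) Module.Finite.fg_top hjac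
      intro g _
      -- the induced endomorphism of `M/aM`
      have hle : (a • (⊤ : Submodule R M)) ≤ (a • (⊤ : Submodule R M)).comap g := by
        intro x hx
        obtain ⟨y, -, rfl⟩ := (Submodule.mem_smul_pointwise_iff_exists _ _ _).mp hx
        rw [Submodule.mem_comap, map_smul]
        exact Submodule.smul_mem_pointwise_smul _ a ⊤ Submodule.mem_top
      obtain ⟨r, hr⟩ := h.1 ((a • (⊤ : Submodule R M)).mapQ (a • (⊤ : Submodule R M)) g hle)
      have hmem : ∀ x, (g - r • (LinearMap.id : M →ₗ[R] M)) x ∈ a • (⊤ : Submodule R M) := by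
        intro x
        have h1 := LinearMap.congr_fun hr (Submodule.Quotient.mk x)
        rw [Submodule.mapQ_apply, LinearMap.smul_apply, LinearMap.id_apply,
          ← Submodule.Quotient.mk_smul, Submodule.Quotient.eq] at h1
        exact h1
      obtain ⟨g', hg'⟩ := exists_eq_smul_of_forall_mem a hreg _ hmem
      have hg : g = r • LinearMap.id + a • g' := by rw [← hg']; abel
      rw [hg]
      apply Submodule.add_mem_sup
      · exact Submodule.smul_mem _ _ (Submodule.mem_span_singleton_self _)
      · exact Submodule.smul_mem_smul (Ideal.mem_span_singleton_self a) Submodule.mem_top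
    intro g
    have := key (Submodule.mem_top : g ∈ ⊤)
    obtain ⟨r, hr⟩ := Submodule.mem_span_singleton.mp this
    exact ⟨r, hr.symm⟩
  · -- the annihilator
    apply Submodule.le_of_le_smul_of_le_jacobson_bot (I := Ideal.span {a})
      (IsNoetherian.noetherian _) hjac
    intro r hr
    have hrQ : r ∈ Module.annihilator R (QuotSMulTop a M) := by
      rw [Module.mem_annihilator]
      intro y
      obtain ⟨x, rfl⟩ := Submodule.Quotient.mk_surjective _ y
      rw [← Submodule.Quotient.mk_smul, Module.mem_annihilator.mp hr x]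
      rfl
    obtain ⟨j, hj, c, hc, rfl⟩ := Submodule.mem_sup.mp (h.2 hrQ)
    obtain ⟨c', rfl⟩ := Ideal.mem_span_singleton'.mp hc
    apply Submodule.add_mem_sup hj
    have hc'ann : c' ∈ Module.annihilator R M := by
      rw [Module.mem_annihilator]
      intro x
      apply hreg
      have h1 := Module.mem_annihilator.mp hr x
      have h2 := Module.mem_annihilator.mp (hJ hj) x
      rw [add_smul, h2, zero_add, mul_smul, smul_comm] at h1
      show a • c' • x = a • (0 : M)
      rw [smul_zero]
      exact h1
    have : c' * a = a • c' := by rw [smul_eq_mul, mul_comm]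
    rw [this]
    exact Submodule.smul_mem_smul (Ideal.mem_span_singleton_self a) hc'ann

/-- lifting the homothety property along a regular sequence -/
theorem Homothety.of_isWeaklyRegular : ∀ (rs : List R) (M : Type u) [AddCommGroup M] [Module R M]
    [Module.Finite R M] (J : Ideal R), J ≤ Module.annihilator R M →
    RingTheory.Sequence.IsWeaklyRegular M rs → (∀ r ∈ rs, r ∈ maximalIdeal R) →
    Homothety (J ⊔ Ideal.ofList rs) (M ⧸ (Ideal.ofList rs • ⊤ : Submodule R M)) →
    Homothety J M := by
  intro rs
  induction rs with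
  | nil =>
    intro M _ _ _ J _ _ _ h
    have h0 : (Ideal.ofList ([] : List R) • ⊤ : Submodule R M) = ⊥ := by
      rw [Ideal.ofList_nil, Submodule.bot_smul]
    have h1 := h.congr (Submodule.quotEquivOfEqBot _ h0)
    rw [Ideal.ofList_nil, sup_bot_eq] at h1
    exact h1
  | cons a rs ih =>
    intro M _ _ _ J hJ hreg hmem h
    rw [RingTheory.Sequence.isWeaklyRegular_cons_iff] at hreg
    have ha := hmem a List.mem_cons_self
    apply Homothety.step a ha hreg.1 hJ
    have hJ' : J ⊔ Ideal.span {a} ≤ Module.annihilator R (QuotSMulTop a M) := by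
      apply sup_le
      · intro j hj
        rw [Module.mem_annihilator]
        intro y
        obtain ⟨x, rfl⟩ := Submodule.Quotient.mk_surjective _ y
        rw [← Submodule.Quotient.mk_smul, Module.mem_annihilator.mp (hJ hj) x]
        rfl
      · rw [Ideal.span_le, Set.singleton_subset_iff]
        change a ∈ Module.annihilator R (QuotSMulTop a M)
        rw [Module.mem_annihilator]
        intro y
        obtain ⟨x, rfl⟩ := Submodule.Quotient.mk_surjective _ y
        rw [← Submodule.Quotient.mk_smul, Submodule.Quotient.mk_eq_zero]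
        exact Submodule.smul_mem_pointwise_smul _ a ⊤ Submodule.mem_top
    apply ih (QuotSMulTop a M) (J ⊔ Ideal.span {a}) hJ' hreg.2
      (fun r hr => hmem r (List.mem_cons_of_mem _ hr))
    have h1 := h.congr (Submodule.quotOfListConsSMulTopEquivQuotSMulTopInner M a rs)
    refine h1.mono ?_
    rw [Ideal.ofList_cons, sup_assoc]

end Homothety

section Canon

variable {R : Type u} [CommRing R] [hCM : LocCoh.IsCohenMacaulayLocalRing R] {n : ℕ}
  {E : Type u} [AddCommGroup E] [Module R E] {f : ResidueField R →ₗ[R] E}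
  {K : Type u} [AddCommGroup K] [Module R K] [Module.Finite R K]

/-- base case: if `C^∨ ≅ R/N` then `R/N → End(C)` is bijective -/
theorem homothety_of_dual_equiv (hf : InjHull.IsInjectiveHull f)
    (N : Submodule R R) (C : Type u)
    [AddCommGroup C] [Module R C] (e : (C →ₗ[R] E) ≃ₗ[R] (R ⧸ N)) : Homothety N C := by
  have hmk : ∀ s : R, (Submodule.Quotient.mk s : R ⧸ N) = s • Submodule.Quotient.mk 1 := by
    intro s
    rw [← Submodule.Quotient.mk_smul, smul_eq_mul, mul_one]
  refine ⟨fun g => ?_, ?_⟩
  · let h : (R ⧸ N) →ₗ[R] (R ⧸ N) :=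
      e.toLinearMap ∘ₗ LinearMap.lcomp R E g ∘ₗ e.symm.toLinearMap
    obtain ⟨r, hr⟩ := Submodule.Quotient.mk_surjective N (h (Submodule.Quotient.mk 1))
    have hh : ∀ y, h y = r • y := by
      intro y
      obtain ⟨s, rfl⟩ := Submodule.Quotient.mk_surjective _ y
      rw [hmk s, map_smul, ← hr, hmk r, smul_comm]
    have hχ : ∀ χ : C →ₗ[R] E, χ ∘ₗ g = r • χ := by
      intro χ
      have h1 := hh (e χ)
      have h2 : h (e χ) = e (χ ∘ₗ g) := by
        simp only [h, LinearMap.comp_apply, LinearEquiv.coe_coe, LinearEquiv.symm_apply_apply]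
        rfl
      rw [h2, ← map_smul] at h1
      exact e.injective h1
    refine ⟨r, LinearMap.ext fun x => ?_⟩
    apply Matlis.applyₗ_injective hf C
    refine LinearMap.ext fun χ => ?_
    have h3 := LinearMap.congr_fun (hχ χ) x
    simp only [LinearMap.applyₗ_apply_apply, LinearMap.smul_apply, LinearMap.id_apply, map_smul]
    exact h3
  · intro r hr
    have h1 : ∀ χ : C →ₗ[R] E, r • χ = 0 := by
      intro χ
      refine LinearMap.ext fun x => ?_
      rw [LinearMap.smul_apply, ← map_smul, Module.mem_annihilator.mp hr x, map_zero]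
      rfl
    have h2 : r • e (e.symm (Submodule.Quotient.mk 1)) = 0 := by
      rw [← map_smul, h1, map_zero]
    rw [LinearEquiv.apply_symm_apply, ← hmk r, Submodule.Quotient.mk_eq_zero] at h2
    exact h2

theorem homothety_canon (hn : ringKrullDim R = n) (hf : InjHull.IsInjectiveHull f)
    (eK : (K →ₗ[R] E) ≃ₗ[R] H (maximalIdeal R) n R) : Homothety (⊥ : Ideal R) K := by
  obtain ⟨rs, hlen, hreg, hmem⟩ := Groth.Agent.Lead.Depth.exists_of_le_idealDepth
    (maximalIdeal R) R (maximalIdeal_smul_top_ne_top (R := R) (M := R)) n (depth_eq_of_CM hn).ge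
  obtain ⟨hK, st⟩ := canon_of_isWeaklyRegular hn hf eK rs hmem hreg
  rw [hlen, Nat.sub_self] at st
  obtain ⟨e⟩ := st.iso
  have htors : IsTors (maximalIdeal R) (R ⧸ (Ideal.ofList rs • ⊤ : Submodule R R)) := by
    have hg := gam_eq_top_of_supportDim_le_zero (R ⧸ (Ideal.ofList rs • ⊤ : Submodule R R))
      (by exact_mod_cast st.dim)
    intro m
    have : m ∈ gam (maximalIdeal R) (R ⧸ (Ideal.ofList rs • ⊤ : Submodule R R)) := by
      rw [hg]; trivial
    exact this
  have hbase : Homothety (Ideal.ofList rs • ⊤ : Submodule R R)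
      (K ⧸ (Ideal.ofList rs • ⊤ : Submodule R K)) :=
    homothety_of_dual_equiv hf _ _ (e ≪≫ₗ htors.H0Equiv (maximalIdeal R))
  apply Homothety.of_isWeaklyRegular rs K ⊥ bot_le hK hmem
  refine hbase.mono ?_
  rw [bot_sup_eq]
  refine Submodule.smul_le.mpr fun r hr x _ => ?_
  rw [smul_eq_mul]
  exact Ideal.mul_mem_right _ _ hr

theorem bijective_smul_id_canon (hn : ringKrullDim R = n) (hf : InjHull.IsInjectiveHull f)
    (eK : (K →ₗ[R] E) ≃ₗ[R] H (maximalIdeal R) n R) :
    Function.Bijective (fun r : R => r • (LinearMap.id : K →ₗ[R] K)) := by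
  obtain ⟨h1, h2⟩ := homothety_canon hn hf eK
  refine ⟨fun r s hrs => ?_, fun g => ?_⟩
  · have h3 : r - s ∈ Module.annihilator R K := by
      rw [Module.mem_annihilator]
      intro x
      have := LinearMap.congr_fun hrs x
      simp only [LinearMap.smul_apply, LinearMap.id_apply] at this
      rw [sub_smul, this, sub_self]
    have h4 := h2 h3
    rw [Ideal.mem_bot, sub_eq_zero] at h4
    exact h4
  · obtain ⟨r, hr⟩ := h1 g
    exact ⟨r, hr.symm⟩

end Canon

end Groth.Agent.Helper8.Canon
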