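import Groth.Agent.Lib.Helper8.ExtRep1

/-!
# Flat base change for `Ext` of finite modules over Noetherian rings (helper8)
Part 1: dimension shifting.
-/

set_option autoImplicit false
universe u

namespace Groth.Agent.Helper8.ExtBC

open CategoryTheory Abelian Groth.Agent.Helper8 Groth.Agent.Helper8.LC
  Groth.Agent.Helper8.Canon Groth.Agent.Helper8.ExtRep

section DS

variable {R : Type u} [CommRing R]
  {K P F : Type u} [AddCommGroup K] [Module R K] [AddCommGroup P] [Module R P]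
  [AddCommGroup F] [Module R F] {i : K →ₗ[R] P} {p : P →ₗ[R] F}

/-- the connecting map, as a linear map -/
noncomputable def extδ (h : IsSES i p) (Y : ModuleCat.{u} R) (r : ℕ) :
    Ext (ModuleCat.of R K) Y r →ₗ[R] Ext (ModuleCat.of R F) Y (r + 1) :=
  h.shortExact.extClass.precompOfLinear R Y (add_comm 1 r)

theorem extδ_apply (h : IsSES i p) (Y : ModuleCat.{u} R) (r : ℕ)
    (x : Ext (ModuleCat.of R K) Y r) :
    extδ h Y r x = h.shortExact.extClass.comp x (add_comm 1 r) := rfl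

theorem ext_subsingleton_of_projective [Module.Projective R P] (Y : ModuleCat.{u} R) (r : ℕ) :
    Subsingleton (Ext (ModuleCat.of R P) Y (r + 1)) := by
  haveI : Projective (ModuleCat.of R P) :=
    (IsProjective.iff_projective (R := R) P).mp inferInstance
  exact ⟨fun a b => (Ext.eq_zero_of_projective a).trans (Ext.eq_zero_of_projective b).symm⟩

/-- dimension shifting in positive degrees -/
theorem extδ_bijective [Module.Projective R P] (h : IsSES i p) (Y : ModuleCat.{u} R) (r : ℕ) :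
    Function.Bijective (extδ h Y (r + 1)) := by
  have hSE := h.shortExact
  haveI := ext_subsingleton_of_projective (P := P) Y r
  haveI := ext_subsingleton_of_projective (P := P) Y (r + 1)
  constructor
  · rw [injective_iff_map_eq_zero]
    intro x hx
    obtain ⟨x₂, hx₂⟩ := Ext.contravariant_sequence_exact₁ hSE Y x (add_comm 1 (r + 1)) hx
    rw [← hx₂, Subsingleton.elim x₂ 0, Ext.comp_zero]
  · intro x₃
    have h0 : (Ext.mk₀ h.sc.g).comp x₃ (zero_add (r + 1 + 1)) = 0 := Subsingleton.elim _ _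
    obtain ⟨x₁, hx₁⟩ := Ext.contravariant_sequence_exact₃ hSE Y x₃ h0 (add_comm 1 (r + 1))
    exact ⟨x₁, hx₁⟩

/-- `Ext^0` is `Hom` -/
noncomputable def ext0Equiv (X Y : Type u) [AddCommGroup X] [Module R X] [AddCommGroup Y]
    [Module R Y] : Ext (ModuleCat.of R X) (ModuleCat.of R Y) 0 ≃ₗ[R] (X →ₗ[R] Y) :=
  Ext.linearEquiv₀.trans ModuleCat.homLinearEquiv

theorem ext0Equiv_symm_apply (X Y : Type u) [AddCommGroup X] [Module R X] [AddCommGroup Y]
    [Module R Y] (φ : X →ₗ[R] Y) :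
    (ext0Equiv X Y).symm φ = Ext.mk₀ (ModuleCat.ofHom φ) := rfl

/-- the boundary map `Hom(K, Y) → Ext^1(F, Y)` -/
noncomputable def bdry (h : IsSES i p) (Y : Type u) [AddCommGroup Y] [Module R Y] :
    (K →ₗ[R] Y) →ₗ[R] Ext (ModuleCat.of R F) (ModuleCat.of R Y) 1 :=
  extδ h (ModuleCat.of R Y) 0 ∘ₗ (ext0Equiv K Y).symm.toLinearMap

theorem bdry_apply (h : IsSES i p) (Y : Type u) [AddCommGroup Y] [Module R Y] (φ : K →ₗ[R] Y) :
    bdry h Y φ = h.shortExact.extClass.comp (Ext.mk₀ (ModuleCat.ofHom φ)) (add_comm 1 0) := rfl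

theorem bdry_surjective [Module.Projective R P] (h : IsSES i p) (Y : Type u) [AddCommGroup Y]
    [Module R Y] : Function.Surjective (bdry h Y) := by
  have hSE := h.shortExact
  haveI := ext_subsingleton_of_projective (P := P) (ModuleCat.of R Y) 0
  intro x₃
  have h0 : (Ext.mk₀ h.sc.g).comp x₃ (zero_add (0 + 1)) = 0 := Subsingleton.elim _ _
  obtain ⟨x₁, hx₁⟩ := Ext.contravariant_sequence_exact₃ hSE (ModuleCat.of R Y) x₃ h0
    (add_comm 1 0)
  refine ⟨ext0Equiv K Y x₁, ?_⟩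
  change extδ h (ModuleCat.of R Y) 0 ((ext0Equiv K Y).symm (ext0Equiv K Y x₁)) = x₃
  rw [LinearEquiv.symm_apply_apply]
  exact hx₁

theorem bdry_exact (h : IsSES i p) (Y : Type u) [AddCommGroup Y] [Module R Y] :
    Function.Exact (LinearMap.lcomp R Y i) (bdry h Y) := by
  have hSE := h.shortExact
  intro φ
  constructor
  · intro hφ
    rw [bdry_apply] at hφ
    obtain ⟨x₂, hx₂⟩ := Ext.contravariant_sequence_exact₁ hSE (ModuleCat.of R Y)
      (Ext.mk₀ (ModuleCat.ofHom φ)) (add_comm 1 0) hφ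
    refine ⟨ext0Equiv P Y x₂, ?_⟩
    apply (ext0Equiv K Y).symm.injective
    have h1 : x₂ = Ext.mk₀ (ModuleCat.ofHom (ext0Equiv P Y x₂)) := by
      rw [← ext0Equiv_symm_apply, LinearEquiv.symm_apply_apply]
    have h2 : (ext0Equiv K Y).symm φ = Ext.mk₀ (ModuleCat.ofHom φ) := rfl
    have h3 : (ext0Equiv K Y).symm (LinearMap.lcomp R Y i (ext0Equiv P Y x₂)) =
        Ext.mk₀ (ModuleCat.ofHom (LinearMap.lcomp R Y i (ext0Equiv P Y x₂))) := rfl
    rw [h2, h3, ← hx₂]
    conv_rhs => rw [h1]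
    rw [Ext.mk₀_comp_mk₀]
    rfl
  · rintro ⟨ψ, rfl⟩
    rw [bdry_apply]
    have h1 : Ext.mk₀ (ModuleCat.ofHom (LinearMap.lcomp R Y i ψ)) =
        (Ext.mk₀ h.sc.f).comp (Ext.mk₀ (ModuleCat.ofHom ψ)) (zero_add 0) := by
      rw [Ext.mk₀_comp_mk₀]
      rfl
    rw [h1, ← Ext.comp_assoc_of_second_deg_zero, hSE.extClass_comp, Ext.zero_comp]

end DS

section Coker

variable {B : Type u} [CommRing B] {X Y Z X' Y' Z' : Type u}
  [AddCommGroup X] [Module B X] [AddCommGroup Y] [Module B Y] [AddCommGroup Z] [Module B Z]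
  [AddCommGroup X'] [Module B X'] [AddCommGroup Y'] [Module B Y'] [AddCommGroup Z'] [Module B Z']

/-- isomorphic presentations have isomorphic cokernels -/
theorem nonempty_equiv_of_presentations (f : X →ₗ[B] Y) (g : Y →ₗ[B] Z) (f' : X' →ₗ[B] Y')
    (g' : Y' →ₗ[B] Z') (hfg : Function.Exact f g) (hg : Function.Surjective g)
    (hfg' : Function.Exact f' g') (hg' : Function.Surjective g')
    (e1 : X ≃ₗ[B] X') (e2 : Y ≃ₗ[B] Y') (hcomm : ∀ x, e2 (f x) = f' (e1 x)) :
    Nonempty (Z ≃ₗ[B] Z') := by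
  have hmap : (LinearMap.ker g).map (e2 : Y →ₗ[B] Y') = LinearMap.ker g' := by
    rw [LinearMap.exact_iff.mp hfg, LinearMap.exact_iff.mp hfg']
    ext y'
    constructor
    · rintro ⟨_, ⟨x, rfl⟩, rfl⟩
      exact ⟨e1 x, (hcomm x).symm⟩
    · rintro ⟨x', rfl⟩
      refine ⟨f (e1.symm x'), ⟨_, rfl⟩, ?_⟩
      change e2 (f (e1.symm x')) = f' x'
      rw [hcomm, LinearEquiv.apply_symm_apply]
  exact ⟨(g.quotKerEquivOfSurjective hg).symm ≪≫ₗ
    Submodule.Quotient.equiv (LinearMap.ker g) (LinearMap.ker g') e2 hmap ≪≫ₗ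
    g'.quotKerEquivOfSurjective hg'⟩

end Coker

end Groth.Agent.Helper8.ExtBC
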