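import Mathlib
import Groth.Agent.Lib.Helper14.EquidimDimFun

/-!
# Dimension functions vanishing at closed points on Jacobson schemes: basic computations
-/

set_option autoImplicit false
universe u
open CategoryTheory AlgebraicGeometry TopologicalSpace Algz

namespace Groth.Agent.Helper8.JD

open Groth.Agent.Helper14

section top

variable {T : Type*} [TopologicalSpace T]

theorem topDim_mono {A B : Set T} (h : A ⊆ B) :
    topologicalKrullDim ↥A ≤ topologicalKrullDim ↥B :=
  (Topology.IsEmbedding.inclusion h).isInducing.topologicalKrullDim_le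

theorem topDim_image {Y : Set T} (S : Set ↥Y) :
    topologicalKrullDim ↥S = topologicalKrullDim ↥(Subtype.val '' S : Set T) :=
  IsHomeomorph.topologicalKrullDim_eq _
    (Topology.IsEmbedding.subtypeVal.homeomorphImage S).isHomeomorph

end top

variable {X : Scheme.{u}} [IsLocallyNoetherian X] (δ : X → ℤ) (hδ : Cyc.IsDimFun X δ)

include hδ in
theorem delta_le_of_specializes {η t : X} (h : η ⤳ t) : δ t ≤ δ η := by
  by_cases e : η = t
  · rw [e]
  · exact (hδ η t h e).1.le

include hδ in
/-- `codimPt η x = δ η - δ x` for a dimension function. -/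
theorem codimPt_eq (η x : X) (h : η ⤳ x) :
    codimPt η x h = (((δ η - δ x).toNat : ℕ) : ℕ∞) := by
  obtain ⟨n, hn⟩ := ENat.ne_top_iff_exists.mp (CodimAdd.codimPt_lt_top η x h).ne
  let α := Set.Ici (Specialization.toEquiv x)
  let δ' : α → ℤ := fun t => - δ (Specialization.ofEquiv t.1)
  have hcov : ∀ y z : α, y ⋖ z → δ' y = δ' z + 1 := by
    intro y z hyz
    have h1 : Specialization.ofEquiv z.1 ⤳ Specialization.ofEquiv y.1 :=
      Specialization.ofEquiv_specializes_ofEquiv.mpr hyz.1.le
    have hne : Specialization.ofEquiv z.1 ≠ Specialization.ofEquiv y.1 := by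
      intro e
      have : z.1 = y.1 := Specialization.ofEquiv.injective e
      exact hyz.1.ne (Subtype.ext this.symm)
    have himm : ∀ w : X, Specialization.ofEquiv z.1 ⤳ w → w ⤳ Specialization.ofEquiv y.1 →
        w = Specialization.ofEquiv z.1 ∨ w = Specialization.ofEquiv y.1 := by
      intro w hzw hwy
      have hwx : Specialization.toEquiv x ≤ Specialization.toEquiv w :=
        le_trans (show Specialization.toEquiv x ≤ y.1 from y.2)
          ((Specialization.toEquiv_le_toEquiv (a := Specialization.ofEquiv y.1) (b := w)).mpr hwy)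
      let w' : α := ⟨Specialization.toEquiv w, hwx⟩
      have h2 : y ≤ w' :=
        (Specialization.toEquiv_le_toEquiv (a := Specialization.ofEquiv y.1) (b := w)).mpr hwy
      have h3 : w' ≤ z :=
        (Specialization.toEquiv_le_toEquiv (a := w) (b := Specialization.ofEquiv z.1)).mpr hzw
      by_cases e1 : y = w'
      · right
        have := congrArg (fun t : α => Specialization.ofEquiv t.1) e1
        exact this.symm
      · by_cases e2 : w' = z
        · left
          have := congrArg (fun t : α => Specialization.ofEquiv t.1) e2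
          exact this
        · exact absurd (lt_of_le_of_ne h3 e2) (hyz.2 (lt_of_le_of_ne h2 e1))
    have := (hδ _ _ h1 hne).2 himm
    simp only [δ']
    omega
  obtain ⟨y, _, hmin, hy⟩ := DimFun.exists_isMin_of_height δ' hcov n
    (⟨Specialization.toEquiv η, Specialization.toEquiv_le_toEquiv.mpr h⟩ : α) hn.symm
  have hbot : y = ⟨Specialization.toEquiv x, Set.mem_Ici.mpr le_rfl⟩ := by
    have h1 : (⟨Specialization.toEquiv x, Set.mem_Ici.mpr le_rfl⟩ : α) ≤ y := y.2
    exact le_antisymm (hmin h1) h1
  rw [hbot] at hy
  simp only [δ'] at hy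
  have h2 : δ (Specialization.ofEquiv (Specialization.toEquiv x)) = δ x := rfl
  have h3 : δ (Specialization.ofEquiv (Specialization.toEquiv η)) = δ η := rfl
  rw [h2, h3] at hy
  rw [← hn]
  have : (δ η - δ x).toNat = n := by omega
  rw [this]

include hδ in
/-- upper bound for the dimension of a quasi-sober subspace through the dimension function -/
theorem topDim_le (T : Set X) [QuasiSober ↥T] (c N : ℤ) (hc : ∀ t ∈ T, c ≤ δ t)
    (hN : ∀ t ∈ T, δ t ≤ N) :
    topologicalKrullDim ↥T ≤ (((N - c).toNat : ℕ) : WithBot ℕ∞) := by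
  refine DimClosure.topDim_le_of_strictAnti (fun z : ↥T => δ z.1) ?_ c N
    (fun z => hc z.1 z.2) (fun z => hN z.1 z.2)
  intro z z' hzz' hne
  have h1 : (z : X) ⤳ (z' : X) := (subtype_specializes_iff z z').mp hzz'
  exact (hδ _ _ h1 (fun e => hne (Subtype.ext e))).1

include hδ in
/-- lower bound for the dimension of a subspace containing an interval -/
theorem le_topDim (T : Set X) (η s : X) (h : η ⤳ s)
    (hsub : {t : X | η ⤳ t ∧ t ⤳ s} ⊆ T) :
    (((δ η - δ s).toNat : ℕ) : WithBot ℕ∞) ≤ topologicalKrullDim ↥T := by
  have h1 := EquidimDimFun.topDim_interval η s h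
  rw [codimPt_eq δ hδ η s h] at h1
  have h2 := topDim_mono hsub
  rw [h1] at h2
  exact h2

variable [JacobsonSpace X] (h0 : ∀ s : X, IsClosed ({s} : Set X) → δ s = 0)

include hδ h0 in
theorem delta_nonneg (t : X) : 0 ≤ δ t := by
  obtain ⟨s, hts, hs⟩ := EquidimDimFun.exists_closed_specializes t
  have := delta_le_of_specializes δ hδ hts
  rw [h0 s hs] at this
  exact this

include hδ h0 in
/-- the dimension of the closure of a point is the value of the dimension function -/
theorem dim_closure (η : X) :
    topologicalKrullDim ↥(closure ({η} : Set X)) = (((δ η).toNat : ℕ) : WithBot ℕ∞) := by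
  obtain ⟨s, hηs, hs⟩ := EquidimDimFun.exists_closed_specializes η
  have := DimClosure.dim_closure_of_isDimFun δ hδ η s hηs 0
    (fun y _ => delta_nonneg δ hδ h0 y) (h0 s hs)
  rw [sub_zero] at this
  exact this

end Groth.Agent.Helper8.JD
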