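import Mathlib
import Groth.Agent.Lib.Helper8.JD1
import Groth.Prelude.Def_Flat

/-!
# Local dimension of a closed subset of a Jacobson scheme with a dimension function
-/

set_option autoImplicit false
universe u
open CategoryTheory AlgebraicGeometry TopologicalSpace Algz

namespace Groth.Agent.Helper8.JD

open Groth.Agent.Helper14

variable {X : Scheme.{u}} [IsLocallyNoetherian X] (δ : X → ℤ) (hδ : Cyc.IsDimFun X δ)

theorem codimPt_le_dim (w v : X) (h : w ⤳ v) :
    ((codimPt w v h : ℕ∞) : WithBot ℕ∞) ≤ ringKrullDim (X.presheaf.stalk v) := by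
  have hw : w ∈ Set.range (X.fromSpecStalk v) := by
    rw [Scheme.range_fromSpecStalk]; exact h
  obtain ⟨P, hP⟩ := hw
  have h1 := DeltaZ.codimPt_le_ringKrullDim_stalk X w v h P hP
  have h2 : ringKrullDim (X.presheaf.stalk v ⧸ P.asIdeal) ≤ ringKrullDim (X.presheaf.stalk v) :=
    ringKrullDim_quotient_le _
  exact h1.trans h2

variable (Y : Set X) (hY : IsClosed Y) (x : X) (hx : x ∈ Y)

include hδ hx in
/-- the dimension function attains a maximum on the generizations of `x` in `Y` -/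
theorem exists_max : ∃ η₀ ∈ Y, η₀ ⤳ x ∧ ∀ η ∈ Y, η ⤳ x → δ η ≤ δ η₀ := by
  have hlt : ringKrullDim (X.presheaf.stalk x) < ⊤ := ringKrullDim_lt_top
  have h0 : (0 : WithBot ℕ∞) ≤ ringKrullDim (X.presheaf.stalk x) :=
    ringKrullDim_nonneg_of_nontrivial
  obtain ⟨n, hn⟩ : ∃ n : ℕ, ringKrullDim (X.presheaf.stalk x) = (n : WithBot ℕ∞) := by
    generalize ringKrullDim (X.presheaf.stalk x) = r at h0 hlt
    induction r with
    | bot => simp at h0
    | coe r =>
      induction r with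
      | top => exact absurd hlt (lt_irrefl _)
      | coe r => exact ⟨r, rfl⟩
  have hb : ∀ η : X, η ⤳ x → δ η ≤ δ x + n := by
    intro η hη
    have h1 := codimPt_le_dim η x hη
    rw [codimPt_eq δ hδ η x hη, hn] at h1
    have h2 : (δ η - δ x).toNat ≤ n := by exact_mod_cast h1
    omega
  obtain ⟨ub, ⟨η₀, hη₀Y, hη₀x, rfl⟩, hub⟩ :=
    Int.exists_greatest_of_bdd (P := fun z => ∃ η ∈ Y, η ⤳ x ∧ δ η = z)
      ⟨δ x + n, by rintro z ⟨η, -, hη, rfl⟩; exact hb η hη⟩
      ⟨δ x, x, hx, specializes_rfl, rfl⟩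
  exact ⟨η₀, hη₀Y, hη₀x, fun η hηY hηx => hub _ ⟨η, hηY, hηx, rfl⟩⟩

variable [JacobsonSpace X] (h0 : ∀ s : X, IsClosed ({s} : Set X) → δ s = 0)

include hδ h0 hY in
/-- every open neighbourhood of `x` in `Y` has dimension at least `δ η` for `η` a generization
of `x` in `Y` -/
theorem le_topDim_inter (U : Set X) (hU : IsOpen U) (hxU : x ∈ U) (η : X) (hη : η ∈ Y)
    (hηx : η ⤳ x) :
    (((δ η).toNat : ℕ) : WithBot ℕ∞) ≤ topologicalKrullDim ↥(U ∩ Y) := by
  obtain ⟨s, ⟨hs1, hs2⟩, hs3⟩ := nonempty_inter_closedPoints (Z := closure ({x} : Set X) ∩ U)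
    ⟨x, subset_closure rfl, hxU⟩ (isClosed_closure.isLocallyClosed.inter hU.isLocallyClosed)
  have hxs : x ⤳ s := specializes_iff_mem_closure.mpr hs1
  have hsc : IsClosed ({s} : Set X) := hs3
  have := le_topDim δ hδ (U ∩ Y) η s (hηx.trans hxs) (by
    rintro t ⟨h1, h2⟩
    exact ⟨h2.mem_open hU hs2, h1.mem_closed hY hη⟩)
  rw [h0 s hsc, sub_zero] at this
  exact this

include hδ h0 hY hx in
/-- some open neighbourhood of `x` in `Y` has dimension at most the maximum of `δ` on the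
generizations of `x` in `Y` -/
theorem exists_open_topDim_le (η₀ : X) (hmax : ∀ η ∈ Y, η ⤳ x → δ η ≤ δ η₀) :
    ∃ U : Set X, IsOpen U ∧ x ∈ U ∧
      topologicalKrullDim ↥(U ∩ Y) ≤ (((δ η₀).toNat : ℕ) : WithBot ℕ∞) := by
  obtain ⟨_, ⟨V, hV, rfl⟩, hxV, -⟩ := X.isBasis_affineOpens.exists_subset_of_mem_open
    (Set.mem_univ x) isOpen_univ
  have hV : IsAffineOpen V := hV
  haveI : IsNoetherianRing Γ(X, V) := IsLocallyNoetherian.component_noetherian ⟨V, hV⟩
  haveI : NoetherianSpace ↥V := noetherianSpace_of_isAffineOpen V hV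
  let Z : Set X := Y ∩ (V : Set X)
  have hZV : Z ⊆ (V : Set X) := Set.inter_subset_right
  haveI : NoetherianSpace ↥Z :=
    (Topology.IsEmbedding.inclusion hZV).isInducing.noetherianSpace
  haveI : QuasiSober ↥(V : Set X) := V.isOpen.isOpenEmbedding_subtypeVal.quasiSober
  haveI : QuasiSober ↥Z := by
    have := QuasiSober.inter_of_isClosed_of_quasiSober_left (V := Y) (V : Set X) hY
    rwa [Set.inter_comm] at this
  let x' : ↥Z := ⟨x, hx, hxV⟩
  have hfin : (irreducibleComponents ↥Z).Finite := NoetherianSpace.finite_irreducibleComponents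
  let B : Set ↥Z := ⋃ C ∈ {C : Set ↥Z | C ∈ irreducibleComponents ↥Z ∧ x' ∉ C}, C
  have hB : IsClosed B := by
    refine Set.Finite.isClosed_biUnion (hfin.subset (fun C hC => hC.1)) ?_
    intro C hC
    exact isClosed_of_mem_irreducibleComponents C hC.1
  have hxB : x' ∉ B := by
    intro h
    simp only [B, Set.mem_iUnion, Set.mem_ofPred_eq] at h
    obtain ⟨C, hC, hxC⟩ := h
    exact hC.2 hxC
  obtain ⟨O, hO, hOB⟩ := isOpen_induced_iff.mp hB.isOpen_compl
  have hxO : x ∈ O := by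
    have : x' ∈ Subtype.val ⁻¹' O := by rw [hOB]; exact hxB
    exact this
  refine ⟨O ∩ (V : Set X), hO.inter V.isOpen, ⟨hxO, hxV⟩, ?_⟩
  haveI : QuasiSober ↥(O ∩ (V : Set X)) :=
    (hO.inter V.isOpen).isOpenEmbedding_subtypeVal.quasiSober
  haveI : QuasiSober ↥(O ∩ (V : Set X) ∩ Y) :=
    QuasiSober.inter_of_isClosed_of_quasiSober_left (V := Y) (O ∩ (V : Set X)) hY
  have hbound : ∀ t ∈ O ∩ (V : Set X) ∩ Y, δ t ≤ δ η₀ := by
    rintro t ⟨⟨htO, htV⟩, htY⟩
    let t' : ↥Z := ⟨t, htY, htV⟩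
    have htB : t' ∉ B := by
      have : t' ∈ Subtype.val ⁻¹' O := htO
      rw [hOB] at this
      exact this
    have hxC : x' ∈ irreducibleComponent t' := by
      by_contra hxC
      apply htB
      simp only [B, Set.mem_iUnion, Set.mem_ofPred_eq]
      exact ⟨irreducibleComponent t', ⟨irreducibleComponent_mem_irreducibleComponents t', hxC⟩,
        mem_irreducibleComponent⟩
    obtain ⟨ξ, hξ⟩ := QuasiSober.sober (isIrreducible_irreducibleComponent (x := t'))
      isClosed_irreducibleComponent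
    have hcl : closure ({ξ} : Set ↥Z) = irreducibleComponent t' := hξ.def
    have h1 : ξ ⤳ t' := by
      rw [specializes_iff_mem_closure, hcl]; exact mem_irreducibleComponent
    have h2 : ξ ⤳ x' := by
      rw [specializes_iff_mem_closure, hcl]; exact hxC
    have h1' : (ξ : X) ⤳ t := (subtype_specializes_iff ξ t').mp h1
    have h2' : (ξ : X) ⤳ x := (subtype_specializes_iff ξ x').mp h2
    exact (delta_le_of_specializes δ hδ h1').trans (hmax ξ.1 ξ.2.1 h2')
  have := topDim_le δ hδ (O ∩ (V : Set X) ∩ Y) 0 (δ η₀)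
    (fun t _ => delta_nonneg δ hδ h0 t) hbound
  rw [sub_zero] at this
  exact this

include hδ h0 hY in
/-- the local dimension of `Y` at `x` is the maximum of `δ` on the generizations of `x` in `Y` -/
theorem localDim_eq (η₀ : X) (hη₀ : η₀ ∈ Y) (hη₀x : η₀ ⤳ x)
    (hmax : ∀ η ∈ Y, η ⤳ x → δ η ≤ δ η₀) :
    FlatMor.localDim ↥Y ⟨x, hx⟩ = (((δ η₀).toNat : ℕ) : WithBot ℕ∞) := by
  unfold FlatMor.localDim
  apply le_antisymm
  · obtain ⟨U, hU, hxU, hle⟩ := exists_open_topDim_le δ hδ Y hY x hx h0 η₀ hmax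
    let U' : TopologicalSpace.Opens ↥Y := ⟨Subtype.val ⁻¹' U, hU.preimage continuous_subtype_val⟩
    refine iInf_le_of_le ⟨U', hxU⟩ ?_
    rw [topDim_image]
    have : (Subtype.val '' (U' : Set ↥Y) : Set X) = U ∩ Y := by
      change Subtype.val '' (Subtype.val ⁻¹' U : Set ↥Y) = U ∩ Y
      rw [Subtype.image_preimage_coe, Set.inter_comm]
    rw [this]
    exact hle
  · refine le_iInf fun U => ?_
    obtain ⟨O, hO, hOU⟩ := isOpen_induced_iff.mp U.1.isOpen
    rw [topDim_image]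
    have : (Subtype.val '' (U.1 : Set ↥Y) : Set X) = O ∩ Y := by
      rw [← hOU, Subtype.image_preimage_coe, Set.inter_comm]
    rw [this]
    have hxO : x ∈ O := by
      have h1 : (⟨x, hx⟩ : ↥Y) ∈ (U.1 : Set ↥Y) := U.2
      rw [← hOU] at h1
      exact h1
    exact le_topDim_inter δ hδ Y hY x h0 O hO hxO η₀ hη₀ hη₀x

end Groth.Agent.Helper8.JD
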