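import Mathlib
import Groth.Agent.Lib.Helper8.JD2

/-!
# Local dimension of a closed subset of a Jacobson scheme with a dimension function, II
-/

set_option autoImplicit false
universe u
open CategoryTheory AlgebraicGeometry TopologicalSpace Algz

namespace Groth.Agent.Helper8.JD

open Groth.Agent.Helper14

variable {X : Scheme.{u}}

/-- the space of generizations of `x` in a closed subset is quasi-sober -/
theorem quasiSober_gen (Y : Set X) (hY : IsClosed Y) (x : X) :
    QuasiSober ↥{t : X | t ∈ Y ∧ t ⤳ x} := by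
  constructor
  intro Z hZirr hZcl
  have himg : IsIrreducible (Subtype.val '' Z) :=
    hZirr.image _ continuous_subtype_val.continuousOn
  obtain ⟨g, hg⟩ := QuasiSober.sober himg.closure isClosed_closure
  have hgcl : closure ({g} : Set X) = closure (Subtype.val '' Z) := hg.def
  have h1 : g ∈ Y := by
    have hsub : closure (Subtype.val '' Z) ⊆ Y := by
      apply closure_minimal _ hY
      rintro _ ⟨z, -, rfl⟩
      exact z.2.1
    exact hsub (hgcl ▸ subset_closure rfl)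
  obtain ⟨z, hz⟩ := hZirr.nonempty
  have h2 : g ⤳ x := by
    have : (z : X) ∈ closure ({g} : Set X) := by
      rw [hgcl]; exact subset_closure ⟨z, hz, rfl⟩
    exact (specializes_iff_mem_closure.mpr this).trans z.2.2
  refine ⟨⟨g, h1, h2⟩, ?_⟩
  change closure _ = Z
  rw [Topology.IsInducing.subtypeVal.closure_eq_preimage_closure_image, Set.image_singleton, hgcl,
    ← Topology.IsInducing.subtypeVal.closure_eq_preimage_closure_image, hZcl.closure_eq]

variable [IsLocallyNoetherian X] (δ : X → ℤ) (hδ : Cyc.IsDimFun X δ)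
  (Y : Set X) (hY : IsClosed Y) (x : X) (hx : x ∈ Y)

include hδ hY in
/-- the dimension of the space of generizations of `x` in `Y` -/
theorem topDim_gen (η₀ : X) (hη₀ : η₀ ∈ Y) (hη₀x : η₀ ⤳ x)
    (hmax : ∀ η ∈ Y, η ⤳ x → δ η ≤ δ η₀) :
    topologicalKrullDim ↥{t : X | t ∈ Y ∧ t ⤳ x} =
      (((δ η₀ - δ x).toNat : ℕ) : WithBot ℕ∞) := by
  haveI := quasiSober_gen Y hY x
  apply le_antisymm
  · exact topDim_le δ hδ _ (δ x) (δ η₀) (fun t ht => delta_le_of_specializes δ hδ ht.2)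
      (fun t ht => hmax t ht.1 ht.2)
  · exact le_topDim δ hδ _ η₀ x hη₀x (fun t ht => ⟨ht.1.mem_closed hY hη₀, ht.2⟩)

variable [JacobsonSpace X] (h0 : ∀ s : X, IsClosed ({s} : Set X) → δ s = 0)

include hδ h0 hY in
theorem dim_closure_add_topDim_gen (η₀ : X) (hη₀ : η₀ ∈ Y) (hη₀x : η₀ ⤳ x)
    (hmax : ∀ η ∈ Y, η ⤳ x → δ η ≤ δ η₀) :
    topologicalKrullDim ↥(closure ({x} : Set X)) +
        topologicalKrullDim ↥{t : X | t ∈ Y ∧ t ⤳ x} =
      (((δ η₀).toNat : ℕ) : WithBot ℕ∞) := by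
  rw [dim_closure δ hδ h0 x, topDim_gen δ hδ Y hY x η₀ hη₀ hη₀x hmax]
  have h1 := delta_nonneg δ hδ h0 x
  have h2 := delta_le_of_specializes δ hδ hη₀x
  have : (δ x).toNat + (δ η₀ - δ x).toNat = (δ η₀).toNat := by omega
  rw [← this]
  push_cast
  rfl

include hδ h0 hY in
/-- dimension of an irreducible component of `Y` through its generic point -/
theorem exists_generic_of_component (C : Set ↥Y) (hC : C ∈ irreducibleComponents ↥Y) :
    ∃ ξ : ↥Y, closure ({ξ} : Set ↥Y) = C ∧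
      topologicalKrullDim ↥C = (((δ ξ.1).toNat : ℕ) : WithBot ℕ∞) := by
  haveI : QuasiSober ↥Y := hY.isClosedEmbedding_subtypeVal.quasiSober
  obtain ⟨ξ, hξ⟩ := QuasiSober.sober hC.1 (isClosed_of_mem_irreducibleComponents C hC)
  have hcl : closure ({ξ} : Set ↥Y) = C := hξ.def
  refine ⟨ξ, hcl, ?_⟩
  rw [topDim_image, ← hcl, ← hY.isClosedEmbedding_subtypeVal.closure_image_eq, Set.image_singleton]
  exact dim_closure δ hδ h0 ξ.1

include hδ h0 hY in
theorem iSup_components_eq (η₀ : X) (hη₀ : η₀ ∈ Y) (hη₀x : η₀ ⤳ x)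
    (hmax : ∀ η ∈ Y, η ⤳ x → δ η ≤ δ η₀) :
    (⨆ C ∈ {C : Set ↥Y | C ∈ irreducibleComponents ↥Y ∧ (⟨x, hx⟩ : ↥Y) ∈ C},
      topologicalKrullDim ↥C) = (((δ η₀).toNat : ℕ) : WithBot ℕ∞) := by
  apply le_antisymm
  · refine iSup₂_le fun C hC => ?_
    obtain ⟨ξ, hcl, hdim⟩ := exists_generic_of_component δ hδ Y hY h0 C hC.1
    rw [hdim]
    have h1 : ξ ⤳ (⟨x, hx⟩ : ↥Y) := by
      rw [specializes_iff_mem_closure, hcl]; exact hC.2
    have h1' : (ξ : X) ⤳ x := (subtype_specializes_iff ξ ⟨x, hx⟩).mp h1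
    have h2 := hmax ξ.1 ξ.2 h1'
    have h3 : (δ ξ.1).toNat ≤ (δ η₀).toNat := Int.toNat_le_toNat h2
    exact_mod_cast h3
  · let η' : ↥Y := ⟨η₀, hη₀⟩
    have hC₀ := irreducibleComponent_mem_irreducibleComponents η'
    have hxC : (⟨x, hx⟩ : ↥Y) ∈ irreducibleComponent η' := by
      have h1 : η' ⤳ (⟨x, hx⟩ : ↥Y) := (subtype_specializes_iff η' ⟨x, hx⟩).mpr hη₀x
      exact h1.mem_closed isClosed_irreducibleComponent mem_irreducibleComponent
    obtain ⟨ξ, hcl, hdim⟩ := exists_generic_of_component δ hδ Y hY h0 _ hC₀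
    have h1 : ξ ⤳ η' := by
      rw [specializes_iff_mem_closure, hcl]; exact mem_irreducibleComponent
    have h1' : (ξ : X) ⤳ η₀ := (subtype_specializes_iff ξ η').mp h1
    have h2 := delta_le_of_specializes δ hδ h1'
    have h3 : (δ η₀).toNat ≤ (δ ξ.1).toNat := Int.toNat_le_toNat h2
    refine le_trans ?_ (le_iSup₂_of_le (irreducibleComponent η') ⟨hC₀, hxC⟩ le_rfl)
    rw [hdim]
    exact_mod_cast h3

include hδ h0 hY in
theorem topDim_inter_eq (η₀ : X) (hη₀ : η₀ ∈ Y) (hη₀x : η₀ ⤳ x)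
    (hmax : ∀ η ∈ Y, η ⤳ x → δ η ≤ δ η₀) (U : Set X) (hU : IsOpen U) (hxU : x ∈ U)
    (hdis : ∀ C ∈ irreducibleComponents ↥Y, (⟨x, hx⟩ : ↥Y) ∉ C →
      Disjoint (Subtype.val ⁻¹' U) C) :
    topologicalKrullDim ↥(U ∩ Y) = (((δ η₀).toNat : ℕ) : WithBot ℕ∞) := by
  apply le_antisymm
  · haveI : QuasiSober ↥U := hU.isOpenEmbedding_subtypeVal.quasiSober
    haveI : QuasiSober ↥(U ∩ Y) :=
      QuasiSober.inter_of_isClosed_of_quasiSober_left (V := Y) U hY
    haveI : QuasiSober ↥Y := hY.isClosedEmbedding_subtypeVal.quasiSober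
    have hbound : ∀ t ∈ U ∩ Y, δ t ≤ δ η₀ := by
      rintro t ⟨htU, htY⟩
      let t' : ↥Y := ⟨t, htY⟩
      have hxC : (⟨x, hx⟩ : ↥Y) ∈ irreducibleComponent t' := by
        by_contra hxC
        have hd := hdis _ (irreducibleComponent_mem_irreducibleComponents t') hxC
        exact (Set.disjoint_left.mp hd) (show t' ∈ Subtype.val ⁻¹' U from htU)
          mem_irreducibleComponent
      obtain ⟨ξ, hξ⟩ := QuasiSober.sober (isIrreducible_irreducibleComponent (x := t'))
        isClosed_irreducibleComponent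
      have hcl : closure ({ξ} : Set ↥Y) = irreducibleComponent t' := hξ.def
      have h1 : ξ ⤳ t' := by
        rw [specializes_iff_mem_closure, hcl]; exact mem_irreducibleComponent
      have h2 : ξ ⤳ (⟨x, hx⟩ : ↥Y) := by
        rw [specializes_iff_mem_closure, hcl]; exact hxC
      have h1' : (ξ : X) ⤳ t := (subtype_specializes_iff ξ t').mp h1
      have h2' : (ξ : X) ⤳ x := (subtype_specializes_iff ξ ⟨x, hx⟩).mp h2
      exact (delta_le_of_specializes δ hδ h1').trans (hmax ξ.1 ξ.2 h2')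
    have := topDim_le δ hδ (U ∩ Y) 0 (δ η₀) (fun t _ => delta_nonneg δ hδ h0 t) hbound
    rw [sub_zero] at this
    exact this
  · exact le_topDim_inter δ hδ Y hY x h0 U hU hxU η₀ hη₀ hη₀x

end Groth.Agent.Helper8.JD
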