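import Mathlib
import Groth.Prelude.Def_FlatCA
import Groth.Agent.Lib.Helper8.SmD1
import Groth.Agent.Lib.Helper14.TrdegBridge
import Groth.Agent.Lib.Helper14.FibreGeneric

/-!
# The dimension of the fibre local rings of a smooth algebra of relative dimension `n` (helper8)
-/

set_option autoImplicit false

universe u

namespace Groth.Agent.Helper8.SmD

open TensorProduct IsLocalRing Groth.Agent.Lead.Fib AlgebraicGeometry CategoryTheory

variable {A B : Type u} [CommRing A] [CommRing B] [Algebra A B] {n : ℕ}

theorem smooth_of_smoothRelDim (hs : FlatCA.SmoothRelDim n A B) : Algebra.Smooth A B := by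
  haveI : SmoothOfRelativeDimension n (Spec.map (CommRingCat.ofHom (algebraMap A B))) := hs
  have h1 : AlgebraicGeometry.Smooth (Spec.map (CommRingCat.ofHom (algebraMap A B))) :=
    SmoothOfRelativeDimension.smooth (n := n) _
  rw [HasRingHomProperty.Spec_iff (P := @AlgebraicGeometry.Smooth)] at h1
  exact RingHom.smooth_algebraMap.mp h1

theorem exists_away_of_smoothRelDim (hs : FlatCA.SmoothRelDim n A B) (q : Ideal B) [hq : q.IsPrime] :
    ∃ g : B, g ∉ q ∧ Algebra.IsStandardSmoothOfRelativeDimension n A (Localization.Away g) := by
  have h1 := (HasRingHomProperty.Spec_iff (P := @SmoothOfRelativeDimension n)).mp hs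
  obtain ⟨s, hs1, hs2⟩ := h1
  have : ∃ g ∈ s, g ∉ q := by
    by_contra hcon
    push Not at hcon
    have h2 : Ideal.span s ≤ q := Ideal.span_le.mpr hcon
    rw [hs1] at h2
    exact hq.ne_top (top_le_iff.mp h2)
  obtain ⟨g, hgs, hgq⟩ := this
  refine ⟨g, hgq, ?_⟩
  have h2 := hs2 g hgs
  rw [← RingHom.isStandardSmoothOfRelativeDimension_algebraMap]
  have h3 : algebraMap A (Localization.Away g) =
      (algebraMap B (Localization.Away g)).comp (algebraMap A B) :=
    IsScalarTower.algebraMap_eq A B _
  rw [h3]
  exact h2

section Away

variable (q : Ideal B) [hqp : q.IsPrime] (g : B) (hg : g ∉ q)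

include hg in
theorem away_disjoint : Disjoint (Submonoid.powers g : Set B) (q : Set B) :=
  (Ideal.disjoint_powers_iff_notMem_of_isPrime _).mpr hg

include hg in
theorem away_prime : (q.map (algebraMap B (Localization.Away g))).IsPrime :=
  IsLocalization.isPrime_of_isPrime_disjoint (.powers g) _ _ hqp (away_disjoint q g hg)

include hg in
theorem away_comap :
    (q.map (algebraMap B (Localization.Away g))).comap (algebraMap B (Localization.Away g)) = q :=
  IsLocalization.comap_map_of_isPrime_disjoint (.powers g) _ hqp (away_disjoint q g hg)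

include hg in
theorem away_liesOver (p : Ideal A) [hlo : q.LiesOver p] :
    (q.map (algebraMap B (Localization.Away g))).LiesOver p := by
  refine ⟨?_⟩
  rw [Ideal.under_def, IsScalarTower.algebraMap_eq A B (Localization.Away g), ← Ideal.comap_comap,
    away_comap q g hg]
  exact hlo.over

/-- the transcendence degree of the residue field extension, computed on `B_g` -/
theorem trdeg_away (p : Ideal A) [p.IsPrime] [hlo : q.LiesOver p] (t : ℕ)
    (ht : @Algebra.trdeg p.ResidueField q.ResidueField _ _
      (Ideal.ResidueField.mapₐ p q (Algebra.ofId A B) hlo.over).toRingHom.toAlgebra =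
        (t : Cardinal.{u})) :
    haveI := away_prime q g hg
    haveI := away_liesOver q g hg p
    Algebra.trdeg (A ⧸ p) (Localization.Away g ⧸ q.map (algebraMap B (Localization.Away g))) =
      (t : Cardinal.{u}) := by
  haveI := away_prime q g hg
  haveI := away_liesOver q g hg p
  have hu : IsUnit (algebraMap B q.ResidueField g) := by
    rw [isUnit_iff_ne_zero, Ne, Ideal.algebraMap_residueField_eq_zero]
    exact hg
  let b : Localization.Away g →+* q.ResidueField := IsLocalization.Away.lift g hu
  have hbB : ∀ x : B, b (algebraMap B (Localization.Away g) x) = algebraMap B q.ResidueField x :=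
    fun x => IsLocalization.Away.lift_eq g hu x
  have hb : RingHom.ker b = q.map (algebraMap B (Localization.Away g)) := by
    rw [← IsLocalization.map_comap (Submonoid.powers g) (Localization.Away g) (RingHom.ker b)]
    congr 1
    ext x
    rw [Ideal.mem_comap, RingHom.mem_ker, hbB, Ideal.algebraMap_residueField_eq_zero]
  have key := Groth.Agent.Helper14.TrdegBridge.trdeg_eq_of_fraction (A := A)
    (B := Localization.Away g) p (q.map (algebraMap B (Localization.Away g)))
    (algebraMap A p.ResidueField) (Ideal.ker_algebraMap_residueField p) b hb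
    (Ideal.ResidueField.mapₐ p q (Algebra.ofId A B) hlo.over).toRingHom ?_
    (Groth.Agent.Helper14.FibreGeneric.fraction_residueField A p) ?_
  · rw [← key]
    exact ht
  · ext r
    simp only [RingHom.comp_apply]
    rw [IsScalarTower.algebraMap_apply A B (Localization.Away g), hbB]
    change Ideal.ResidueField.mapₐ p q (Algebra.ofId A B) hlo.over (algebraMap A p.ResidueField r) = _
    rw [AlgHom.commutes]
    exact IsScalarTower.algebraMap_apply A B q.ResidueField r
  · intro z
    obtain ⟨r, s, hs, hz⟩ := Groth.Agent.Helper14.FibreGeneric.fraction_residueField B q z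
    refine ⟨algebraMap B _ r, algebraMap B _ s, ?_, ?_⟩
    · rw [hbB]; exact hs
    · rw [hbB, hbB]; exact hz

theorem isLocalization_of_eq {T : Type u} [CommRing T] [Algebra B T] (r q : Ideal B) [r.IsPrime]
    [q.IsPrime] (h : r = q) (hr : IsLocalization.AtPrime T r) : IsLocalization.AtPrime T q := by
  subst h
  exact hr

/-- `B_q ≃ (B_g)_{q B_g}` -/
noncomputable def locAwayEquiv :
    haveI := away_prime q g hg
    Localization.AtPrime q ≃ₐ[B]
      Localization.AtPrime (q.map (algebraMap B (Localization.Away g))) :=
  haveI := away_prime q g hg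
  haveI h1 : IsLocalization.AtPrime
      (Localization.AtPrime (q.map (algebraMap B (Localization.Away g))))
      ((q.map (algebraMap B (Localization.Away g))).comap
        (algebraMap B (Localization.Away g))) :=
    IsLocalization.isLocalization_isLocalization_atPrime_isLocalization (Submonoid.powers g)
      (Localization.AtPrime (q.map (algebraMap B (Localization.Away g))))
      (q.map (algebraMap B (Localization.Away g)))
  haveI : IsLocalization.AtPrime
      (Localization.AtPrime (q.map (algebraMap B (Localization.Away g)))) q :=
    isLocalization_of_eq _ q (away_comap q g hg) h1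
  IsLocalization.algEquiv q.primeCompl _ _

/-- `FL p q ≃ FL p (q B_g)` -/
noncomputable def flAwayEquiv (p : Ideal A) :
    haveI := away_prime q g hg
    FL p q ≃+* FL p (q.map (algebraMap B (Localization.Away g))) :=
  haveI := away_prime q g hg
  Ideal.quotientEquiv _ _ (locAwayEquiv q g hg).toRingEquiv (by
    rw [Ideal.map_map]
    congr 1
    ext a
    simp only [RingHom.comp_apply]
    rw [IsScalarTower.algebraMap_apply A B (Localization.AtPrime q)]
    change _ = (locAwayEquiv q g hg) _
    rw [AlgEquiv.commutes]
    rw [IsScalarTower.algebraMap_apply A B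
      (Localization.AtPrime (q.map (algebraMap B (Localization.Away g))))])

end Away

/-- **dimension of the fibre local rings of a smooth algebra of relative dimension `n`** -/
theorem ringKrullDim_FL_of_smoothRelDim (hs : FlatCA.SmoothRelDim n A B) (p : Ideal A) [p.IsPrime]
    (q : Ideal B) [q.IsPrime] [hlo : q.LiesOver p] (t : ℕ)
    (ht : @Algebra.trdeg p.ResidueField q.ResidueField _ _
      (Ideal.ResidueField.mapₐ p q (Algebra.ofId A B) hlo.over).toRingHom.toAlgebra =
        (t : Cardinal.{u})) :
    ringKrullDim (FL p q) + (t : WithBot ℕ∞) = (n : WithBot ℕ∞) := by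
  obtain ⟨g, hg, hsm⟩ := exists_away_of_smoothRelDim hs q
  haveI := away_prime q g hg
  haveI := away_liesOver q g hg p
  rw [ringKrullDim_eq_of_ringEquiv (flAwayEquiv q g hg p)]
  exact ringKrullDim_FL_add_trdeg A (Localization.Away g) n p _ t (trdeg_away q g hg p t ht)

end Groth.Agent.Helper8.SmD
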