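import Mathlib.RingTheory.Ideal.Operations

/-! # Small lemmas on `I ^ k • ⊤` (helper8 library) -/

set_option autoImplicit false

namespace Groth.Agent.Helper8.Adic

universe u v w

/-- Linear maps preserve `I • ⊤`. -/
theorem map_mem_smul_top {A : Type u} [CommRing A] (I : Ideal A) {P : Type v} {Q : Type w}
    [AddCommGroup P] [Module A P] [AddCommGroup Q] [Module A Q] (g : P →ₗ[A] Q) {x : P}
    (hx : x ∈ I • (⊤ : Submodule A P)) : g x ∈ I • (⊤ : Submodule A Q) := by
  have h1 : g x ∈ (I • (⊤ : Submodule A P)).map g := Submodule.mem_map_of_mem hx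
  rw [Submodule.map_smul''] at h1
  exact Submodule.smul_mono le_rfl le_top h1

end Groth.Agent.Helper8.Adic
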