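import Groth.Prelude.Def_SGA3b
import Groth.Agent.Lib.Helper8.Adic
import Mathlib.RingTheory.Filtration
import Mathlib.RingTheory.AdicCompletion.Basic
import Mathlib.RingTheory.Flat.FaithfullyFlat.Algebra
import Mathlib.LinearAlgebra.TensorProduct.Quotient
import Mathlib.Algebra.MonoidAlgebra.Module

/-!
# Isotrivial Hopf algebras over a complete Noetherian base are adically separated
-/

set_option autoImplicit false
universe u

open TensorProduct

namespace Groth.Agent.Helper8.AdicSep

open Groth.Agent.Helper8.Adic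

variable {A : Type u} [CommRing A] (I : Ideal A)

/-- An injective linear map into a separated module has separated source. -/
theorem eq_zero_of_injective {P Q : Type*} [AddCommGroup P] [Module A P] [AddCommGroup Q]
    [Module A Q] (g : P →ₗ[A] Q) (hg : Function.Injective g)
    (hQ : (⨅ n : ℕ, I ^ n • (⊤ : Submodule A Q)) = ⊥) {x : P}
    (hx : ∀ n : ℕ, x ∈ I ^ n • (⊤ : Submodule A P)) : x = 0 := by
  apply hg
  rw [map_zero]
  have : g x ∈ ⨅ n : ℕ, I ^ n • (⊤ : Submodule A Q) :=
    (Submodule.mem_iInf _).mpr fun n => map_mem_smul_top (I ^ n) g (hx n)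
  rw [hQ] at this
  exact (Submodule.mem_bot A).mp this

/-- A group algebra over a separated algebra is separated. -/
theorem monoidAlgebra_sep {R' : Type u} [CommRing R'] [Algebra A R'] (M : Type u) [Monoid M]
    (hR' : (⨅ n : ℕ, I ^ n • (⊤ : Submodule A R')) = ⊥) :
    (⨅ n : ℕ, I ^ n • (⊤ : Submodule A (MonoidAlgebra R' M))) = ⊥ := by
  rw [eq_bot_iff]
  intro x hx
  rw [Submodule.mem_bot]
  have hcoef : ∀ m : M, x.coeff m = 0 := by
    intro m
    let ev : MonoidAlgebra R' M →ₗ[A] R' :=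
      (Finsupp.lapply (R := A) (M := R') m) ∘ₗ
        (MonoidAlgebra.coeffLinearEquiv (M := M) (S := R') A).toLinearMap
    have h1 : ev x ∈ ⨅ n : ℕ, I ^ n • (⊤ : Submodule A R') :=
      (Submodule.mem_iInf _).mpr fun n =>
        map_mem_smul_top (I ^ n) ev ((Submodule.mem_iInf _).mp hx n)
    rw [hR'] at h1
    exact (Submodule.mem_bot A).mp h1
  apply MonoidAlgebra.coeffEquiv.injective
  ext m
  exact hcoef m

theorem isotrivial_sep [IsNoetherianRing A] [IsAdicComplete I A]
    (B : Type u) [CommRing B] [HopfAlgebra A B] (hH : SGA3b.IsIsotrivial A B) {x : B}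
    (hx : ∀ n : ℕ, x ∈ I ^ n • (⊤ : Submodule A B)) : x = 0 := by
  obtain ⟨R', _, _, -, hfin, hff, M, _, ⟨e⟩⟩ := hH
  have hR' : (⨅ n : ℕ, I ^ n • (⊤ : Submodule A R')) = ⊥ :=
    Ideal.iInf_pow_smul_eq_bot_of_le_jacobson I (IsAdicComplete.le_jacobson_bot I)
  have hMA := monoidAlgebra_sep I M hR'
  let g : B →ₗ[A] MonoidAlgebra R' M :=
    ((e : (R' ⊗[A] B) ≃ₗ[R'] MonoidAlgebra R' M).restrictScalars A).toLinearMap ∘ₗ
      (TensorProduct.mk A R' B 1)
  have hg : Function.Injective g := by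
    intro a b hab
    apply Module.FaithfullyFlat.tensorProduct_mk_injective (A := A) (B := R') B
    exact e.injective hab
  exact eq_zero_of_injective I g hg hMA hx

/-- `1 ⊗ b = 0` in `(A ⧸ J) ⊗ B` means `b ∈ J B`. -/
theorem mem_of_tmul_eq {B : Type u} [AddCommGroup B] [Module A B] (J : Ideal A) {b b' : B}
    (h : (1 : A ⧸ J) ⊗ₜ[A] b = (1 : A ⧸ J) ⊗ₜ[A] b') : b - b' ∈ J • (⊤ : Submodule A B) := by
  have h1 := congrArg (TensorProduct.quotTensorEquivQuotSMul B J) h
  rw [TensorProduct.quotTensorEquivQuotSMul_mk_one_tmul,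
    TensorProduct.quotTensorEquivQuotSMul_mk_one_tmul] at h1
  exact (Submodule.Quotient.eq _).mp h1

end Groth.Agent.Helper8.AdicSep
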