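import Mathlib.Algebra.Polynomial.AlgebraMap
import Mathlib.Algebra.Polynomial.Div
import Mathlib.Algebra.Polynomial.Degree.Lemmas
import Mathlib.Algebra.Polynomial.Eval.Degree
import Mathlib.Algebra.Polynomial.Degree.Support
import Mathlib.Algebra.BigOperators.Fin

/-!
# `A[X]` is free over `A[f]` with basis `1, X, …, X^{p-1}` for `f = X - X^p`
-/

namespace Groth.Agent.Helper8.AS

open Polynomial

variable {A : Type*} [CommRing A]

theorem monic_g (p : ℕ) (hp : 2 ≤ p) [Nontrivial A] : (X ^ p - X : A[X]).Monic := by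
  apply monic_X_pow_sub
  rw [degree_X]
  exact_mod_cast (by omega : 1 < p)

theorem natDegree_g (p : ℕ) (hp : 2 ≤ p) [Nontrivial A] : (X ^ p - X : A[X]).natDegree = p := by
  have h : (X : A[X]).natDegree < (X ^ p : A[X]).natDegree := by
    rw [natDegree_X, natDegree_X_pow]; omega
  rw [natDegree_sub_eq_left_of_natDegree_lt h, natDegree_X_pow]

theorem f_eq_neg_g (p : ℕ) : (X - X ^ p : A[X]) = -(X ^ p - X) := by ring

theorem natDegree_f (p : ℕ) (hp : 2 ≤ p) [Nontrivial A] : (X - X ^ p : A[X]).natDegree = p := by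
  rw [f_eq_neg_g, natDegree_neg, natDegree_g p hp]

theorem leadingCoeff_f (p : ℕ) (hp : 2 ≤ p) [Nontrivial A] :
    (X - X ^ p : A[X]).leadingCoeff = -1 := by
  rw [f_eq_neg_g, leadingCoeff_neg, (monic_g p hp).leadingCoeff]

theorem sum_low (p : ℕ) (r : A[X]) (hr : r.natDegree < p) :
    r = ∑ i : Fin p, C (r.coeff i) * X ^ (i : ℕ) := by
  rw [Fin.sum_univ_eq_sum_range (fun i => C (r.coeff i) * X ^ i) p]
  simp only [C_mul_X_pow_eq_monomial]
  exact r.as_sum_range' p hr

theorem exists_rep (p : ℕ) (hp : 2 ≤ p) [Nontrivial A] (q : A[X]) :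
    ∃ c : Fin p → A[X], q = ∑ i : Fin p, aeval (X - X ^ p : A[X]) (c i) * X ^ (i : ℕ) := by
  induction h : q.natDegree using Nat.strong_induction_on generalizing q with
  | _ n ih =>
  by_cases hlt : q.natDegree < p
  · refine ⟨fun i => C (q.coeff i), ?_⟩
    simp only [aeval_C, algebraMap_eq]
    exact sum_low p q hlt
  · have hg := monic_g (A := A) p hp
    have hgd := natDegree_g (A := A) p hp
    have hg1 : (X ^ p - X : A[X]) ≠ 1 := by
      intro h1
      have := congrArg natDegree h1
      rw [hgd, natDegree_one] at this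
      omega
    have hdiv : (q /ₘ (X ^ p - X)).natDegree < n := by
      rw [natDegree_divByMonic q hg, hgd]
      omega
    obtain ⟨c1, hc1⟩ := ih _ hdiv (q /ₘ (X ^ p - X)) rfl
    have hr : (q %ₘ (X ^ p - X)).natDegree < p := by
      have := natDegree_modByMonic_lt q hg hg1
      rwa [hgd] at this
    refine ⟨fun i => - X * c1 i + C ((q %ₘ (X ^ p - X)).coeff i), ?_⟩
    have key : ∀ i : Fin p, aeval (X - X ^ p : A[X])
        (- X * c1 i + C ((q %ₘ (X ^ p - X)).coeff i)) * X ^ (i : ℕ)
        = (X ^ p - X) * (aeval (X - X ^ p : A[X]) (c1 i) * X ^ (i : ℕ))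
          + C ((q %ₘ (X ^ p - X)).coeff i) * X ^ (i : ℕ) := by
      intro i
      simp only [map_add, map_mul, map_neg, aeval_X, aeval_C, algebraMap_eq]
      ring
    rw [Finset.sum_congr rfl (fun i _ => key i), Finset.sum_add_distrib, ← Finset.mul_sum, ← hc1,
      ← sum_low p _ hr, add_comm]
    exact (modByMonic_add_div q _).symm

theorem eq_zero_of_rep (p : ℕ) (hp : 2 ≤ p) [Nontrivial A] (c : Fin p → A[X])
    (h : ∑ i : Fin p, aeval (X - X ^ p : A[X]) (c i) * X ^ (i : ℕ) = 0) : c = 0 := by
  classical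
  by_contra hc
  have hne : (Finset.univ.filter (fun i : Fin p => c i ≠ 0)).Nonempty := by
    by_contra hemp
    rw [Finset.not_nonempty_iff_eq_empty] at hemp
    apply hc
    funext i
    show c i = 0
    by_contra hi
    have : i ∈ Finset.univ.filter (fun i : Fin p => c i ≠ 0) := by simp [hi]
    rw [hemp] at this
    simp at this
  obtain ⟨i₀, hi₀, hmax⟩ := Finset.exists_max_image _
    (fun i : Fin p => p * (c i).natDegree + (i : ℕ)) hne
  have hci₀ : c i₀ ≠ 0 := by simpa using hi₀
  set N := p * (c i₀).natDegree + (i₀ : ℕ) with hN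
  have hfd := natDegree_f (A := A) p hp
  have hcoeff : (∑ i : Fin p, aeval (X - X ^ p : A[X]) (c i) * X ^ (i : ℕ)).coeff N
      = (c i₀).leadingCoeff * (-1) ^ (c i₀).natDegree := by
    rw [finsetSum_coeff, Finset.sum_eq_single i₀]
    · rw [coeff_mul_X_pow', if_pos (by omega), ← comp_eq_aeval]
      have : N - (i₀ : ℕ) = (c i₀).natDegree * (X - X ^ p : A[X]).natDegree := by
        rw [hfd, hN, mul_comm]; omega
      rw [this, coeff_comp_degree_mul_degree (by rw [hfd]; omega), leadingCoeff_f p hp]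
    · intro i _ hii
      by_cases hci : c i = 0
      · simp [hci]
      · have hmem : i ∈ Finset.univ.filter (fun i : Fin p => c i ≠ 0) := by simp [hci]
        have hle := hmax i hmem
        have hneq : p * (c i).natDegree + (i : ℕ) ≠ N := by
          intro heq
          apply hii
          have h1 : (p * (c i).natDegree + (i : ℕ)) % p = (p * (c i₀).natDegree + (i₀ : ℕ)) % p := by
            rw [heq]
          rw [Nat.mul_add_mod, Nat.mul_add_mod, Nat.mod_eq_of_lt i.isLt,
            Nat.mod_eq_of_lt i₀.isLt] at h1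
          exact Fin.ext h1
        rw [coeff_mul_X_pow']
        split_ifs with hiN
        · apply coeff_eq_zero_of_natDegree_lt
          rw [← comp_eq_aeval]
          refine lt_of_le_of_lt natDegree_comp_le ?_
          rw [hfd, mul_comm]
          have : p * (c i).natDegree + (i : ℕ) < N := lt_of_le_of_ne hle hneq
          omega
        · rfl
    · intro h; exact absurd (Finset.mem_univ _) h
  rw [h, coeff_zero] at hcoeff
  have hu : IsUnit ((-1 : A) ^ (c i₀).natDegree) := (isUnit_one.neg).pow _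
  have := hu.mul_left_eq_zero.mp hcoeff.symm
  exact hci₀ (leadingCoeff_eq_zero.mp this)

theorem existsUnique_rep (p : ℕ) (hp : 2 ≤ p) [Nontrivial A] (q : A[X]) :
    ∃! c : Fin p → A[X], q = ∑ i : Fin p, aeval (X - X ^ p : A[X]) (c i) * X ^ (i : ℕ) := by
  obtain ⟨c, hc⟩ := exists_rep p hp q
  refine ⟨c, hc, fun c' hc' => ?_⟩
  have : c' - c = 0 := by
    apply eq_zero_of_rep p hp
    simp only [Pi.sub_apply, map_sub, sub_mul, Finset.sum_sub_distrib]
    rw [← hc, ← hc', sub_self]
  exact sub_eq_zero.mp this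

end Groth.Agent.Helper8.AS
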