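import Groth.Agent.Lib.Helper8.RFin2
import Groth.Agent.Lib.Helper8.LOC8
import Groth.Agent.Lib.Helper8.InjBC1
import Groth.Agent.Lib.Helper11.DCInjAmp

/-!
# Bass' lemma for complexes (helper8)

Over a noetherian ring `R`, a bounded below object `L` of `D(R)` with finite cohomology whose
`Ext^i(R/n, L)` vanish for all maximal ideals `n` and all `i > d` has injective amplitude `≤ d`.
-/

set_option autoImplicit false

open CategoryTheory CategoryTheory.Limits Opposite Pretriangulated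

universe u

namespace Groth.Agent.Helper8.BassCx

open DerivedCategory Groth.Agent.Helper8.LC

attribute [local instance] HasDerivedCategory.standard

variable {R : Type u} [CommRing R]

/-- middle exactness of `Hom(-, Z)` on a short exact sequence of modules -/
theorem subsingleton_of_ses {N₁ N₂ N₃ : Type u} [AddCommGroup N₁] [Module R N₁]
    [AddCommGroup N₂] [Module R N₂] [AddCommGroup N₃] [Module R N₃]
    {f : N₁ →ₗ[R] N₂} {g : N₂ →ₗ[R] N₃} (hses : IsSES f g) (Z : Dual.D R)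
    (h1 : Subsingleton (Dual.inD R N₁ ⟶ Z)) (h3 : Subsingleton (Dual.inD R N₃ ⟶ Z)) :
    Subsingleton (Dual.inD R N₂ ⟶ Z) := by
  have hT := hses.shortExact.singleTriangle_distinguished
  have key : ∀ φ : Dual.inD R N₂ ⟶ Z, φ = 0 := by
    intro φ
    let m₁ : Dual.inD R N₁ ⟶ Dual.inD R N₂ := hses.shortExact.singleTriangle.mor₁
    have h0 : m₁ ≫ φ = 0 := Subsingleton.elim _ _
    obtain ⟨ψ, hψ⟩ := Triangle.yoneda_exact₂ _ hT φ h0
    let ψ' : Dual.inD R N₃ ⟶ Z := ψ
    have hψ0 : ψ' = 0 := Subsingleton.elim _ _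
    have hψ1 : ψ = 0 := hψ0
    rw [hψ, hψ1]
    exact comp_zero
  exact ⟨fun x y => by rw [key x, key y]⟩

/-- the piece `Hom(N₂, Z) → Hom(N₁, Z) → Hom(N₃, Z⟦1⟧)` of the long exact sequence -/
theorem exists_of_ses {N₁ N₂ N₃ : Type u} [AddCommGroup N₁] [Module R N₁]
    [AddCommGroup N₂] [Module R N₂] [AddCommGroup N₃] [Module R N₃]
    {f : N₁ →ₗ[R] N₂} {g : N₂ →ₗ[R] N₃} (hses : IsSES f g) (Z : Dual.D R)
    (h3 : Subsingleton (Dual.inD R N₃ ⟶ Z⟦(1 : ℤ)⟧)) (φ : Dual.inD R N₁ ⟶ Z) :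
    ∃ ψ : Dual.inD R N₂ ⟶ Z,
      φ = (singleFunctor (ModuleCat.{u} R) 0).map (ModuleCat.ofHom f) ≫ ψ := by
  have hT := hses.shortExact.singleTriangle_distinguished
  have hT' := inv_rot_of_distTriang _ hT
  let m : (Dual.inD R N₃)⟦(-1 : ℤ)⟧ ⟶ Dual.inD R N₁ :=
    hses.shortExact.singleTriangle.invRotate.mor₁
  have h0 : m ≫ φ = 0 := by
    apply (shiftFunctor (Dual.D R) (1 : ℤ)).map_injective
    rw [Functor.map_zero]
    let e : ((Dual.inD R N₃)⟦(-1 : ℤ)⟧)⟦(1 : ℤ)⟧ ≅ Dual.inD R N₃ :=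
      (shiftFunctorCompIsoId (Dual.D R) (-1 : ℤ) 1 (by omega)).app (Dual.inD R N₃)
    have h4 : e.inv ≫ (m ≫ φ)⟦(1 : ℤ)⟧' = 0 := Subsingleton.elim _ _
    rw [← cancel_epi e.inv, h4, comp_zero]
  obtain ⟨ψ, hψ⟩ := Triangle.yoneda_exact₂ _ hT' φ h0
  exact ⟨ψ, hψ⟩

section Quot

variable (q : Ideal R) [hq : q.IsPrime] (x : R)

/-- multiplication by `x` on `R/q` -/
noncomputable def mulx : (R ⧸ q) →ₗ[R] (R ⧸ q) := x • LinearMap.id

theorem isSES_mulx (hx : x ∉ q) : IsSES (mulx q x) (Groth.Agent.Helper8.InjBC.projQ q x) where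
  inj := by
    rw [injective_iff_map_eq_zero]
    intro y hy
    obtain ⟨r, rfl⟩ := Submodule.Quotient.mk_surjective _ y
    have h1 : mulx q x (Submodule.Quotient.mk r) = Submodule.Quotient.mk (x * r) := by
      unfold mulx
      rw [LinearMap.smul_apply, LinearMap.id_apply, ← Submodule.Quotient.mk_smul, smul_eq_mul]
    rw [h1, Submodule.Quotient.mk_eq_zero] at hy
    rw [Submodule.Quotient.mk_eq_zero]
    exact (hq.mem_or_mem hy).resolve_left hx
  exact := by
    intro y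
    obtain ⟨r, rfl⟩ := Submodule.Quotient.mk_surjective _ y
    rw [Groth.Agent.Helper8.InjBC.projQ_mk, Submodule.Quotient.mk_eq_zero]
    constructor
    · intro h
      obtain ⟨a, ha, b, hb, hab⟩ := Submodule.mem_sup.mp h
      obtain ⟨c, rfl⟩ := Ideal.mem_span_singleton'.mp hb
      refine ⟨Submodule.Quotient.mk c, ?_⟩
      unfold mulx
      rw [LinearMap.smul_apply, LinearMap.id_apply, ← Submodule.Quotient.mk_smul, smul_eq_mul]
      rw [Submodule.Quotient.eq]
      have : x * c - r = -a := by rw [← hab]; ring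
      rw [this]
      exact q.neg_mem ha
    · rintro ⟨z, hz⟩
      obtain ⟨c, rfl⟩ := Submodule.Quotient.mk_surjective _ z
      unfold mulx at hz
      rw [LinearMap.smul_apply, LinearMap.id_apply, ← Submodule.Quotient.mk_smul, smul_eq_mul,
        Submodule.Quotient.eq] at hz
      have h2 : r = x * c - (x * c - r) := by ring
      rw [h2]
      refine Submodule.sub_mem _ ?_ (Submodule.mem_sup_left hz)
      exact Submodule.mem_sup_right (Ideal.mem_span_singleton'.mpr ⟨c, mul_comm c x⟩)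
  surj := by
    intro y
    obtain ⟨r, rfl⟩ := Submodule.Quotient.mk_surjective _ y
    exact ⟨Submodule.Quotient.mk r, Groth.Agent.Helper8.InjBC.projQ_mk q x r⟩

omit hq in
theorem single_map_mulx :
    (singleFunctor (ModuleCat.{u} R) 0).map (ModuleCat.ofHom (mulx q x)) =
      x • 𝟙 (Dual.inD R (R ⧸ q)) := by
  have h : ModuleCat.ofHom (mulx q x) = x • 𝟙 (ModuleCat.of R (R ⧸ q)) := rfl
  rw [h, Functor.map_smul, CategoryTheory.Functor.map_id]

omit hq in
theorem smul_hom_eq_zero (r : R) (hr : r ∈ q) (Z : Dual.D R) (φ : Dual.inD R (R ⧸ q) ⟶ Z) :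
    r • φ = 0 := by
  have h1 : r • 𝟙 (ModuleCat.of R (R ⧸ q)) = 0 := by
    apply ModuleCat.hom_ext
    apply LinearMap.ext
    intro y
    obtain ⟨c, rfl⟩ := Submodule.Quotient.mk_surjective _ y
    show r • (Submodule.Quotient.mk c : R ⧸ q) = 0
    rw [← Submodule.Quotient.mk_smul, Submodule.Quotient.mk_eq_zero, smul_eq_mul]
    exact q.mul_mem_right c hr
  have h2 : r • 𝟙 (Dual.inD R (R ⧸ q)) = 0 := by
    have := congrArg (fun t => (singleFunctor (ModuleCat.{u} R) 0).map t) h1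
    simpa only [Functor.map_smul, CategoryTheory.Functor.map_id, Functor.map_zero] using this
  have h3 : r • φ = (r • 𝟙 (Dual.inD R (R ⧸ q))) ≫ φ := by
    rw [Linear.smul_comp, Category.id_comp]
  rw [h3, h2, zero_comp]

end Quot

end Groth.Agent.Helper8.BassCx
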