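import Groth.Agent.Lib.Helper3.HT4
import Mathlib.Algebra.Homology.HomologicalComplexAbelian
import Mathlib.Algebra.Homology.DerivedCategory.ShortExact
import Mathlib.Algebra.Category.ModuleCat.Injective

/-!
# Exactness of `Hom•(-, J)` for a termwise injective complex `J` (helper8)
-/

set_option autoImplicit false

open CategoryTheory CategoryTheory.Limits CochainComplex HomComplex

universe u

namespace Groth.Agent.Helper8.BiDual

open Groth.Agent.Helper3.HT

variable {A : Type u} [CommRing A]

theorem homCxPre_zero (P P' W : DRing.Cx A) : homCxPre (0 : P' ⟶ P) W = 0 := by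
  refine HomologicalComplex.hom_ext _ _ fun i => ModuleCat.hom_ext (LinearMap.ext fun (z : Cochain P W i) => ?_)
  change (Cochain.ofHom (0 : P' ⟶ P)).comp z (zero_add i) = 0
  rw [Cochain.ofHom_zero, Cochain.zero_comp]

theorem homCxPre_smul {P P' : DRing.Cx A} (a : A) (u : P' ⟶ P) (W : DRing.Cx A) :
    homCxPre (a • u) W = a • homCxPre u W := by
  refine HomologicalComplex.hom_ext _ _ fun i => ModuleCat.hom_ext (LinearMap.ext fun (z : Cochain P W i) => ?_)
  change (Cochain.ofHom (a • u)).comp z (zero_add i) = a • (Cochain.ofHom u).comp z (zero_add i)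
  refine Cochain.ext _ _ (fun p q hpq => ?_)
  rw [Cochain.zero_cochain_comp_v, Cochain.ofHom_v, Cochain.smul_v, Cochain.zero_cochain_comp_v,
    Cochain.ofHom_v]
  simp

/-- the short complex `Hom(S.X₃, J) ⟶ Hom(S.X₂, J) ⟶ Hom(S.X₁, J)` -/
noncomputable def homSC (S : ShortComplex (DRing.Cx A)) (J : DRing.Cx A) :
    ShortComplex (DRing.Cx A) :=
  ShortComplex.mk (homCxPre S.g J) (homCxPre S.f J) (by
    rw [← homCxPre_comp, S.zero, homCxPre_zero])

theorem homSC_shortExact (S : ShortComplex (DRing.Cx A)) (hS : S.ShortExact) (J : DRing.Cx A)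
    (hJ : ∀ n : ℤ, Injective (J.X n)) : (homSC S J).ShortExact := by
  have hmono : ∀ p : ℤ, Mono (S.f.f p) := fun p => by
    have := hS.mono_f
    exact inferInstanceAs (Mono ((HomologicalComplex.eval _ _ p).map S.f))
  have hepi : ∀ p : ℤ, Epi (S.g.f p) := fun p => by
    have := hS.epi_g
    exact inferInstanceAs (Epi ((HomologicalComplex.eval _ _ p).map S.g))
  have hex : ∀ p : ℤ, (S.map (HomologicalComplex.eval _ _ p)).Exact := fun p =>
    (HomologicalComplex.exact_iff_degreewise_exact S).mp hS.exact p
  apply HomologicalComplex.shortExact_of_degreewise_shortExact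
  intro n
  apply ModuleCat.shortComplex_shortExact
  · -- exactness in the middle
    intro (z : Cochain S.X₂ J n)
    constructor
    · intro (hz : (Cochain.ofHom S.f).comp z (zero_add n) = 0)
      have hz' : ∀ p q (hpq : p + n = q), S.f.f p ≫ z.v p q hpq = 0 := fun p q hpq => by
        have := congrArg (fun c => c.v p q hpq) hz
        simpa [Cochain.zero_cochain_comp_v] using this
      have : ∀ p : ℤ, Epi (S.map (HomologicalComplex.eval _ _ p)).g := fun p => hepi p
      refine ⟨Cochain.mk (fun p q hpq => (hex p).desc (z.v p q hpq) (hz' p q hpq)), ?_⟩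
      change (Cochain.ofHom S.g).comp _ (zero_add n) = z
      refine Cochain.ext _ _ (fun p q hpq => ?_)
      rw [Cochain.zero_cochain_comp_v, Cochain.ofHom_v, Cochain.mk_v]
      exact (hex p).g_desc _ _
    · rintro ⟨(w : Cochain S.X₃ J n), rfl⟩
      change (Cochain.ofHom S.f).comp ((Cochain.ofHom S.g).comp w (zero_add n)) (zero_add n) = 0
      rw [← Cochain.comp_assoc_of_first_is_zero_cochain, ← Cochain.ofHom_comp, S.zero,
        Cochain.ofHom_zero, Cochain.zero_comp]
  · -- injectivity
    intro (z : Cochain S.X₃ J n) (z' : Cochain S.X₃ J n)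
      (h : (Cochain.ofHom S.g).comp z (zero_add n) = (Cochain.ofHom S.g).comp z' (zero_add n))
    refine Cochain.ext _ _ (fun p q hpq => ?_)
    have := congrArg (fun c => c.v p q hpq) h
    simp only [Cochain.zero_cochain_comp_v, Cochain.ofHom_v] at this
    have := hepi p
    exact (cancel_epi (S.g.f p)).mp ‹_›
  · -- surjectivity
    intro (z : Cochain S.X₁ J n)
    have := hJ
    have := hmono
    refine ⟨Cochain.mk (fun p q hpq => Injective.factorThru (z.v p q hpq) (S.f.f p)), ?_⟩
    change (Cochain.ofHom S.f).comp _ (zero_add n) = z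
    refine Cochain.ext _ _ (fun p q hpq => ?_)
    rw [Cochain.zero_cochain_comp_v, Cochain.ofHom_v, Cochain.mk_v]
    exact Injective.comp_factorThru _ _

end Groth.Agent.Helper8.BiDual
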