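import Groth.Agent.Lib.Helper8.BiDual1
import Mathlib.Algebra.Homology.HomologicalComplexLimits
import Mathlib.Algebra.Homology.DerivedCategory.Linear

/-!
# The dual `Hom•(M[0], J)` of a module and the evaluation map (helper8)
-/

set_option autoImplicit false

open CategoryTheory CategoryTheory.Limits MonoidalCategory CochainComplex HomComplex

universe u

namespace Groth.Agent.Helper8.BiDual

open Groth.Agent.Helper3.HT DerivedCategory

attribute [local instance] HasDerivedCategory.standard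

variable {A : Type u} [CommRing A]

/-- `Hom•(𝟙, J) ≅ J` -/
noncomputable def unitIso (J : DRing.Cx A) : DRing.homCx (𝟙_ (DRing.Cx A)) J ≅ J where
  hom := (ρ_ (DRing.homCx (𝟙_ (DRing.Cx A)) J)).inv ≫ evH (𝟙_ (DRing.Cx A)) J
  inv := curH (ρ_ J).hom
  hom_inv_id := by
    apply uncH_injective
    rw [uncH_comp_left, uncH_curH, rightUnitor_naturality, Iso.hom_inv_id_assoc]
    rfl
  inv_hom_id := by
    rw [← Category.assoc, rightUnitor_inv_naturality, Category.assoc, ← uncH_eq, uncH_curH,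
      Iso.inv_hom_id]

/-- `M[0]` -/
noncomputable abbrev sg (M : ModuleCat.{u} A) : DRing.Cx A :=
  (HomologicalComplex.single (ModuleCat.{u} A) (ComplexShape.up ℤ) 0).obj M

/-- `g[0]` -/
noncomputable abbrev sgMap {M N : ModuleCat.{u} A} (g : M ⟶ N) : sg M ⟶ sg N :=
  (HomologicalComplex.single (ModuleCat.{u} A) (ComplexShape.up ℤ) 0).map g

theorem sgMap_comp {M N P : ModuleCat.{u} A} (g : M ⟶ N) (h : N ⟶ P) :
    sgMap (g ≫ h) = sgMap g ≫ sgMap h := Functor.map_comp _ _ _

theorem sgMap_add {M N : ModuleCat.{u} A} (g h : M ⟶ N) : sgMap (g + h) = sgMap g + sgMap h :=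
  Functor.map_add _

theorem sgMap_zero (M N : ModuleCat.{u} A) : sgMap (0 : M ⟶ N) = 0 := Functor.map_zero _ _ _

theorem sgMap_id (M : ModuleCat.{u} A) : sgMap (𝟙 M) = 𝟙 _ := CategoryTheory.Functor.map_id _ _

theorem sgMap_smul {M N : ModuleCat.{u} A} (a : A) (g : M ⟶ N) : sgMap (a • g) = a • sgMap g := by
  apply HomologicalComplex.hom_ext
  intro i
  by_cases hi : i = 0
  · subst hi
    simp [HomologicalComplex.single_map_f_self]
  · apply (HomologicalComplex.isZero_single_obj_X _ _ _ _ hi).eq_of_src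

variable (J : DRing.Cx A)

/-- `D(M) = Hom•(M[0], J)` in `D(A)` -/
noncomputable abbrev Z (M : ModuleCat.{u} A) : Dual.D A := Q.obj (DRing.homCx (sg M) J)

/-- contravariant functoriality of `D` -/
noncomputable def Zmap {M N : ModuleCat.{u} A} (g : M ⟶ N) : Z J N ⟶ Z J M :=
  Q.map (homCxPre (sgMap g) J)

theorem Zmap_id (M : ModuleCat.{u} A) : Zmap J (𝟙 M) = 𝟙 _ := by
  unfold Zmap
  rw [sgMap_id, homCxPre_id, CategoryTheory.Functor.map_id]

theorem Zmap_comp {M N P : ModuleCat.{u} A} (g : M ⟶ N) (h : N ⟶ P) :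
    Zmap J (g ≫ h) = Zmap J h ≫ Zmap J g := by
  unfold Zmap
  rw [sgMap_comp, homCxPre_comp, Functor.map_comp]

theorem Zmap_add {M N : ModuleCat.{u} A} (g h : M ⟶ N) :
    Zmap J (g + h) = Zmap J g + Zmap J h := by
  unfold Zmap
  rw [sgMap_add, homCxPre_add, Functor.map_add]

theorem Zmap_zero (M N : ModuleCat.{u} A) : Zmap J (0 : M ⟶ N) = 0 := by
  unfold Zmap
  rw [sgMap_zero, homCxPre_zero, Functor.map_zero]

theorem Zmap_smul {M N : ModuleCat.{u} A} (a : A) (g : M ⟶ N) :
    Zmap J (a • g) = a • Zmap J g := by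
  unfold Zmap
  rw [sgMap_smul, homCxPre_smul, Functor.map_smul]

/-- the element `x` as a map `A ⟶ M` -/
noncomputable def hat {M : ModuleCat.{u} A} (x : M) : 𝟙_ (ModuleCat.{u} A) ⟶ M :=
  ModuleCat.ofHom (LinearMap.toSpanSingleton A M x)

theorem hat_add {M : ModuleCat.{u} A} (x y : M) : hat (x + y) = hat x + hat y := by
  ext
  simp [hat]

theorem hat_smul {M : ModuleCat.{u} A} (a : A) (x : M) : hat (a • x) = a • hat x := by
  ext
  simp [hat]

theorem hat_comp {M N : ModuleCat.{u} A} (g : M ⟶ N) (x : M) : hat x ≫ g = hat (g.hom x) := by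
  ext
  simp [hat]

theorem hat_unit (a : A) : hat (M := 𝟙_ (ModuleCat.{u} A)) a = a • 𝟙 _ := by
  ext
  simp [hat]

/-- `D(A) ≅ J` -/
noncomputable def ZunitIso : Z J (𝟙_ (ModuleCat.{u} A)) ≅ Q.obj J :=
  Q.mapIso (unitIso J)

/-- evaluation at `x : M`, as a morphism `D(M) ⟶ ω` in `D(A)` -/
noncomputable def evD {M : ModuleCat.{u} A} (x : M) : Z J M ⟶ Q.obj J :=
  Zmap J (hat x) ≫ (ZunitIso J).hom

theorem evD_add {M : ModuleCat.{u} A} (x y : M) : evD J (x + y) = evD J x + evD J y := by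
  simp only [evD, hat_add, Zmap_add, Preadditive.add_comp]

theorem evD_smul {M : ModuleCat.{u} A} (a : A) (x : M) : evD J (a • x) = a • evD J x := by
  simp only [evD, hat_smul, Zmap_smul, Linear.smul_comp]

theorem evD_zero {M : ModuleCat.{u} A} : evD J (0 : M) = 0 := by
  have := evD_smul J (0 : A) (0 : M)
  simpa using this

theorem evD_nat {M N : ModuleCat.{u} A} (g : M ⟶ N) (x : M) :
    evD J (g.hom x) = Zmap J g ≫ evD J x := by
  simp only [evD, ← hat_comp, Zmap_comp, Category.assoc]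

theorem evD_unit (a : A) :
    evD J (M := 𝟙_ (ModuleCat.{u} A)) a = (ZunitIso J).hom ≫ (a • 𝟙 (Q.obj J)) := by
  rw [evD, hat_unit, Zmap_smul, Zmap_id, Linear.smul_comp, Category.id_comp, Linear.comp_smul,
    Category.comp_id]

end Groth.Agent.Helper8.BiDual
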