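import Groth.Agent.Lib.Helper8.BiDual2

/-!
# Triangles of duals and exactness lemmas (helper8)
-/

set_option autoImplicit false

open CategoryTheory CategoryTheory.Limits Pretriangulated

universe u u₁ v₁

namespace Groth.Agent.Helper8.BiDual

open Groth.Agent.Helper3.HT DerivedCategory

attribute [local instance] HasDerivedCategory.standard

section General

variable {C : Type u₁} [Category.{v₁} C] [Preadditive C] [HasZeroObject C] [HasShift C ℤ]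
  [∀ n : ℤ, CategoryTheory.Functor.Additive (shiftFunctor C n)] [Pretriangulated C]

theorem exact_mid {Z₁ Z₂ Z₃ : C} (u : Z₃ ⟶ Z₂) (v : Z₂ ⟶ Z₁) (δ : Z₁ ⟶ Z₃⟦(1 : ℤ)⟧)
    (hT : Triangle.mk u v δ ∈ distTriang C) {Y : C} (t : Z₂ ⟶ Y) (ht : u ≫ t = 0) :
    ∃ t' : Z₁ ⟶ Y, t = v ≫ t' :=
  Triangle.yoneda_exact₂ _ hT t ht

theorem inj_right {Z₁ Z₂ Z₃ : C} (u : Z₃ ⟶ Z₂) (v : Z₂ ⟶ Z₁) (δ : Z₁ ⟶ Z₃⟦(1 : ℤ)⟧)
    (hT : Triangle.mk u v δ ∈ distTriang C) {Y : C} (hsub : ∀ f : Z₃⟦(1 : ℤ)⟧ ⟶ Y, f = 0)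
    (t' : Z₁ ⟶ Y) (h : v ≫ t' = 0) : t' = 0 := by
  obtain ⟨g, hg⟩ : ∃ g : Z₃⟦(1 : ℤ)⟧ ⟶ Y, t' = δ ≫ g := Triangle.yoneda_exact₃ _ hT t' h
  rw [hg, hsub g, comp_zero]

theorem surj_left {Z₁ Z₂ Z₃ : C} (u : Z₃ ⟶ Z₂) (v : Z₂ ⟶ Z₁) (δ : Z₁ ⟶ Z₃⟦(1 : ℤ)⟧)
    (hT : Triangle.mk u v δ ∈ distTriang C) {Y Y' : C} (e : Y⟦(1 : ℤ)⟧ ≅ Y')
    (hinj : ∀ t' : Z₁ ⟶ Y', v ≫ t' = 0 → t' = 0) (s : Z₃ ⟶ Y) :
    ∃ t : Z₂ ⟶ Y, s = u ≫ t := by
  have h0 : δ ≫ (shiftFunctor C (1 : ℤ)).map s = 0 := by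
    have h1 : (δ ≫ (shiftFunctor C (1 : ℤ)).map s) ≫ e.hom = 0 := by
      apply hinj
      have this : v ≫ δ = 0 := comp_distTriang_mor_zero₂₃ _ hT
      rw [← Category.assoc, ← Category.assoc, this, zero_comp, zero_comp]
    exact (cancel_mono e.hom).mp (h1.trans zero_comp.symm)
  have hR := rot_of_distTriang _ hT
  obtain ⟨g, hg⟩ : ∃ g : Z₂⟦(1 : ℤ)⟧ ⟶ Y⟦(1 : ℤ)⟧,
      (shiftFunctor C (1 : ℤ)).map s = (-(shiftFunctor C (1 : ℤ)).map u) ≫ g :=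
    Triangle.yoneda_exact₃ _ hR ((shiftFunctor C (1 : ℤ)).map s) h0
  obtain ⟨t₀, rfl⟩ := (shiftFunctor C (1 : ℤ)).map_surjective g
  refine ⟨-t₀, ?_⟩
  apply (shiftFunctor C (1 : ℤ)).map_injective
  rw [hg, Functor.map_comp, Functor.map_neg, Preadditive.neg_comp, Preadditive.comp_neg]

omit [HasZeroObject C] [Pretriangulated C] in
theorem hom_shift_eq_zero {X Y Y' : C} (e : Y'⟦(1 : ℤ)⟧ ≅ Y) (hV : ∀ g : X ⟶ Y', g = 0)
    (f : X⟦(1 : ℤ)⟧ ⟶ Y) : f = 0 := by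
  obtain ⟨g, hg⟩ := (shiftFunctor C (1 : ℤ)).map_surjective (f ≫ e.inv)
  rw [hV g, Functor.map_zero] at hg
  have : f ≫ e.inv = 0 := hg.symm
  exact (cancel_mono e.inv).mp (this.trans zero_comp.symm)

end General

variable {A : Type u} [CommRing A] (J : DRing.Cx A)

/-- the distinguished triangle of duals attached to a short exact sequence of modules -/
theorem Z_triangle (S : ShortComplex (ModuleCat.{u} A)) (hS : S.ShortExact)
    (hJ : ∀ n : ℤ, Injective (J.X n)) :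
    ∃ δ : Z J S.X₁ ⟶ (Z J S.X₃)⟦(1 : ℤ)⟧,
      Triangle.mk (Zmap J S.g) (Zmap J S.f) δ ∈ distTriang (Dual.D A) := by
  have hS' : (S.map (HomologicalComplex.single (ModuleCat.{u} A) (ComplexShape.up ℤ) 0)).ShortExact :=
    hS.map_of_exact _
  have h := homSC_shortExact _ hS' J hJ
  exact ⟨triangleOfSESδ h, triangleOfSES_distinguished h⟩

/-- vanishing of `Hom(D(M), ω[i])` -/
def V (i : ℤ) (M : ModuleCat.{u} A) : Prop := ∀ f : Z J M ⟶ (Q.obj J)⟦i⟧, f = 0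

/-- the biduality property for a module -/
def P (M : ModuleCat.{u} A) : Prop :=
  (∀ i : ℤ, i ≠ 0 → V J i M) ∧ Function.Bijective (fun x : M => evD J x)

theorem isZero_Z (M : ModuleCat.{u} A) (hM : IsZero M) : IsZero (Z J M) := by
  rw [IsZero.iff_id_eq_zero, ← Zmap_id, hM.eq_of_src (𝟙 M) 0, Zmap_zero]

theorem P_of_isZero (M : ModuleCat.{u} A) (hM : IsZero M) : P J M := by
  have hZ := isZero_Z J M hM
  refine ⟨fun i _ f => hZ.eq_of_src f 0, ⟨fun x y _ => ?_, fun t => ?_⟩⟩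
  · have : Subsingleton M := ModuleCat.subsingleton_of_isZero hM
    exact Subsingleton.elim x y
  · exact ⟨0, hZ.eq_of_src _ _⟩

theorem V_ext (S : ShortComplex (ModuleCat.{u} A)) (hS : S.ShortExact)
    (hJ : ∀ n : ℤ, Injective (J.X n)) (i : ℤ) (h1 : V J i S.X₁) (h3 : V J i S.X₃) :
    V J i S.X₂ := by
  obtain ⟨δ, hT⟩ := Z_triangle J S hS hJ
  intro t
  obtain ⟨t', ht'⟩ := exact_mid _ _ _ hT t (h3 _)
  rw [ht', h1 t', comp_zero]

theorem P_ext (S : ShortComplex (ModuleCat.{u} A)) (hS : S.ShortExact)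
    (hJ : ∀ n : ℤ, Injective (J.X n)) (h1 : P J S.X₁) (h3 : P J S.X₃) : P J S.X₂ := by
  obtain ⟨δ, hT⟩ := Z_triangle J S hS hJ
  refine ⟨fun i hi => V_ext J S hS hJ i (h1.1 i hi) (h3.1 i hi), ?_⟩
  -- injectivity of `T⁰(X₁) → T⁰(X₂)`
  have hinj1 : ∀ t' : Z J S.X₁ ⟶ Q.obj J, Zmap J S.f ≫ t' = 0 → t' = 0 := by
    intro t' ht'
    refine inj_right _ _ _ hT ?_ t' ht'
    intro f
    exact hom_shift_eq_zero
      ((shiftFunctorCompIsoId (Dual.D A) (-1 : ℤ) 1 (by omega)).app (Q.obj J))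
      (h3.1 (-1) (by omega)) f
  have hfinj : Function.Injective S.f.hom := hS.moduleCat_injective_f
  have hgsurj : Function.Surjective S.g.hom := hS.moduleCat_surjective_g
  have hex : Function.Exact S.f.hom S.g.hom :=
    (ShortComplex.ShortExact.moduleCat_exact_iff_function_exact S).mp hS.exact
  constructor
  · intro x y hxy
    have hxy' : evD J x = evD J y := hxy
    have h0 : evD J (x - y) = 0 := by
      rw [sub_eq_add_neg, evD_add, ← neg_one_smul A y, evD_smul, hxy']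
      simp
    have h3' : evD J (S.g.hom (x - y)) = 0 := by
      rw [evD_nat, h0, comp_zero]
    have hg0 : S.g.hom (x - y) = 0 := h3.2.1 (h3'.trans (evD_zero J).symm)
    obtain ⟨x₁, hx₁⟩ := (hex (x - y)).mp hg0
    have h1' : Zmap J S.f ≫ evD J x₁ = 0 := by
      rw [← evD_nat, hx₁, h0]
    have hx₁0 : x₁ = 0 := h1.2.1 ((hinj1 _ h1').trans (evD_zero J).symm)
    rw [hx₁0, map_zero] at hx₁
    exact sub_eq_zero.mp hx₁.symm
  · intro t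
    obtain ⟨x₃, hx₃⟩ := h3.2.2 (Zmap J S.g ≫ t)
    have hx₃' : evD J x₃ = Zmap J S.g ≫ t := hx₃
    obtain ⟨x₂, rfl⟩ := hgsurj x₃
    have h0 : Zmap J S.g ≫ (t - evD J x₂) = 0 := by
      rw [Preadditive.comp_sub, ← evD_nat, hx₃', sub_self]
    obtain ⟨t', ht'⟩ := exact_mid _ _ _ hT _ h0
    obtain ⟨x₁, hx₁⟩ := h1.2.2 t'
    have hx₁' : evD J x₁ = t' := hx₁
    refine ⟨x₂ + S.f.hom x₁, ?_⟩
    show evD J (x₂ + S.f.hom x₁) = t
    rw [evD_add, evD_nat, hx₁', ← ht']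
    abel

end Groth.Agent.Helper8.BiDual
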