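import Groth.Agent.Lib.Helper8.BiDual3

/-!
# Biduality for finite modules: the chase (helper8)
-/

set_option autoImplicit false

open CategoryTheory CategoryTheory.Limits MonoidalCategory Pretriangulated

universe u

namespace Groth.Agent.Helper8.BiDual

open DerivedCategory

attribute [local instance] HasDerivedCategory.standard

variable {A : Type u} [CommRing A] (J : DRing.Cx A)

theorem P_unit (hend : Function.Bijective (fun a : A => a • 𝟙 (Q.obj J)))
    (hext : ∀ i : ℤ, i ≠ 0 → ∀ f : Q.obj J ⟶ (Q.obj J)⟦i⟧, f = 0) :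
    P J (𝟙_ (ModuleCat.{u} A)) := by
  refine ⟨fun i hi f => ?_, ⟨fun a b hab => ?_, fun t => ?_⟩⟩
  · have h0 := hext i hi ((ZunitIso J).inv ≫ f)
    exact (cancel_epi (ZunitIso J).inv).mp (h0.trans comp_zero.symm)
  · have hab' : evD J (M := 𝟙_ (ModuleCat.{u} A)) a = evD J (M := 𝟙_ (ModuleCat.{u} A)) b := hab
    rw [evD_unit, evD_unit] at hab'
    exact hend.1 ((cancel_epi (ZunitIso J).hom).mp hab')
  · obtain ⟨a, ha⟩ := hend.2 ((ZunitIso J).inv ≫ t)
    refine ⟨a, ?_⟩
    show evD J (M := 𝟙_ (ModuleCat.{u} A)) a = t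
    have ha' : a • 𝟙 (Q.obj J) = (ZunitIso J).inv ≫ t := ha
    rw [evD_unit, ha', Iso.hom_inv_id_assoc]

/-- the split short exact sequence `0 → A → A^(n+1) → A^n → 0` -/
noncomputable def freeSC (A : Type u) [CommRing A] (n : ℕ) : ShortComplex (ModuleCat.{u} A) :=
  ShortComplex.mk (X₁ := 𝟙_ (ModuleCat.{u} A)) (X₂ := ModuleCat.of A (Fin (n + 1) → A))
    (X₃ := ModuleCat.of A (Fin n → A))
    (ModuleCat.ofHom (LinearMap.single A (fun _ : Fin (n + 1) => A) 0))
    (ModuleCat.ofHom (LinearMap.funLeft A A Fin.succ)) (by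
      ext a
      simp [LinearMap.funLeft, Fin.succ_ne_zero]
      rfl)

theorem freeSC_shortExact (n : ℕ) : (freeSC A n).ShortExact := by
  apply ModuleCat.shortComplex_shortExact
  · intro (φ : Fin (n + 1) → A)
    constructor
    · intro (h : LinearMap.funLeft A A Fin.succ φ = 0)
      refine ⟨φ 0, ?_⟩
      show LinearMap.single A (fun _ : Fin (n + 1) => A) 0 (φ 0) = φ
      funext i
      refine Fin.cases ?_ (fun j => ?_) i
      · simp
      · have := congrFun h j
        simp [LinearMap.funLeft] at this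
        simp [Fin.succ_ne_zero, this]
    · rintro ⟨a, rfl⟩
      show LinearMap.funLeft A A Fin.succ (LinearMap.single A (fun _ : Fin (n + 1) => A) 0 a) = 0
      funext j
      simp [LinearMap.funLeft, Fin.succ_ne_zero]
  · intro (a : A) (b : A) hab
    have := congrFun (show LinearMap.single A (fun _ : Fin (n + 1) => A) 0 a =
      LinearMap.single A (fun _ : Fin (n + 1) => A) 0 b from hab) 0
    have h2 : a = b := by simpa using this
    exact h2
  · intro (ψ : Fin n → A)
    refine ⟨(Fin.cons 0 ψ : Fin (n + 1) → A), ?_⟩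
    show LinearMap.funLeft A A Fin.succ (Fin.cons 0 ψ : Fin (n + 1) → A) = ψ
    funext j
    simp [LinearMap.funLeft]

theorem P_free (hJ : ∀ n : ℤ, Injective (J.X n)) (h1 : P J (𝟙_ (ModuleCat.{u} A))) (n : ℕ) :
    P J (ModuleCat.of A (Fin n → A)) := by
  induction n with
  | zero => exact P_of_isZero J _ (ModuleCat.isZero_of_subsingleton _)
  | succ n ih => exact P_ext J (freeSC A n) (freeSC_shortExact n) hJ h1 ih

section Chase

variable [IsNoetherianRing A] (hJ : ∀ n : ℤ, Injective (J.X n))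
  (hF : ∀ n : ℕ, P J (ModuleCat.of A (Fin n → A)))
  (N₀ : ℤ) (hN₀ : ∀ (M : ModuleCat.{u} A) (i : ℤ), N₀ ≤ i → V J i M)

include hJ hF

omit [IsNoetherianRing A] in
theorem V_step (M : Type u) [AddCommGroup M] [Module A M] (n : ℕ) (π : (Fin n → A) →ₗ[A] M)
    (hπ : Function.Surjective π) (i : ℤ) (hi : i ≠ 0)
    (h : V J (i + 1) (ModuleCat.of A (LinearMap.ker π))) : V J i (ModuleCat.of A M) := by
  obtain ⟨δ, hT⟩ := Z_triangle J π.shortComplexKer (LinearMap.shortExact_shortComplexKer hπ) hJ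
  intro s
  obtain ⟨t, ht⟩ := surj_left _ _ _ hT
    ((shiftFunctorAdd' (Dual.D A) i 1 (i + 1) rfl).app (Q.obj J)).symm (fun t' _ => h t') s
  rw [ht, (hF n).1 i hi t, comp_zero]

include hN₀

theorem V_pos : ∀ (k : ℕ) (M : Type u) [AddCommGroup M] [Module A M] [Module.Finite A M] (i : ℤ),
    0 < i → N₀ ≤ i + k → V J i (ModuleCat.of A M) := by
  intro k
  induction k with
  | zero =>
    intro M _ _ _ i _ hi
    exact hN₀ _ i (by simpa using hi)
  | succ k ih =>
    intro M _ _ _ i hi0 hi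
    obtain ⟨n, π, hπ⟩ := Module.Finite.exists_fin' A M
    exact V_step J hJ hF M n π hπ i (ne_of_gt hi0)
      (ih (LinearMap.ker π) (i + 1) (by omega) (by push_cast at hi; omega))

theorem evD_surjective (M : Type u) [AddCommGroup M] [Module A M] [Module.Finite A M] :
    Function.Surjective (fun x : ModuleCat.of A M => evD J x) := by
  obtain ⟨n, π, hπ⟩ := Module.Finite.exists_fin' A M
  obtain ⟨δ, hT⟩ := Z_triangle J π.shortComplexKer (LinearMap.shortExact_shortComplexKer hπ) hJ
  intro t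
  have h1 : V J 1 (ModuleCat.of A (LinearMap.ker π)) :=
    V_pos J hJ hF N₀ hN₀ (N₀ - 1).toNat (LinearMap.ker π) 1 (by omega) (by omega)
  obtain ⟨t₂, ht₂⟩ := surj_left _ _ _ hT (Iso.refl _) (fun t' _ => h1 t') t
  obtain ⟨y, hy⟩ := (hF n).2.2 t₂
  have hy' : evD J y = t₂ := hy
  refine ⟨π y, ?_⟩
  show evD J (M := ModuleCat.of A M) (π y) = t
  have := evD_nat J (ModuleCat.ofHom π) y
  rw [ht₂, ← hy']
  exact this

theorem evD_eq_zero (M : Type u) [AddCommGroup M] [Module A M] [Module.Finite A M]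
    (x : ModuleCat.of A M) (hx : evD J x = 0) : x = 0 := by
  obtain ⟨n, π, hπ⟩ := Module.Finite.exists_fin' A M
  obtain ⟨δ, hT⟩ := Z_triangle J π.shortComplexKer (LinearMap.shortExact_shortComplexKer hπ) hJ
  obtain ⟨y, rfl⟩ := hπ x
  have h1 : Zmap J (ModuleCat.ofHom π) ≫ evD J (M := ModuleCat.of A (Fin n → A)) y = 0 := by
    rw [← evD_nat]
    exact hx
  obtain ⟨t', ht'⟩ := exact_mid _ _ _ hT _ h1
  obtain ⟨x', hx'⟩ := evD_surjective J hJ hF N₀ hN₀ (LinearMap.ker π) t'
  have hx'' : evD J x' = t' := hx'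
  have h2 : evD J (M := ModuleCat.of A (Fin n → A)) y =
      evD J (M := ModuleCat.of A (Fin n → A)) ((LinearMap.ker π).subtype x') := by
    rw [ht', ← hx'']
    exact (evD_nat J (ModuleCat.ofHom (LinearMap.ker π).subtype) x').symm
  have h3 : y = (LinearMap.ker π).subtype x' := (hF n).2.1 h2
  rw [h3]
  exact x'.2

theorem evD_injective (M : Type u) [AddCommGroup M] [Module A M] [Module.Finite A M] :
    Function.Injective (fun x : ModuleCat.of A M => evD J x) := by
  intro x y hxy
  have hxy' : evD J x = evD J y := hxy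
  have h0 : evD J (x - y) = 0 := by
    rw [sub_eq_add_neg, evD_add, ← neg_one_smul A y, evD_smul, hxy']
    simp
  exact sub_eq_zero.mp (evD_eq_zero J hJ hF N₀ hN₀ M _ h0)

theorem V_neg_one (M : Type u) [AddCommGroup M] [Module A M] [Module.Finite A M] :
    V J (-1) (ModuleCat.of A M) := by
  obtain ⟨n, π, hπ⟩ := Module.Finite.exists_fin' A M
  obtain ⟨δ, hT⟩ := Z_triangle J π.shortComplexKer (LinearMap.shortExact_shortComplexKer hπ) hJ
  intro s
  have hinj : ∀ t' : Z J (ModuleCat.of A (LinearMap.ker π)) ⟶ Q.obj J,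
      Zmap J (ModuleCat.ofHom (LinearMap.ker π).subtype) ≫ t' = 0 → t' = 0 := by
    intro t' ht'
    obtain ⟨x', hx'⟩ := evD_surjective J hJ hF N₀ hN₀ (LinearMap.ker π) t'
    have hx'' : evD J x' = t' := hx'
    have h2 : evD J (M := ModuleCat.of A (Fin n → A)) ((LinearMap.ker π).subtype x') = 0 := by
      rw [← ht', ← hx'']
      exact evD_nat J (ModuleCat.ofHom (LinearMap.ker π).subtype) x'
    have h3 : (LinearMap.ker π).subtype x' = 0 :=
      (hF n).2.1 (h2.trans (evD_zero J).symm)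
    have h4 : x' = 0 := Subtype.ext h3
    rw [← hx'', h4]
    exact evD_zero J
  obtain ⟨t, ht⟩ := surj_left _ _ _ hT
    ((shiftFunctorCompIsoId (Dual.D A) (-1 : ℤ) 1 (by omega)).app (Q.obj J)) hinj s
  rw [ht, (hF n).1 (-1) (by omega) t, comp_zero]

theorem V_neg : ∀ (k : ℕ) (M : Type u) [AddCommGroup M] [Module A M] [Module.Finite A M],
    V J (-1 - k) (ModuleCat.of A M) := by
  intro k
  induction k with
  | zero =>
    intro M _ _ _
    simpa using V_neg_one J hJ hF N₀ hN₀ M
  | succ k ih =>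
    intro M _ _ _
    obtain ⟨n, π, hπ⟩ := Module.Finite.exists_fin' A M
    refine V_step J hJ hF M n π hπ _ (by push_cast; omega) ?_
    have := ih (LinearMap.ker π)
    have e : (-1 - ((k + 1 : ℕ) : ℤ)) + 1 = -1 - (k : ℤ) := by push_cast; omega
    rw [e]
    exact this

theorem P_of_finite (M : Type u) [AddCommGroup M] [Module A M] [Module.Finite A M] :
    P J (ModuleCat.of A M) := by
  refine ⟨fun i hi => ?_, evD_injective J hJ hF N₀ hN₀ M, evD_surjective J hJ hF N₀ hN₀ M⟩
  rcases lt_or_gt_of_ne hi with hi | hi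
  · have := V_neg J hJ hF N₀ hN₀ (-1 - i).toNat M
    have e : -1 - (((-1 - i).toNat : ℕ) : ℤ) = i := by
      rw [Int.toNat_of_nonneg (by omega)]
      omega
    rw [e] at this
    exact this
  · exact V_pos J hJ hF N₀ hN₀ (N₀ - i).toNat M i hi (by omega)

end Chase

end Groth.Agent.Helper8.BiDual
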