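import Groth.Agent.Lib.Helper8.BiDual6

/-!
# Transfer lemmas between `Hom(κ, Y[i])` and `Hom(X, Y[s])` (helper8)
-/

set_option autoImplicit false

open CategoryTheory CategoryTheory.Limits Pretriangulated

universe u

namespace Groth.Agent.Helper8.BiDual

open DerivedCategory

attribute [local instance] HasDerivedCategory.standard

variable {A : Type u} [CommRing A]

theorem exists_ne_zero_single (m : Ideal A) [m.IsMaximal] (N : ModuleCat.{u} A)
    [Module.Finite A N] [Nontrivial N] (hN : ∀ a ∈ m, ∀ x : N, a • x = 0) (Y : Dual.D A)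
    (t s u : ℤ) (h : u = s + t) (f₀ : Dual.inD A (A ⧸ m) ⟶ Y⟦u⟧) (hf₀ : f₀ ≠ 0) :
    ∃ g : (singleFunctor (ModuleCat.{u} A) t).obj N ⟶ Y⟦s⟧, g ≠ 0 := by
  obtain ⟨ι, π, hπι⟩ := exists_retract_of_killed m N hN
  let g₁ := singleHomEquiv (ModuleCat.of A (A ⧸ m)) Y t s u h f₀
  have hg₁ : g₁ ≠ 0 := by
    intro h0
    apply hf₀
    have : singleHomEquiv (ModuleCat.of A (A ⧸ m)) Y t s u h f₀ =
        singleHomEquiv (ModuleCat.of A (A ⧸ m)) Y t s u h 0 := by
      rw [map_zero]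
      exact h0
    exact (singleHomEquiv (ModuleCat.of A (A ⧸ m)) Y t s u h).injective this
  refine ⟨(singleFunctor (ModuleCat.{u} A) t).map (ModuleCat.ofHom π) ≫ g₁, ?_⟩
  intro h0
  apply hg₁
  have h1 : (singleFunctor (ModuleCat.{u} A) t).map (ModuleCat.ofHom ι) ≫
      (singleFunctor (ModuleCat.{u} A) t).map (ModuleCat.ofHom π) = 𝟙 _ := by
    rw [← Functor.map_comp, ← ModuleCat.ofHom_comp, hπι]
    exact CategoryTheory.Functor.map_id _ _
  calc g₁ = ((singleFunctor (ModuleCat.{u} A) t).map (ModuleCat.ofHom ι) ≫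
        (singleFunctor (ModuleCat.{u} A) t).map (ModuleCat.ofHom π)) ≫ g₁ := by
          rw [h1, Category.id_comp]
    _ = 0 := by rw [Category.assoc, h0, comp_zero]

theorem single_hom_eq_zero (m : Ideal A) [m.IsMaximal] (N : ModuleCat.{u} A)
    [Module.Finite A N] (hN : ∀ a ∈ m, ∀ x : N, a • x = 0) (Y : Dual.D A)
    (t s u : ℤ) (h : u = s + t) (hκ : ∀ f : Dual.inD A (A ⧸ m) ⟶ Y⟦u⟧, f = 0)
    (g : (singleFunctor (ModuleCat.{u} A) t).obj N ⟶ Y⟦s⟧) : g = 0 := by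
  obtain ⟨g₀, rfl⟩ := (singleHomEquiv N Y t s u h).surjective g
  have : g₀ = 0 := hom_eq_zero_of_killed m (Y⟦u⟧) hκ N hN g₀
  rw [this, map_zero]

theorem hom_eq_zero_of_homology (m : Ideal A) [m.IsMaximal] (X : Dual.D A) (c d : ℤ)
    (hX : ∀ i : ℤ, (i < c ∨ d < i) → IsZero ((homologyFunctor (ModuleCat.{u} A) i).obj X))
    (hfin : ∀ i : ℤ, Module.Finite A ((homologyFunctor (ModuleCat.{u} A) i).obj X))
    (hkill : ∀ i : ℤ, ∀ x ∈ m, ∀ y : (homologyFunctor (ModuleCat.{u} A) i).obj X, x • y = 0)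
    (Y : Dual.D A) (s : ℤ)
    (hκ : ∀ i : ℤ, c ≤ i → i ≤ d → ∀ f : Dual.inD A (A ⧸ m) ⟶ Y⟦s + i⟧, f = 0)
    (k : X ⟶ Y⟦s⟧) : k = 0 := by
  refine (extClosed_hom_eq_zero (Y⟦s⟧)).of_homology X c d hX ?_ k
  intro i g
  by_cases hi : c ≤ i ∧ i ≤ d
  · have := hfin i
    exact single_hom_eq_zero m _ (hkill i) Y i s (s + i) rfl (hκ i hi.1 hi.2) g
  · have hz : IsZero ((homologyFunctor (ModuleCat.{u} A) i).obj X) :=
      hX i (by
        by_contra hcon
        rw [not_or, not_lt, not_lt] at hcon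
        exact hi ⟨hcon.1, hcon.2⟩)
    exact ((singleFunctor (ModuleCat.{u} A) i).map_isZero hz).eq_of_src _ _

end Groth.Agent.Helper8.BiDual
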