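import Groth.Agent.Lib.Helper8.RFin1

/-!
# Finiteness for right adjoints of restriction, part 2 (helper8)
-/


set_option autoImplicit false
universe u

namespace Groth.Agent.Helper8.RFin

open CategoryTheory Abelian DerivedCategory Pretriangulated Limits

attribute [local instance] HasDerivedCategory.standard

variable {A : Type u} [CommRing A]

open Groth.Agent.Helper8.DFin in
theorem bddFinCoh_single [IsNoetherianRing A] (M : ModuleCat.{u} A) [Module.Finite A M] :
    BddFinCoh ((singleFunctor (ModuleCat.{u} A) 0).obj M) := by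
  refine ⟨⟨0, 0, ?_⟩, ?_⟩
  · intro j hj
    rcases hj with hj | hj
    · exact ((singleFunctor (ModuleCat.{u} A) 0).obj M).isZero_of_isGE 0 j hj
    · exact ((singleFunctor (ModuleCat.{u} A) 0).obj M).isZero_of_isLE 0 j hj
  · intro j
    exact Groth.Agent.Helper8.DualMod.finite_HD_inD A M j

open Groth.Agent.Helper8.DFin in
theorem noetherian_hom_single_of_bddBelow [IsNoetherianRing A] (M : ModuleCat.{u} A)
    [Module.Finite A M] (K : Dual.D A) (a : ℤ)
    (hKa : ∀ j : ℤ, j < a → IsZero ((homologyFunctor (ModuleCat.{u} A) j).obj K))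
    (hK : ∀ j : ℤ, Module.Finite A ((homologyFunctor (ModuleCat.{u} A) j).obj K)) :
    IsNoetherian A ((singleFunctor (ModuleCat.{u} A) 0).obj M ⟶ K) := by
  obtain ⟨X, Y, f, g, h, hXle, hYge, hT, hfiso, -⟩ := exists_trunc_triangle K 0
  have hXbdd : BddFinCoh X := by
    refine ⟨⟨a, 0, ?_⟩, ?_⟩
    · intro j hj
      rcases le_or_gt j 0 with hj0 | hj0
      · have hj' : j < a := by omega
        have := hfiso j hj0
        exact (hKa j hj').of_iso (asIso ((homologyFunctor (ModuleCat.{u} A) j).map f))
      · exact X.isZero_of_isLE 0 j hj0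
    · intro j
      rcases le_or_gt j 0 with hj0 | hj0
      · have := hfiso j hj0
        have := hK j
        exact Module.Finite.equiv
          (asIso ((homologyFunctor (ModuleCat.{u} A) j).map f)).symm.toLinearEquiv
      · have hz := X.isZero_of_isLE 0 j hj0
        have : Subsingleton ((homologyFunctor (ModuleCat.{u} A) j).obj X) :=
          ModuleCat.subsingleton_of_isZero hz
        exact Module.Finite.of_finite
  have hN := noethHom_of_bddFinCoh _ X (bddFinCoh_single M) hXbdd 0
  let e0 : X⟦(0 : ℤ)⟧ ≅ X := (shiftFunctorZero (Dual.D A) ℤ).app X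
  have hN' : IsNoetherian A ((singleFunctor (ModuleCat.{u} A) 0).obj M ⟶ X) := by
    refine isNoetherian_of_surjective
      (Linear.rightComp A ((singleFunctor (ModuleCat.{u} A) 0).obj M) e0.hom) ?_
    rw [LinearMap.range_eq_top]
    intro ψ
    refine ⟨ψ ≫ e0.inv, ?_⟩
    show (ψ ≫ e0.inv) ≫ e0.hom = ψ
    rw [Category.assoc, e0.inv_hom_id, Category.comp_id]
  refine isNoetherian_of_surjective
    (Linear.rightComp A ((singleFunctor (ModuleCat.{u} A) 0).obj M) f) ?_
  rw [LinearMap.range_eq_top]
  intro ψ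
  have hz : ψ ≫ g = 0 := by
    have h1 : ((singleFunctor (ModuleCat.{u} A) 0).obj M).IsLE 0 := inferInstance
    exact TStructure.t.zero_of_isLE_of_isGE (ψ ≫ g) 0 (0 + 1) (by omega) h1 hYge
  obtain ⟨χ, hχ⟩ := Triangle.coyoneda_exact₂ _ hT ψ hz
  exact ⟨χ, hχ.symm⟩

end Groth.Agent.Helper8.RFin
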