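import Groth.Agent.Lib.Helper8.BiDual7
import Groth.Agent.Lib.Helper8.RFin2

/-!
# `RHom(κ, ω) = κ[-n]` for a dualizing complex (helper8)
-/

set_option autoImplicit false

open CategoryTheory CategoryTheory.Limits Pretriangulated

universe u

namespace Groth.Agent.Helper8.BiDual

open DerivedCategory

attribute [local instance] HasDerivedCategory.standard

variable {A : Type u} [CommRing A]

section

variable [IsNoetherianRing A] (J : DRing.Cx A) (a b : ℤ)
  (hvan : DRing.VanishesOutside J a b) (hinj : DRing.TermwiseInjective J)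
  (hfin : ∀ i : ℤ, Module.Finite A ((homologyFunctor (ModuleCat.{u} A) i).obj (Q.obj J)))
  (m : Ideal A) [m.IsMaximal]

include hvan hinj

omit [IsNoetherianRing A] in
/-- `Hⁱ(D(κ)) ≃ Hom(κ, ω[i])` -/
theorem nonempty_homology_Z_equiv (M : ModuleCat.{u} A) (i : ℤ) :
    Nonempty ((homologyFunctor (ModuleCat.{u} A) i).obj (Z J M) ≃ₗ[A]
      ((singleFunctor (ModuleCat.{u} A) 0).obj M ⟶ (Q.obj J)⟦i⟧)) := by
  have hJK : J.IsKInjective := Groth.Agent.Helper11.DC.isKInjective_of_vanishesBelow J a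
    (fun i hi => hvan i (Or.inl hi)) hinj
  obtain ⟨e⟩ := Groth.Agent.Helper8.HomH.nonempty_homology_homCx_equiv (sg M) J i
  let e0 := ((homologyFunctorFactors (ModuleCat.{u} A) i).app (DRing.homCx (sg M) J)).toLinearEquiv
  exact ⟨e0.trans e⟩

include hfin

theorem finite_hom_single (M : ModuleCat.{u} A) [Module.Finite A M] (i : ℤ) :
    Module.Finite A ((singleFunctor (ModuleCat.{u} A) 0).obj M ⟶ (Q.obj J)⟦i⟧) := by
  have h := Groth.Agent.Helper8.DFin.noetherian_hom ((singleFunctor (ModuleCat.{u} A) 0).obj M)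
    (Q.obj J) (fun j => Groth.Agent.Helper8.DualMod.finite_HD_inD A M j) hfin a b
    ⟨J, hvan, hinj, ⟨Iso.refl _⟩⟩ i
  exact Module.IsNoetherian.finite A _

omit [IsNoetherianRing A] hvan hinj hfin in
theorem smul_hom_single_eq_zero {M : ModuleCat.{u} A} {Y : Dual.D A} (x : A)
    (hx : ∀ y : M, x • y = 0) (f : (singleFunctor (ModuleCat.{u} A) 0).obj M ⟶ Y) : x • f = 0 := by
  have h1 : x • 𝟙 M = 0 := by
    ext y
    exact hx y
  have h2 : x • 𝟙 ((singleFunctor (ModuleCat.{u} A) 0).obj M) = 0 := by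
    rw [← CategoryTheory.Functor.map_id, ← Functor.map_smul, h1, Functor.map_zero]
  calc x • f = (x • 𝟙 _) ≫ f := by rw [Linear.smul_comp, Category.id_comp]
    _ = 0 := by rw [h2, zero_comp]

end

end Groth.Agent.Helper8.BiDual
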