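import Groth.Agent.Lib.Helper8.BiDual8

/-!
# `RHom(κ, ω) = κ[-n]` for a dualizing complex: main argument (helper8)
-/

set_option autoImplicit false

open CategoryTheory CategoryTheory.Limits Pretriangulated

universe u

namespace Groth.Agent.Helper8.BiDual

open DerivedCategory

attribute [local instance] HasDerivedCategory.standard

variable {A : Type u} [CommRing A]

set_option maxHeartbeats 1600000 in
theorem main_Q [IsNoetherianRing A] (J : DRing.Cx A) (a b : ℤ)
    (hvan : DRing.VanishesOutside J a b) (hinj : DRing.TermwiseInjective J)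
    (hend : Function.Bijective (fun x : A => x • 𝟙 (Q.obj J)))
    (hext : ∀ i : ℤ, i ≠ 0 → ∀ f : Q.obj J ⟶ (Q.obj J)⟦i⟧, f = 0)
    (hfin : ∀ i : ℤ, Module.Finite A ((homologyFunctor (ModuleCat.{u} A) i).obj (Q.obj J)))
    (m : Ideal A) [m.IsMaximal] :
    ∃ n : ℤ, (∀ i : ℤ, i ≠ n → ∀ f : Dual.inD A (A ⧸ m) ⟶ (Q.obj J)⟦i⟧, f = 0) ∧
      Nonempty ((Dual.inD A (A ⧸ m) ⟶ (Q.obj J)⟦n⟧) ≃ₗ[A] (A ⧸ m)) := by
  classical
  let κM : ModuleCat.{u} A := ModuleCat.of A (A ⧸ m)
  let ω : Dual.D A := Q.obj J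
  let Vv : Dual.D A := Z J κM
  have hP : P J κM := P_of_model J a b hvan hinj hend hext (A ⧸ m)
  have hV : ∀ j : ℤ, j ≠ 0 → ∀ f : Vv ⟶ ω⟦j⟧, f = 0 := hP.1
  let evL : (A ⧸ m) ≃ₗ[A] (Vv ⟶ ω) :=
    LinearEquiv.ofBijective
      { toFun := fun x => evD J (M := κM) x
        map_add' := fun x y => evD_add J x y
        map_smul' := fun c x => evD_smul J c x } hP.2
  have hmκ : ∀ x ∈ m, ∀ y : κM, x • y = 0 := by
    intro x hx y
    obtain ⟨y, rfl⟩ := Ideal.Quotient.mk_surjective y
    have h1 : x • (Ideal.Quotient.mk m y) = Ideal.Quotient.mk m (x * y) := rfl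
    show x • (Ideal.Quotient.mk m y) = 0
    rw [h1, Ideal.Quotient.eq_zero_iff_mem]
    exact m.mul_mem_right y hx
  have hVge : Vv.IsGE a := Z_isGE J a (fun j hj => hvan j (Or.inl hj)) κM
  have hVle : Vv.IsLE b := Z_isLE J b (fun j hj => hvan j (Or.inr hj)) κM
  have hH : ∀ i : ℤ, Nonempty ((homologyFunctor (ModuleCat.{u} A) i).obj Vv ≃ₗ[A]
      (Dual.inD A (A ⧸ m) ⟶ ω⟦i⟧)) := fun i => nonempty_homology_Z_equiv J a b hvan hinj κM i
  have hEfin : ∀ i : ℤ, Module.Finite A (Dual.inD A (A ⧸ m) ⟶ ω⟦i⟧) := fun i =>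
    finite_hom_single J a b hvan hinj hfin κM i
  have hEkill : ∀ i : ℤ, ∀ x ∈ m, ∀ f : Dual.inD A (A ⧸ m) ⟶ ω⟦i⟧, x • f = 0 := fun i x hx f =>
    smul_hom_single_eq_zero (M := κM) x (hmκ x hx) f
  have hVfin : ∀ i : ℤ, Module.Finite A ((homologyFunctor (ModuleCat.{u} A) i).obj Vv) := by
    intro i
    obtain ⟨e⟩ := hH i
    have := hEfin i
    exact Module.Finite.equiv e.symm
  have hVkill : ∀ i : ℤ, ∀ x ∈ m, ∀ y : (homologyFunctor (ModuleCat.{u} A) i).obj Vv,
      x • y = 0 := by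
    intro i x hx y
    obtain ⟨e⟩ := hH i
    apply e.injective
    rw [map_smul, map_zero]
    exact hEkill i x hx _
  have hEout : ∀ i : ℤ, (i < a ∨ b < i) → ∀ f : Dual.inD A (A ⧸ m) ⟶ ω⟦i⟧, f = 0 := by
    intro i hi f
    obtain ⟨e⟩ := hH i
    have hz : IsZero ((homologyFunctor (ModuleCat.{u} A) i).obj Vv) := by
      rcases hi with hi | hi
      · exact Vv.isZero_of_isGE a i hi
      · exact Vv.isZero_of_isLE b i hi
    have : Subsingleton ((homologyFunctor (ModuleCat.{u} A) i).obj Vv) :=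
      ModuleCat.subsingleton_of_isZero hz
    have h2 : e.symm f = e.symm 0 := Subsingleton.elim _ _
    exact e.symm.injective h2
  -- the nonvanishing set
  let nz : ℤ → Prop := fun i => ∃ f : Dual.inD A (A ⧸ m) ⟶ ω⟦i⟧, f ≠ 0
  have hnz_mem : ∀ i : ℤ, nz i → a ≤ i ∧ i ≤ b := by
    intro i ⟨f, hf⟩
    by_contra hcon
    apply hf
    apply hEout i
    by_contra hcon2
    rw [not_or, not_lt, not_lt] at hcon2
    exact hcon ⟨hcon2.1, hcon2.2⟩
  have hex : ∃ i : ℤ, nz i := by
    by_contra hcon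
    have hall : ∀ i : ℤ, ∀ f : Dual.inD A (A ⧸ m) ⟶ ω⟦i⟧, f = 0 := by
      intro i f
      by_contra hf
      exact hcon ⟨i, f, hf⟩
    have hHz : ∀ i : ℤ, IsZero ((homologyFunctor (ModuleCat.{u} A) i).obj Vv) := by
      intro i
      obtain ⟨e⟩ := hH i
      have : Subsingleton ((homologyFunctor (ModuleCat.{u} A) i).obj Vv) :=
        ⟨fun x y => e.injective ((hall i _).trans (hall i _).symm)⟩
      exact ModuleCat.isZero_of_subsingleton _
    have h1 : Vv.IsLE 0 := (isLE_iff Vv 0).mpr (fun i _ => hHz i)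
    have h2 : Vv.IsGE 1 := (isGE_iff Vv 1).mpr (fun i _ => hHz i)
    have hz : IsZero Vv := TStructure.t.isZero Vv 0 1 (by omega)
    have h3 : evL 1 = evL 0 := hz.eq_of_src _ _
    have h4 : (1 : A ⧸ m) = 0 := evL.injective h3
    exact one_ne_zero h4
  let S : Finset ℤ := (Finset.Icc a b).filter nz
  have hS : S.Nonempty := by
    obtain ⟨i, hi⟩ := hex
    exact ⟨i, Finset.mem_filter.mpr ⟨Finset.mem_Icc.mpr (hnz_mem i hi), hi⟩⟩
  let p := S.min' hS
  let q := S.max' hS
  have hp : nz p := (Finset.mem_filter.mp (S.min'_mem hS)).2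
  have hq : nz q := (Finset.mem_filter.mp (S.max'_mem hS)).2
  have hlt_p : ∀ i : ℤ, i < p → ∀ f : Dual.inD A (A ⧸ m) ⟶ ω⟦i⟧, f = 0 := by
    intro i hi f
    by_contra hf
    have hmem : i ∈ S :=
      Finset.mem_filter.mpr ⟨Finset.mem_Icc.mpr (hnz_mem i ⟨f, hf⟩), ⟨f, hf⟩⟩
    have := S.min'_le i hmem
    omega
  have hgt_q : ∀ i : ℤ, q < i → ∀ f : Dual.inD A (A ⧸ m) ⟶ ω⟦i⟧, f = 0 := by
    intro i hi f
    by_contra hf
    have hmem : i ∈ S :=
      Finset.mem_filter.mpr ⟨Finset.mem_Icc.mpr (hnz_mem i ⟨f, hf⟩), ⟨f, hf⟩⟩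
    have := S.le_max' i hmem
    omega
  have hpq : p ≤ q := S.min'_le q (S.max'_mem hS)
  have hpa : a ≤ p := (hnz_mem p hp).1
  -- Step A: p = q
  have hpq' : p = q := by
    by_contra hne
    have hlt : p < q := lt_of_le_of_ne hpq hne
    obtain ⟨X, Y, f, g, h, hXle, hYge, hT, hfiso, hgiso⟩ :=
      Groth.Agent.Helper8.DFin.exists_trunc_triangle Vv (q - 1)
    have hYge' : Y.IsGE q := by
      have e : q - 1 + 1 = q := by ring
      rw [e] at hYge
      exact hYge
    have hYle : Y.IsLE q := by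
      rw [isLE_iff]
      intro i hi
      have := hgiso i (by omega)
      obtain ⟨e⟩ := hH i
      have hsub : Subsingleton ((homologyFunctor (ModuleCat.{u} A) i).obj Vv) :=
        ⟨fun x y => e.injective ((hgt_q i hi _).trans (hgt_q i hi _).symm)⟩
      exact (ModuleCat.isZero_of_subsingleton _).of_iso
        (asIso ((homologyFunctor (ModuleCat.{u} A) i).map g)).symm
    obtain ⟨N, ⟨eY⟩⟩ := exists_iso_singleFunctor_obj_of_isGE_of_isLE Y q
    -- `N ≃ H^q(V) ≃ E q`
    have hgq := hgiso q (by omega)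
    let eN : N ≅ (homologyFunctor (ModuleCat.{u} A) q).obj Vv :=
      ((singleFunctorCompHomologyFunctorIso (ModuleCat.{u} A) q).app N).symm ≪≫
        (homologyFunctor (ModuleCat.{u} A) q).mapIso eY.symm ≪≫
        (asIso ((homologyFunctor (ModuleCat.{u} A) q).map g)).symm
    obtain ⟨eq⟩ := hH q
    let eNE : N ≃ₗ[A] (Dual.inD A (A ⧸ m) ⟶ ω⟦q⟧) := eN.toLinearEquiv.trans eq
    have hNfin : Module.Finite A N := by
      have := hEfin q
      exact Module.Finite.equiv eNE.symm
    have hNkill : ∀ x ∈ m, ∀ y : N, x • y = 0 := by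
      intro x hx y
      apply eNE.injective
      rw [map_smul, map_zero]
      exact hEkill q x hx _
    have hNnt : Nontrivial N := by
      obtain ⟨f₁, hf₁⟩ := hq
      refine ⟨⟨eNE.symm f₁, 0, ?_⟩⟩
      intro h0
      apply hf₁
      have := congrArg eNE h0
      rwa [LinearEquiv.apply_symm_apply, map_zero] at this
    obtain ⟨f₀, hf₀⟩ := hp
    obtain ⟨g₂, hg₂⟩ := exists_ne_zero_single m N hNkill ω q (p - q) p (by omega) f₀ hf₀
    have hg₃ : eY.hom ≫ g₂ ≠ 0 := by
      intro h0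
      apply hg₂
      exact (cancel_epi eY.hom).mp (h0.trans comp_zero.symm)
    have hg₄ : g ≫ eY.hom ≫ g₂ = 0 := hV (p - q) (by omega) _
    obtain ⟨k, hk⟩ : ∃ k : X⟦(1 : ℤ)⟧ ⟶ ω⟦p - q⟧, eY.hom ≫ g₂ = h ≫ k :=
      Triangle.yoneda_exact₃ _ hT (eY.hom ≫ g₂) hg₄
    apply hg₃
    have hk0 : k = 0 := by
      refine hom_shift_eq_zero (Y' := ω⟦p - q - 1⟧)
        ((shiftFunctorAdd' (Dual.D A) (p - q - 1) 1 (p - q) (by omega)).app ω).symm ?_ k
      intro k'
      refine hom_eq_zero_of_homology m X a (q - 1) ?_ ?_ ?_ ω (p - q - 1) ?_ k'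
      · intro i hi
        rcases hi with hi | hi
        · have := hfiso i (by omega)
          exact (Vv.isZero_of_isGE a i hi).of_iso
            (asIso ((homologyFunctor (ModuleCat.{u} A) i).map f))
        · exact X.isZero_of_isLE (q - 1) i hi
      · intro i
        rcases le_or_gt i (q - 1) with hi | hi
        · have := hfiso i hi
          have := hVfin i
          exact Module.Finite.equiv
            (asIso ((homologyFunctor (ModuleCat.{u} A) i).map f)).symm.toLinearEquiv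
        · have : Subsingleton ((homologyFunctor (ModuleCat.{u} A) i).obj X) :=
            ModuleCat.subsingleton_of_isZero (X.isZero_of_isLE (q - 1) i hi)
          exact Module.Finite.of_finite
      · intro i x hx y
        rcases le_or_gt i (q - 1) with hi | hi
        · have := hfiso i hi
          let ef := (asIso ((homologyFunctor (ModuleCat.{u} A) i).map f)).toLinearEquiv
          apply ef.injective
          rw [map_smul, map_zero]
          exact hVkill i x hx _
        · have : Subsingleton ((homologyFunctor (ModuleCat.{u} A) i).obj X) :=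
            ModuleCat.subsingleton_of_isZero (X.isZero_of_isLE (q - 1) i hi)
          exact Subsingleton.elim _ _
      · intro i _ hi f'
        exact hlt_p (p - q - 1 + i) (by omega) f'
    rw [hk, hk0, comp_zero]
  -- conclusion
  refine ⟨p, ?_, ?_⟩
  · intro i hi f
    rcases lt_or_gt_of_ne hi with hi | hi
    · exact hlt_p i hi f
    · exact hgt_q i (by omega) f
  · -- `V` is concentrated in degree `p`
    have hHz : ∀ i : ℤ, i ≠ p → IsZero ((homologyFunctor (ModuleCat.{u} A) i).obj Vv) := by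
      intro i hi
      obtain ⟨e⟩ := hH i
      have hall : ∀ f : Dual.inD A (A ⧸ m) ⟶ ω⟦i⟧, f = 0 := by
        intro f
        rcases lt_or_gt_of_ne hi with hi | hi
        · exact hlt_p i hi f
        · exact hgt_q i (by omega) f
      have : Subsingleton ((homologyFunctor (ModuleCat.{u} A) i).obj Vv) :=
        ⟨fun x y => e.injective ((hall _).trans (hall _).symm)⟩
      exact ModuleCat.isZero_of_subsingleton _
    have h1 : Vv.IsLE p := (isLE_iff Vv p).mpr (fun i hi => hHz i (by omega))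
    have h2 : Vv.IsGE p := (isGE_iff Vv p).mpr (fun i hi => hHz i (by omega))
    obtain ⟨N, ⟨eV⟩⟩ := exists_iso_singleFunctor_obj_of_isGE_of_isLE Vv p
    let eN : N ≅ (homologyFunctor (ModuleCat.{u} A) p).obj Vv :=
      ((singleFunctorCompHomologyFunctorIso (ModuleCat.{u} A) p).app N).symm ≪≫
        (homologyFunctor (ModuleCat.{u} A) p).mapIso eV.symm
    obtain ⟨ep⟩ := hH p
    let eNE : N ≃ₗ[A] (Dual.inD A (A ⧸ m) ⟶ ω⟦p⟧) := eN.toLinearEquiv.trans ep
    have hNfin : Module.Finite A N := by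
      have := hEfin p
      exact Module.Finite.equiv eNE.symm
    have hNkill : ∀ x ∈ m, ∀ y : N, x • y = 0 := by
      intro x hx y
      apply eNE.injective
      rw [map_smul, map_zero]
      exact hEkill p x hx _
    have hNnt : Nontrivial N := by
      obtain ⟨f₁, hf₁⟩ := hp
      refine ⟨⟨eNE.symm f₁, 0, ?_⟩⟩
      intro h0
      apply hf₁
      have := congrArg eNE h0
      rwa [LinearEquiv.apply_symm_apply, map_zero] at this
    obtain ⟨ι, π, hπι⟩ := exists_retract_of_killed m N hNkill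
    -- the injection `E p → κ`
    let Θ₁ : (Dual.inD A (A ⧸ m) ⟶ ω⟦p⟧) ≃ₗ[A] ((singleFunctor (ModuleCat.{u} A) p).obj κM ⟶ ω) :=
      (singleHomEquiv κM ω p 0 p (by omega)).trans (shiftZeroEquiv _ ω)
    let Θ₂ : ((singleFunctor (ModuleCat.{u} A) p).obj κM ⟶ ω) →ₗ[A] (Vv ⟶ ω) :=
      Linear.leftComp A ω (eV.hom ≫ (singleFunctor (ModuleCat.{u} A) p).map (ModuleCat.ofHom π))
    have hΘ₂ : Function.Injective Θ₂ := by
      intro u v huv
      have h1 : (eV.hom ≫ (singleFunctor (ModuleCat.{u} A) p).map (ModuleCat.ofHom π)) ≫ u =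
          (eV.hom ≫ (singleFunctor (ModuleCat.{u} A) p).map (ModuleCat.ofHom π)) ≫ v := huv
      have h2 : (singleFunctor (ModuleCat.{u} A) p).map (ModuleCat.ofHom ι) ≫
          (singleFunctor (ModuleCat.{u} A) p).map (ModuleCat.ofHom π) = 𝟙 _ := by
        rw [← Functor.map_comp, ← ModuleCat.ofHom_comp, hπι]
        exact CategoryTheory.Functor.map_id _ _
      have h3 := congrArg (fun w => (singleFunctor (ModuleCat.{u} A) p).map (ModuleCat.ofHom ι) ≫
        eV.inv ≫ w) h1
      simp only [Category.assoc, Iso.inv_hom_id_assoc] at h3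
      rw [← Category.assoc, h2, Category.id_comp, ← Category.assoc, h2, Category.id_comp] at h3
      exact h3
    let Θ : (Dual.inD A (A ⧸ m) ⟶ ω⟦p⟧) →ₗ[A] (A ⧸ m) :=
      evL.symm.toLinearMap ∘ₗ Θ₂ ∘ₗ Θ₁.toLinearMap
    have hΘ : Function.Injective Θ := by
      intro u v huv
      have h1 : Θ₂ (Θ₁ u) = Θ₂ (Θ₁ v) := evL.symm.injective huv
      exact Θ₁.injective (hΘ₂ h1)
    have hsimple : IsSimpleModule A (A ⧸ m) :=
      isSimpleModule_iff_quot_maximal.mpr ⟨m, inferInstance, ⟨LinearEquiv.refl A _⟩⟩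
    have hrange : LinearMap.range Θ = ⊤ := by
      rcases eq_bot_or_eq_top (LinearMap.range Θ) with hr | hr
      · exfalso
        obtain ⟨f₁, hf₁⟩ := hp
        apply hf₁
        have h0 : Θ f₁ = 0 := by
          have : Θ f₁ ∈ LinearMap.range Θ := ⟨f₁, rfl⟩
          rw [hr] at this
          exact (Submodule.mem_bot A).mp this
        exact hΘ (h0.trans (map_zero Θ).symm)
      · exact hr
    exact ⟨LinearEquiv.ofBijective Θ ⟨hΘ, LinearMap.range_eq_top.mp hrange⟩⟩

end Groth.Agent.Helper8.BiDual
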