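import Mathlib
import Groth.Agent.Lib.Helper8.ExtBC1
import Groth.Agent.Lib.Lead.SkReg1
import Groth.Agent.Lib.Lead.HomSk
import Groth.Agent.Lib.Lead.Depth16
import Groth.Agent.Lib.Helper7.FieldCM

/-!
# The Rees isomorphism `Ext^g(N, M) ≃ Hom(N, M / (x_1..x_g) M)` and `(S_2)` for
`Ext^g_P(N, P)` over a Cohen–Macaulay ring (helper8)
-/

set_option autoImplicit false
set_option linter.style.haveILetI false
set_option linter.unusedSectionVars false
universe u

open CategoryTheory Abelian RingTheory.Sequence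

namespace Groth.Agent.Helper8.CMExt

section Rees

variable {R : Type u} [CommRing R]

/-- an element killing `N` acts as zero on `Ext(N, M)` through the second variable -/
theorem comp_smul_eq_zero {N M : ModuleCat.{u} R} (x : R) (hN : ∀ n : N, x • n = 0) (j : ℕ)
    (e : Ext N M j) : x • e = 0 := by
  have h1 : e = (Ext.mk₀ (𝟙 N)).comp e (zero_add j) := by simp
  have h2 : x • (𝟙 N) = 0 := by
    ext n
    exact hN n
  rw [h1, ← Ext.smul_comp, ← Ext.mk₀_smul, h2, Ext.mk₀_zero, Ext.zero_comp]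

theorem comp_smul_id {N M : ModuleCat.{u} R} (x : R) (j : ℕ) (e : Ext N M j) :
    e.comp (Ext.mk₀ (x • 𝟙 M)) (add_zero j) = x • e := by
  rw [Ext.mk₀_smul, Ext.comp_smul, Ext.comp_mk₀_id]

variable (M : ModuleCat.{u} R) (N : ModuleCat.{u} R) (x : R)

/-- the connecting map `Ext^k(N, M/xM) → Ext^{k+1}(N, M)` is surjective when `x` kills `N` -/
theorem delta_surjective (hx : IsSMulRegular M x) (hN : ∀ n : N, x • n = 0) (k : ℕ)
    (e : Ext N M (k + 1)) :
    ∃ e₃ : Ext N (M.smulShortComplex x).X₃ k,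
      e₃.comp hx.smulShortComplex_shortExact.extClass rfl = e := by
  refine Ext.covariant_sequence_exact₁ N hx.smulShortComplex_shortExact e ?_ rfl
  exact (comp_smul_id x (k + 1) e).trans (comp_smul_eq_zero x hN _ e)

/-- the connecting map is injective when `Ext^k(N, M) = 0` -/
theorem delta_injective (hx : IsSMulRegular M x) (k : ℕ)
    (h0 : Subsingleton (Ext N M k))
    (e₃ : Ext N (M.smulShortComplex x).X₃ k)
    (he : e₃.comp hx.smulShortComplex_shortExact.extClass rfl = (0 : Ext N M (k + 1))) :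
    e₃ = 0 := by
  obtain ⟨e₂, he₂⟩ := Ext.covariant_sequence_exact₃ N hx.smulShortComplex_shortExact e₃ rfl he
  have : e₂ = 0 := Subsingleton.elim (α := Ext N M k) _ _
  rw [← he₂, this, Ext.zero_comp]

/-- `Hom(N, M) = 0` when a regular element of `M` kills `N` -/
theorem ext_zero_subsingleton (hx : IsSMulRegular M x) (hN : ∀ n : N, x • n = 0) :
    Subsingleton (Ext N M 0) := by
  refine ⟨fun a b => ?_⟩
  have key : ∀ c : Ext N M 0, c = 0 := by
    intro c
    obtain ⟨φ, rfl⟩ := (Ext.mk₀_bijective N M).2 c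
    have : φ = 0 := by
      ext n
      apply hx
      show x • φ.hom n = x • (0 : N ⟶ M).hom n
      rw [← map_smul, hN n, map_zero]
      simp
    rw [this, Ext.mk₀_zero]
  rw [key a, key b]

/-- the connecting isomorphism `Ext^k(N, M/xM) ≃ Ext^{k+1}(N, M)` -/
noncomputable def deltaEquiv (hx : IsSMulRegular M x) (hN : ∀ n : N, x • n = 0) (k : ℕ)
    (h0 : Subsingleton (Ext N M k)) :
    Ext N (M.smulShortComplex x).X₃ k ≃ₗ[R] Ext N M (k + 1) :=
  LinearEquiv.ofBijective
    { toFun := fun e₃ => e₃.comp hx.smulShortComplex_shortExact.extClass rfl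
      map_add' := fun a b => Ext.add_comp _ _ _ _
      map_smul' := fun r a => Ext.smul_comp _ _ _ _ }
    ⟨by
      intro a b hab
      have h1 : (a - b).comp hx.smulShortComplex_shortExact.extClass rfl =
          (0 : Ext N M (k + 1)) := by
        rw [sub_eq_add_neg, Ext.add_comp, Ext.neg_comp]
        exact add_neg_eq_zero.mpr hab
      have := delta_injective M N x hx k h0 (a - b) h1
      exact sub_eq_zero.mp this,
    fun e => delta_surjective M N x hx hN k e⟩


/-- **the Rees isomorphism**: for a weakly `M`-regular sequence `rs` of length `g` killing `N`,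
`Ext^j(N, M) = 0` for `j < g` and `Ext^g(N, M) ≃ Hom(N, M / rs M)` -/
theorem rees : ∀ (rs : List R) (M : Type u) [AddCommGroup M] [Module R M] (N : Type u)
    [AddCommGroup N] [Module R N], IsWeaklyRegular M rs →
    (∀ r ∈ rs, ∀ n : N, r • n = 0) →
    (∀ j < rs.length, Subsingleton (Ext (ModuleCat.of R N) (ModuleCat.of R M) j)) ∧
      Nonempty (Ext (ModuleCat.of R N) (ModuleCat.of R M) rs.length ≃ₗ[R]
        (N →ₗ[R] M ⧸ (Ideal.ofList rs • ⊤ : Submodule R M))) := by
  intro rs
  induction rs with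
  | nil =>
    intro M _ _ N _ _ _ _
    refine ⟨fun j hj => absurd hj (Nat.not_lt_zero _), ?_⟩
    have e : (M ⧸ (Ideal.ofList ([] : List R) • ⊤ : Submodule R M)) ≃ₗ[R] M :=
      Submodule.quotEquivOfEqBot _ (by rw [Ideal.ofList_nil, Submodule.bot_smul])
    exact ⟨(Groth.Agent.Helper8.ExtBC.ext0Equiv N M).trans (LinearEquiv.congrRight e.symm)⟩
  | cons x rs ih =>
    intro M _ _ N _ _ hwr hkill
    rw [isWeaklyRegular_cons_iff] at hwr
    obtain ⟨hx, hrs⟩ := hwr
    obtain ⟨hv', ⟨e'⟩⟩ := ih (QuotSMulTop x M) N hrs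
      (fun r hr => hkill r (List.mem_cons_of_mem _ hr))
    have hxN : ∀ n : (ModuleCat.of R N), x • n = 0 := hkill x List.mem_cons_self
    have hx' : IsSMulRegular (ModuleCat.of R M) x := hx
    have hvan : ∀ j < rs.length + 1,
        Subsingleton (Ext (ModuleCat.of R N) (ModuleCat.of R M) j) := by
      intro j hj
      cases j with
      | zero => exact ext_zero_subsingleton (ModuleCat.of R M) (ModuleCat.of R N) x hx' hxN
      | succ j' =>
        haveI := hv' j' (by omega)
        refine ⟨fun a b => ?_⟩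
        obtain ⟨a₃, rfl⟩ := delta_surjective (ModuleCat.of R M) (ModuleCat.of R N) x hx' hxN j' a
        obtain ⟨b₃, rfl⟩ := delta_surjective (ModuleCat.of R M) (ModuleCat.of R N) x hx' hxN j' b
        have : a₃ = b₃ := Subsingleton.elim
          (α := Ext (ModuleCat.of R N) (ModuleCat.of R (QuotSMulTop x M)) j') _ _
        rw [this]
    refine ⟨hvan, ?_⟩
    let δ := deltaEquiv (ModuleCat.of R M) (ModuleCat.of R N) x hx' hxN rs.length
      (hvan rs.length (Nat.lt_succ_self _))
    let e2 : (N →ₗ[R] QuotSMulTop x M ⧸ (Ideal.ofList rs • ⊤ : Submodule R (QuotSMulTop x M)))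
        ≃ₗ[R] (N →ₗ[R] M ⧸ (Ideal.ofList (x :: rs) • ⊤ : Submodule R M)) :=
      LinearEquiv.congrRight (Submodule.quotOfListConsSMulTopEquivQuotSMulTopInner M x rs).symm
    exact ⟨δ.symm.trans (e'.trans e2)⟩

end Rees


section CM

open Groth.Agent.Lead.Depth

variable (P : Type u) [CommRing P]

/-- `(S_k)` for a zero module -/
theorem hasSk_of_subsingleton [IsNoetherianRing P] (k : ℕ) (E : Type u) [AddCommGroup E]
    [Module P E] [Subsingleton E] : LocCoh.HasSk k P E := by
  intro p hp
  rw [Module.supportDim_eq_bot_of_subsingleton, min_eq_right bot_le]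
  exact bot_le

theorem ext_subsingleton_of_subsingleton_left (N M : ModuleCat.{u} P) [Subsingleton N] (j : ℕ) :
    Subsingleton (Ext N M j) := by
  refine ⟨fun a b => ?_⟩
  have key : ∀ c : Ext N M j, c = 0 := by
    intro c
    have h1 : c = (Ext.mk₀ (𝟙 N)).comp c (zero_add j) := by simp
    have h2 : 𝟙 N = 0 := (ModuleCat.isZero_of_subsingleton N).eq_of_src _ _
    rw [h1, h2, Ext.mk₀_zero, Ext.zero_comp]
  rw [key a, key b]

/-- over a Cohen–Macaulay ring `P`, for a finite module `N` killed by an ideal `K` of height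
`≥ g`: `Ext^j(N, P) = 0` for `j < g`, and `Ext^g(N, P)` satisfies `(S_2)` -/
theorem cm_ext [hCM : LocCoh.IsCohenMacaulayRing P] (K : Ideal P) (N : Type u) [AddCommGroup N]
    [Module P N] [Module.Finite P N] (hK : ∀ a ∈ K, ∀ n : N, a • n = 0) (g : ℕ)
    (hg : (g : ℕ∞) ≤ K.height) :
    (∀ j < g, Subsingleton (Ext (ModuleCat.of P N) (ModuleCat.of P P) j)) ∧
      LocCoh.HasSk 2 P (Ext (ModuleCat.of P N) (ModuleCat.of P P) g) := by
  haveI : IsNoetherianRing P := hCM.1
  by_cases hK1 : K = ⊤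
  · haveI : Subsingleton N := by
      refine ⟨fun a b => ?_⟩
      have h1 := hK 1 (by rw [hK1]; trivial) a
      have h2 := hK 1 (by rw [hK1]; trivial) b
      rw [one_smul] at h1 h2
      rw [h1, h2]
    haveI : Subsingleton (ModuleCat.of P N) := ‹Subsingleton N›
    haveI hs := fun j => ext_subsingleton_of_subsingleton_left P (ModuleCat.of P N)
      (ModuleCat.of P P) j
    exact ⟨fun j _ => hs j, hasSk_of_subsingleton P 2 _⟩
  · have hd := (isCohenMacaulayRing_iff_idealDepth_eq_height.mp hCM) K hK1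
    have hne : K • (⊤ : Submodule P P) ≠ ⊤ := by
      rw [smul_eq_mul, Ideal.mul_top]
      exact hK1
    obtain ⟨rs, hlen, hwr, hmem⟩ := exists_of_le_idealDepth K P hne g (by rw [hd]; exact hg)
    obtain ⟨hvan, ⟨e⟩⟩ := rees rs P N hwr (fun r hr n => hK r (hmem r hr) n)
    subst hlen
    refine ⟨hvan, ?_⟩
    have hN2 : LocCoh.HasSk 2 P (P ⧸ (Ideal.ofList rs • ⊤ : Submodule P P)) :=
      Groth.Agent.Lead.SkReg.hasSk_quot_ofList rs 2 P hwr
        (Groth.Agent.Helper7.FieldCM.hasSk_of_isCohenMacaulayRing P (2 + rs.length))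
    have h3 := Groth.Agent.Lead.HomSk.hasSk_hom P N (P ⧸ (Ideal.ofList rs • ⊤ : Submodule P P)) 2
      (Or.inr rfl) hN2
    exact (Groth.Agent.Lead.Fib.hasSk_congr 2 e).mpr h3

end CM

end Groth.Agent.Helper8.CMExt
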