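import Mathlib
import Groth.Agent.Lib.Helper16.Alg.FibPD4
import Groth.Agent.Lib.Helper14.FibreGeneric
import Groth.Agent.Lib.Helper14.DeltaZStalk
import Groth.Agent.Lib.Helper14.EquidimAt
import Groth.Agent.Lib.Helper28.BlowCM

/-!
# Fibre rings of a finite type algebra: coheight of primes of the fibre ring, Cohen–Macaulay
fibres and equidimensionality in terms of the fibre local rings (helper8)
-/

set_option autoImplicit false
set_option linter.style.haveILetI false
set_option linter.unusedSectionVars false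
universe u

open CategoryTheory TensorProduct AlgebraicGeometry IsLocalRing

namespace Groth.Agent.Helper8.RelDz

open Groth.Agent.Lead.Fib Groth.Agent.Helper14 Groth.Agent.Helper16.RingFibDim

section Field

variable (k F : Type u) [Field k] [CommRing F] [Algebra k F] [Algebra.FiniteType k F]

/-- in a finite type algebra over a field, the coheight of a prime `Q` is `trdeg_k (F / Q)` -/
theorem coheight_eq_of_trdeg (Q : Ideal F) [hQ : Q.IsPrime] (r : ℕ)
    (hr : Algebra.trdeg k (F ⧸ Q) = r) :
    Order.coheight (⟨Q, hQ⟩ : PrimeSpectrum F) = (r : ℕ∞) := by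
  have h0 := Groth.Agent.Helper14.DeltaZ.ringKrullDim_quotient_eq_coheight (⟨Q, hQ⟩ : PrimeSpectrum F)
  have key : ringKrullDim (F ⧸ Q) = (r : WithBot ℕ∞) := by
    apply le_antisymm
    · rw [ringKrullDim_le_iff_height_le]
      intro P' hP'
      have hφ : Function.Surjective (Ideal.Quotient.mk Q) := Ideal.Quotient.mk_surjective
      haveI hP : (P'.comap (Ideal.Quotient.mk Q)).IsPrime := Ideal.comap_isPrime _ _
      have hle : Q ≤ P'.comap (Ideal.Quotient.mk Q) := by
        intro x hx
        rw [Ideal.mem_comap, Ideal.Quotient.eq_zero_iff_mem.mpr hx]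
        exact zero_mem _
      have h1 := LocalDimAlg.height_map_add_trdeg k F Q (P'.comap (Ideal.Quotient.mk Q)) hle
      rw [Ideal.map_comap_of_surjective _ hφ, hr] at h1
      have h2 : ((P'.height : ℕ∞) : Cardinal.{u}) ≤ ((0 : ℕ∞) : Cardinal.{u}) + (r : Cardinal.{u}) := by
        rw [← h1]
        simp
      have := LocalDimSch.cast_le h2
      simpa using this
    · haveI : IsDomain (F ⧸ Q) := Ideal.Quotient.isDomain Q
      haveI : (⊥ : Ideal (F ⧸ Q)).IsPrime := Ideal.isPrime_bot
      have hrS : Algebra.trdeg k ((F ⧸ Q) ⧸ (⊥ : Ideal (F ⧸ Q))) = r := by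
        rw [(AlgEquiv.quotientBot k (F ⧸ Q)).trdeg_eq, hr]
      have h1 := FibreGeneric.localDim_eq_of_unique_minimal k (F ⧸ Q) ⊥ (fun _ _ => bot_le) r hrS ⊥
      have h2 := FibreGeneric.localDim_le_dim (T := PrimeSpectrum (F ⧸ Q)) ⟨⊥, inferInstance⟩
      rw [PrimeSpectrum.topologicalKrullDim_eq_ringKrullDim, h1] at h2
      exact h2
  rw [key] at h0
  exact_mod_cast h0.symm

end Field

/-- minimal primes are the minimal points of the prime spectrum -/
theorem mem_minimalPrimes_iff_isMin {R : Type*} [CommRing R] (Q : PrimeSpectrum R) :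
    Q.asIdeal ∈ minimalPrimes R ↔ IsMin Q := by
  constructor
  · intro h Q' hle
    exact h.2 ⟨Q'.isPrime, bot_le⟩ hle
  · intro h
    refine ⟨⟨Q.isPrime, bot_le⟩, fun y hy hle => ?_⟩
    exact h (b := ⟨y, hy.1⟩) hle


section Fib

variable (A B : Type u) [CommRing A] [CommRing B] [Algebra A B]

/-- the fibre local rings over `p` are Cohen–Macaulay -/
def FibCM (p : Ideal A) [p.IsPrime] : Prop :=
  ∀ (r : Ideal B) [r.IsPrime] [r.LiesOver p],
    (maximalIdeal (FL p r)).height = LocCoh.depth (FL p r) (FL p r)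

/-- the generic points of the fibre over `p` have residue fields of transcendence degree `n` -/
def FibEquidim (p : Ideal A) [p.IsPrime] (n : ℕ) : Prop :=
  ∀ (q : Ideal B) [hq : q.IsPrime] [hlo : q.LiesOver p],
    IsMin (⟨q, ⟨hq, hlo⟩⟩ : p.primesOver B) → Algebra.trdeg (A ⧸ p) (B ⧸ q) = n

variable [Algebra.FiniteType A B]

/-- the transcendence degree of a residue field extension is finite -/
theorem exists_nat_trdeg_quot (p : Ideal A) [p.IsPrime] (q : Ideal B) [hq : q.IsPrime]
    [hlo : q.LiesOver p] : ∃ r : ℕ, Algebra.trdeg (A ⧸ p) (B ⧸ q) = r := by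
  let q' : Spec (CommRingCat.of B) := ⟨q, hq⟩
  haveI : (PrimeSpectrum.asIdeal q').LiesOver p := hlo
  have htd := Groth.Agent.Helper16.SpecFib.trdeg_residueField_eq A B q' p
  rw [Groth.Agent.Helper16.FTDim.td_spec (specMap A B) q'] at htd
  exact ⟨_, htd.symm⟩

/-- the coheight of a prime of the fibre ring -/
theorem coheight_fiber (p : Ideal A) [p.IsPrime] (𝔮 : PrimeSpectrum (p.Fiber B))
    (q : Ideal B) [hq : q.IsPrime] [hlo : q.LiesOver p]
    (h𝔮 : 𝔮.asIdeal.comap Algebra.TensorProduct.includeRight.toRingHom = q) (r : ℕ)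
    (hr : Algebra.trdeg (A ⧸ p) (B ⧸ q) = r) : Order.coheight 𝔮 = (r : ℕ∞) := by
  haveI := 𝔮.isPrime
  have h1 := FibreGeneric.trdeg_fiber_quotient A B p 𝔮.asIdeal q h𝔮
  rw [hr] at h1
  haveI : Algebra.FiniteType p.ResidueField (p.Fiber B) := inferInstance
  exact coheight_eq_of_trdeg p.ResidueField (p.Fiber B) 𝔮.asIdeal r h1

theorem fibEquidim_iff (p : Ideal A) [p.IsPrime] (n : ℕ) :
    (∀ 𝔮 : PrimeSpectrum (p.Fiber B), 𝔮.asIdeal ∈ minimalPrimes (p.Fiber B) →
      Order.coheight 𝔮 = (n : ℕ∞)) ↔ FibEquidim A B p n := by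
  let o := PrimeSpectrum.primesOverOrderIsoFiber A B p
  have hcomap : ∀ x : p.primesOver B,
      (o x).asIdeal.comap Algebra.TensorProduct.includeRight.toRingHom = x.1 := by
    intro x
    have h1 := PrimeSpectrum.coe_primesOverOrderIsoFiber_symm_apply (R := A) (S := B) (p := p) (o x)
    rw [OrderIso.symm_apply_apply] at h1
    exact h1.symm
  constructor
  · intro h q hq hlo hmin
    obtain ⟨r, hr⟩ := exists_nat_trdeg_quot A B p q
    let x : p.primesOver B := ⟨q, ⟨hq, hlo⟩⟩
    have h1 : IsMin (o x) := (OrderIso.isMin_apply o).mpr hmin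
    have h2 := h (o x) ((mem_minimalPrimes_iff_isMin _).mpr h1)
    have h3 := coheight_fiber A B p (o x) q (hcomap x) r hr
    rw [h2] at h3
    have : n = r := by exact_mod_cast h3
    rw [hr, this]
  · intro h 𝔮 hmin
    obtain ⟨x, rfl⟩ := o.surjective 𝔮
    have h1 : IsMin x := (OrderIso.isMin_apply o).mp ((mem_minimalPrimes_iff_isMin _).mp hmin)
    haveI := x.2.1
    haveI := x.2.2
    have h2 := h x.1 h1
    exact coheight_fiber A B p (o x) x.1 (hcomap x) n h2

/-- the hypothesis on a fibre ring (Cohen–Macaulay, every irreducible component of dimension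
`n`) in terms of the fibre local rings and residue fields -/
theorem fibre_hyp_iff [IsNoetherianRing A] (p : PrimeSpectrum A) (n : ℕ) :
    (LocCoh.IsCohenMacaulayRing (B ⊗[A] p.asIdeal.ResidueField) ∧
      ∀ Q : PrimeSpectrum (B ⊗[A] p.asIdeal.ResidueField),
        Q.asIdeal ∈ minimalPrimes (B ⊗[A] p.asIdeal.ResidueField) →
          Order.coheight Q = (n : ℕ∞)) ↔
      (FibCM A B p.asIdeal ∧ FibEquidim A B p.asIdeal n) := by
  haveI : IsNoetherianRing B := Algebra.FiniteType.isNoetherianRing A B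
  let e : (B ⊗[A] p.asIdeal.ResidueField) ≃+* p.asIdeal.Fiber B :=
    (Algebra.TensorProduct.comm A B p.asIdeal.ResidueField).toRingEquiv
  have hCM : LocCoh.IsCohenMacaulayRing (B ⊗[A] p.asIdeal.ResidueField) ↔
      FibCM A B p.asIdeal := by
    rw [FibCM, ← isCohenMacaulayRing_fiber_iff p.asIdeal]
    exact ⟨Groth.Agent.Helper28.BlowCM.isCohenMacaulayRing_of_ringEquiv e,
      Groth.Agent.Helper28.BlowCM.isCohenMacaulayRing_of_ringEquiv e.symm⟩
  have hEq : (∀ Q : PrimeSpectrum (B ⊗[A] p.asIdeal.ResidueField),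
        Q.asIdeal ∈ minimalPrimes (B ⊗[A] p.asIdeal.ResidueField) →
          Order.coheight Q = (n : ℕ∞)) ↔ FibEquidim A B p.asIdeal n := by
    rw [← fibEquidim_iff]
    let o := PrimeSpectrum.comapEquiv e
    constructor
    · intro h 𝔮 hmin
      obtain ⟨Q, rfl⟩ := o.surjective 𝔮
      rw [Order.coheight_orderIso]
      apply h
      rw [mem_minimalPrimes_iff_isMin] at hmin ⊢
      exact (OrderIso.isMin_apply o).mp hmin
    · intro h Q hmin
      rw [← Order.coheight_orderIso o]
      apply h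
      rw [mem_minimalPrimes_iff_isMin] at hmin ⊢
      exact (OrderIso.isMin_apply o).mpr hmin
  rw [hCM, hEq]

/-- equidimensional fibre: the local fibre dimension is `n` everywhere on the fibre -/
theorem fibreDimAt_eq_of_fibEquidim (n : ℕ) (q : PrimeSpectrum B)
    (h : FibEquidim A B (q.asIdeal.under A) n) :
    FlatMor.fibreDimAt (specMap A B) q = (n : WithBot ℕ∞) := by
  set p := q.asIdeal.under A with hp
  obtain ⟨z, m, hzq, hfz, hzmax, hm, hdim⟩ :=
    EquidimAt.exists_maximal_trdeg_eq_fibreDimAt (specMap A B) (q : Spec (CommRingCat.of B))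
  have hzp : (PrimeSpectrum.asIdeal z).under A = p := by
    have := congrArg PrimeSpectrum.asIdeal hfz
    exact this
  haveI hlo : (PrimeSpectrum.asIdeal z).LiesOver p := ⟨hzp.symm⟩
  have htd := Groth.Agent.Helper16.SpecFib.trdeg_residueField_eq A B z p
  have hmin : IsMin (⟨PrimeSpectrum.asIdeal z, ⟨(z : PrimeSpectrum B).isPrime, hlo⟩⟩ :
      p.primesOver B) := by
    intro b hb
    let z' : Spec (CommRingCat.of B) := (⟨b.1, b.2.1⟩ : PrimeSpectrum B)
    have h1 : (specMap A B) z' = (specMap A B) z := by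
      apply PrimeSpectrum.ext
      show b.1.under A = (PrimeSpectrum.asIdeal z).under A
      rw [hzp]
      exact (b.2.2.over).symm
    have h2 : z' ⤳ z :=
      (PrimeSpectrum.le_iff_specializes (⟨b.1, b.2.1⟩ : PrimeSpectrum B) (z : PrimeSpectrum B)).mp hb
    have h3 := hzmax z' h1 h2
    have : b.1 = PrimeSpectrum.asIdeal z := congrArg PrimeSpectrum.asIdeal h3
    exact this.ge
  have h4 := h (PrimeSpectrum.asIdeal z) hmin
  rw [htd, h4] at hm
  have : n = m := by exact_mod_cast hm
  rw [hdim, this]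

end Fib

end Groth.Agent.Helper8.RelDz
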