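import Mathlib
import Groth.Agent.Lib.Helper8.RelDz7
import Groth.Agent.Lib.Helper16.Alg.FibPD4

/-!
# Height of the kernel of a presentation from a bound on residual transcendence degrees (helper8)
-/

set_option autoImplicit false
set_option linter.style.haveILetI false
set_option linter.unusedSectionVars false
universe u

open CategoryTheory AlgebraicGeometry

namespace Groth.Agent.Helper8.CMExt

open Groth.Agent.Helper16.RingFibDim Groth.Agent.Lead.Fib

/-- for a prime `Q` of a polynomial ring over a Noetherian ring lying over `p`, with residual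
transcendence degree `t`: `n ≤ ht Q + t` -/
theorem le_height_add_trdeg {R : Type u} [CommRing R] [IsNoetherianRing R] (n : ℕ)
    (p : Ideal R) [p.IsPrime] (Q : Ideal (MvPolynomial (Fin n) R)) [Q.IsPrime] [Q.LiesOver p]
    (t : ℕ) (ht : Algebra.trdeg (R ⧸ p) (MvPolynomial (Fin n) R ⧸ Q) = t) :
    (n : ℕ∞) ≤ Q.height + t := by
  have h1 := Groth.Agent.Helper16.FibPD.dim_FL_mvPolynomial n p Q t ht
  have h2 : ringKrullDim (FL p Q) ≤ ringKrullDim (Localization.AtPrime Q) :=
    ringKrullDim_quotient_le _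
  rw [IsLocalization.AtPrime.ringKrullDim_eq_height Q (Localization.AtPrime Q)] at h2
  have h3 : ((n : ℕ∞) : WithBot ℕ∞) ≤ ((Q.height + t : ℕ∞) : WithBot ℕ∞) := by
    rw [WithBot.coe_add]
    calc ((n : ℕ∞) : WithBot ℕ∞) = ringKrullDim (FL p Q) + (t : WithBot ℕ∞) := h1.symm
      _ ≤ (Q.height : WithBot ℕ∞) + (t : WithBot ℕ∞) := by gcongr
  exact WithBot.coe_le_coe.mp h3

theorem height_ker_ge (R A : Type u) [CommRing R] [CommRing A] [IsNoetherianRing R] [Algebra R A]
    (n : ℕ) (ψ : MvPolynomial (Fin n) R →ₐ[R] A) (hψ : Function.Surjective ψ) (r : ℕ)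
    (hr : ∀ q : PrimeSpectrum A, q.asIdeal ∈ minimalPrimes A →
      Dual3.resTrdeg (Spec.map (CommRingCat.ofHom (algebraMap R A))) q ≤ (r : Cardinal.{u})) :
    ((n - r : ℕ) : ℕ∞) ≤ (RingHom.ker ψ.toRingHom).height := by
  letI : Algebra (MvPolynomial (Fin n) R) A := ψ.toRingHom.toAlgebra
  haveI : IsScalarTower R (MvPolynomial (Fin n) R) A :=
    IsScalarTower.of_algebraMap_eq fun x => (ψ.commutes x).symm
  have hsurj : Function.Surjective (algebraMap (MvPolynomial (Fin n) R) A) := hψ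
  haveI : Algebra.FiniteType R A :=
    Algebra.FiniteType.of_surjective (IsScalarTower.toAlgHom R (MvPolynomial (Fin n) R) A) hsurj
  rw [Ideal.height_eq_inf_minimalPrimes]
  refine le_iInf₂ fun Q hQ => ?_
  have hker : RingHom.ker ψ.toRingHom = (⊥ : Ideal A).comap ψ.toRingHom := by
    rw [← RingHom.ker_eq_comap_bot]
  rw [hker, Ideal.comap_minimalPrimes_eq_of_surjective hψ] at hQ
  obtain ⟨q, hq, rfl⟩ := hQ
  have hq' : q ∈ minimalPrimes A := hq
  haveI hqp : q.IsPrime := hq.1.1
  let qq : PrimeSpectrum A := ⟨q, hqp⟩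
  have h1 := hr qq hq'
  set p' := q.under R with hp'
  set Q := q.comap ψ.toRingHom with hQdef
  haveI : Q.IsPrime := Ideal.comap_isPrime _ _
  haveI lo1 : q.LiesOver Q := ⟨rfl⟩
  haveI lo0 : q.LiesOver p' := ⟨rfl⟩
  haveI lo2 : Q.LiesOver p' := ⟨by
    rw [hp', hQdef]
    change Ideal.comap (algebraMap R A) q = Ideal.comap (algebraMap R _) (Ideal.comap _ q)
    rw [Ideal.comap_comap]
    congr 1
    ext x
    exact (ψ.commutes x).symm⟩
  obtain ⟨t, ht⟩ := Groth.Agent.Helper8.RelDz.exists_nat_trdeg_quot R A p' q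
  let q' : Spec (CommRingCat.of A) := qq
  haveI : (PrimeSpectrum.asIdeal q').LiesOver p' := lo0
  have htd := Groth.Agent.Helper16.SpecFib.trdeg_residueField_eq R A q' p'
  have h2 : (t : Cardinal.{u}) ≤ r := by
    have h3 : Dual3.resTrdeg (Spec.map (CommRingCat.ofHom (algebraMap R A))) qq =
        Algebra.trdeg (R ⧸ p') (A ⧸ q) := htd
    rw [h3, ht] at h1
    exact h1
  have h2' : t ≤ r := by exact_mod_cast h2
  have htP : Algebra.trdeg (R ⧸ p') (MvPolynomial (Fin n) R ⧸ Q) = t := by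
    rw [(Groth.Agent.Helper16.FibPD.quotAlgEquiv hsurj p' Q q).trdeg_eq]
    exact ht
  have h4 := le_height_add_trdeg n p' Q t htP
  -- n ≤ ht Q + t ≤ ht Q + r
  have h5 : (n : ℕ∞) ≤ Q.height + r := h4.trans (by gcongr)
  by_cases htop : Q.height = ⊤
  · change _ ≤ Q.height
    rw [htop]; exact le_top
  · obtain ⟨m, hm⟩ := ENat.ne_top_iff_exists.mp htop
    change _ ≤ Q.height
    rw [← hm] at h5 ⊢
    have : n ≤ m + r := by exact_mod_cast h5
    exact_mod_cast (by omega : n - r ≤ m)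

end Groth.Agent.Helper8.CMExt
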