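import Mathlib
import Groth.Agent.Lib.Helper16.Alg.FibModAlg4

/-!
# Serre's condition `(S_k)` along a surjection of rings (helper8)
-/

set_option autoImplicit false
set_option linter.style.haveILetI false
set_option linter.unusedSectionVars false
universe u

open IsLocalRing

namespace Groth.Agent.Helper8.CMExt

/-- `(S_k)` for a finite module over a quotient ring follows from `(S_k)` over the big ring -/
theorem hasSk_of_surjective {P B : Type u} [CommRing P] [CommRing B] [Algebra P B]
    (hsurj : Function.Surjective (algebraMap P B)) (M : Type u) [AddCommGroup M] [Module B M]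
    [Module P M] [IsScalarTower P B M] [Module.Finite B M] (k : ℕ)
    (hP : LocCoh.HasSk k P M) : LocCoh.HasSk k B M := by
  intro q hq
  set Q := q.comap (algebraMap P B) with hQ
  haveI : Q.IsPrime := Ideal.comap_isPrime _ _
  haveI : q.LiesOver Q := ⟨rfl⟩
  letI a2 := Localization.AtPrime.algebraOfLiesOver Q q
  have hs : Function.Surjective (algebraMap (Localization.AtPrime Q) (Localization.AtPrime q)) :=
    Groth.Agent.Helper16.FibPD.localRingHom_surjective hsurj Q q rfl
  haveI hloc : IsLocalizedModule Q.primeCompl
      ((LocalizedModule.mkLinearMap q.primeCompl M).restrictScalars P) := by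
    haveI : IsLocalizedModule (Algebra.algebraMapSubmonoid B Q.primeCompl)
        (LocalizedModule.mkLinearMap q.primeCompl M) := by
      rw [Groth.Agent.Helper16.FibPD.algebraMapSubmonoid_primeCompl hsurj Q q rfl]
      infer_instance
    exact IsLocalizedModule.restrictScalars Q.primeCompl _
  letI modLN : Module (Localization.AtPrime Q) (LocalizedModule q.primeCompl M) :=
    Module.compHom _ (algebraMap (Localization.AtPrime Q) (Localization.AtPrime q))
  haveI towLSN : IsScalarTower (Localization.AtPrime Q) (Localization.AtPrime q)
      (LocalizedModule q.primeCompl M) :=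
    IsScalarTower.of_algebraMap_smul fun r x => rfl
  haveI towBLN : IsScalarTower P (Localization.AtPrime Q) (LocalizedModule q.primeCompl M) :=
    IsScalarTower.of_algebraMap_smul fun b x => by
      change algebraMap (Localization.AtPrime Q) (Localization.AtPrime q)
        (algebraMap P (Localization.AtPrime Q) b) • x = b • x
      rw [← IsScalarTower.algebraMap_apply P (Localization.AtPrime Q) (Localization.AtPrime q),
        algebraMap_smul]
  let φ₀ : LocalizedModule Q.primeCompl M ≃ₗ[P] LocalizedModule q.primeCompl M :=
    IsLocalizedModule.iso Q.primeCompl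
      ((LocalizedModule.mkLinearMap q.primeCompl M).restrictScalars P)
  let φ : LocalizedModule Q.primeCompl M ≃ₗ[Localization.AtPrime Q]
      LocalizedModule q.primeCompl M :=
    φ₀.extendScalarsOfIsLocalization Q.primeCompl (Localization.AtPrime Q)
  haveI : Module.Finite (Localization.AtPrime q) (LocalizedModule q.primeCompl M) :=
    Module.Finite.of_isLocalizedModule q.primeCompl (LocalizedModule.mkLinearMap q.primeCompl M)
  have key := Groth.Agent.Helper16.FibModAlg.invariants_eq_of_surjective hs
    (LocalizedModule q.primeCompl M) (LocalizedModule Q.primeCompl M) φ.symm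
  rw [key.1, key.2]
  exact hP Q

end Groth.Agent.Helper8.CMExt
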