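import Groth.Agent.Lib.Helper8.DualMod1

/-!
# Modules placed in degree zero of the derived category (helper8)
-/

set_option autoImplicit false
universe u

namespace Groth.Agent.Helper8.DualMod

open CategoryTheory Abelian DerivedCategory

attribute [local instance] HasDerivedCategory.standard

variable (A : Type u) [CommRing A]

theorem subsingleton_hom_inD_shift_of_neg (M N : Type u) [AddCommGroup M] [Module A M]
    [AddCommGroup N] [Module A N] (i : ℤ) (hi : i < 0) :
    Subsingleton (Dual.inD A M ⟶ (shiftFunctor (Dual.D A) i).obj (Dual.inD A N)) := by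
  refine ⟨fun f g => ?_⟩
  have h1 : (Dual.inD A M).IsLE 0 := inferInstance
  have h2 : (Dual.inD A N).IsGE 0 := inferInstance
  have h3 : TStructure.t.IsGE ((shiftFunctor (Dual.D A) i).obj (Dual.inD A N)) (-i) :=
    TStructure.t.isGE_shift (Dual.inD A N) 0 i (-i) (by omega)
  rw [TStructure.t.zero_of_isLE_of_isGE f 0 (-i) (by omega) h1 h3,
    TStructure.t.zero_of_isLE_of_isGE g 0 (-i) (by omega) h1 h3]

/-- `Hom(M[0], N[n]) ≃ Ext^n(M, N)` -/
noncomputable def homInDEquivExt (M N : Type u) [AddCommGroup M] [Module A M]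
    [AddCommGroup N] [Module A N] (n : ℕ) :
    Ext (ModuleCat.of A M) (ModuleCat.of A N) n ≃
      (Dual.inD A M ⟶ (shiftFunctor (Dual.D A) (n : ℤ)).obj (Dual.inD A N)) :=
  Ext.homEquiv

theorem finite_HD_inD (N : Type u) [AddCommGroup N] [Module A N] [Module.Finite A N] (i : ℤ) :
    Module.Finite A (Dual.HD A (Dual.inD A N) i) := by
  rcases lt_trichotomy i 0 with hi | rfl | hi
  · have hz : Limits.IsZero ((homologyFunctor (ModuleCat.{u} A) i).obj (Dual.inD A N)) :=
      isZero_of_isGE (Dual.inD A N) 0 i hi
    haveI : Subsingleton (Dual.HD A (Dual.inD A N) i) := ModuleCat.subsingleton_of_isZero hz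
    exact Module.Finite.of_finite
  · let e := (singleFunctorCompHomologyFunctorIso (ModuleCat.{u} A) 0).app (ModuleCat.of A N)
    haveI : Module.Finite A ((𝟭 (ModuleCat.{u} A)).obj (ModuleCat.of A N)) :=
      (inferInstance : Module.Finite A N)
    exact Module.Finite.equiv e.toLinearEquiv.symm
  · have hz : Limits.IsZero ((homologyFunctor (ModuleCat.{u} A) i).obj (Dual.inD A N)) :=
      isZero_of_isLE (Dual.inD A N) 0 i hi
    haveI : Subsingleton (Dual.HD A (Dual.inD A N) i) := ModuleCat.subsingleton_of_isZero hz
    exact Module.Finite.of_finite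

theorem toEnd_inD_self_bijective :
    Function.Bijective (fun a : A => a • CategoryStruct.id (Dual.inD A A)) := by
  have hmap : ∀ a : A, a • CategoryStruct.id (Dual.inD A A) =
      (singleFunctor (ModuleCat.{u} A) 0).map (a • CategoryStruct.id (ModuleCat.of A A)) := by
    intro a
    rw [CategoryTheory.Functor.map_smul, CategoryTheory.Functor.map_id]
  constructor
  · intro a b hab
    simp only [hmap] at hab
    have h1 := (singleFunctor (ModuleCat.{u} A) 0).map_injective hab
    have h2 := congrArg (fun f => f.hom (1 : A)) h1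
    simpa using h2
  · intro f
    obtain ⟨g, rfl⟩ := (singleFunctor (ModuleCat.{u} A) 0).map_surjective f
    refine ⟨g.hom (1 : A), ?_⟩
    show g.hom (1 : A) • CategoryStruct.id (Dual.inD A A) = _
    rw [hmap]
    congr 1
    ext
    simp

end Groth.Agent.Helper8.DualMod
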