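import Groth.Agent.Lib.Helper8.FBC9

/-!
# Flat base change of dualizing complexes: composition, ring isomorphisms, `MvPolynomial` (helper8)
-/

set_option autoImplicit false

open CategoryTheory CategoryTheory.Limits Opposite Pretriangulated

universe u

namespace Groth.Agent.Helper8.FBC

open DerivedCategory TensorProduct ChangeOfRings Groth.Agent.Helper8.LOC IsLocalRing
open scoped Polynomial

attribute [local instance] HasDerivedCategory.standard

section Comp

variable {A B C : Type u} [CommRing A] [CommRing B] [CommRing C] (φ : A →+* B) (ψ : B →+* C)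
  [PreservesFiniteLimits (Efun φ)] [PreservesFiniteLimits (Efun ψ)]

/-- the complex-level composition isomorphism -/
noncomputable def cxCompIso (X : CochainComplex (ModuleCat.{u} A) ℤ) :
    ((Efun ψ).mapHomologicalComplex (ComplexShape.up ℤ)).obj
      (((Efun φ).mapHomologicalComplex (ComplexShape.up ℤ)).obj X) ≅
    ((Efun (ψ.comp φ)).mapHomologicalComplex (ComplexShape.up ℤ)).obj X :=
  ((NatIso.mapHomologicalComplex (ModuleCat.extendScalarsComp φ ψ) (ComplexShape.up ℤ)).app X).symm

/-- composition of derived extensions of scalars, objectwise -/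
theorem nonempty_LdComp_iso (χ : A →+* C) (h : χ = ψ.comp φ) [PreservesFiniteLimits (Efun χ)]
    (Y : Dual.D A) : Nonempty ((Ld ψ).obj ((Ld φ).obj Y) ≅ (Ld χ).obj Y) := by
  subst h
  let X := Q.objPreimage Y
  let e : Q.obj X ≅ Y := Q.objObjPreimageIso Y
  exact ⟨(Ld ψ).mapIso ((Ld φ).mapIso e.symm) ≪≫
    (Ld ψ).mapIso ((Efun φ).mapDerivedCategoryFactors.app X) ≪≫
    (Efun ψ).mapDerivedCategoryFactors.app _ ≪≫
    Q.mapIso (cxCompIso φ ψ X) ≪≫
    ((Efun (ψ.comp φ)).mapDerivedCategoryFactors.app X).symm ≪≫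
    (Ld (ψ.comp φ)).mapIso e⟩

end Comp

section Iso

variable {S : Type u} [CommRing S] (S' : Type u) [CommRing S'] [Algebra S S']
  [IsNoetherianRing S] [IsNoetherianRing S'] [Module.Flat S S']
  [PreservesFiniteLimits (Efun (algebraMap S S'))]

/-- base change along a ring isomorphism -/
theorem isDualizing_Ld_of_bijective (hb : Function.Bijective (algebraMap S S'))
    (ω : Dual.D S) (hω : Dual.IsDualizing S ω) :
    Dual.IsDualizing S' ((Ld (algebraMap S S')).obj ω) := by
  refine isDualizing_Ld_of_maximal S' ω hω (fun n hn => ?_)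
  exact ⟨S ⧸ n.comap (algebraMap S S'), inferInstance, inferInstance, inferInstance,
    ⟨tensorQuotEquiv S' (n.comap (algebraMap S S')) n (Ideal.map_comap_of_surjective _ hb.2 n)⟩⟩

end Iso

section MvPoly

variable (R : Type u) [CommRing R] [IsNoetherianRing R]

theorem flat_ringHom_of_flat {A B : Type u} [CommRing A] [CommRing B] [Algebra A B]
    [Module.Flat A B] : (algebraMap A B).Flat :=
  (RingHom.flat_algebraMap_iff).mpr inferInstance

/-- `ω ⊗ R[x_1, …, x_n]` is dualizing -/
theorem isDualizing_Ld_mvPolynomial (ω : Dual.D R) (hω : Dual.IsDualizing R ω) (n : ℕ) :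
    ∀ (_ : PreservesFiniteLimits (Efun (algebraMap R (MvPolynomial (Fin n) R)))),
    Dual.IsDualizing (MvPolynomial (Fin n) R)
      ((Ld (algebraMap R (MvPolynomial (Fin n) R))).obj ω) := by
  induction n with
  | zero =>
    intro _
    refine isDualizing_Ld_of_bijective (MvPolynomial (Fin 0) R) ?_ ω hω
    have h : (algebraMap R (MvPolynomial (Fin 0) R) : R → MvPolynomial (Fin 0) R) =
        (MvPolynomial.isEmptyAlgEquiv R (Fin 0)).symm := by
      funext r
      rw [MvPolynomial.isEmptyAlgEquiv_symm_apply]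
      rfl
    rw [h]
    exact (MvPolynomial.isEmptyAlgEquiv R (Fin 0)).symm.bijective
  | succ n ih =>
    intro _
    -- notation
    let e : MvPolynomial (Fin (n + 1)) R ≃ₐ[R] (MvPolynomial (Fin n) R)[X] :=
      MvPolynomial.finSuccEquiv R n
    let φ₁ : R →+* MvPolynomial (Fin n) R := algebraMap R (MvPolynomial (Fin n) R)
    let φ₂ : MvPolynomial (Fin n) R →+* (MvPolynomial (Fin n) R)[X] :=
      algebraMap (MvPolynomial (Fin n) R) (MvPolynomial (Fin n) R)[X]
    let φ₃ : (MvPolynomial (Fin n) R)[X] →+* MvPolynomial (Fin (n + 1)) R :=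
      (e.symm : (MvPolynomial (Fin n) R)[X] ≃+* MvPolynomial (Fin (n + 1)) R).toRingHom
    letI : Algebra (MvPolynomial (Fin n) R)[X] (MvPolynomial (Fin (n + 1)) R) := φ₃.toAlgebra
    have hb : Function.Bijective (algebraMap (MvPolynomial (Fin n) R)[X]
        (MvPolynomial (Fin (n + 1)) R)) := e.symm.bijective
    haveI : Module.Flat (MvPolynomial (Fin n) R)[X] (MvPolynomial (Fin (n + 1)) R) :=
      Module.Flat.of_linearEquiv (LinearEquiv.ofBijective
        (Algebra.linearMap (MvPolynomial (Fin n) R)[X] (MvPolynomial (Fin (n + 1)) R)) hb).symm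
    haveI h1 : PreservesFiniteLimits (Efun φ₁) := preservesFiniteLimits_Efun_of_flat _
    haveI h2 : PreservesFiniteLimits (Efun φ₂) := preservesFiniteLimits_Efun_of_flat _
    haveI h3 : PreservesFiniteLimits (Efun φ₃) :=
      preservesFiniteLimits_Efun_of_flat (A := (MvPolynomial (Fin n) R)[X])
        (MvPolynomial (Fin (n + 1)) R)
    haveI h21 : PreservesFiniteLimits (Efun (φ₂.comp φ₁)) :=
      ModuleCat.preservesFiniteLimits_extendScalars_of_flat
        (RingHom.Flat.comp flat_ringHom_of_flat flat_ringHom_of_flat)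
    have hcomp : algebraMap R (MvPolynomial (Fin (n + 1)) R) = φ₃.comp (φ₂.comp φ₁) := by
      apply RingHom.ext
      intro r
      show _ = e.symm (algebraMap R (MvPolynomial (Fin n) R)[X] r)
      rw [e.symm.commutes]
    have d1 := ih h1
    have d2 : Dual.IsDualizing (MvPolynomial (Fin n) R)[X] ((Ld φ₂).obj ((Ld φ₁).obj ω)) :=
      isDualizing_Ld_polynomial _ d1
    have d3 : Dual.IsDualizing (MvPolynomial (Fin (n + 1)) R)
        ((Ld φ₃).obj ((Ld φ₂).obj ((Ld φ₁).obj ω))) :=
      isDualizing_Ld_of_bijective (MvPolynomial (Fin (n + 1)) R) hb _ d2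
    obtain ⟨i1⟩ := nonempty_LdComp_iso φ₁ φ₂ (φ₂.comp φ₁) rfl ω
    obtain ⟨i2⟩ := nonempty_LdComp_iso (φ₂.comp φ₁) φ₃
      (algebraMap R (MvPolynomial (Fin (n + 1)) R)) hcomp ω
    exact Groth.Agent.Helper8.FLD.isDualizing_of_iso ((Ld φ₃).mapIso i1 ≪≫ i2) d3

end MvPoly

end Groth.Agent.Helper8.FBC
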