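import Groth.Agent.Lib.Helper8.ShD4
import Groth.Agent.Lib.Helper8.LOC8
import Groth.Agent.Lib.Helper8.DualMod2
import Groth.Agent.Lib.Helper8.FBC10
import Groth.Agent.Lib.Lead.Depth1

/-!
# Localizing the cohomology of `RHom_P(A, P)` at a prime of `A` (helper8)
-/

set_option autoImplicit false
universe u

namespace Groth.Agent.Helper8.ShD

open CategoryTheory Abelian DerivedCategory Pretriangulated Limits Groth.Agent.Helper8.RFin
  Groth.Agent.Helper8.LOC Groth.Agent.Helper8.FBC

attribute [local instance] HasDerivedCategory.standard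

variable {P A : Type u} [CommRing P] [CommRing A] [Algebra P A] [IsNoetherianRing P]

/-- `A` restricted to `P` is `A` -/
noncomputable def restrictSelfEquiv :
    A ≃ₗ[P] ↑((ModuleCat.restrictScalars.{u} (algebraMap P A)).obj (ModuleCat.of A A)) :=
  { toFun := fun x => x
    invFun := fun x => x
    map_add' := fun _ _ => rfl
    map_smul' := fun a x => by
      have h3 : ∀ y : A, a • y = (algebraMap P A a) • y := fun y => by
        rw [Algebra.smul_def]
        rfl
      exact h3 x
    left_inv := fun _ => rfl
    right_inv := fun _ => rfl }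

/-- `A` restricted to `P` is `A` -/
noncomputable def restrictSelfIso :
    (ModuleCat.restrictScalars.{u} (algebraMap P A)).obj (ModuleCat.of A A) ≅ ModuleCat.of P A :=
  (LinearEquiv.toModuleIso (restrictSelfEquiv (P := P) (A := A))).symm

theorem subsingleton_localizedModule_HD
    (hψ : Function.Surjective (algebraMap P A))
    (Rψ : Dual.D P ⥤ Dual.D A) (adj : DRing.restrictD (algebraMap P A) ⊣ Rψ)
    (W : Dual.D P) (ι : W ≅ Dual.inD P P)
    (q : Ideal A) [q.IsPrime] (c : ℕ)
    (hExt : ∀ k < c, Subsingleton (Ext
      (ModuleCat.of (Localization.AtPrime (q.comap (algebraMap P A)))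
        ((Localization.AtPrime (q.comap (algebraMap P A))) ⧸
          RingHom.ker (Localization.localRingHom (q.comap (algebraMap P A)) q
            (algebraMap P A) rfl)))
      (ModuleCat.of (Localization.AtPrime (q.comap (algebraMap P A)))
        (Localization.AtPrime (q.comap (algebraMap P A)))) k))
    (j : ℤ) (hj : j < c) :
    Subsingleton (LocalizedModule q.primeCompl
      ((homologyFunctor (ModuleCat.{u} A) j).obj (Rψ.obj W))) := by
  classical
  set Q : Ideal P := q.comap (algebraMap P A) with hQ
  set S := Localization.AtPrime Q with hS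
  set θ : S →+* Localization.AtPrime q :=
    Localization.localRingHom Q q (algebraMap P A) rfl with hθdef
  have hθ : Function.Surjective θ := RingHom.surjective_localRingHom_of_surjective _ hψ q
  letI : Algebra S (Localization.AtPrime q) := θ.toAlgebra
  haveI : IsScalarTower P S (Localization.AtPrime q) := by
    refine IsScalarTower.of_algebraMap_eq (fun x => ?_)
    show algebraMap P (Localization.AtPrime q) x = θ (algebraMap P S x)
    rw [hθdef, Localization.localRingHom_to_map, ← IsScalarTower.algebraMap_apply]
  haveI : Module.Finite P A := Module.Finite.of_surjective (Algebra.linearMap P A) hψ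
  haveI : IsLocalization (Algebra.algebraMapSubmonoid A Q.primeCompl) (Localization.AtPrime q) := by
    have h1 : Algebra.algebraMapSubmonoid A Q.primeCompl = q.primeCompl :=
      Submonoid.map_comap_eq_of_surjective hψ q.primeCompl
    rw [h1]
    infer_instance
  haveI hfl : IsLocalizedModule Q.primeCompl
      (IsScalarTower.toAlgHom P A (Localization.AtPrime q)).toLinearMap :=
    isLocalizedModule_iff_isLocalization.mpr inferInstance
  haveI : PreservesFiniteLimits (Efun (algebraMap P S)) := preservesFiniteLimits_Efun_of_flat _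
  -- vanishing over the local ring
  have hS0 : Subsingleton (Dual.inD S (Localization.AtPrime q) ⟶ (Dual.inD S S)⟦j⟧) := by
    rcases lt_or_ge j 0 with hneg | hpos
    · exact Groth.Agent.Helper8.DualMod.subsingleton_hom_inD_shift_of_neg S _ _ j hneg
    · obtain ⟨k, rfl⟩ := Int.eq_ofNat_of_zero_le hpos
      have hk : k < c := by exact_mod_cast hj
      have h1 := hExt k hk
      let e : ModuleCat.of S (S ⧸ RingHom.ker θ) ≅ ModuleCat.of S (Localization.AtPrime q) :=
        LinearEquiv.toModuleIso
          (Ideal.quotientKerAlgEquivOfSurjective (f := Algebra.ofId S (Localization.AtPrime q))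
            hθ).toLinearEquiv
      have h2 := Groth.Agent.Lead.Depth.ext_subsingleton_of_iso_left e (ModuleCat.of S S) k h1
      exact (Groth.Agent.Helper8.DualMod.homInDEquivExt S (Localization.AtPrime q) S k).symm.subsingleton
  have hS1 : Subsingleton (Dual.inD S (Localization.AtPrime q) ⟶
      ((Ld (algebraMap P S)).obj (Dual.inD P P))⟦j⟧) := by
    let i1 : (Ld (algebraMap P S)).obj (Dual.inD P P) ≅ Dual.inD S S :=
      LdInDIso Q.primeCompl S (Algebra.linearMap P S)
    exact (Iso.homCongr (Iso.refl _) ((shiftFunctor _ j).mapIso i1)).subsingleton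
  have hW0 : ∀ i : ℤ, i < 0 → IsZero ((homologyFunctor (ModuleCat.{u} P) i).obj (Dual.inD P P)) :=
    fun i hi => isZero_of_isGE (Dual.inD P P) 0 i hi
  have hloc : Subsingleton (LocalizedModule Q.primeCompl (Dual.inD P A ⟶ (Dual.inD P P)⟦j⟧)) :=
    (subsingleton_locHom_iff Q.primeCompl S
      (IsScalarTower.toAlgHom P A (Localization.AtPrime q)).toLinearMap (Dual.inD P P) 0 hW0 j).mpr hS1
  rw [LocalizedModule.subsingleton_iff] at hloc ⊢
  intro y
  obtain ⟨g, hg⟩ := exists_hom_of_HD Rψ adj W j y
  let εF : (DRing.restrictD (algebraMap P A)).obj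
      ((singleFunctor (ModuleCat.{u} A) 0).obj (ModuleCat.of A A)) ≅ Dual.inD P A :=
    ((ModuleCat.restrictScalars.{u} (algebraMap P A)).mapDerivedCategorySingleFunctor 0).app
      (ModuleCat.of A A) ≪≫ (singleFunctor (ModuleCat.{u} P) 0).mapIso restrictSelfIso
  let ιj : W⟦j⟧ ≅ (Dual.inD P P)⟦j⟧ := (shiftFunctor _ j).mapIso ι
  obtain ⟨s, hs, hsg⟩ := hloc (εF.inv ≫ g ≫ ιj.hom)
  refine ⟨algebraMap P A s, ?_, hg s ?_⟩
  · show algebraMap P A s ∉ q
    exact hs
  · have h1 : g = εF.hom ≫ (εF.inv ≫ g ≫ ιj.hom) ≫ ιj.inv := by simp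
    rw [h1, ← Linear.comp_smul, ← Linear.smul_comp, hsg, zero_comp, comp_zero]

end Groth.Agent.Helper8.ShD
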