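import Groth.Agent.Lib.Helper8.ShE1
import Groth.Agent.Lib.Helper8.ShD5

/-!
# `H^k(Rψ P) ≃ Ext^k_P(A, P)` semilinearly (helper8)
-/

set_option autoImplicit false
universe u

namespace Groth.Agent.Helper8.ShE

open CategoryTheory Abelian DerivedCategory Pretriangulated Limits Groth.Agent.Helper8.RFin

attribute [local instance] HasDerivedCategory.standard

variable {P A : Type u} [CommRing P] [CommRing A] [Algebra P A]

theorem exists_semilinear_equiv_ext
    (Rψ : Dual.D P ⥤ Dual.D A) (adj : DRing.restrictD (algebraMap P A) ⊣ Rψ)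
    (W : Dual.D P) (ι : W ≅ Dual.inD P P) (k : ℕ) :
    ∃ Φ : (homologyFunctor (ModuleCat.{u} A) (k : ℤ)).obj (Rψ.obj W) ≃+
        Ext (ModuleCat.of P A) (ModuleCat.of P P) k,
      ∀ (p : P) y, Φ ((algebraMap P A p) • y) = p • Φ y := by
  obtain ⟨Λ, hΛ⟩ := exists_semilinear_equiv_HD Rψ adj W (k : ℤ)
  let εF : (DRing.restrictD (algebraMap P A)).obj
      ((singleFunctor (ModuleCat.{u} A) 0).obj (ModuleCat.of A A)) ≅ Dual.inD P A :=
    ((ModuleCat.restrictScalars.{u} (algebraMap P A)).mapDerivedCategorySingleFunctor 0).app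
      (ModuleCat.of A A) ≪≫ (singleFunctor (ModuleCat.{u} P) 0).mapIso
        Groth.Agent.Helper8.ShD.restrictSelfIso
  let ιk : W⟦(k : ℤ)⟧ ≅ (Dual.inD P P)⟦(k : ℤ)⟧ := (shiftFunctor _ (k : ℤ)).mapIso ι
  let e1 : ((DRing.restrictD (algebraMap P A)).obj
      ((singleFunctor (ModuleCat.{u} A) 0).obj (ModuleCat.of A A)) ⟶ W⟦(k : ℤ)⟧) ≃ₗ[P]
      (Dual.inD P A ⟶ (Dual.inD P P)⟦(k : ℤ)⟧) := Linear.homCongr P εF ιk
  let e2 : Ext (ModuleCat.of P A) (ModuleCat.of P P) k ≃ₗ[P]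
      (Dual.inD P A ⟶ (Dual.inD P P)⟦(k : ℤ)⟧) := Ext.homLinearEquiv
  refine ⟨Λ.symm.trans (e1.trans e2.symm).toAddEquiv, fun p y => ?_⟩
  show (e1.trans e2.symm) (Λ.symm ((algebraMap P A p) • y)) = p • (e1.trans e2.symm) (Λ.symm y)
  have h1 : Λ.symm ((algebraMap P A p) • y) = p • Λ.symm y := by
    apply Λ.injective
    rw [hΛ, AddEquiv.apply_symm_apply, AddEquiv.apply_symm_apply]
  rw [h1, map_smul]

end Groth.Agent.Helper8.ShE
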