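import Groth.Agent.Lib.Helper8.GF5
import Groth.Agent.Lib.Helper8.ShE2
import Groth.Agent.Lib.Helper8.ShD5
import Groth.Agent.S12080

/-!
# `Ext^{N-n}_P(B, P)` invertible iff the relative dualizing complex is locally a shift (helper8)
-/

set_option autoImplicit false

open CategoryTheory CategoryTheory.Limits

universe u

namespace Groth.Agent.Helper8.GF

open DerivedCategory Groth.Agent.Helper8.LOC

attribute [local instance] HasDerivedCategory.standard

section PartA

variable {P B : Type u} [CommRing P] [CommRing B] [Algebra P B]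

/-- `RHom_P(B, P)` has no cohomology in negative degrees -/
theorem subsingleton_HD_rightAdj_neg (Rψ : Dual.D P ⥤ Dual.D B)
    (adj : DRing.restrictD (algebraMap P B) ⊣ Rψ) (W : Dual.D P) (ι : W ≅ Dual.inD P P)
    (k : ℤ) (hk : k < 0) : Subsingleton (Dual.HD B (Rψ.obj W) k) := by
  obtain ⟨Λ, -⟩ := Groth.Agent.Helper8.ShE.exists_semilinear_equiv_HD Rψ adj W k
  let εF : (DRing.restrictD (algebraMap P B)).obj
      ((singleFunctor (ModuleCat.{u} B) 0).obj (ModuleCat.of B B)) ≅ Dual.inD P B :=
    ((ModuleCat.restrictScalars.{u} (algebraMap P B)).mapDerivedCategorySingleFunctor 0).app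
      (ModuleCat.of B B) ≪≫ (singleFunctor (ModuleCat.{u} P) 0).mapIso
        Groth.Agent.Helper8.ShD.restrictSelfIso
  haveI h1 : ((DRing.restrictD (algebraMap P B)).obj
      ((singleFunctor (ModuleCat.{u} B) 0).obj (ModuleCat.of B B))).IsLE 0 :=
    DerivedCategory.TStructure.t.isLE_of_iso εF.symm 0
  haveI h2 : W.IsGE 0 := DerivedCategory.TStructure.t.isGE_of_iso ι.symm 0
  haveI h3 : (W⟦k⟧).IsGE (-k) := DerivedCategory.TStructure.t.isGE_shift W 0 k (-k) (by omega)
  have h0 : ∀ f : ((DRing.restrictD (algebraMap P B)).obj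
      ((singleFunctor (ModuleCat.{u} B) 0).obj (ModuleCat.of B B)) ⟶ W⟦k⟧), f = 0 :=
    fun f => DerivedCategory.TStructure.t.zero f 0 (-k) (by omega)
  haveI : Subsingleton ((DRing.restrictD (algebraMap P B)).obj
      ((singleFunctor (ModuleCat.{u} B) 0).obj (ModuleCat.of B B)) ⟶ W⟦k⟧) :=
    ⟨fun f g => by rw [h0 f, h0 g]⟩
  exact Λ.symm.toEquiv.subsingleton

/-- `H^{-n}(RHom_P(B, P)[N]) ≃ Ext^{N-n}_P(B, P)`, semilinearly -/
theorem exists_semilinear_equiv_ext_shift (Rψ : Dual.D P ⥤ Dual.D B)
    (adj : DRing.restrictD (algebraMap P B) ⊣ Rψ) (W : Dual.D P) (ι : W ≅ Dual.inD P P)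
    (N n : ℕ) (hnN : n ≤ N) :
    ∃ Φ : Dual.HD B ((Rψ.obj W)⟦(N : ℤ)⟧) (-(n : ℤ)) ≃+
        Abelian.Ext (ModuleCat.of P B) (ModuleCat.of P P) (N - n),
      ∀ (p : P) y, Φ ((algebraMap P B p) • y) = p • Φ y := by
  obtain ⟨Φ, hΦ⟩ := Groth.Agent.Helper8.ShE.exists_semilinear_equiv_ext Rψ adj W ι (N - n)
  let e := homologyShiftEquiv (Rψ.obj W) (N : ℤ) (-(n : ℤ)) ((N - n : ℕ) : ℤ) (by omega)
  refine ⟨e.toAddEquiv.trans Φ, fun p y => ?_⟩
  show Φ (e ((algebraMap P B p) • y)) = p • Φ (e y)
  rw [map_smul, hΦ]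

/-- vanishing of the other cohomology modules -/
theorem subsingleton_HD_shift_of_ext (Rψ : Dual.D P ⥤ Dual.D B)
    (adj : DRing.restrictD (algebraMap P B) ⊣ Rψ) (W : Dual.D P) (ι : W ≅ Dual.inD P P)
    (N n : ℕ) (hnN : n ≤ N)
    (hvan : ∀ j : ℕ, j ≠ N - n →
      Subsingleton (Abelian.Ext (ModuleCat.of P B) (ModuleCat.of P P) j))
    (i : ℤ) (hi : i ≠ -(n : ℤ)) : Subsingleton (Dual.HD B ((Rψ.obj W)⟦(N : ℤ)⟧) i) := by
  let e := homologyShiftEquiv (Rψ.obj W) (N : ℤ) i ((N : ℤ) + i) rfl
  suffices h : Subsingleton (Dual.HD B (Rψ.obj W) ((N : ℤ) + i)) from e.toEquiv.subsingleton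
  rcases lt_or_ge ((N : ℤ) + i) 0 with h | h
  · exact subsingleton_HD_rightAdj_neg Rψ adj W ι _ h
  · obtain ⟨j, hj⟩ := Int.eq_ofNat_of_zero_le h
    rw [hj]
    obtain ⟨Φ, -⟩ := Groth.Agent.Helper8.ShE.exists_semilinear_equiv_ext Rψ adj W ι j
    haveI := hvan j (by omega)
    exact Φ.toEquiv.subsingleton

end PartA

section PartB

variable {P B : Type u} [CommRing P] [CommRing B] [Algebra P B]

/-- transport of invertibility along a semilinear bijection -/
theorem exists_invertible_iff (hψ : Function.Surjective (algebraMap P B))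
    {M : Type u} [AddCommGroup M] [Module B M] {E : Type u} [AddCommGroup E] [Module P E]
    (Φ : M ≃+ E) (hΦ : ∀ (p : P) y, Φ ((algebraMap P B p) • y) = p • Φ y) :
    (∃ (L : Type u) (_ : AddCommGroup L) (_ : Module B L), Module.Invertible B L ∧
      Nonempty (RestrictScalars P B L ≃ₗ[P] E)) ↔ Module.Invertible B M := by
  constructor
  · rintro ⟨L, _, _, hL, ⟨g⟩⟩
    let e0 : M ≃+ L := Φ.trans (g.symm.toAddEquiv.trans (RestrictScalars.addEquiv P B L))
    have he0 : ∀ (b : B) (y : M), e0 (b • y) = b • e0 y := by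
      intro b y
      obtain ⟨p, rfl⟩ := hψ b
      show RestrictScalars.addEquiv P B L (g.symm (Φ ((algebraMap P B p) • y))) =
        (algebraMap P B p) • RestrictScalars.addEquiv P B L (g.symm (Φ y))
      rw [hΦ, map_smul]
      rfl
    let e : M ≃ₗ[B] L := { e0 with map_smul' := he0 }
    exact Module.Invertible.congr e.symm
  · intro hM
    refine ⟨M, inferInstance, inferInstance, hM, ⟨?_⟩⟩
    let e0 : RestrictScalars P B M ≃+ E := (RestrictScalars.addEquiv P B M).trans Φ
    exact { e0 with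
      map_smul' := fun p y => by
        show Φ (RestrictScalars.addEquiv P B M (p • y)) = p • Φ (RestrictScalars.addEquiv P B M y)
        rw [← hΦ]
        rfl }

end PartB

section PartC

variable {B : Type u} [CommRing B]

theorem exists_away_equiv_of_invertible (M : Type u) [AddCommGroup M] [Module B M]
    [Module.Invertible B M] (q : Ideal B) [hq : q.IsPrime] :
    ∃ r : B, r ∉ q ∧ Nonempty (LocalizedModule (Submonoid.powers r) M ≃ₗ[Localization.Away r]
      Localization.Away r) := by
  obtain ⟨s, hs, hfree⟩ := Module.Invertible.exists_finset_free_localization B M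
  have hex : ∃ r ∈ s, r ∉ q := by
    by_contra h
    push_neg at h
    have h1 : Ideal.span (s : Set B) ≤ q := Ideal.span_le.mpr (fun r hr => h r hr)
    rw [hs] at h1
    exact hq.ne_top (top_le_iff.mp h1)
  obtain ⟨r, hr, hrq⟩ := hex
  haveI := hfree r hr
  exact ⟨r, hrq, Module.Invertible.free_iff_linearEquiv.mp inferInstance⟩

/-- a complex with a single cohomology module `M` is locally a shift of the ring iff `M` is
invertible -/
theorem invertible_iff_locally_shift (ω : Dual.D B) (n : ℤ)
    (hvan : ∀ i : ℤ, i ≠ n → Subsingleton (Dual.HD B ω i))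
    [hL : ∀ f : B, DRing.HasLBaseChange (algebraMap B (Localization.Away f))] :
    Module.Invertible B (Dual.HD B ω n) ↔
      ∀ q : PrimeSpectrum B, ∃ (f : B) (_ : f ∉ q.asIdeal) (m : ℤ),
        Nonempty ((DRing.LBaseChange (algebraMap B (Localization.Away f))).obj ω ≅
          (Dual.inD (Localization.Away f) (Localization.Away f))⟦m⟧) := by
  constructor
  · intro hM q
    obtain ⟨r, hrq, ⟨e⟩⟩ := exists_away_equiv_of_invertible (Dual.HD B ω n) q.asIdeal
    haveI := Groth.Agent.Helper8.FBC.preservesFiniteLimits_Efun_of_flat (A := B)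
      (Localization.Away r)
    obtain ⟨ef⟩ := nonempty_LBaseChange_iso_Ld (A := B) (Localization.Away r)
    have hvanloc : ∀ j : ℤ, j ≠ n → Subsingleton (LocalizedModule (Submonoid.powers r)
        ((homologyFunctor (ModuleCat.{u} B) j).obj ω)) := by
      intro j hj
      haveI : Subsingleton (Dual.HD B ω j) := hvan j hj
      have : ∀ x : Dual.HD B ω j, (1 : B) • x = 0 := fun x => Subsingleton.elim _ _
      exact subsingleton_away_of_annihilator _ 1 r (one_dvd r) this
    obtain ⟨e3⟩ := Groth.Agent.Helper8.ShE.nonempty_Ld_iso_shift r ω n hvanloc e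
    exact ⟨r, hrq, -n, ⟨ef.app ω ≪≫ e3⟩⟩
  · intro H
    let s : Set B := {f | Nonempty (LocalizedModule.Away f (Dual.HD B ω n) ≃ₗ[Localization.Away f]
      Localization.Away f)}
    refine Groth.Agent.S12080.result B (Dual.HD B ω n) s ?_ (fun f hf => hf)
    by_contra hne
    obtain ⟨q, hq, hsq⟩ := Ideal.exists_le_maximal _ hne
    obtain ⟨f, hfq, m, ⟨e⟩⟩ := H ⟨q, hq.isPrime⟩
    apply hfq
    apply hsq
    apply Ideal.subset_span
    show Nonempty (LocalizedModule.Away f (Dual.HD B ω n) ≃ₗ[Localization.Away f]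
      Localization.Away f)
    haveI := Groth.Agent.Helper8.FBC.preservesFiniteLimits_Efun_of_flat (A := B)
      (Localization.Away f)
    obtain ⟨ef⟩ := nonempty_LBaseChange_iso_Ld (A := B) (Localization.Away f)
    have hloc : ∀ j : ℤ, (homologyFunctor (ModuleCat.{u} (Localization.Away f)) j).obj
        ((Dual.inD (Localization.Away f) (Localization.Away f))⟦m⟧) ≅
        ModuleCat.of (Localization.Away f)
          (LocalizedModule (Submonoid.powers f) (Dual.HD B ω j)) :=
      fun j => (homologyFunctor (ModuleCat.{u} (Localization.Away f)) j).mapIso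
        (e.symm ≪≫ ef.app ω) ≪≫ homologyLdLocIso (Submonoid.powers f) ω j
    by_cases hmn : m + n = 0
    · exact ⟨(hloc n).toLinearEquiv.symm ≪≫ₗ
        HDShiftInDEquiv (B := Localization.Away f) (Localization.Away f) m n hmn⟩
    · haveI h1 : Subsingleton (LocalizedModule (Submonoid.powers f) (Dual.HD B ω n)) := by
        haveI := subsingleton_HD_shift_inD (B := Localization.Away f) (Localization.Away f) m n hmn
        exact (hloc n).toLinearEquiv.symm.toEquiv.subsingleton
      haveI h2 : Subsingleton (Localization.Away f) := by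
        haveI : Subsingleton (Dual.HD B ω (-m)) := hvan (-m) (by omega)
        have : ∀ x : Dual.HD B ω (-m), (1 : B) • x = 0 := fun x => Subsingleton.elim _ _
        haveI h3 : Subsingleton (LocalizedModule (Submonoid.powers f) (Dual.HD B ω (-m))) :=
          subsingleton_away_of_annihilator _ 1 f (one_dvd f) this
        exact ((hloc (-m)).toLinearEquiv.symm ≪≫ₗ
          HDShiftInDEquiv (B := Localization.Away f) (Localization.Away f) m (-m)
            (by omega)).symm.toEquiv.subsingleton
      exact ⟨LinearEquiv.ofSubsingleton _ _⟩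

end PartC

end Groth.Agent.Helper8.GF
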