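import Groth.Agent.Lib.Helper8.LOC8
import Groth.Agent.Lib.Helper11.LDer4
import Groth.Agent.Lib.Helper11.DCCone2

/-!
# Derived base change of the unit; shifts and endomorphisms (helper8)
-/

set_option autoImplicit false

open CategoryTheory CategoryTheory.Limits

universe u

namespace Groth.Agent.Helper8.ShG

open DerivedCategory

attribute [local instance] HasDerivedCategory.standard

/-- `R[0] ⊗^L_R S ≅ S[0]` for an arbitrary algebra `R → S` -/
theorem nonempty_LBaseChange_unit_iso (R S : Type u) [CommRing R] [CommRing S] [Algebra R S]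
    [DRing.HasLBaseChange (algebraMap R S)] :
    Nonempty ((DRing.LBaseChange (algebraMap R S)).obj (Dual.inD R R) ≅ Dual.inD S S) := by
  let P : DRing.Cx R := (CochainComplex.singleFunctor (ModuleCat.{u} R) 0).obj (ModuleCat.of R R)
  have hP : DRing.VanishesAbove P 0 := by
    intro i hi
    exact HomologicalComplex.isZero_single_obj_X (ComplexShape.up ℤ) 0 (ModuleCat.of R R) i
      (by omega)
  have hproj : ∀ i, Module.Projective R (P.X i) := by
    intro i
    by_cases h0 : i = 0
    · subst h0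
      exact Module.Projective.of_equiv (HomologicalComplex.singleObjXSelf (ComplexShape.up ℤ) 0
        (ModuleCat.of R R)).toLinearEquiv.symm
    · haveI : Subsingleton (P.X i) :=
        ModuleCat.subsingleton_of_isZero (HomologicalComplex.isZero_single_obj_X
          (ComplexShape.up ℤ) 0 (ModuleCat.of R R) i h0)
      infer_instance
  haveI : P.IsKProjective :=
    Groth.Agent.Helper11.DC.isKProjective_of_vanishesAbove P 0 hP hproj
  let e0 : Dual.inD R R ≅ Q.obj P :=
    (singleFunctorIsoCompQ (ModuleCat.{u} R) 0).app (ModuleCat.of R R)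
  let e1 := Groth.Agent.Helper11.LDer.LBaseChangeIso (algebraMap R S) P
  let e2 : ((ModuleCat.extendScalars.{u, u, u} (algebraMap R S)).mapHomologicalComplex
      (ComplexShape.up ℤ)).obj P ≅
      (CochainComplex.singleFunctor (ModuleCat.{u} S) 0).obj
        ((ModuleCat.extendScalars.{u, u, u} (algebraMap R S)).obj (ModuleCat.of R R)) :=
    (HomologicalComplex.singleMapHomologicalComplex
      (ModuleCat.extendScalars.{u, u, u} (algebraMap R S)) (ComplexShape.up ℤ) 0).app
        (ModuleCat.of R R)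
  let e3 : (ModuleCat.extendScalars.{u, u, u} (algebraMap R S)).obj (ModuleCat.of R R) ≅
      ModuleCat.of S S :=
    ((Groth.Agent.Helper8.LOC.EfunEquiv S (ModuleCat.of R R)).trans
      (TensorProduct.AlgebraTensorModule.rid R S S)).toModuleIso
  let e4 : Q.obj ((CochainComplex.singleFunctor (ModuleCat.{u} S) 0).obj (ModuleCat.of S S)) ≅
      Dual.inD S S :=
    ((singleFunctorIsoCompQ (ModuleCat.{u} S) 0).app (ModuleCat.of S S)).symm
  exact ⟨(DRing.LBaseChange (algebraMap R S)).mapIso e0 ≪≫ e1 ≪≫ Q.mapIso e2 ≪≫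
    Q.mapIso ((CochainComplex.singleFunctor (ModuleCat.{u} S) 0).mapIso e3) ≪≫ e4⟩

section Shift

variable {A : Type u} [CommRing A]

theorem toEnd_bijective_shift (ω : Dual.D A) (n : ℤ)
    (h : Function.Bijective (fun a : A => a • 𝟙 ω)) :
    Function.Bijective (fun a : A => a • 𝟙 (ω⟦n⟧)) := by
  constructor
  · intro a a' h'
    have h'' : a • 𝟙 (ω⟦n⟧) = a' • 𝟙 (ω⟦n⟧) := h'
    rw [Groth.Agent.Helper8.LOC.smul_id_shift, Groth.Agent.Helper8.LOC.smul_id_shift] at h''
    exact h.1 ((shiftFunctor (Dual.D A) n).map_injective h'')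
  · intro f
    obtain ⟨a, ha⟩ := h.2 ((shiftFunctor (Dual.D A) n).preimage f)
    refine ⟨a, ?_⟩
    have ha' : a • 𝟙 ω = (shiftFunctor (Dual.D A) n).preimage f := ha
    show a • 𝟙 (ω⟦n⟧) = f
    rw [Groth.Agent.Helper8.LOC.smul_id_shift, ha', Functor.map_preimage]

theorem ext_self_eq_zero_shift (ω : Dual.D A) (n i : ℤ) (h : ∀ f : ω ⟶ ω⟦i⟧, f = 0)
    (f : ω⟦n⟧ ⟶ (ω⟦n⟧)⟦i⟧) : f = 0 := by
  let c := (shiftFunctorComm (Dual.D A) n i).app ω
  have h1 : (shiftFunctor (Dual.D A) n).preimage (f ≫ c.hom) = 0 := h _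
  have h2 : f ≫ c.hom = 0 := by
    rw [← (shiftFunctor (Dual.D A) n).map_preimage (f ≫ c.hom), h1, Functor.map_zero]
  rw [← cancel_mono c.hom, h2, zero_comp]

end Shift

end Groth.Agent.Helper8.ShG
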