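import Mathlib
import Groth.Agent.Lib.Helper8.CMExt1
import Groth.Agent.Lib.Helper8.CMExt3
import Groth.Agent.Lib.Helper8.GF7
import Groth.Agent.Lib.Helper8.RFin3
import Groth.Agent.Lib.Helper8.DualMod2
import Groth.Agent.Lib.Helper8.ShG4
import Groth.Agent.Lib.Lead.Fib3

/-!
# The relative dualizing complex over a Cohen–Macaulay base: vanishing below `-r` and `(S_2)`
for the lowest cohomology (helper8)
-/

set_option autoImplicit false
set_option linter.style.haveILetI false
set_option linter.unusedSectionVars false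
universe u

open CategoryTheory DerivedCategory

namespace Groth.Agent.Helper8.CMExt

attribute [local instance] HasDerivedCategory.standard

theorem cm_base (R A : Type u) [CommRing R] [CommRing A] [hCM : LocCoh.IsCohenMacaulayRing R]
    [IsNoetherianRing A] [Algebra R A] (n : ℕ)
    (ψ : MvPolynomial (Fin n) R →ₐ[R] A) (hψ : Function.Surjective ψ)
    [DRing.HasLBaseChange (algebraMap R (MvPolynomial (Fin n) R))]
    (Rψ : Dual.D (MvPolynomial (Fin n) R) ⥤ Dual.D A) (adj : DRing.restrictD ψ.toRingHom ⊣ Rψ)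
    (r : ℕ) (hht : ((n - r : ℕ) : ℕ∞) ≤ (RingHom.ker ψ.toRingHom).height) :
    (∀ i : ℤ, i < -(r : ℤ) →
      Subsingleton (Dual.HD A (Dual2.shriekVia n Rψ (Dual.inD R R)) i)) ∧
    LocCoh.HasSk 2 A (Dual.HD A (Dual2.shriekVia n Rψ (Dual.inD R R)) (-(r : ℤ))) := by
  classical
  haveI : IsNoetherianRing R := hCM.1
  letI algPA : Algebra (MvPolynomial (Fin n) R) A := ψ.toRingHom.toAlgebra
  have adj' : DRing.restrictD (algebraMap (MvPolynomial (Fin n) R) A) ⊣ Rψ := adj
  have hsurj : Function.Surjective (algebraMap (MvPolynomial (Fin n) R) A) := hψ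
  obtain ⟨ι⟩ := Groth.Agent.Helper8.ShG.nonempty_LBaseChange_unit_iso R (MvPolynomial (Fin n) R)
  haveI hCMP : LocCoh.IsCohenMacaulayRing (MvPolynomial (Fin n) R) :=
    Groth.Agent.Lead.Fib.isCohenMacaulayRing_mvPolynomial (Fin n)
  haveI : IsNoetherianRing (MvPolynomial (Fin n) R) := hCMP.1
  haveI hfin : Module.Finite (MvPolynomial (Fin n) R) A :=
    Module.Finite.of_surjective (Algebra.linearMap (MvPolynomial (Fin n) R) A) hsurj
  have hK : ∀ a ∈ RingHom.ker ψ.toRingHom, ∀ x : A, a • x = 0 := by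
    intro a ha x
    have h1 : a • x = ψ.toRingHom a * x := rfl
    rw [h1, (RingHom.mem_ker).mp ha, zero_mul]
  obtain ⟨hvan, hS2⟩ := cm_ext (MvPolynomial (Fin n) R) (RingHom.ker ψ.toRingHom) A hK (n - r) hht
  set W := (DRing.LBaseChange (algebraMap R (MvPolynomial (Fin n) R))).obj (Dual.inD R R) with hW
  -- vanishing
  have hvanish : ∀ i : ℤ, i < -(r : ℤ) →
      Subsingleton (Dual.HD A (Dual2.shriekVia n Rψ (Dual.inD R R)) i) := by
    intro i hi
    let e := Groth.Agent.Helper8.LOC.homologyShiftEquiv (Rψ.obj W) (n : ℤ) i ((n : ℤ) + i) rfl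
    suffices h : Subsingleton (Dual.HD A (Rψ.obj W) ((n : ℤ) + i)) from e.toEquiv.subsingleton
    rcases lt_or_ge ((n : ℤ) + i) 0 with h | h
    · exact Groth.Agent.Helper8.GF.subsingleton_HD_rightAdj_neg Rψ adj' W ι _ h
    · obtain ⟨j, hj⟩ := Int.eq_ofNat_of_zero_le h
      rw [hj]
      obtain ⟨Φ, -⟩ := Groth.Agent.Helper8.ShE.exists_semilinear_equiv_ext Rψ adj' W ι j
      haveI := hvan j (by omega)
      exact Φ.toEquiv.subsingleton
  refine ⟨hvanish, ?_⟩
  by_cases hrn : r ≤ n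
  · obtain ⟨Φ, hΦ⟩ := Groth.Agent.Helper8.GF.exists_semilinear_equiv_ext_shift Rψ adj' W ι n r hrn
    -- finiteness
    have hKa : ∀ j : ℤ, j < 0 → Limits.IsZero
        ((homologyFunctor (ModuleCat.{u} (MvPolynomial (Fin n) R)) j).obj W) := by
      intro j hj
      haveI : W.IsGE 0 := DerivedCategory.TStructure.t.isGE_of_iso ι.symm 0
      exact isZero_of_isGE W 0 j hj
    have hKf : ∀ j : ℤ, Module.Finite (MvPolynomial (Fin n) R)
        ((homologyFunctor (ModuleCat.{u} (MvPolynomial (Fin n) R)) j).obj W) := by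
      intro j
      haveI := Groth.Agent.Helper8.DualMod.finite_HD_inD (A := MvPolynomial (Fin n) R)
        (MvPolynomial (Fin n) R) j
      exact Module.Finite.equiv
        ((homologyFunctor (ModuleCat.{u} (MvPolynomial (Fin n) R)) j).mapIso ι).symm.toLinearEquiv
    haveI hfinH : Module.Finite A (Dual.HD A (Dual2.shriekVia n Rψ (Dual.inD R R)) (-(r : ℤ))) := by
      haveI := Groth.Agent.Helper8.RFin.finite_HD_rightAdjoint Rψ adj' W 0 hKa hKf
        ((n : ℤ) + -(r : ℤ))
      exact Module.Finite.equiv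
        (Groth.Agent.Helper8.LOC.homologyShiftEquiv (Rψ.obj W) (n : ℤ) (-(r : ℤ))
          ((n : ℤ) + -(r : ℤ)) rfl).symm
    -- the `P`-module structure
    letI modP : Module (MvPolynomial (Fin n) R)
        (Dual.HD A (Dual2.shriekVia n Rψ (Dual.inD R R)) (-(r : ℤ))) :=
      Module.compHom _ (algebraMap (MvPolynomial (Fin n) R) A)
    haveI tow : IsScalarTower (MvPolynomial (Fin n) R) A
        (Dual.HD A (Dual2.shriekVia n Rψ (Dual.inD R R)) (-(r : ℤ))) :=
      IsScalarTower.of_algebraMap_smul fun _ _ => rfl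
    let L : (Dual.HD A (Dual2.shriekVia n Rψ (Dual.inD R R)) (-(r : ℤ))) ≃ₗ[MvPolynomial (Fin n) R]
        Abelian.Ext (ModuleCat.of (MvPolynomial (Fin n) R) A)
          (ModuleCat.of (MvPolynomial (Fin n) R) (MvPolynomial (Fin n) R)) (n - r) :=
      { Φ with
        map_smul' := fun p y => hΦ p y }
    have h1 : LocCoh.HasSk 2 (MvPolynomial (Fin n) R)
        (Dual.HD A (Dual2.shriekVia n Rψ (Dual.inD R R)) (-(r : ℤ))) :=
      (Groth.Agent.Lead.Fib.hasSk_congr 2 L).mpr hS2
    exact hasSk_of_surjective hsurj _ 2 h1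
  · haveI : Subsingleton (Dual.HD A (Dual2.shriekVia n Rψ (Dual.inD R R)) (-(r : ℤ))) := by
      let e := Groth.Agent.Helper8.LOC.homologyShiftEquiv (Rψ.obj W) (n : ℤ) (-(r : ℤ))
        ((n : ℤ) + -(r : ℤ)) rfl
      haveI := Groth.Agent.Helper8.GF.subsingleton_HD_rightAdj_neg Rψ adj' W ι
        ((n : ℤ) + -(r : ℤ)) (by omega)
      exact e.toEquiv.subsingleton
    exact hasSk_of_subsingleton A 2 _

end Groth.Agent.Helper8.CMExt
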