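import Groth.Agent.Lib.Helper8.FBC3
import Groth.Agent.Lib.Helper8.LOC8
import Mathlib.RingTheory.Flat.FaithfullyFlat.Basic

/-!
# Flat base change of `Hom` in the derived category, part 4 (helper8)

The comparison `Psi : B ⊗ Hom_{D(A)}(K, Y) → Hom_{D(B)}(L K, L Y)`, `b ⊗ f ↦ b • L f`, is bijective
for `A` noetherian, `A → B` flat, `K` bounded with finite cohomology and `Y` bounded below.
-/

set_option autoImplicit false

open CategoryTheory CategoryTheory.Limits Opposite Pretriangulated

universe u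

namespace Groth.Agent.Helper8.FBC

open DerivedCategory TensorProduct ChangeOfRings Groth.Agent.Helper8.LOC

attribute [local instance] HasDerivedCategory.standard

variable {A : Type u} [CommRing A] (B : Type u) [CommRing B] [Algebra A B]

theorem preservesFiniteLimits_Efun_of_flat [Module.Flat A B] :
    PreservesFiniteLimits (Efun (algebraMap A B)) :=
  ModuleCat.preservesFiniteLimits_extendScalars_of_flat
    ((RingHom.flat_algebraMap_iff).mpr inferInstance)

variable [PreservesFiniteLimits (Efun (algebraMap A B))]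

/-- the comparison `B ⊗ Hom(K, Y) → Hom(L K, L Y)` -/
noncomputable def Psi (K Y : Dual.D A) (t : B ⊗[A] (K ⟶ Y)) :
    (Ld (algebraMap A B)).obj K ⟶ (Ld (algebraMap A B)).obj Y :=
  ((adjD (algebraMap A B)).homEquiv K ((Ld (algebraMap A B)).obj Y)).symm (Lam (dat B Y) K t)

theorem Psi_tmul (K Y : Dual.D A) (b : B) (f : K ⟶ Y) :
    Psi B K Y (b ⊗ₜ[A] f) = b • (Ld (algebraMap A B)).map f := by
  unfold Psi
  rw [Equiv.symm_apply_eq, Lam_tmul, Adjunction.homEquiv_unit, dat_g, dat_ρ]
  have h : b • (Ld (algebraMap A B)).map f =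
      (Ld (algebraMap A B)).map f ≫ (b • 𝟙 ((Ld (algebraMap A B)).obj Y)) := by
    rw [Linear.comp_smul, Category.comp_id]
  rw [h, Functor.map_comp, ← Category.assoc, ← Category.assoc]
  congr 1
  exact ((adjD (algebraMap A B)).unit.naturality f)

theorem Psi_add (K Y : Dual.D A) (t t' : B ⊗[A] (K ⟶ Y)) :
    Psi B K Y (t + t') = Psi B K Y t + Psi B K Y t' := by
  unfold Psi
  rw [map_add, Adjunction.homEquiv_counit, Adjunction.homEquiv_counit, Adjunction.homEquiv_counit,
    Functor.map_add, Preadditive.add_comp]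

theorem Psi_zero (K Y : Dual.D A) : Psi B K Y 0 = 0 := by
  have h := Psi_add B K Y 0 0
  rw [add_zero] at h
  exact left_eq_add.mp h

section Noeth

variable [IsNoetherianRing A] [Module.Flat A B]

/-- **flat base change for `Hom`** -/
theorem Psi_bijective (K : Dual.D A) (a b : ℤ)
    (hK : ∀ i : ℤ, (i < a ∨ b < i) → IsZero ((homologyFunctor (ModuleCat.{u} A) i).obj K))
    (hfin : ∀ i : ℤ, Module.Finite A (Dual.HD A K i))
    (Y : Dual.D A) (c : ℤ)
    (hY : ∀ j : ℤ, j < c → IsZero ((homologyFunctor (ModuleCat.{u} A) j).obj Y)) :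
    Function.Bijective (Psi B K Y) := by
  have h := PP_of_bounded (B := B) K a b hK hfin c (dat B Y) (good_dat B Y c hY)
  exact ((adjD (algebraMap A B)).homEquiv K ((Ld (algebraMap A B)).obj Y)).symm.bijective.comp
    ⟨h.1, h.2⟩

omit [PreservesFiniteLimits (Efun (algebraMap A B))] [IsNoetherianRing A] [Module.Flat A B] in
theorem subsingleton_tensor {N : Type*} [AddCommGroup N] [Module A N] [Subsingleton N] :
    Subsingleton (B ⊗[A] N) := by
  refine ⟨fun x y => ?_⟩
  have key : ∀ z : B ⊗[A] N, z = 0 := by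
    intro z
    induction z using TensorProduct.induction_on with
    | zero => rfl
    | tmul b m => rw [Subsingleton.elim m 0, TensorProduct.tmul_zero]
    | add x y hx hy => rw [hx, hy, add_zero]
  rw [key x, key y]

theorem subsingleton_Ld_hom (K : Dual.D A) (a b : ℤ)
    (hK : ∀ i : ℤ, (i < a ∨ b < i) → IsZero ((homologyFunctor (ModuleCat.{u} A) i).obj K))
    (hfin : ∀ i : ℤ, Module.Finite A (Dual.HD A K i))
    (Y : Dual.D A) (c : ℤ)
    (hY : ∀ j : ℤ, j < c → IsZero ((homologyFunctor (ModuleCat.{u} A) j).obj Y))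
    (h : Subsingleton (K ⟶ Y)) :
    Subsingleton ((Ld (algebraMap A B)).obj K ⟶ (Ld (algebraMap A B)).obj Y) := by
  have : Subsingleton (B ⊗[A] (K ⟶ Y)) := subsingleton_tensor (A := A) B (N := (K ⟶ Y))
  exact (Equiv.ofBijective _ (Psi_bijective B K a b hK hfin Y c hY)).symm.subsingleton

theorem subsingleton_of_Ld_hom [Module.FaithfullyFlat A B] (K : Dual.D A) (a b : ℤ)
    (hK : ∀ i : ℤ, (i < a ∨ b < i) → IsZero ((homologyFunctor (ModuleCat.{u} A) i).obj K))
    (hfin : ∀ i : ℤ, Module.Finite A (Dual.HD A K i))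
    (Y : Dual.D A) (c : ℤ)
    (hY : ∀ j : ℤ, j < c → IsZero ((homologyFunctor (ModuleCat.{u} A) j).obj Y))
    (h : Subsingleton ((Ld (algebraMap A B)).obj K ⟶ (Ld (algebraMap A B)).obj Y)) :
    Subsingleton (K ⟶ Y) := by
  have h1 : Subsingleton (B ⊗[A] (K ⟶ Y)) :=
    (Equiv.ofBijective _ (Psi_bijective B K a b hK hfin Y c hY)).subsingleton
  exact (Module.FaithfullyFlat.subsingleton_tensorProduct_iff_right A B).mp h1

omit [IsNoetherianRing A] [Module.Flat A B] in
/-- the endomorphism ring after base change -/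
theorem toEnd_Ld_eq (ω : Dual.D A) :
    (fun b : B => b • 𝟙 ((Ld (algebraMap A B)).obj ω)) =
      Psi B ω ω ∘ (LinearMap.lTensor B (LinearMap.toSpanSingleton A (ω ⟶ ω) (𝟙 ω))) ∘
        (TensorProduct.rid A B).symm := by
  funext b
  rw [Function.comp_apply, Function.comp_apply, TensorProduct.rid_symm_apply,
    LinearMap.lTensor_tmul, Psi_tmul, LinearMap.toSpanSingleton_apply, one_smul,
    CategoryTheory.Functor.map_id]

theorem toEnd_Ld_bijective (ω : Dual.D A) (a b : ℤ)
    (hK : ∀ i : ℤ, (i < a ∨ b < i) → IsZero ((homologyFunctor (ModuleCat.{u} A) i).obj ω))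
    (hfin : ∀ i : ℤ, Module.Finite A (Dual.HD A ω i))
    (hEnd : Function.Bijective (fun x : A => x • 𝟙 ω)) :
    Function.Bijective (fun b : B => b • 𝟙 ((Ld (algebraMap A B)).obj ω)) := by
  rw [toEnd_Ld_eq]
  refine (Psi_bijective B ω a b hK hfin ω a (fun j hj => hK j (Or.inl hj))).comp
    ((lTensor_bijective _ ?_).comp (TensorProduct.rid A B).symm.bijective)
  exact hEnd

theorem toEnd_bijective_of_Ld [Module.FaithfullyFlat A B] (ω : Dual.D A) (a b : ℤ)
    (hK : ∀ i : ℤ, (i < a ∨ b < i) → IsZero ((homologyFunctor (ModuleCat.{u} A) i).obj ω))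
    (hfin : ∀ i : ℤ, Module.Finite A (Dual.HD A ω i))
    (hEnd : Function.Bijective (fun b : B => b • 𝟙 ((Ld (algebraMap A B)).obj ω))) :
    Function.Bijective (fun x : A => x • 𝟙 ω) := by
  rw [toEnd_Ld_eq] at hEnd
  have h1 := Psi_bijective B ω a b hK hfin ω a (fun j hj => hK j (Or.inl hj))
  have h2 : Function.Bijective ((LinearMap.lTensor B
      (LinearMap.toSpanSingleton A (ω ⟶ ω) (𝟙 ω))) ∘ (TensorProduct.rid A B).symm) :=
    (Function.Bijective.of_comp_iff' h1 _).mp hEnd
  have h3 : Function.Bijective (LinearMap.lTensor B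
      (LinearMap.toSpanSingleton A (ω ⟶ ω) (𝟙 ω))) :=
    (Function.Bijective.of_comp_iff _ (TensorProduct.rid A B).symm.bijective).mp h2
  exact (Module.FaithfullyFlat.lTensor_bijective_iff_bijective A B _).mp h3

end Noeth

end Groth.Agent.Helper8.FBC
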