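import Groth.Agent.Lib.Helper8.LOC8
import Mathlib.CategoryTheory.Linear.LinearFunctor

/-!
# Finite free modules over a local ring and linear maps to the residue field; shifting `Hom`s
(helper8)
-/

set_option autoImplicit false

open CategoryTheory CategoryTheory.Limits

universe u

namespace Groth.Agent.Helper8.DU

section Alg

variable {A : Type u} [CommRing A] [Nontrivial A] (m : Ideal A) (M : Type u) [AddCommGroup M]
  [Module A M] [Module.Free A M] [Module.Finite A M]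

/-- linear maps from a finite free module to `A ⧸ m` -/
noncomputable def homQuotEquiv :
    (M →ₗ[A] A ⧸ m) ≃ₗ[A] (Fin (Module.finrank A M) → A ⧸ m) :=
  ((Module.finBasis A M).constr A).symm

theorem subsingleton_of_subsingleton_hom (hm : m ≠ ⊤) (h : Subsingleton (M →ₗ[A] A ⧸ m)) :
    Subsingleton M := by
  haveI : Nontrivial (A ⧸ m) := Ideal.Quotient.nontrivial_iff.mpr hm
  have h2 : Subsingleton (Fin (Module.finrank A M) → A ⧸ m) :=
    (homQuotEquiv m M).symm.toEquiv.subsingleton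
  have h3 : Module.finrank A M = 0 := by
    by_contra hne
    haveI : Nonempty (Fin (Module.finrank A M)) := ⟨⟨0, Nat.pos_of_ne_zero hne⟩⟩
    have := h2.elim (fun _ => (1 : A ⧸ m)) (fun _ => 0)
    exact one_ne_zero (congrFun this ⟨0, Nat.pos_of_ne_zero hne⟩)
  exact (Module.finrank_eq_zero_iff_of_free A M).mp h3

theorem nonempty_equiv_of_hom_equiv [m.IsMaximal] (e : (M →ₗ[A] A ⧸ m) ≃ₗ[A] (A ⧸ m)) :
    Nonempty (M ≃ₗ[A] A) := by
  letI : Field (A ⧸ m) := Ideal.Quotient.field m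
  let e2 : (Fin (Module.finrank A M) → A ⧸ m) ≃ₗ[A] (A ⧸ m) := (homQuotEquiv m M).symm.trans e
  have hs : Function.Surjective (algebraMap A (A ⧸ m)) := Ideal.Quotient.mk_surjective
  let e3 : (Fin (Module.finrank A M) → A ⧸ m) ≃ₗ[A ⧸ m] (A ⧸ m) :=
    e2.extendScalarsOfSurjective hs
  have h1 := e3.finrank_eq
  rw [Module.finrank_fin_fun, Module.finrank_self] at h1
  let b := Module.finBasis A M
  have e4 : M ≃ₗ[A] (Fin (Module.finrank A M) → A) := b.equivFun
  rw [h1] at e4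
  exact ⟨e4.trans (LinearEquiv.funUnique (Fin 1) A A)⟩

end Alg

section Shift

open DerivedCategory

attribute [local instance] HasDerivedCategory.standard

variable {A : Type u} [CommRing A]

/-- a fully faithful linear functor induces linear equivalences on morphisms -/
noncomputable def mapLinearEquiv {C D : Type*} [Category C] [Category D] [Preadditive C]
    [Preadditive D] [Linear A C] [Linear A D] (F : C ⥤ D) [F.Additive] [F.Linear A] [F.Full]
    [F.Faithful] (X Y : C) : (X ⟶ Y) ≃ₗ[A] (F.obj X ⟶ F.obj Y) :=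
  LinearEquiv.ofBijective (F.mapLinearMap A) ⟨F.map_injective, F.map_surjective⟩

/-- `Hom(X⟦s⟧, Y) ≃ Hom(X, Y⟦-s⟧)` -/
noncomputable def shiftHomEquiv (X Y : Dual.D A) (s k : ℤ) (h : s + k = 0) :
    (X⟦s⟧ ⟶ Y) ≃ₗ[A] (X ⟶ Y⟦k⟧) :=
  (mapLinearEquiv (shiftFunctor (Dual.D A) k) (X⟦s⟧) Y).trans
    (Linear.homCongr A ((shiftFunctorCompIsoId (Dual.D A) s k h).app X) (Iso.refl _))

/-- `Hom(X⟦s⟧, Y⟦k⟧) ≃ Hom(X, Y⟦k - s⟧)` -/
noncomputable def shiftHomEquiv' (X Y : Dual.D A) (s k k' : ℤ) (h : k - s = k') :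
    (X⟦s⟧ ⟶ Y⟦k⟧) ≃ₗ[A] (X ⟶ Y⟦k'⟧) :=
  (shiftHomEquiv X (Y⟦k⟧) s (-s) (by omega)).trans
    (Linear.homCongr A (Iso.refl X)
      (((shiftFunctorAdd' (Dual.D A) k (-s) k' (by omega)).app Y).symm))

end Shift

end Groth.Agent.Helper8.DU
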