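import Groth.Agent.Lib.Helper8.LOC23
import Groth.Agent.Lib.Lead.Fib2
import Groth.Agent.Lib.Lead.Depth16

/-!
# Dualizing complexes which are a module in degree `0` off a closed subset (helper8)
-/

set_option autoImplicit false

open CategoryTheory CategoryTheory.Limits Opposite Pretriangulated

universe u

namespace Groth.Agent.Helper8.LOC

open DerivedCategory ChangeOfRings IsLocalRing

attribute [local instance] HasDerivedCategory.standard

section General

variable {A : Type u} [CommRing A]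

/-- the cohomology of a shift -/
noncomputable def homologyShiftEquiv (ω : Dual.D A) (c i k : ℤ) (h : c + i = k) :
    Dual.HD A (ω⟦c⟧) i ≃ₗ[A] Dual.HD A ω k :=
  (((homologyFunctor (ModuleCat.{u} A) 0).shiftIso c i k h).app ω).toLinearEquiv

end General

section Local

variable {A : Type u} [CommRing A] [IsLocalRing A] [IsNoetherianRing A] (ω : Dual.D A)
  (hω : Dual.IsDualizing A ω)

include hω in
/-- over a local ring, some shift of a dualizing complex is normalized -/
theorem exists_isNormalized_shift : ∃ c : ℤ, Dual.IsNormalized A (ω⟦c⟧) := by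
  obtain ⟨c, h1, -⟩ := Groth.Agent.Helper8.BiDual.exists_unique_ext_residue ω hω (maximalIdeal A)
  refine ⟨c, fun i hi => ?_⟩
  have h2 := h1 (c + i) (by omega)
  exact (subsingleton_hom_iff_of_iso (Iso.refl _) (shiftShiftIso ω c i)).mpr h2

variable (hn : Dual.IsNormalized A ω)

include hω hn in
/-- the depth of the localizations of the dualizing module -/
theorem le_depth_loc_dualizingModule (d : ℕ) (hd : ringKrullDim A = d) (p : Ideal A) [hp : p.IsPrime]
    (r : ℕ) (hr : ringKrullDim (Localization.AtPrime p) = r) :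
    ((min 2 r : ℕ) : ℕ∞) ≤ LocCoh.depth (Localization.AtPrime p)
      (LocalizedModule p.primeCompl (Dual.HD A ω (-(d : ℤ)))) := by
  have hB : IsNoetherianRing (Localization.AtPrime p) :=
    IsLocalization.isNoetherianRing p.primeCompl _ inferInstance
  haveI := hω.finite_cohomology (-(d : ℤ))
  by_cases hsub : Subsingleton (LocalizedModule p.primeCompl (Dual.HD A ω (-(d : ℤ))))
  · rw [LocCoh.depth, Groth.Agent.Lead.Depth.idealDepth_of_eq_top _ _ (Subsingleton.elim _ _)]
    exact le_top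
  rw [not_subsingleton_iff_nontrivial] at hsub
  have hν := isDualizing_nuAt ω hω p
  have hnn := isNormalized_nuAt ω hω p
  have h1 := dim_loc_le ω hω hn ⟨p, hp⟩ d r hd hr
  have h2 : degAt ω hω p + -(r : ℤ) = -(d : ℤ) := by
    by_contra hne
    have hlt : -(d : ℤ) - degAt ω hω p < -(r : ℤ) := by
      have h1' : (r : ℤ) ≤ d + degAt ω hω p := h1
      omega
    have hz := isZero_homology_of_lt_neg_dim (nuAt ω hω p) hν hnn r hr _ hlt
    have hz' := hz.of_iso (locHomologyIso ω hω p (-(d : ℤ)) (-(d : ℤ) - degAt ω hω p) (by omega))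
    have := ModuleCat.subsingleton_of_isZero hz'
    exact (not_subsingleton_iff_nontrivial.mpr hsub) this
  let e := locHomologyIso ω hω p (-(d : ℤ)) (-(r : ℤ)) h2
  rw [LocCoh.depth, Groth.Agent.Helper8.LC.le_idealDepth_iff_H']
  intro i hi
  rw [Groth.Agent.Helper8.LD.subsingleton_H_iff (nuAt ω hω p) hν hnn]
  have h3 := subsingleton_hom_dualizingModule (nuAt ω hω p) hν hnn r hr i (by omega) (by omega)
  exact (Iso.homCongr ((DerivedCategory.singleFunctor
    (ModuleCat.{u} (Localization.AtPrime p)) 0).mapIso e) (Iso.refl _)).subsingleton_congr.mpr h3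

include hω hn in
/-- `depth_J K ≥ 2` for an ideal of height `≥ 2` and `K` the dualizing module -/
theorem le_idealDepth_dualizingModule (d : ℕ) (hd : ringKrullDim A = d) (J : Ideal A)
    (hJ : 2 ≤ J.height) : 2 ≤ LocCoh.idealDepth J (Dual.HD A ω (-(d : ℤ))) := by
  haveI := hω.finite_cohomology (-(d : ℤ))
  rw [Groth.Agent.Lead.Depth.idealDepth_eq_iInf_depth_localizedModule]
  refine le_iInf₂ (fun p hp => ?_)
  have hB : IsNoetherianRing (Localization.AtPrime p.asIdeal) :=
    IsLocalization.isNoetherianRing p.asIdeal.primeCompl _ inferInstance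
  obtain ⟨r, hr⟩ : ∃ r : ℕ, ringKrullDim (Localization.AtPrime p.asIdeal) = r := by
    obtain ⟨r, hr⟩ := Groth.Agent.Helper8.LC.exists_nat_supportDim_eq
      (R := Localization.AtPrime p.asIdeal) (Localization.AtPrime p.asIdeal)
    exact ⟨r, by rw [← Module.supportDim_self_eq_ringKrullDim, hr]⟩
  have h1 := le_depth_loc_dualizingModule ω hω hn d hd p.asIdeal r hr
  have h2 : 2 ≤ r := by
    have h3 := IsLocalization.AtPrime.ringKrullDim_eq_height p.asIdeal
      (Localization.AtPrime p.asIdeal)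
    rw [hr] at h3
    have h4 : (2 : ℕ∞) ≤ p.asIdeal.height := le_trans hJ (Ideal.height_mono hp)
    have h5 : ((2 : ℕ∞) : WithBot ℕ∞) ≤ ((r : ℕ) : WithBot ℕ∞) := by
      rw [h3]
      exact WithBot.coe_le_coe.mpr h4
    exact_mod_cast h5
  rw [min_eq_left h2] at h1
  exact_mod_cast h1

end Local

section Ordinary

variable {A : Type u} [CommRing A] [IsLocalRing A] [IsNoetherianRing A] (ω : Dual.D A)
  (hω : Dual.IsDualizing A ω)

include hω in
/-- **ordinary dualizing complexes**: if `ω` is a module in degree `0` off `V(J)`, `ht J ≥ 1`, then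
`A` is equidimensional, `ω⟦n⟧` is normalized and `H^0(ω)` is `(S_2)`. -/
theorem ordinary_of_off (n : ℕ) (hd : ringKrullDim A = n) (J : Ideal A) (hJ : 1 ≤ J.height)
    (hoff : ∀ p : PrimeSpectrum A, ¬ J ≤ p.asIdeal → ∀ i : ℤ, i ≠ 0 →
      p ∉ Module.support A (Dual.HD A ω i)) :
    (EGA4.IsEquidim A ∧ Dual.IsNormalized A (ω⟦(n : ℤ)⟧) ∧ LocCoh.HasSk 2 A (Dual.HD A ω 0)) ∧
    (2 ≤ J.height → 2 ≤ LocCoh.idealDepth J (Dual.HD A ω 0)) := by
  obtain ⟨c, hc⟩ := exists_isNormalized_shift ω hω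
  have hω' := isDualizing_shift ω hω c
  have hann : Module.annihilator A A = ⊥ := Module.annihilator_eq_bot.mpr inferInstance
  -- the codimension function at minimal primes
  have hmin : ∀ q : PrimeSpectrum A, q.asIdeal ∈ minimalPrimes A →
      degAt (ω⟦c⟧) hω' q.asIdeal = -c := by
    intro q hq
    have h1 := mem_support_hom_degAt_of_minimal (ω⟦c⟧) hω' A q (by rw [hann]; exact hq)
    rw [(Groth.Agent.Helper8.LD.homSelfEquiv (ω⟦c⟧) _).support_eq,
      (homologyShiftEquiv ω c _ _ rfl).support_eq] at h1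
    have hJq : ¬ J ≤ q.asIdeal := by
      intro hle
      have h2 := Ideal.height_mono hle
      have h3 : q.asIdeal.height = 0 := Ideal.height_eq_zero_iff.mpr hq
      rw [h3] at h2
      have h4 : (1 : ℕ∞) ≤ 0 := le_trans hJ h2
      exact absurd h4 (by simp)
    by_contra hne
    exact hoff q hJq _ (by omega) h1
  have hdim : ∀ q : PrimeSpectrum A, q.asIdeal ∈ minimalPrimes A →
      ringKrullDim (A ⧸ q.asIdeal) = ((c.toNat : ℕ) : WithBot ℕ∞) ∧ 0 ≤ c := by
    intro q hq
    have h1 := ringKrullDim_quotient_eq_neg_degAt (ω⟦c⟧) hω' hc q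
    have h2 := degAt_nonpos (ω⟦c⟧) hω' hc q
    rw [hmin q hq] at h1 h2
    rw [h1]
    exact ⟨by simp, by omega⟩
  -- a minimal prime of maximal dimension
  have hnt : Nontrivial (Dual.HD A (ω⟦c⟧) (-(n : ℤ))) := by
    have h1 := Groth.Agent.Helper8.LD.nontrivial_hom_supportDim (ω⟦c⟧) hω' hc A n
      (by rw [Module.supportDim_self_eq_ringKrullDim, hd])
    exact (Groth.Agent.Helper8.LD.homSelfEquiv (ω⟦c⟧) _).symm.toEquiv.nontrivial
  obtain ⟨p, hp⟩ := Module.nonempty_support_of_nontrivial (R := A)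
    (M := Dual.HD A (ω⟦c⟧) (-(n : ℤ)))
  rw [support_dualizingModule (ω⟦c⟧) hω' hc n hd] at hp
  obtain ⟨q₀, hq₀, -, hq₀n⟩ := hp
  have hq₀prime : q₀.IsPrime := hq₀.1.1
  obtain ⟨h1, h2⟩ := hdim ⟨q₀, hq₀prime⟩ hq₀
  have hcn : c = (n : ℤ) := by
    have h3 : ((c.toNat : ℕ) : WithBot ℕ∞) = ((n : ℕ) : WithBot ℕ∞) := h1.symm.trans hq₀n
    have h4 : c.toNat = n := by exact_mod_cast h3
    omega
  subst hcn
  have e0 : Dual.HD A (ω⟦(n : ℤ)⟧) (-(n : ℤ)) ≃ₗ[A] Dual.HD A ω 0 :=
    homologyShiftEquiv ω (n : ℤ) (-(n : ℤ)) 0 (by omega)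
  refine ⟨⟨?_, hc, ?_⟩, ?_⟩
  · intro q hq
    have hqprime : q.IsPrime := hq.1.1
    rw [(hdim ⟨q, hqprime⟩ hq).1, hd]
    simp
  · exact (Groth.Agent.Lead.Fib.hasSk_congr 2 e0).mp
      (hasSk_two_dualizingModule (ω⟦(n : ℤ)⟧) hω' hc n hd)
  · intro hJ2
    rw [← Groth.Agent.Lead.Depth.idealDepth_congr J e0]
    exact le_idealDepth_dualizingModule (ω⟦(n : ℤ)⟧) hω' hc n hd J hJ2

end Ordinary

end Groth.Agent.Helper8.LOC
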