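import Groth.Agent.Lib.Helper11.InvCx1
import Groth.Agent.Lib.Helper8.LOC24
import Groth.Agent.Lib.Helper8.DU4

/-!
# A complex over a local ring whose derived fibre is a shift of the residue field (helper8)
-/

set_option autoImplicit false

open CategoryTheory CategoryTheory.Limits

universe u

namespace Groth.Agent.Helper8.GF

open DerivedCategory

attribute [local instance] HasDerivedCategory.standard

section Single

variable {B : Type u} [CommRing B]

/-- the cohomology of a module placed in degree zero and shifted -/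
theorem subsingleton_HD_shift_inD (M : Type u) [AddCommGroup M] [Module B M] (m i : ℤ)
    (h : m + i ≠ 0) : Subsingleton (Dual.HD B ((Dual.inD B M)⟦m⟧) i) := by
  have e := Groth.Agent.Helper8.LOC.homologyShiftEquiv (Dual.inD B M) m i (m + i) rfl
  have hz : IsZero ((homologyFunctor (ModuleCat.{u} B) (m + i)).obj (Dual.inD B M)) := by
    rcases lt_or_gt_of_ne h with h1 | h1
    · exact (Dual.inD B M).isZero_of_isGE 0 (m + i) h1
    · exact (Dual.inD B M).isZero_of_isLE 0 (m + i) h1
  haveI : Subsingleton (Dual.HD B (Dual.inD B M) (m + i)) := ModuleCat.subsingleton_of_isZero hz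
  exact e.toEquiv.subsingleton

/-- the cohomology of a module placed in degree zero and shifted -/
noncomputable def HDShiftInDEquiv (M : Type u) [AddCommGroup M] [Module B M] (m i : ℤ)
    (h : m + i = 0) : Dual.HD B ((Dual.inD B M)⟦m⟧) i ≃ₗ[B] M :=
  (Groth.Agent.Helper8.LOC.homologyShiftEquiv (Dual.inD B M) m i 0 h).trans
    ((singleFunctorCompHomologyFunctorIso (ModuleCat.{u} B) 0).app (ModuleCat.of B M)).toLinearEquiv

end Single

variable {A : Type u} [CommRing A] [IsLocalRing A] [IsNoetherianRing A]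

local notation "𝔪" => IsLocalRing.maximalIdeal A

/-- a complex with finite cohomology, bounded above, whose derived fibre at the closed point is a
shift of the residue field is a shift of the ring -/
theorem nonempty_iso_shift_of_fibre (K : Dual.D A)
    (hfin : ∀ i : ℤ, Module.Finite A (Dual.HD A K i))
    (hbdd : ∃ b : ℤ, ∀ i : ℤ, b < i → Subsingleton (Dual.HD A K i))
    [DRing.HasLBaseChange (Ideal.Quotient.mk 𝔪)] (m : ℤ)
    (e : (DRing.LBaseChange (Ideal.Quotient.mk 𝔪)).obj K ≅ (Dual.inD (A ⧸ 𝔪) (A ⧸ 𝔪))⟦m⟧) :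
    Nonempty (K ≅ (Dual.inD A A)⟦m⟧) := by
  have pc : DRing.IsPseudoCoherent' A K := by
    rw [Groth.Agent.Helper11.MPC.pc'_iff_forall_mpc]
    intro j
    rw [Groth.Agent.Helper11.MPC.mpc_iff_of_noetherian]
    obtain ⟨b, hb⟩ := hbdd
    exact ⟨⟨b, fun i hi => by
      haveI := hb i hi
      exact ModuleCat.isZero_of_subsingleton _⟩, fun i _ => hfin i⟩
  obtain ⟨-, -, P, ⟨b, hb⟩, hP, ⟨eP⟩⟩ := Groth.Agent.Helper11.MinCx.exists_minimal K pc
  haveI : Nontrivial (A ⧸ 𝔪) := Ideal.Quotient.nontrivial_iff.mpr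
    (IsLocalRing.maximalIdeal.isMaximal A).ne_top
  have hz : ∀ i : ℤ, i ≠ -m → IsZero (P.X i) := fun i hi => by
    obtain ⟨hfree, hfinP, hrank⟩ := hP i
    haveI := hfree
    haveI := hfinP
    haveI : Subsingleton (Dual.HD (A ⧸ 𝔪) ((Dual.inD (A ⧸ 𝔪) (A ⧸ 𝔪))⟦m⟧) i) :=
      subsingleton_HD_shift_inD (A ⧸ 𝔪) m i (by omega)
    haveI : Subsingleton (Dual.HD (A ⧸ 𝔪)
        ((DRing.LBaseChange (Ideal.Quotient.mk 𝔪)).obj K) i) :=
      ((homologyFunctor (ModuleCat.{u} (A ⧸ 𝔪)) i).mapIso e).toLinearEquiv.toEquiv.subsingleton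
    have h0 : Module.finrank A (P.X i) = 0 := by
      rw [hrank]
      exact Module.finrank_zero_of_subsingleton
    haveI : Subsingleton (P.X i) := (Module.finrank_eq_zero_iff_of_free A _).mp h0
    exact ModuleCat.isZero_of_subsingleton _
  obtain ⟨hfree, hfinP, hrank⟩ := hP (-m)
  haveI := hfree
  haveI := hfinP
  have h1 : Module.finrank A (P.X (-m)) = 1 := by
    rw [hrank]
    have e2 := ((homologyFunctor (ModuleCat.{u} (A ⧸ 𝔪)) (-m)).mapIso e).toLinearEquiv.trans
      (HDShiftInDEquiv (A ⧸ 𝔪) m (-m) (by omega))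
    rw [e2.finrank_eq]
    exact Module.finrank_self _
  have e4 : P.X (-m) ≃ₗ[A] (Fin (Module.finrank A (P.X (-m))) → A) :=
    (Module.finBasis A (P.X (-m))).equivFun
  rw [h1] at e4
  obtain ⟨e5⟩ := Groth.Agent.Helper11.InvCx.nonempty_iso_shift_of_concentrated P (-m) hz
    (e4.trans (LinearEquiv.funUnique (Fin 1) A A))
  rw [neg_neg] at e5
  exact ⟨eP.symm ≪≫ e5⟩

end Groth.Agent.Helper8.GF
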