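import Groth.Agent.Lib.Helper8.DU2
import Groth.Agent.Lib.Helper3.TN3

/-!
# Morphisms from a minimal complex to the residue field (helper8)
-/

set_option autoImplicit false

open CategoryTheory CategoryTheory.Limits CochainComplex HomComplex

universe u

namespace Groth.Agent.Helper8.DU

open DerivedCategory Groth.Agent.Helper3.TN Groth.Agent.Helper3.HT

attribute [local instance] HasDerivedCategory.standard

variable {A : Type u} [CommRing A] (m : Ideal A)

/-- the residue module `A ⧸ m` -/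
abbrev kk : ModuleCat.{u} A := ModuleCat.of A (A ⧸ m)

theorem smul_top_quot_eq_bot : m • (⊤ : Submodule A (A ⧸ m)) = ⊥ := by
  rw [eq_bot_iff, Submodule.smul_le]
  intro a ha y _
  obtain ⟨b, rfl⟩ := Ideal.Quotient.mk_surjective y
  rw [Submodule.mem_bot]
  show Ideal.Quotient.mk m (a * b) = 0
  exact Ideal.Quotient.eq_zero_iff_mem.mpr (m.mul_mem_right b ha)

variable (P : DRing.Cx A)
  (hmin : ∀ i j, LinearMap.range (P.d i j).hom ≤ m • (⊤ : Submodule A (P.X j)))

include hmin in
theorem d_comp_eq_zero (i j : ℤ) (f : P.X j ⟶ kk m) : P.d i j ≫ f = 0 := by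
  refine ModuleCat.hom_ext (LinearMap.ext fun x => ?_)
  have hx : (P.d i j).hom x ∈ m • (⊤ : Submodule A (P.X j)) := hmin i j ⟨x, rfl⟩
  have h1 : (m • (⊤ : Submodule A (P.X j))).map f.hom ≤ m • (⊤ : Submodule A (A ⧸ m)) := by
    rw [Submodule.map_smul'']
    exact Submodule.smul_mono le_rfl le_top
  have h2 := h1 (Submodule.mem_map_of_mem hx)
  rw [smul_top_quot_eq_bot, Submodule.mem_bot] at h2
  exact h2

include hmin in
theorem δ_eq_zero (n n' : ℤ) (α : Cochain P (S0 (kk m)) n) : δ n n' α = 0 := by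
  by_cases h : n + 1 = n'
  · apply (toSingleLin P (kk m) (-n') n' (by omega)).injective
    rw [toSingleLin_δ P (kk m) (-n) (-n') n n' (by omega) (by omega) α,
      d_comp_eq_zero m P hmin, smul_zero, map_zero]
  · exact δ_shape n n' h α

include hmin in
theorem homCx_d_eq_zero (i j : ℤ) : (DRing.homCx P (S0 (kk m))).d i j = 0 := by
  refine ModuleCat.hom_ext (LinearMap.ext fun c => ?_)
  exact δ_eq_zero m P hmin i j c

include hmin in
/-- morphisms from a minimal K-projective complex to a shift of the residue module -/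
theorem nonempty_hom_residue_equiv [P.IsKProjective] (p n : ℤ) (h : p + n = 0) :
    Nonempty ((Q.obj P ⟶ (Q.obj (S0 (kk m)))⟦n⟧) ≃ₗ[A] (P.X p →ₗ[A] A ⧸ m)) := by
  obtain ⟨e1⟩ := nonempty_homology_homCx_equiv_proj P (S0 (kk m)) n
  obtain ⟨e2⟩ := nonempty_homology_equiv_of_d_eq_zero (DRing.homCx P (S0 (kk m))) n
    (homCx_d_eq_zero m P hmin _ _) (homCx_d_eq_zero m P hmin _ _)
  let e3 : Cochain P (S0 (kk m)) n ≃ₗ[A] (P.X p ⟶ kk m) :=
    toSingleLin P (kk m) p n h
  let e4 : (P.X p ⟶ kk m) ≃ₗ[A] (P.X p →ₗ[A] A ⧸ m) := ModuleCat.homLinearEquiv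
  exact ⟨e1.symm.trans (e2.trans (e3.trans e4))⟩

end Groth.Agent.Helper8.DU
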