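import Groth.Agent.Lib.Helper8.DU4
import Groth.Agent.Lib.Helper8.DU3
import Mathlib.Algebra.Homology.DerivedCategory.FullyFaithful
import Mathlib.Algebra.Homology.DerivedCategory.TStructure

/-!
# The dual of (a shift of) the residue field is a shift of the residue field (helper8)
-/

set_option autoImplicit false

open CategoryTheory CategoryTheory.Limits CochainComplex HomComplex

universe u

namespace Groth.Agent.Helper8.DU

open DerivedCategory Groth.Agent.Helper3.TN

attribute [local instance] HasDerivedCategory.standard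

variable {A : Type u} [CommRing A]

/-- an object of `D(A)` with a single nonzero cohomology module is a shift of that module -/
theorem nonempty_iso_single_of_homology (X : Dual.D A) (k : ℤ) (Z : ModuleCat.{u} A)
    (hz : ∀ i : ℤ, i ≠ k → IsZero ((homologyFunctor (ModuleCat.{u} A) i).obj X))
    (e : (homologyFunctor (ModuleCat.{u} A) k).obj X ≅ Z) :
    Nonempty (X ≅ (DerivedCategory.singleFunctor (ModuleCat.{u} A) k).obj Z) := by
  haveI : X.IsGE k := by
    rw [DerivedCategory.isGE_iff]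
    intro i hi
    exact hz i (by omega)
  haveI : X.IsLE k := by
    rw [DerivedCategory.isLE_iff]
    intro i hi
    exact hz i (by omega)
  obtain ⟨M, ⟨eM⟩⟩ := exists_iso_singleFunctor_obj_of_isGE_of_isLE X k
  let e1 : M ≅ Z := ((singleFunctorCompHomologyFunctorIso (ModuleCat.{u} A) k).app M).symm ≪≫
    (homologyFunctor (ModuleCat.{u} A) k).mapIso eM.symm ≪≫ e
  exact ⟨eM ≪≫ (DerivedCategory.singleFunctor (ModuleCat.{u} A) k).mapIso e1⟩

/-- the dual of a shift of the residue field -/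
theorem nonempty_dual_iso_single (J F : DRing.Cx A) [J.IsKInjective] (m : Ideal A) (n s : ℤ)
    (e : Q.obj F ≅ (Dual.inD A (A ⧸ m))⟦s⟧)
    (h1 : ∀ i : ℤ, i ≠ n → Subsingleton (Dual.inD A (A ⧸ m) ⟶ (Q.obj J)⟦i⟧))
    (h2 : (Dual.inD A (A ⧸ m) ⟶ (Q.obj J)⟦n⟧) ≃ₗ[A] (A ⧸ m))
    (k t : ℤ) (hk : k - s = n) (ht : t + k = 0) :
    Nonempty (Q.obj (DRing.homCx F J) ≅ (Q.obj (S0 (kk m)))⟦t⟧) := by
  have key : ∀ k k' : ℤ, k - s = k' →
      Nonempty ((homologyFunctor (ModuleCat.{u} A) k).obj (Q.obj (DRing.homCx F J)) ≃ₗ[A]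
        (Dual.inD A (A ⧸ m) ⟶ (Q.obj J)⟦k'⟧)) := by
    intro k k' hk
    obtain ⟨e1⟩ := Groth.Agent.Helper8.HomH.nonempty_homology_homCx_equiv F J k
    let e0 := ((homologyFunctorFactors (ModuleCat.{u} A) k).app (DRing.homCx F J)).toLinearEquiv
    exact ⟨e0.trans (e1.trans ((Linear.homCongr A e (Iso.refl _)).trans
      (shiftHomEquiv' (Dual.inD A (A ⧸ m)) (Q.obj J) s k k' hk)))⟩
  obtain ⟨e3⟩ := nonempty_iso_single_of_homology (Q.obj (DRing.homCx F J)) k (kk m)
    (fun i hi => by
      obtain ⟨e2⟩ := key i (i - s) rfl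
      haveI := h1 (i - s) (by omega)
      haveI : Subsingleton ((homologyFunctor (ModuleCat.{u} A) i).obj
          (Q.obj (DRing.homCx F J))) := e2.toEquiv.subsingleton
      exact ModuleCat.isZero_of_subsingleton _)
    (((key k n hk).some).trans h2).toModuleIso
  exact ⟨e3 ≪≫ (((DerivedCategory.singleFunctors (ModuleCat.{u} A)).shiftIso t k 0
    ht).app (kk m)).symm ≪≫
    (CategoryTheory.shiftFunctor (Dual.D A) t).mapIso
      ((singleFunctorIsoCompQ (ModuleCat.{u} A) 0).app (kk m))⟩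

end Groth.Agent.Helper8.DU
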