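import Groth.Agent.Lib.Helper8.DU1
import Groth.Agent.Lib.Helper8.DU5
import Groth.Agent.Lib.Helper8.BiDual10
import Groth.Agent.Lib.Helper11.BD5
import Groth.Agent.Lib.Helper11.InvCx1

/-!
# Uniqueness of dualizing complexes over a local ring: the normalized case (helper8)
-/

set_option autoImplicit false

open CategoryTheory CategoryTheory.Limits MonoidalCategory CochainComplex HomComplex

universe u

namespace Groth.Agent.Helper8.DU

open DerivedCategory Groth.Agent.Helper3.TN Groth.Agent.Helper3.HT Groth.Agent.Helper8.BiDual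
  Groth.Agent.Helper11.BD

attribute [local instance] HasDerivedCategory.standard

variable {A : Type u} [CommRing A] [IsLocalRing A] [IsNoetherianRing A]

local notation "𝔪" => IsLocalRing.maximalIdeal A

/-- a complex concentrated in degree `0` with term `A` is isomorphic to the unit complex -/
theorem nonempty_iso_unit_of_concentrated (P : DRing.Cx A)
    (hz : ∀ i : ℤ, i ≠ 0 → IsZero (P.X i)) (e : P.X 0 ≃ₗ[A] A) :
    Nonempty (P ≅ 𝟙_ (DRing.Cx A)) := by
  haveI : P.IsStrictlyGE 0 := by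
    rw [CochainComplex.isStrictlyGE_iff]
    intro i hi
    exact hz i (by omega)
  haveI : P.IsStrictlyLE 0 := by
    rw [CochainComplex.isStrictlyLE_iff]
    intro i hi
    exact hz i (by omega)
  obtain ⟨M, ⟨eM⟩⟩ := CochainComplex.exists_iso_single P 0
  let e1 : P.X 0 ≅ M := (HomologicalComplex.eval _ _ 0).mapIso eM ≪≫
    HomologicalComplex.singleObjXSelf (ComplexShape.up ℤ) 0 M
  let e2 : M ≅ ModuleCat.of A A := e1.symm ≪≫ e.toModuleIso
  exact ⟨eM ≪≫ (HomologicalComplex.single _ _ 0).mapIso e2⟩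

theorem main_normalized (ω ω' : Dual.D A) (hω : Dual.IsDualizing A ω)
    (hω' : Dual.IsDualizing A ω') (n : ℤ)
    (h1 : ∀ i : ℤ, i ≠ n → Subsingleton (Dual.inD A (A ⧸ 𝔪) ⟶ ω⟦i⟧))
    (h2 : Nonempty ((Dual.inD A (A ⧸ 𝔪) ⟶ ω⟦n⟧) ≃ₗ[A] (A ⧸ 𝔪)))
    (h1' : ∀ i : ℤ, i ≠ n → Subsingleton (Dual.inD A (A ⧸ 𝔪) ⟶ ω'⟦i⟧))
    (h2' : Nonempty ((Dual.inD A (A ⧸ 𝔪) ⟶ ω'⟦n⟧) ≃ₗ[A] (A ⧸ 𝔪))) :
    Nonempty (ω' ≅ ω) := by
  obtain ⟨J, a, b₀, e, hvan₀, hinj, hend, hext, hfin⟩ := exists_model ω hω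
  obtain ⟨b, hab, hvan⟩ : ∃ b, a ≤ b ∧ DRing.VanishesOutside J a b := by
    refine ⟨max a b₀, le_max_left _ _, fun n hn => hvan₀ n ?_⟩
    rcases hn with h | h
    · exact Or.inl h
    · exact Or.inr (lt_of_le_of_lt (le_max_right _ _) h)
  obtain ⟨J', a', b', e', hvan', hinj', hend', hext', hfin'⟩ := exists_model ω' hω'
  haveI := isKInjective_model J a b hvan hinj
  haveI : J'.IsKInjective := isKInjective_model J' a' b' hvan' hinj'
  obtain ⟨h2⟩ := h2
  obtain ⟨h2'⟩ := h2'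
  -- transport to the models
  have k1 : ∀ i : ℤ, i ≠ n → Subsingleton (Dual.inD A (A ⧸ 𝔪) ⟶ (Q.obj J)⟦i⟧) := fun i hi =>
    (Groth.Agent.Helper8.LOC.subsingleton_hom_iff_of_iso (Iso.refl _)
      ((CategoryTheory.shiftFunctor (Dual.D A) i).mapIso e)).mpr (h1 i hi)
  let k2 : (Dual.inD A (A ⧸ 𝔪) ⟶ (Q.obj J)⟦n⟧) ≃ₗ[A] (A ⧸ 𝔪) :=
    (Linear.homCongr A (Iso.refl _) ((CategoryTheory.shiftFunctor (Dual.D A) n).mapIso e)).trans h2
  have k1' : ∀ i : ℤ, i ≠ n → Subsingleton (Dual.inD A (A ⧸ 𝔪) ⟶ (Q.obj J')⟦i⟧) := fun i hi =>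
    (Groth.Agent.Helper8.LOC.subsingleton_hom_iff_of_iso (Iso.refl _)
      ((CategoryTheory.shiftFunctor (Dual.D A) i).mapIso e')).mpr (h1' i hi)
  let k2' : (Dual.inD A (A ⧸ 𝔪) ⟶ (Q.obj J')⟦n⟧) ≃ₗ[A] (A ⧸ 𝔪) :=
    (Linear.homCongr A (Iso.refl _)
      ((CategoryTheory.shiftFunctor (Dual.D A) n).mapIso e')).trans h2'
  -- the complex `L = Hom(J', J)`
  have hJ'f : ∀ i : ℤ, Module.Finite A (J'.homology i) := fun i => by
    haveI : Module.Finite A ((DerivedCategory.Q ⋙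
        DerivedCategory.homologyFunctor (ModuleCat.{u} A) i).obj J') := hfin' i
    exact Module.Finite.equiv
      ((DerivedCategory.homologyFunctorFactors (ModuleCat.{u} A) i).app J').toLinearEquiv
  have hgood : Good J J' := good_of_finite J a b hvan hinj hend hext hab J' hJ'f
  have hLfin : ∀ i : ℤ, Module.Finite A (Dual.HD A (Q.obj (DRing.homCx J' J)) i) := fun i => by
    obtain ⟨eq⟩ := Groth.Agent.Helper8.HomH.nonempty_homology_homCx_equiv J' J i
    have hL : DRing.HasInjAmplitudeIn A a b (DerivedCategory.Q.obj J) :=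
      ⟨J, hvan, hinj, ⟨Iso.refl _⟩⟩
    haveI : IsNoetherian A (DerivedCategory.Q.obj J' ⟶ (DerivedCategory.Q.obj J)⟦i⟧) :=
      Groth.Agent.Helper8.DFin.noetherian_hom (DerivedCategory.Q.obj J') (DerivedCategory.Q.obj J)
        hfin' hfin a b hL i
    haveI : Module.Finite A ((HomologicalComplex.homologyFunctor (ModuleCat.{u} A)
        (ComplexShape.up ℤ) i).obj (DRing.homCx J' J)) := Module.Finite.equiv eq.symm
    exact Module.Finite.equiv ((DerivedCategory.homologyFunctorFactors (ModuleCat.{u} A) i).app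
        (DRing.homCx J' J)).symm.toLinearEquiv
  have hLbdd : ∃ c : ℤ, ∀ i : ℤ, c < i → Subsingleton (Dual.HD A (Q.obj (DRing.homCx J' J)) i) := by
    refine ⟨b - a', fun i hi => ?_⟩
    have hz : IsZero ((DRing.homCx J' J).X i) := isZero_homCx_X J' J i (fun p q hpq => by
      by_cases hp : p < a'
      · exact Or.inl (hvan' p (Or.inl hp))
      · exact Or.inr (hvan q (Or.inr (by omega))))
    have hz2 : IsZero ((DRing.homCx J' J).homology i) :=
      (HomologicalComplex.ExactAt.of_isZero hz).isZero_homology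
    haveI : Subsingleton ((HomologicalComplex.homologyFunctor (ModuleCat.{u} A)
        (ComplexShape.up ℤ) i).obj (DRing.homCx J' J)) := ModuleCat.subsingleton_of_isZero hz2
    exact ((DerivedCategory.homologyFunctorFactors (ModuleCat.{u} A) i).app
        (DRing.homCx J' J)).toLinearEquiv.toEquiv.subsingleton
  obtain ⟨P, ⟨c, hPc⟩, hPfree, hPfin, hPmin, ⟨eP⟩⟩ :=
    Groth.Agent.Helper11.InvCx.exists_minRep (Q.obj (DRing.homCx J' J)) hLfin hLbdd
  haveI : P.IsKProjective := Groth.Agent.Helper11.DC.isKProjective_of_vanishesAbove P c hPc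
    (fun i => by haveI := hPfree i; infer_instance)
  obtain ⟨t, ht⟩ := Groth.Agent.Helper11.DC.exists_lift_of_isKProjective P (DRing.homCx J' J) eP.hom
  haveI : QuasiIso t := by
    rw [← DerivedCategory.isIso_Q_map_iff_quasiIso, ht]
    infer_instance
  haveI := Groth.Agent.Helper11.RHomDual.quasiIso_homCxPre J t
  haveI i2 : IsIso (DerivedCategory.Q.map (homCxPre t J)) := by
    rw [DerivedCategory.isIso_Q_map_iff_quasiIso]
    infer_instance
  haveI : QuasiIso (ev J' J) := hgood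
  haveI i3 : IsIso (DerivedCategory.Q.map (ev J' J)) := by
    rw [DerivedCategory.isIso_Q_map_iff_quasiIso]
    infer_instance
  let e₁ : Q.obj J' ≅ Q.obj (DRing.homCx P J) :=
    asIso (DerivedCategory.Q.map (ev J' J)) ≪≫ asIso (DerivedCategory.Q.map (homCxPre t J))
  -- the key computation
  have key : ∀ i k : ℤ, i + k = n → Nonempty ((P.X i →ₗ[A] A ⧸ 𝔪) ≃ₗ[A]
      (Dual.inD A (A ⧸ 𝔪) ⟶ (Q.obj J')⟦k⟧)) := by
    intro i k hik
    obtain ⟨F, hF, -, ⟨eF⟩⟩ := Groth.Agent.Helper11.Tel.exists_kprojective_rep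
      ((Dual.inD A (A ⧸ 𝔪))⟦-k⟧)
    haveI := hF
    obtain ⟨eD⟩ := nonempty_dual_iso_single J F 𝔪 n (-k) eF k1 k2 i (-i) (by omega) (by omega)
    obtain ⟨eR⟩ := nonempty_hom_residue_equiv 𝔪 P hPmin i (-i) (by omega)
    obtain ⟨eS, -⟩ := exists_swapEquiv P F J
    exact ⟨eR.symm.trans ((Linear.homCongr A (Iso.refl (Q.obj P)) eD.symm).trans
      (eS.trans ((Linear.homCongr A eF e₁.symm).trans
        (shiftHomEquiv (Dual.inD A (A ⧸ 𝔪)) (Q.obj J') (-k) k (by omega)))))⟩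
  have hm : (𝔪 : Ideal A) ≠ ⊤ := (IsLocalRing.maximalIdeal.isMaximal A).ne_top
  have hz : ∀ i : ℤ, i ≠ 0 → IsZero (P.X i) := fun i hi => by
    obtain ⟨ek⟩ := key i (n - i) (by omega)
    haveI := k1' (n - i) (by omega)
    haveI := hPfree i
    haveI := hPfin i
    haveI : Subsingleton (P.X i) := subsingleton_of_subsingleton_hom 𝔪 (P.X i) hm
      ek.toEquiv.subsingleton
    exact ModuleCat.isZero_of_subsingleton _
  obtain ⟨ek⟩ := key 0 n (by omega)
  haveI := hPfree 0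
  haveI := hPfin 0
  obtain ⟨e0⟩ := nonempty_equiv_of_hom_equiv 𝔪 (P.X 0) (ek.trans k2')
  obtain ⟨eU⟩ := nonempty_iso_unit_of_concentrated P hz e0
  have hpre : IsIso (homCxPre eU.hom J) := by
    refine ⟨homCxPre eU.inv J, ?_, ?_⟩
    · rw [← homCxPre_comp, eU.inv_hom_id, homCxPre_id]
    · rw [← homCxPre_comp, eU.hom_inv_id, homCxPre_id]
  let e₂ : DRing.homCx P J ≅ J := (asIso (homCxPre eU.hom J)).symm ≪≫ unitIso J
  exact ⟨e'.symm ≪≫ e₁ ≪≫ Q.mapIso e₂ ≪≫ e⟩

end Groth.Agent.Helper8.DU
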