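import Groth.Agent.Lib.Helper8.GF1
import Groth.Agent.Lib.Helper8.GF2
import Groth.Agent.Lib.Helper8.ShG4
import Groth.Agent.Lib.Helper8.LOC17
import Groth.Agent.Lib.Helper8.FBC4
import Groth.Agent.Lib.Helper8.FLD4
import Groth.Agent.Lib.Helper8.DualMod3
import Groth.Agent.Lib.Helper11.LDer5
import Groth.Agent.Lib.Helper3.KP2
import Groth.Agent.S1747

/-!
# A complex whose derived fibre is dualizing over a Gorenstein local ring is locally a shift of
the ring (helper8)
-/

set_option autoImplicit false

open CategoryTheory CategoryTheory.Limits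

universe u

namespace Groth.Agent.Helper8.GF

open DerivedCategory Groth.Agent.Helper8.LOC

attribute [local instance] HasDerivedCategory.standard

section Flat

variable {A : Type u} [CommRing A] (B : Type u) [CommRing B] [Algebra A B] [Module.Flat A B]

/-- flat derived base change, compared with the derived functor of the exact extension of
scalars -/
theorem nonempty_LBaseChange_iso_Ld [DRing.HasLBaseChange (algebraMap A B)] :
    haveI := Groth.Agent.Helper8.FBC.preservesFiniteLimits_Efun_of_flat (A := A) B
    Nonempty (DRing.LBaseChange (algebraMap A B) ≅ Ld (algebraMap A B)) := by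
  haveI := Groth.Agent.Helper8.FBC.preservesFiniteLimits_Efun_of_flat (A := A) B
  exact Groth.Agent.Helper11.LDer.nonempty_totalLeftDerived_iso_of_exact (Efun (algebraMap A B))

/-- finiteness of the cohomology of a flat base change -/
theorem finite_HD_LBaseChange_of_flat [DRing.HasLBaseChange (algebraMap A B)] (Y : Dual.D A)
    (hfin : ∀ i : ℤ, Module.Finite A (Dual.HD A Y i)) (i : ℤ) :
    Module.Finite B (Dual.HD B ((DRing.LBaseChange (algebraMap A B)).obj Y) i) := by
  haveI := Groth.Agent.Helper8.FBC.preservesFiniteLimits_Efun_of_flat (A := A) B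
  obtain ⟨e⟩ := nonempty_LBaseChange_iso_Ld (A := A) B
  haveI := hfin i
  haveI : Module.Finite B ((Efun (algebraMap A B)).obj
      ((homologyFunctor (ModuleCat.{u} A) i).obj Y)) :=
    Groth.Agent.Helper11.DC.es_finite (algebraMap A B) _
  exact Module.Finite.equiv ((homologyFunctor (ModuleCat.{u} B) i).mapIso (e.app Y) ≪≫
    homologyLdIso (algebraMap A B) Y i).symm.toLinearEquiv

/-- vanishing of the cohomology of a flat base change -/
theorem subsingleton_HD_LBaseChange_of_flat [DRing.HasLBaseChange (algebraMap A B)] (Y : Dual.D A)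
    (i : ℤ) (h : Subsingleton (Dual.HD A Y i)) :
    Subsingleton (Dual.HD B ((DRing.LBaseChange (algebraMap A B)).obj Y) i) := by
  haveI := Groth.Agent.Helper8.FBC.preservesFiniteLimits_Efun_of_flat (A := A) B
  obtain ⟨e⟩ := nonempty_LBaseChange_iso_Ld (A := A) B
  have hz : IsZero ((homologyFunctor (ModuleCat.{u} A) i).obj Y) :=
    ModuleCat.isZero_of_subsingleton _
  have hz2 : IsZero ((homologyFunctor (ModuleCat.{u} B) i).obj
      ((DRing.LBaseChange (algebraMap A B)).obj Y)) :=
    ((Efun (algebraMap A B)).map_isZero hz).of_iso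
      ((homologyFunctor (ModuleCat.{u} B) i).mapIso (e.app Y) ≪≫
        homologyLdIso (algebraMap A B) Y i)
  exact ModuleCat.subsingleton_of_isZero hz2

end Flat

section Main

variable {A : Type u} [CommRing A] [IsNoetherianRing A]

/-- **the local structure of a complex with Gorenstein dualizing fibre** -/
theorem exists_iso_shift_of_gorenstein_fibre (ω : Dual.D A)
    (hfin : ∀ i : ℤ, Module.Finite A (Dual.HD A ω i))
    (hbdd : ∃ b : ℤ, ∀ i : ℤ, b < i → Subsingleton (Dual.HD A ω i))
    (q : Ideal A) [q.IsPrime]
    {B' : Type u} [CommRing B'] (ι : A →+* B') [DRing.HasLBaseChange ι]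
    (hdual : Dual.IsDualizing B' ((DRing.LBaseChange ι).obj ω))
    (q' : Ideal B') [q'.IsPrime]
    (hGor : LocCoh.IsGorensteinLocalRing (Localization.AtPrime q'))
    (ρ : Localization.AtPrime q' →+*
      (Localization.AtPrime q ⧸ IsLocalRing.maximalIdeal (Localization.AtPrime q)))
    (hρ : (ρ.comp (algebraMap B' (Localization.AtPrime q'))).comp ι =
      (Ideal.Quotient.mk (IsLocalRing.maximalIdeal (Localization.AtPrime q))).comp
        (algebraMap A (Localization.AtPrime q)))
    [DRing.HasLBaseChange (algebraMap A (Localization.AtPrime q))] :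
    ∃ m : ℤ, Nonempty ((DRing.LBaseChange (algebraMap A (Localization.AtPrime q))).obj ω ≅
      (Dual.inD (Localization.AtPrime q) (Localization.AtPrime q))⟦m⟧) := by
  haveI : IsNoetherianRing B' := hdual.isNoetherianRing
  haveI : IsNoetherianRing (Localization.AtPrime q') :=
    IsLocalization.isNoetherianRing q'.primeCompl _ inferInstance
  haveI h1 : DRing.HasLBaseChange (algebraMap B' (Localization.AtPrime q')) :=
    Groth.Agent.Helper3.KP.hasLeftDerivedFunctor _
  haveI h2 : DRing.HasLBaseChange ρ := Groth.Agent.Helper3.KP.hasLeftDerivedFunctor _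
  haveI h3 : DRing.HasLBaseChange (Ideal.Quotient.mk (IsLocalRing.maximalIdeal
      (Localization.AtPrime q))) := Groth.Agent.Helper3.KP.hasLeftDerivedFunctor _
  haveI h4 : DRing.HasLBaseChange ((Ideal.Quotient.mk (IsLocalRing.maximalIdeal
      (Localization.AtPrime q))).comp (algebraMap A (Localization.AtPrime q))) :=
    Groth.Agent.Helper3.KP.hasLeftDerivedFunctor _
  haveI h5 : DRing.HasLBaseChange (ρ.comp (algebraMap B' (Localization.AtPrime q'))) :=
    Groth.Agent.Helper3.KP.hasLeftDerivedFunctor _
  -- the localized fibre complex is dualizing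
  haveI := Groth.Agent.Helper8.FBC.preservesFiniteLimits_Efun_of_flat (A := B')
    (Localization.AtPrime q')
  obtain ⟨e2⟩ := nonempty_LBaseChange_iso_Ld (A := B') (Localization.AtPrime q')
  have hd : Dual.IsDualizing (Localization.AtPrime q')
      ((DRing.LBaseChange (algebraMap B' (Localization.AtPrime q'))).obj
        ((DRing.LBaseChange ι).obj ω)) :=
    Groth.Agent.Helper8.FLD.isDualizing_of_iso (e2.app _).symm
      (isDualizing_Ld q'.primeCompl (Localization.AtPrime q') _ hdual)
  obtain ⟨n, hn⟩ := hGor.exists_hasInjectiveDimensionLT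
  have hd0 : Dual.IsDualizing (Localization.AtPrime q')
      (Dual.inD (Localization.AtPrime q') (Localization.AtPrime q')) :=
    Groth.Agent.Helper8.DualMod.isDualizing_inD_self_of_hasInjectiveDimensionLT _ n hn
  obtain ⟨m, ⟨e3⟩⟩ := Groth.Agent.S1747.result (Localization.AtPrime q') _ _ hd0 hd
  refine ⟨m, ?_⟩
  -- base change to the residue field
  obtain ⟨e4⟩ := nonempty_LBaseChange_shift ρ
    (Dual.inD (Localization.AtPrime q') (Localization.AtPrime q')) m
  letI : Algebra (Localization.AtPrime q')
      (Localization.AtPrime q ⧸ IsLocalRing.maximalIdeal (Localization.AtPrime q)) := ρ.toAlgebra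
  obtain ⟨e5⟩ := Groth.Agent.Helper8.ShG.nonempty_LBaseChange_unit_iso (Localization.AtPrime q')
    (Localization.AtPrime q ⧸ IsLocalRing.maximalIdeal (Localization.AtPrime q))
  obtain ⟨e6⟩ := nonempty_LBaseChange_comp (algebraMap B' (Localization.AtPrime q')) ρ
    (ρ.comp (algebraMap B' (Localization.AtPrime q'))) rfl ((DRing.LBaseChange ι).obj ω)
  obtain ⟨e7⟩ := nonempty_LBaseChange_comp ι (ρ.comp (algebraMap B' (Localization.AtPrime q')))
    ((Ideal.Quotient.mk (IsLocalRing.maximalIdeal (Localization.AtPrime q))).comp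
      (algebraMap A (Localization.AtPrime q))) hρ.symm ω
  obtain ⟨e8⟩ := nonempty_LBaseChange_comp (algebraMap A (Localization.AtPrime q))
    (Ideal.Quotient.mk (IsLocalRing.maximalIdeal (Localization.AtPrime q)))
    ((Ideal.Quotient.mk (IsLocalRing.maximalIdeal (Localization.AtPrime q))).comp
      (algebraMap A (Localization.AtPrime q))) rfl ω
  have e9 : (DRing.LBaseChange (Ideal.Quotient.mk (IsLocalRing.maximalIdeal
      (Localization.AtPrime q)))).obj
        ((DRing.LBaseChange (algebraMap A (Localization.AtPrime q))).obj ω) ≅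
      (Dual.inD (Localization.AtPrime q ⧸ IsLocalRing.maximalIdeal (Localization.AtPrime q))
        (Localization.AtPrime q ⧸ IsLocalRing.maximalIdeal (Localization.AtPrime q)))⟦m⟧ :=
    e8.symm ≪≫ e7 ≪≫ e6 ≪≫ (DRing.LBaseChange ρ).mapIso e3 ≪≫ e4 ≪≫
      (shiftFunctor _ m).mapIso e5
  haveI : IsNoetherianRing (Localization.AtPrime q) :=
    IsLocalization.isNoetherianRing q.primeCompl _ inferInstance
  obtain ⟨b, hb⟩ := hbdd
  exact nonempty_iso_shift_of_fibre _
    (finite_HD_LBaseChange_of_flat (Localization.AtPrime q) ω hfin)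
    ⟨b, fun i hi => subsingleton_HD_LBaseChange_of_flat (Localization.AtPrime q) ω i (hb i hi)⟩
    m e9

end Main

end Groth.Agent.Helper8.GF
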