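import Groth.Agent.Lib.Helper8.LOC5
import Groth.Agent.Lib.Helper11.DCExactH

/-!
# Localization of `Hom` in the derived category, part 6 (helper8)

`Hom_{D(B)}(L K, L W)` is the localization of `Hom_{D(A)}(K, W)` for `K` bounded with finite
cohomology and `W` bounded below (`B = S⁻¹A`, `A` noetherian).
-/
set_option autoImplicit false
open CategoryTheory CategoryTheory.Limits Opposite Pretriangulated
universe u
namespace Groth.Agent.Helper8.LOC
open DerivedCategory ChangeOfRings
attribute [local instance] HasDerivedCategory.standard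
variable {A : Type u} [CommRing A] (S : Submonoid A) (B : Type u) [CommRing B] [Algebra A B]

variable (M : ModuleCat.{u} A)

theorem congr_smulB (b : B)
    (x : TensorProduct A ((ModuleCat.restrictScalars (algebraMap A B)).obj (ModuleCat.of B B)) M) :
    TensorProduct.congr (compHomEquiv B) (LinearEquiv.refl A M)
      (b • @id ((Efun (algebraMap A B)).obj M) x : (Efun (algebraMap A B)).obj M) =
      b • TensorProduct.congr (compHomEquiv B) (LinearEquiv.refl A M) x := by
  refine TensorProduct.induction_on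
    (motive := fun x => TensorProduct.congr (compHomEquiv B) (LinearEquiv.refl A M)
      (b • @id ((Efun (algebraMap A B)).obj M) x : (Efun (algebraMap A B)).obj M) =
      b • TensorProduct.congr (compHomEquiv B) (LinearEquiv.refl A M) x) x ?_ ?_ ?_
  · have h1 : (b • @id ((Efun (algebraMap A B)).obj M) 0 : (Efun (algebraMap A B)).obj M) =
        @id ((Efun (algebraMap A B)).obj M) 0 := smul_zero b
    refine (congrArg _ h1).trans ?_
    rw [map_zero, smul_zero]
    exact map_zero _
  · intro b' m
    have h1 : (b • @id ((Efun (algebraMap A B)).obj M) (b' ⊗ₜ[A] m) :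
        (Efun (algebraMap A B)).obj M) =
        @id ((Efun (algebraMap A B)).obj M)
          (((compHomEquiv (A := A) B).symm (b * compHomEquiv B b')) ⊗ₜ[A] m) := rfl
    refine (congrArg _ h1).trans ?_
    show TensorProduct.congr (compHomEquiv B) (LinearEquiv.refl A M)
      (((compHomEquiv (A := A) B).symm (b * compHomEquiv B b')) ⊗ₜ[A] m) = _
    rw [TensorProduct.congr_tmul, TensorProduct.congr_tmul, LinearEquiv.apply_symm_apply,
      TensorProduct.smul_tmul', smul_eq_mul]
  · intro x y hx hy
    have h1 : (b • @id ((Efun (algebraMap A B)).obj M) (x + y) : (Efun (algebraMap A B)).obj M) =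
        (b • @id ((Efun (algebraMap A B)).obj M) x : (Efun (algebraMap A B)).obj M) +
          (b • @id ((Efun (algebraMap A B)).obj M) y : (Efun (algebraMap A B)).obj M) :=
      smul_add b _ _
    refine (congrArg _ h1).trans ?_
    rw [map_add, smul_add]
    refine Eq.trans ?_ (congrArg₂ (· + ·) hx hy)
    exact map_add _ _ _

/-- `E M ≅ B ⊗[A] M` as `B`-modules -/
noncomputable def EfunEquiv :
    ((Efun (algebraMap A B)).obj M) ≃ₗ[B] TensorProduct A B M where
  toFun x := TensorProduct.congr (compHomEquiv B) (LinearEquiv.refl A M) x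
  invFun y := (TensorProduct.congr (compHomEquiv B) (LinearEquiv.refl A M)).symm y
  map_add' _ _ := map_add _ _ _
  map_smul' b x := congr_smulB B M b x
  left_inv x := (TensorProduct.congr (compHomEquiv B) (LinearEquiv.refl A M)).symm_apply_apply x
  right_inv y := (TensorProduct.congr (compHomEquiv B) (LinearEquiv.refl A M)).apply_symm_apply y

/-- `E M ≅ M'` for a localization `M → M'` -/
noncomputable def EfunIsoOfLoc [IsLocalization S B] {M₀ M' : Type u} [AddCommGroup M₀] [Module A M₀]
    [AddCommGroup M'] [Module A M'] [Module B M'] [IsScalarTower A B M'] (f : M₀ →ₗ[A] M')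
    [IsLocalizedModule S f] :
    (Efun (algebraMap A B)).obj (ModuleCat.of A M₀) ≅ ModuleCat.of B M' :=
  ((EfunEquiv B (ModuleCat.of A M₀)).trans
    (IsLocalizedModule.isBaseChange S B f).equiv).toModuleIso

section Main

variable [IsLocalization S B] [PreservesFiniteLimits (Efun (algebraMap A B))]

theorem Ld_map_eq_zero {K W : Dual.D A} (hK : PP S K) (a : ℤ)
    (hW : ∀ j : ℤ, j < a → IsZero ((homologyFunctor (ModuleCat.{u} A) j).obj W))
    (f : K ⟶ W) (hf : (Ld (algebraMap A B)).map f = 0) : ∃ s ∈ S, s • f = 0 := by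
  have h1 := adjD_homEquiv_map (algebraMap A B) f
  rw [hf] at h1
  have h0 : (adjD (algebraMap A B)).homEquiv K ((Ld (algebraMap A B)).obj W) 0 = 0 := by
    rw [Adjunction.homEquiv_unit, Functor.map_zero, comp_zero]
  exact (hK a _ (goodMor_unit S B W a hW)).1 f (h1.symm.trans h0)

theorem exists_Ld_map_eq {K W : Dual.D A} (hK : PP S K) (a : ℤ)
    (hW : ∀ j : ℤ, j < a → IsZero ((homologyFunctor (ModuleCat.{u} A) j).obj W))
    (f' : (Ld (algebraMap A B)).obj K ⟶ (Ld (algebraMap A B)).obj W) :
    ∃ s ∈ S, ∃ f : K ⟶ W, (Ld (algebraMap A B)).map f = algebraMap A B s • f' := by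
  obtain ⟨s, hs, f, hf⟩ := (hK a _ (goodMor_unit S B W a hW)).2
    ((adjD (algebraMap A B)).homEquiv K _ f')
  refine ⟨s, hs, f, ?_⟩
  apply ((adjD (algebraMap A B)).homEquiv K _).injective
  rw [adjD_homEquiv_map, hf, adjD_homEquiv_smul]

omit [PreservesFiniteLimits (Efun (algebraMap A B))] in
theorem eq_zero_of_smul_eq_zero {Z Z' : Dual.D B} (f' : Z ⟶ Z') (s : A) (hs : s ∈ S)
    (h : algebraMap A B s • f' = 0) : f' = 0 := by
  obtain ⟨u, hu⟩ := IsLocalization.map_units B (⟨s, hs⟩ : S)
  have h1 : f' = (↑u⁻¹ : B) • (algebraMap A B s • f') := by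
    rw [← mul_smul, ← hu, Units.inv_mul, one_smul]
  rw [h1, h, smul_zero]

theorem subsingleton_localizedModule_hom_iff {K W : Dual.D A} (hK : PP S K) (a : ℤ)
    (hW : ∀ j : ℤ, j < a → IsZero ((homologyFunctor (ModuleCat.{u} A) j).obj W)) :
    Subsingleton (LocalizedModule S (K ⟶ W)) ↔
      Subsingleton ((Ld (algebraMap A B)).obj K ⟶ (Ld (algebraMap A B)).obj W) := by
  rw [LocalizedModule.subsingleton_iff]
  constructor
  · intro h
    refine ⟨fun x y => ?_⟩
    have key : ∀ f' : (Ld (algebraMap A B)).obj K ⟶ (Ld (algebraMap A B)).obj W, f' = 0 := by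
      intro f'
      obtain ⟨s, hs, f, hf⟩ := exists_Ld_map_eq S B hK a hW f'
      obtain ⟨t, ht, htf⟩ := h f
      apply eq_zero_of_smul_eq_zero S B f' (t * s) (S.mul_mem ht hs)
      rw [map_mul, mul_smul, ← hf, ← Ld_map_smul, htf, Functor.map_zero]
    rw [key x, key y]
  · intro h f
    exact Ld_map_eq_zero S B hK a hW f (Subsingleton.elim _ _)

end Main

end Groth.Agent.Helper8.LOC
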