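import Groth.Agent.S1800
import Groth.Agent.Lib.Helper8.GF3
import Groth.Agent.Lib.Helper8.LOC6
import Groth.Agent.Lib.Helper8.LOC17
import Groth.Agent.Lib.Helper8.ShG4
import Groth.Agent.Lib.Helper11.Shr11
import Groth.Agent.Lib.Helper3.KP2

/-!
# Flat base change of the cohomology of the relative dualizing complex (helper8)
-/

set_option autoImplicit false
set_option linter.style.haveILetI false
set_option linter.unusedSectionVars false
universe u

open CategoryTheory Limits DerivedCategory TensorProduct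

attribute [local instance] HasDerivedCategory.standard
attribute [local instance] Algebra.TensorProduct.rightAlgebra

namespace Groth.Agent.Helper8.CMExt

open Groth.Agent.Helper8.LOC Groth.Agent.Helper11.Shr

theorem nonempty_HD_baseChange (R R' A : Type u) [CommRing R] [CommRing R'] [CommRing A]
    [IsNoetherianRing R] [IsNoetherianRing R'] [IsNoetherianRing A] [Algebra R R']
    [Module.Flat R R'] [Algebra R A] (n : ℕ)
    (ψ : MvPolynomial (Fin n) R →ₐ[R] A) (hψ : Function.Surjective ψ)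
    [DRing.HasLBaseChange (algebraMap R (MvPolynomial (Fin n) R))]
    (Rψ : Dual.D (MvPolynomial (Fin n) R) ⥤ Dual.D A) (adj : DRing.restrictD ψ.toRingHom ⊣ Rψ)
    [DRing.HasLBaseChange (algebraMap R' (MvPolynomial (Fin n) R'))]
    (Rψ' : Dual.D (MvPolynomial (Fin n) R') ⥤ Dual.D (R' ⊗[R] A))
    (adj' : DRing.restrictD (psiBC (R' := R') ψ).toRingHom ⊣ Rψ') (i : ℤ) :
    Nonempty (Dual.HD (R' ⊗[R] A) (Dual2.shriekVia n Rψ' (Dual.inD R' R')) i ≃ₗ[R' ⊗[R] A]
      (R' ⊗[R] A) ⊗[A] (Dual.HD A (Dual2.shriekVia n Rψ (Dual.inD R R)) i)) := by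
  classical
  haveI hLB1 : DRing.HasLBaseChange (algebraMap A (R' ⊗[R] A)) :=
    Groth.Agent.Helper3.KP.hasLeftDerivedFunctor _
  haveI hLB1' : DRing.HasLBaseChange
      (Algebra.TensorProduct.includeRight : A →ₐ[R] R' ⊗[R] A).toRingHom := hLB1
  haveI hLB2 : DRing.HasLBaseChange (algebraMap R R') :=
    Groth.Agent.Helper3.KP.hasLeftDerivedFunctor _
  have hψ' : Function.Surjective (psiBC (R' := R') ψ) := psiBC_surjective ψ hψ
  haveI : IsNoetherianRing (R' ⊗[R] A) :=
    isNoetherianRing_of_surjective _ _ (psiBC (R' := R') ψ).toRingHom hψ'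
  have hK : ∀ j : ℤ, j < 0 → Subsingleton (Dual.HD R (Dual.inD R R) j) := by
    intro j hj
    exact ModuleCat.subsingleton_of_isZero (isZero_of_isGE (Dual.inD R R) 0 j hj)
  obtain ⟨i1⟩ := Groth.Agent.S1800.result R R' A n ψ hψ Rψ adj n (psiBC (R' := R') ψ) hψ' Rψ' adj'
    (Dual.inD R R) 0 hK
  obtain ⟨i2⟩ := Groth.Agent.Helper8.ShG.nonempty_LBaseChange_unit_iso R R'
  let ω := Dual2.shriekVia n Rψ (Dual.inD R R)
  let ω' := Dual2.shriekVia n Rψ' (Dual.inD R' R')
  let i3 : (DRing.LBaseChange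
      (Algebra.TensorProduct.includeRight : A →ₐ[R] R' ⊗[R] A).toRingHom).obj ω ≅ ω' :=
    i1 ≪≫ (CategoryTheory.shiftFunctor _ (n : ℤ)).mapIso (Rψ'.mapIso
      ((DRing.LBaseChange (algebraMap R' (MvPolynomial (Fin n) R'))).mapIso i2))
  haveI hfl : Module.Flat A (R' ⊗[R] A) := flat_includeRight R R' A
  haveI := Groth.Agent.Helper8.FBC.preservesFiniteLimits_Efun_of_flat (A := A) (R' ⊗[R] A)
  obtain ⟨e⟩ := Groth.Agent.Helper8.GF.nonempty_LBaseChange_iso_Ld (A := A) (R' ⊗[R] A)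
  let i4 : (DRing.LBaseChange (algebraMap A (R' ⊗[R] A))).obj ω ≅ ω' := i3
  let j1 := (homologyFunctor (ModuleCat.{u} (R' ⊗[R] A)) i).mapIso (i4.symm ≪≫ e.app ω)
  let j2 := homologyLdIso (algebraMap A (R' ⊗[R] A)) ω i
  exact ⟨(j1 ≪≫ j2).toLinearEquiv.trans
    (EfunEquiv (R' ⊗[R] A) ((homologyFunctor (ModuleCat.{u} A) i).obj ω))⟩

end Groth.Agent.Helper8.CMExt
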