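import Groth.Agent.Lib.Helper11.FlatPc5
import Groth.Agent.Lib.Helper11.TorAmp8
import Groth.Agent.Lib.Helper3.BC8

/-!
# Tor independence over a flat base: `Tor^P_p(M, P ⊗_R R') = 0` for `M` flat over `R` (helper8)
-/

set_option autoImplicit false
universe u

namespace Groth.Agent.Helper8.ShF

open CategoryTheory Limits DerivedCategory

attribute [local instance] HasDerivedCategory.standard

theorem subsingleton_tor_of_flat (R R' P P' : Type u) [CommRing R] [CommRing R'] [CommRing P]
    [CommRing P'] [Algebra R R'] [Algebra R P] [Algebra R P'] [Algebra P P'] [Algebra R' P']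
    [IsScalarTower R P P'] [IsScalarTower R R' P'] [Algebra.IsPushout R R' P P'] [Module.Flat R P]
    (M : Type u) [AddCommGroup M] [Module P M] [Module R M]
    [IsScalarTower R P M] [Module.Flat R M] (p : ℕ) (hp : 1 ≤ p) :
    Subsingleton (DRing.Tor P p M P') := by
  obtain ⟨q, rfl⟩ : ∃ q, p = q + 1 := ⟨p - 1, by omega⟩
  rw [← ModuleCat.isZero_iff_subsingleton]
  show IsZero (((Tor (ModuleCat.{u} P) (q + 1)).obj (ModuleCat.of P M)).obj (ModuleCat.of P P'))
  rw [Groth.Agent.Helper11.TA.isZero_tor_iff]
  obtain ⟨h1, h2, ⟨e⟩⟩ := Groth.Agent.Helper11.TA.projRes_spec (ModuleCat.of P M)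
  set E := (projectiveResolution (ModuleCat.of P M)).cochainComplex with hE
  have hfl : ∀ i, Module.Flat P (E.X i) := fun i => by
    haveI := h2 i
    infer_instance
  have hM : Module.Flat R ((ModuleCat.restrictScalars.{u} (algebraMap R P)).obj
      (ModuleCat.of P M)) := by
    let e0 : M ≃ₗ[R] ((ModuleCat.restrictScalars.{u} (algebraMap R P)).obj (ModuleCat.of P M)) :=
      { toFun := fun x => x
        invFun := fun x => x
        map_add' := fun _ _ => rfl
        map_smul' := fun r x => by
          show r • x = (algebraMap R P r) • (show M from x)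
          rw [algebraMap_smul]
        left_inv := fun _ => rfl
        right_inv := fun _ => rfl }
    exact Module.Flat.of_linearEquiv e0.symm
  obtain ⟨i0⟩ := Groth.Agent.Helper11.FlatPc.tor_indep R R' P P' E h1 hfl (ModuleCat.of P M) e hM
  have h3 : IsZero (((Groth.Agent.Helper11.TA.esC (algebraMap P P')).obj E).homology
      (-((q + 1 : ℕ) : ℤ))) := by
    have h4 : IsZero ((homologyFunctor (ModuleCat.{u} P') (-((q + 1 : ℕ) : ℤ))).obj
        ((singleFunctor (ModuleCat.{u} P') 0).obj
          ((Groth.Agent.Helper11.TA.es (algebraMap P P')).obj (ModuleCat.of P M)))) :=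
      isZero_of_isGE _ 0 _ (by
        have : (0 : ℤ) ≤ (q : ℤ) := Int.natCast_nonneg q
        push_cast
        omega)
    exact (h4.of_iso ((homologyFunctor (ModuleCat.{u} P') _).mapIso i0)).of_iso
      ((homologyFunctorFactors (ModuleCat.{u} P') _).app _).symm
  rw [← Groth.Agent.Helper11.Dev.isZero_homology_tens_Bm_iff] at h3
  have h5 : IsZero (((Groth.Agent.Helper11.TA.tens (ModuleCat.of P P')).obj E).homology
      (-((q + 1 : ℕ) : ℤ))) :=
    h3.of_iso ((HomologicalComplex.homologyFunctor _ _ _).mapIso
      ((Groth.Agent.Helper11.Dev.tensIso (Groth.Agent.Helper3.BC.BmIso P P')).app E)).symm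
  exact h5.of_iso ((homologyFunctorFactors (ModuleCat.{u} P) _).app _)

end Groth.Agent.Helper8.ShF
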