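import Groth.Agent.Lib.Helper11.PerfHom
import Groth.Agent.Lib.Helper11.PerfMor1
import Groth.Agent.Lib.Helper11.FlatPc1

/-!
# A flat algebra of finite type over a Noetherian ring is perfect over a polynomial presentation
(helper8; assembling helper11's PerfHom / FlatPc)
-/

set_option autoImplicit false
universe u

namespace Groth.Agent.Helper8.ShF

open CategoryTheory

attribute [local instance] HasDerivedCategory.standard

theorem isPerfectModule_of_flat (R : Type u) [CommRing R] [IsNoetherianRing R] (n : ℕ)
    (A : Type u) [CommRing A] [Algebra R A] [Algebra (MvPolynomial (Fin n) R) A]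
    [IsScalarTower R (MvPolynomial (Fin n) R) A] [Module.Flat R A]
    [Module.Finite (MvPolynomial (Fin n) R) A] :
    DRing.IsPerfectModule (MvPolynomial (Fin n) R) A := by
  have hpc : DRing.IsPseudoCoherentModule' (MvPolynomial (Fin n) R) A := by
    obtain ⟨E, hE, hfree, ⟨e⟩⟩ := Groth.Agent.Helper11.FlatPc.exists_resolution_zero
      (ModuleCat.of (MvPolynomial (Fin n) R) A)
    exact ⟨E, 0, hE, hfree, ⟨e⟩⟩
  have hft : DRing.HasFiniteTorDim R A := Groth.Agent.Helper11.PerfMor.ftd_of_flat
  exact Groth.Agent.Helper11.PerfHom.isPerfectModule_of_finiteTorDim n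
    (fun p M _ _ => Groth.Agent.Helper11.PerfHom.hgl_poly R n p M) hpc hft

end Groth.Agent.Helper8.ShF
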