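import Groth.Agent.Lib.Helper8.ShF1
import Groth.Agent.Lib.Helper8.ShF2
import Groth.Agent.Lib.Helper8.ShF3
import Groth.Agent.Lib.Helper11.Shr11

/-!
# Base change of `RHom_P(A, -)` for `A` flat of finite type over `R`, `P = R[x]`, along an arbitrary
`R → R'` (helper8)
-/

set_option autoImplicit false
universe u

namespace Groth.Agent.Helper8.ShF

open CategoryTheory TensorProduct Groth.Agent.Helper11.Shr

attribute [local instance] HasDerivedCategory.standard
attribute [local instance] MvPolynomial.algebraMvPolynomial Algebra.TensorProduct.rightAlgebra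

theorem betaBC_eq_map (R R' : Type u) [CommRing R] [CommRing R'] [Algebra R R'] (n : ℕ) :
    betaBC R R' n = MvPolynomial.map (algebraMap R R') := by
  apply RingHom.ext
  intro x
  rw [betaBC_apply]
  show MvPolynomial.algebraTensorAlgEquiv R R' (1 ⊗ₜ[R] x) = _
  rw [MvPolynomial.algebraTensorAlgEquiv_tmul, one_smul]

theorem nonempty_baseChange_rightAdj_of_flat (R R' A : Type u) [CommRing R] [CommRing R']
    [CommRing A] [IsNoetherianRing R] [Algebra R R'] [Algebra R A] [Module.Flat R A] (n : ℕ)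
    (ψ : MvPolynomial (Fin n) R →ₐ[R] A) (hψ : Function.Surjective ψ)
    (Rψ : Dual.D (MvPolynomial (Fin n) R) ⥤ Dual.D A) (adj : DRing.restrictD ψ.toRingHom ⊣ Rψ)
    (Rψ₁ : Dual.D (MvPolynomial (Fin n) R') ⥤ Dual.D (R' ⊗[R] A))
    (adj₁ : DRing.restrictD (psiBC (R' := R') ψ).toRingHom ⊣ Rψ₁)
    [DRing.HasLBaseChange (Algebra.TensorProduct.includeRight : A →ₐ[R] R' ⊗[R] A).toRingHom]
    [DRing.HasLBaseChange
      (algebraMap (MvPolynomial (Fin n) R) (MvPolynomial (Fin n) R'))]
    (M : Dual.D (MvPolynomial (Fin n) R)) :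
    Nonempty ((DRing.LBaseChange
        (Algebra.TensorProduct.includeRight : A →ₐ[R] R' ⊗[R] A).toRingHom).obj (Rψ.obj M) ≅
      Rψ₁.obj ((DRing.LBaseChange
        (algebraMap (MvPolynomial (Fin n) R) (MvPolynomial (Fin n) R'))).obj M)) := by
  letI algPA : Algebra (MvPolynomial (Fin n) R) A := ψ.toRingHom.toAlgebra
  haveI t1 : IsScalarTower R (MvPolynomial (Fin n) R) A :=
    IsScalarTower.of_algebraMap_eq (fun r => (ψ.commutes r).symm)
  letI algP'A' : Algebra (MvPolynomial (Fin n) R') (R' ⊗[R] A) :=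
    (psiBC (R' := R') ψ).toRingHom.toAlgebra
  haveI t2 : IsScalarTower R' (MvPolynomial (Fin n) R') (R' ⊗[R] A) :=
    IsScalarTower.of_algebraMap_eq (fun r => ((psiBC (R' := R') ψ).commutes r).symm)
  letI algPA' : Algebra (MvPolynomial (Fin n) R) (R' ⊗[R] A) :=
    ((algebraMap A (R' ⊗[R] A)).comp (algebraMap (MvPolynomial (Fin n) R) A)).toAlgebra
  haveI t3 : IsScalarTower (MvPolynomial (Fin n) R) A (R' ⊗[R] A) :=
    IsScalarTower.of_algebraMap_eq (fun x => rfl)
  haveI t4 : IsScalarTower (MvPolynomial (Fin n) R) (MvPolynomial (Fin n) R') (R' ⊗[R] A) := by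
    refine IsScalarTower.of_algebraMap_eq (fun x => ?_)
    show (1 : R') ⊗ₜ[R] ψ x = psiBC (R' := R') ψ (MvPolynomial.map (algebraMap R R') x)
    rw [← betaBC_eq_map, psiBC_betaBC]
  haveI t5 : IsScalarTower R (MvPolynomial (Fin n) R') (R' ⊗[R] A) := by
    refine IsScalarTower.of_algebraMap_eq (fun r => ?_)
    rw [IsScalarTower.algebraMap_apply R R' (R' ⊗[R] A),
      IsScalarTower.algebraMap_apply R R' (MvPolynomial (Fin n) R'),
      ← IsScalarTower.algebraMap_apply R' (MvPolynomial (Fin n) R') (R' ⊗[R] A)]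
  haveI hpo : Algebra.IsPushout (MvPolynomial (Fin n) R) A (MvPolynomial (Fin n) R') (R' ⊗[R] A) :=
    (Algebra.IsPushout.comp_iff R (MvPolynomial (Fin n) R) R' (MvPolynomial (Fin n) R')
      (T := A) (T' := R' ⊗[R] A)).mp inferInstance
  haveI : Module.Finite (MvPolynomial (Fin n) R) A :=
    Module.Finite.of_surjective (Algebra.linearMap (MvPolynomial (Fin n) R) A) hψ
  have hperf := isPerfectModule_of_flat R n A
  have htor := fun p hp => subsingleton_tor_of_flat R R' (MvPolynomial (Fin n) R)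
    (MvPolynomial (Fin n) R') A p hp
  exact nonempty_baseChange_rightAdj_of_perfect (MvPolynomial (Fin n) R) A
    (MvPolynomial (Fin n) R') (R' ⊗[R] A) hperf htor Rψ adj Rψ₁ adj₁ M

end Groth.Agent.Helper8.ShF
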