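import Groth.Agent.Lib.Helper8.CMExt2
import Groth.Agent.Lib.Helper8.CMExt4
import Groth.Agent.Lib.Helper8.CMExt5
import Groth.Agent.Lib.Helper8.SCH5
import Groth.Agent.Lib.Helper8.ShF4
import Groth.Agent.Lib.Helper28.ClosedSpecCM

/-!
# Localizing the relative dualizing complex at a Cohen–Macaulay point of the base (helper8)
-/

set_option autoImplicit false
set_option linter.style.haveILetI false
set_option linter.unusedSectionVars false
universe u

open CategoryTheory Limits DerivedCategory TensorProduct

attribute [local instance] HasDerivedCategory.standard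

namespace Groth.Agent.Helper8.CMExt

open Groth.Agent.Helper8.LOC Groth.Agent.Helper11.Shr

section Fin

/-- the cohomology modules of `ω_{A/R}` are finite -/
theorem finite_HD_shriekVia (R A : Type u) [CommRing R] [CommRing A] [IsNoetherianRing R]
    [Algebra R A] (n : ℕ)
    (ψ : MvPolynomial (Fin n) R →ₐ[R] A) (hψ : Function.Surjective ψ)
    [DRing.HasLBaseChange (algebraMap R (MvPolynomial (Fin n) R))]
    (Rψ : Dual.D (MvPolynomial (Fin n) R) ⥤ Dual.D A) (adj : DRing.restrictD ψ.toRingHom ⊣ Rψ)
    (i : ℤ) : Module.Finite A (Dual.HD A (Dual2.shriekVia n Rψ (Dual.inD R R)) i) := by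
  classical
  letI algPA : Algebra (MvPolynomial (Fin n) R) A := ψ.toRingHom.toAlgebra
  have adj' : DRing.restrictD (algebraMap (MvPolynomial (Fin n) R) A) ⊣ Rψ := adj
  have hsurj : Function.Surjective (algebraMap (MvPolynomial (Fin n) R) A) := hψ
  obtain ⟨ι⟩ := Groth.Agent.Helper8.ShG.nonempty_LBaseChange_unit_iso R (MvPolynomial (Fin n) R)
  haveI : IsNoetherianRing (MvPolynomial (Fin n) R) := inferInstance
  haveI hfin : Module.Finite (MvPolynomial (Fin n) R) A :=
    Module.Finite.of_surjective (Algebra.linearMap (MvPolynomial (Fin n) R) A) hsurj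
  set W := (DRing.LBaseChange (algebraMap R (MvPolynomial (Fin n) R))).obj (Dual.inD R R) with hW
  have hKa : ∀ j : ℤ, j < 0 → Limits.IsZero
      ((homologyFunctor (ModuleCat.{u} (MvPolynomial (Fin n) R)) j).obj W) := by
    intro j hj
    haveI : W.IsGE 0 := DerivedCategory.TStructure.t.isGE_of_iso ι.symm 0
    exact isZero_of_isGE W 0 j hj
  have hKf : ∀ j : ℤ, Module.Finite (MvPolynomial (Fin n) R)
      ((homologyFunctor (ModuleCat.{u} (MvPolynomial (Fin n) R)) j).obj W) := by
    intro j
    haveI := Groth.Agent.Helper8.DualMod.finite_HD_inD (A := MvPolynomial (Fin n) R)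
      (MvPolynomial (Fin n) R) j
    exact Module.Finite.equiv
      ((homologyFunctor (ModuleCat.{u} (MvPolynomial (Fin n) R)) j).mapIso ι).symm.toLinearEquiv
  haveI := Groth.Agent.Helper8.RFin.finite_HD_rightAdjoint Rψ adj' W 0 hKa hKf ((n : ℤ) + i)
  exact Module.Finite.equiv
    (Groth.Agent.Helper8.LOC.homologyShiftEquiv (Rψ.obj W) (n : ℤ) i ((n : ℤ) + i) rfl).symm

end Fin

section Loc

variable {A : Type u} [CommRing A] [IsNoetherianRing A] (S : Submonoid A) (B : Type u)
  [CommRing B] [Algebra A B] [IsLocalization S B] (H : Type u) [AddCommGroup H] [Module A H]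

theorem hasSk_localization_of_isLocalizedModule [Module.Finite A H] {N' : Type u}
    [AddCommGroup N'] [Module B N'] [Module A N'] [IsScalarTower A B N'] (f : H →ₗ[A] N')
    [IsLocalizedModule S f] (k : ℕ)
    (h : LocCoh.HasSk k B N') : LocCoh.HasSk k (Localization S) (LocalizedModule S H) := by
  let ε : Localization S ≃ₐ[A] B := IsLocalization.algEquiv S _ _
  letI algLS : Algebra (Localization S) B := ε.toRingEquiv.toRingHom.toAlgebra
  haveI towCLS : IsScalarTower A (Localization S) B :=
    IsScalarTower.of_algebraMap_eq fun b => (ε.commutes b).symm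
  letI modLN : Module (Localization S) N' :=
    Module.compHom N' (algebraMap (Localization S) B)
  haveI towLSN : IsScalarTower (Localization S) B N' :=
    IsScalarTower.of_algebraMap_smul fun r x => rfl
  haveI towCLN : IsScalarTower A (Localization S) N' :=
    IsScalarTower.of_algebraMap_smul fun b x => by
      change algebraMap (Localization S) B (algebraMap A (Localization S) b) • x = b • x
      rw [← IsScalarTower.algebraMap_apply A (Localization S) B, algebraMap_smul]
  let φ₀ : LocalizedModule S H ≃ₗ[A] N' := IsLocalizedModule.iso S f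
  let φ : LocalizedModule S H ≃ₗ[Localization S] N' :=
    φ₀.extendScalarsOfIsLocalization S (Localization S)
  haveI : IsNoetherianRing (Localization S) :=
    IsLocalization.isNoetherianRing S _ inferInstance
  haveI : IsNoetherianRing B := IsLocalization.isNoetherianRing S _ inferInstance
  haveI : Module.Finite B N' := Module.Finite.of_isLocalizedModule S f
  have hsemi : ∀ (r : Localization S) (m : LocalizedModule S H),
      φ.toAddEquiv (r • m) = ε.toRingEquiv r • φ.toAddEquiv m := fun r m => φ.map_smul r m
  exact Groth.Agent.Helper8.SCH.hasSk_of_semilinear ε.toRingEquiv φ.toAddEquiv hsemi k h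

theorem isLocalizedModule_mk :
    IsLocalizedModule S (TensorProduct.mk A B H 1) :=
  (isLocalizedModule_iff_isBaseChange S B _).mpr (TensorProduct.isBaseChange A H B)

theorem hasSk_localization_of_tensor [Module.Finite A H] (k : ℕ)
    (h : LocCoh.HasSk k B (B ⊗[A] H)) : LocCoh.HasSk k (Localization S) (LocalizedModule S H) := by
  haveI := isLocalizedModule_mk S B H
  exact hasSk_localization_of_isLocalizedModule S B H (TensorProduct.mk A B H 1) k h

theorem nontrivial_tensor_of_localized (hn : Nontrivial (LocalizedModule S H)) :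
    Nontrivial (B ⊗[A] H) := by
  haveI := isLocalizedModule_mk S B H
  exact (IsLocalizedModule.iso S (TensorProduct.mk A B H 1)).symm.toEquiv.nontrivial

end Loc

section Height

attribute [local instance] MvPolynomial.algebraMvPolynomial

/-- the height of the kernel of a presentation does not drop under localization of the base -/
theorem height_ker_psiBC (R A : Type u) [CommRing R] [CommRing A] [Algebra R A] (M : Submonoid R)
    (R' : Type u) [CommRing R'] [Algebra R R'] [IsLocalization M R'] (n : ℕ)
    (ψ : MvPolynomial (Fin n) R →ₐ[R] A) :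
    (RingHom.ker ψ.toRingHom).height ≤ (RingHom.ker (psiBC (R' := R') ψ).toRingHom).height := by
  have hle : RingHom.ker ψ.toRingHom ≤
      (RingHom.ker (psiBC (R' := R') ψ).toRingHom).under (MvPolynomial (Fin n) R) := by
    intro x hx
    rw [Ideal.under_def, Ideal.mem_comap, RingHom.mem_ker]
    change psiBC (R' := R') ψ (MvPolynomial.map (algebraMap R R') x) = 0
    rw [← Groth.Agent.Helper8.ShF.betaBC_eq_map, psiBC_betaBC]
    have h0 : ψ x = 0 := hx
    rw [h0, TensorProduct.tmul_zero]
  refine (Ideal.height_mono hle).trans (le_of_eq ?_)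
  exact IsLocalization.height_under (M.map (MvPolynomial.C (σ := Fin n))) _

end Height

end Groth.Agent.Helper8.CMExt
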