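import Mathlib

/-!
# Comparison of right exact functors with tensor products (helper8)

A natural transformation `- ⊗ X ⟶ G` to an additive, right exact functor `G` on modules which
is bijective on `R` is bijective on all finitely generated modules (over a Noetherian ring).
-/

set_option autoImplicit false
universe u

namespace Groth.Agent.Helper8.Canon

open TensorProduct CategoryTheory

variable {R : Type u} [CommRing R]

/-- right exactness of a functor on modules, elementwise. -/
def RightExact (G : ModuleCat.{u} R ⥤ ModuleCat.{u} R) : Prop :=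
  ∀ ⦃M N P : ModuleCat.{u} R⦄ (f : M ⟶ N) (g : N ⟶ P), Function.Exact f.hom g.hom →
    Function.Surjective g.hom →
    Function.Exact (G.map f).hom (G.map g).hom ∧ Function.Surjective (G.map g).hom

variable (X : Type u) [AddCommGroup X] [Module R X] (G : ModuleCat.{u} R ⥤ ModuleCat.{u} R)

/-- a natural transformation `- ⊗ X ⟶ G`, elementwise. -/
structure Comparison where
  τ : ∀ M : ModuleCat.{u} R, (M ⊗[R] X) →ₗ[R] G.obj M
  nat : ∀ ⦃M N : ModuleCat.{u} R⦄ (f : M ⟶ N),
    (G.map f).hom ∘ₗ τ M = τ N ∘ₗ f.hom.rTensor X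

variable {X G}

theorem Comparison.nat_apply (c : Comparison X G) {M N : ModuleCat.{u} R} (f : M ⟶ N)
    (z : M ⊗[R] X) : (G.map f).hom (c.τ M z) = c.τ N (f.hom.rTensor X z) :=
  LinearMap.congr_fun (c.nat f) z

section Free

variable (n : ℕ)

/-- the free module of rank `n` -/
abbrev Fr (R : Type u) [CommRing R] (n : ℕ) : ModuleCat.{u} R := ModuleCat.of R (Fin n → R)

/-- coordinate inclusion -/
abbrev inc (i : Fin n) : ModuleCat.of R R ⟶ Fr R n :=
  ModuleCat.ofHom (LinearMap.single R (fun _ : Fin n => R) i)

/-- coordinate projection -/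
abbrev prj (i : Fin n) : Fr R n ⟶ ModuleCat.of R R :=
  ModuleCat.ofHom (LinearMap.proj (R := R) (φ := fun _ : Fin n => R) i)

theorem sum_single_comp_proj :
    ∑ i : Fin n, (LinearMap.single R (fun _ : Fin n => R) i) ∘ₗ
      (LinearMap.proj (R := R) (φ := fun _ : Fin n => R) i) = LinearMap.id := by
  ext v j
  simp [Finset.sum_apply, Pi.single_apply]

theorem sum_prj_inc : ∑ i : Fin n, prj (R := R) n i ≫ inc n i = 𝟙 (Fr R n) := by
  apply ModuleCat.hom_ext
  have h := sum_single_comp_proj (R := R) n
  rw [ModuleCat.hom_id]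
  rw [← h]
  have : ∀ s : Finset (Fin n), (∑ i ∈ s, prj (R := R) n i ≫ inc n i).hom =
      ∑ i ∈ s, (LinearMap.single R (fun _ : Fin n => R) i) ∘ₗ
        (LinearMap.proj (R := R) (φ := fun _ : Fin n => R) i) := by
    intro s
    induction s using Finset.induction_on with
    | empty => simp
    | insert a s ha ih =>
      rw [Finset.sum_insert ha, Finset.sum_insert ha, ModuleCat.hom_add, ih]
      rfl
  exact this _

variable [G.Additive]

theorem Comparison.free_surjective (c : Comparison X G)
    (hR : Function.Surjective (c.τ (ModuleCat.of R R))) :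
    Function.Surjective (c.τ (Fr R n)) := by
  intro y
  have h1 : y = ∑ i : Fin n, (G.map (inc n i)).hom ((G.map (prj n i)).hom y) := by
    have h2 : (G.map (∑ i : Fin n, prj (R := R) n i ≫ inc n i)).hom y = y := by
      rw [sum_prj_inc, G.map_id]; rfl
    rw [G.map_sum] at h2
    conv_lhs => rw [← h2]
    have : ∀ s : Finset (Fin n), (∑ i ∈ s, G.map (prj (R := R) n i ≫ inc n i)).hom y =
        ∑ i ∈ s, (G.map (inc n i)).hom ((G.map (prj n i)).hom y) := by
      intro s
      induction s using Finset.induction_on with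
      | empty => simp
      | insert a s ha ih =>
        rw [Finset.sum_insert ha, Finset.sum_insert ha, ModuleCat.hom_add, LinearMap.add_apply, ih,
          G.map_comp]
        rfl
    exact this _
  choose z hz using fun i : Fin n => hR ((G.map (prj n i)).hom y)
  refine ⟨∑ i : Fin n, (inc (R := R) n i).hom.rTensor X (z i), ?_⟩
  rw [map_sum, h1]
  refine Finset.sum_congr rfl fun i _ => ?_
  rw [← c.nat_apply, hz]

omit [G.Additive] in
theorem Comparison.free_injective (c : Comparison X G)
    (hR : Function.Injective (c.τ (ModuleCat.of R R))) :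
    Function.Injective (c.τ (Fr R n)) := by
  rw [injective_iff_map_eq_zero]
  intro z hz
  have h0 : ∀ i : Fin n, (prj (R := R) n i).hom.rTensor X z = 0 := by
    intro i
    apply hR
    rw [← c.nat_apply, hz, map_zero, map_zero]
  have h1 : z = ∑ i : Fin n, (inc (R := R) n i).hom.rTensor X ((prj (R := R) n i).hom.rTensor X z) := by
    have h2 : (LinearMap.rTensorHom X (∑ i : Fin n, (LinearMap.single R (fun _ : Fin n => R) i) ∘ₗ
      (LinearMap.proj (R := R) (φ := fun _ : Fin n => R) i))) z = z := by
      rw [sum_single_comp_proj]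
      simp
    rw [map_sum, LinearMap.sum_apply] at h2
    conv_lhs => rw [← h2]
    refine Finset.sum_congr rfl fun i _ => ?_
    rw [LinearMap.coe_rTensorHom, LinearMap.rTensor_comp]
    rfl
  rw [h1]
  refine Finset.sum_eq_zero fun i _ => ?_
  rw [h0, map_zero]

theorem Comparison.free_bijective (c : Comparison X G)
    (hR : Function.Bijective (c.τ (ModuleCat.of R R))) :
    Function.Bijective (c.τ (Fr R n)) :=
  ⟨c.free_injective n hR.1, c.free_surjective n hR.2⟩

end Free

variable [G.Additive]

/-- the comparison map is bijective on finitely generated modules. -/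
theorem Comparison.bijective [IsNoetherianRing R] (c : Comparison X G) (hG : RightExact G)
    (hR : Function.Bijective (c.τ (ModuleCat.of R R)))
    (M : ModuleCat.{u} R) [Module.Finite R M] : Function.Bijective (c.τ M) := by
  obtain ⟨a, π, hπ⟩ := Module.Finite.exists_fin' R M
  have hker : Module.Finite R (LinearMap.ker π) := inferInstance
  obtain ⟨b, ρ, hρ⟩ := Module.Finite.exists_fin' R (LinearMap.ker π)
  let f : (Fin b → R) →ₗ[R] (Fin a → R) := (LinearMap.ker π).subtype ∘ₗ ρ
  have hex : Function.Exact f π := by
    intro y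
    constructor
    · intro hy
      obtain ⟨x, hx⟩ := hρ ⟨y, hy⟩
      exact ⟨x, by change ((LinearMap.ker π).subtype (ρ x)) = y; rw [hx]; rfl⟩
    · rintro ⟨x, rfl⟩
      exact (ρ x).2
  let F : Fr R b ⟶ Fr R a := ModuleCat.ofHom f
  let P : Fr R a ⟶ M := ModuleCat.ofHom π
  obtain ⟨hGex, hGsurj⟩ := hG F P hex hπ
  exact LinearMap.bijective_of_surjective_of_bijective_of_right_exact
    (f.rTensor X) (π.rTensor X) (G.map F).hom (G.map P).hom
    (c.τ (Fr R b)) (c.τ (Fr R a)) (c.τ M) (c.nat F) (c.nat P)
    (rTensor_exact X hex hπ) hGex (c.free_surjective b hR.2) (c.free_bijective a hR)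
    (LinearMap.rTensor_surjective X hπ) hGsurj

/-- the comparison equivalence -/
noncomputable def Comparison.equiv [IsNoetherianRing R] (c : Comparison X G) (hG : RightExact G)
    (hR : Function.Bijective (c.τ (ModuleCat.of R R)))
    (M : ModuleCat.{u} R) [Module.Finite R M] : (M ⊗[R] X) ≃ₗ[R] G.obj M :=
  LinearEquiv.ofBijective (c.τ M) (c.bijective hG hR M)

end Groth.Agent.Helper8.Canon
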