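import Groth.Agent.Lib.Helper8.Canon1
import Groth.Agent.Lib.Helper8.LCTop

/-!
# Right exactness of top local cohomology and comparison with the tensor product (helper8)
-/

set_option autoImplicit false
universe u

namespace Groth.Agent.Helper8.Canon

open TensorProduct CategoryTheory Groth.Agent.Helper8.LC

variable {R : Type u} [CommRing R] (I : Ideal R) (n : ℕ)

instance lcAdditive : (localCohomology I n).Additive where
  map_add := by
    intro M N f g
    apply ModuleCat.hom_ext
    have := Hmap_add I n f.hom g.hom
    exact this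

/-- If `H^{n+1}_I` vanishes identically then `H^n_I` is right exact. -/
theorem rightExact_localCohomology
    (hcd : ∀ (N : Type u) [AddCommGroup N] [Module R N], Subsingleton (H I (n + 1) N)) :
    RightExact (localCohomology I n) := by
  intro M N P f g hex hg
  have hsurj : ∀ {A B : Type u} [AddCommGroup A] [Module R A] [AddCommGroup B] [Module R B]
      (φ : A →ₗ[R] B), Function.Surjective φ → Function.Surjective (Hmap I n φ) := by
    intro A B _ _ _ _ φ hφ
    have := hcd (LinearMap.ker φ)
    exact (isSES_of_surjective hφ).Hmap_g_surjective I n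
  refine ⟨?_, hsurj g.hom hg⟩
  -- factor `f` through the kernel of `g`
  let K : Submodule R N := LinearMap.ker g.hom
  let f' : M →ₗ[R] K := f.hom.codRestrict K (fun x => hex.apply_apply_eq_zero x)
  have hf' : Function.Surjective f' := by
    rintro ⟨y, hy⟩
    obtain ⟨x, hx⟩ := (hex y).mp hy
    exact ⟨x, Subtype.ext hx⟩
  have hfac : f.hom = K.subtype ∘ₗ f' := rfl
  have hS := (isSES_of_surjective hg).exact_Hmap I n
  have h1 : Function.Exact (Hmap I n f.hom) (Hmap I n g.hom) := by
    intro y
    rw [hS y]
    constructor
    · rintro ⟨x, rfl⟩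
      obtain ⟨w, rfl⟩ := hsurj f' hf' x
      refine ⟨w, ?_⟩
      rw [hfac, Hmap_comp]; rfl
    · rintro ⟨w, rfl⟩
      refine ⟨Hmap I n f' w, ?_⟩
      rw [hfac, Hmap_comp]; rfl
  exact h1

/-- the bilinear map `M × H^n_I(R) → H^n_I(M)` -/
noncomputable def lcβ (M : ModuleCat.{u} R) :
    M →ₗ[R] (H I n R →ₗ[R] (localCohomology I n).obj M) where
  toFun m := Hmap I n (LinearMap.toSpanSingleton R M m)
  map_add' m m' := by
    rw [← Hmap_add]
    congr 1
    ext
    simp
  map_smul' r m := by
    rw [RingHom.id_apply, ← Hmap_smul]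
    congr 1
    ext
    simp

/-- the comparison `M ⊗ H^n_I(R) → H^n_I(M)` -/
noncomputable def lcComparison : Comparison (H I n R) (localCohomology I n) where
  τ M := TensorProduct.lift (lcβ I n M)
  nat := by
    intro M N f
    apply TensorProduct.ext'
    intro m h
    change ((localCohomology I n).map f).hom (Hmap I n (LinearMap.toSpanSingleton R M m) h) =
      Hmap I n (LinearMap.toSpanSingleton R N (f.hom m)) h
    have h1 : ((localCohomology I n).map f).hom = Hmap I n f.hom := rfl
    rw [h1, ← Hmap_comp_apply]
    congr 2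
    ext
    simp

theorem lcComparison_tmul (M : ModuleCat.{u} R) (m : M) (h : H I n R) :
    (lcComparison I n).τ M (m ⊗ₜ h) = Hmap I n (LinearMap.toSpanSingleton R M m) h := rfl

theorem lcComparison_bijective_self :
    Function.Bijective ((lcComparison I n).τ (ModuleCat.of R R)) := by
  have h : (lcComparison I n).τ (ModuleCat.of R R) = (TensorProduct.lid R (H I n R)).toLinearMap := by
    apply TensorProduct.ext'
    intro r h
    rw [lcComparison_tmul]
    have : LinearMap.toSpanSingleton R R r = r • (LinearMap.id : R →ₗ[R] R) := by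
      ext; simp
    change Hmap I n (LinearMap.toSpanSingleton R R r) h = r • h
    rw [this, Hmap_smul_id]
  rw [h]
  exact (TensorProduct.lid R (H I n R)).bijective

/-- `M ⊗ H^n_I(R) ≃ H^n_I(M)` for finitely generated `M` when `H^{n+1}_I` vanishes. -/
noncomputable def lcTensorEquiv [IsNoetherianRing R]
    (hcd : ∀ (N : Type u) [AddCommGroup N] [Module R N], Subsingleton (H I (n + 1) N))
    (M : Type u) [AddCommGroup M] [Module R M] [Module.Finite R M] :
    (M ⊗[R] H I n R) ≃ₗ[R] H I n M :=
  (lcComparison I n).equiv (rightExact_localCohomology I n hcd) (lcComparison_bijective_self I n)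
    (ModuleCat.of R M)

theorem lcTensorEquiv_tmul [IsNoetherianRing R]
    (hcd : ∀ (N : Type u) [AddCommGroup N] [Module R N], Subsingleton (H I (n + 1) N))
    (M : Type u) [AddCommGroup M] [Module R M] [Module.Finite R M] (m : M) (h : H I n R) :
    lcTensorEquiv I n hcd M (m ⊗ₜ h) = Hmap I n (LinearMap.toSpanSingleton R M m) h := rfl

end Groth.Agent.Helper8.Canon
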