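import Groth.Agent.Lib.Helper8.Canon1

/-!
# The functor `M ↦ Hom(Hom(M, K), E)` for injective `E` (helper8)
-/

set_option autoImplicit false
universe u

namespace Groth.Agent.Helper8.Canon

open TensorProduct CategoryTheory

variable (R : Type u) [CommRing R]
variable (K E : Type u) [AddCommGroup K] [Module R K] [AddCommGroup E] [Module R E]

section Plain

variable {M N P : Type u} [AddCommGroup M] [Module R M] [AddCommGroup N] [Module R N]
  [AddCommGroup P] [Module R P]

/-- `Hom(Hom(M,K),E) → Hom(Hom(N,K),E)` induced by `f : M → N` -/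
noncomputable abbrev ddMap (f : M →ₗ[R] N) :
    ((M →ₗ[R] K) →ₗ[R] E) →ₗ[R] ((N →ₗ[R] K) →ₗ[R] E) :=
  LinearMap.lcomp R E (LinearMap.lcomp R K f)

theorem ddMap_apply (f : M →ₗ[R] N) (φ : (M →ₗ[R] K) →ₗ[R] E) (v : N →ₗ[R] K) :
    ddMap R K E f φ v = φ (v ∘ₗ f) := rfl

theorem ddMap_surjective [Module.Injective R E] (g : N →ₗ[R] P) (hg : Function.Surjective g) :
    Function.Surjective (ddMap R K E g) := by
  intro ψ
  have hinj : Function.Injective (LinearMap.lcomp R K g) := by
    intro v v' h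
    ext y
    obtain ⟨x, rfl⟩ := hg y
    exact LinearMap.congr_fun h x
  obtain ⟨φ, hφ⟩ := Module.Injective.out (R := R) (Q := E) _ hinj ψ
  refine ⟨φ, ?_⟩
  ext v
  exact hφ v

theorem ddMap_exact [Module.Injective R E] (f : M →ₗ[R] N) (g : N →ₗ[R] P)
    (hex : Function.Exact f g) (hg : Function.Surjective g) :
    Function.Exact (ddMap R K E f) (ddMap R K E g) := by
  intro φ
  constructor
  · intro hφ
    -- `φ` vanishes on the kernel of `- ∘ f`
    have hle : LinearMap.ker (LinearMap.lcomp R K f) ≤ LinearMap.ker φ := by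
      intro u hu
      have hu' : u ∘ₗ f = 0 := hu
      -- `u` factors through `g`
      have hker : LinearMap.ker g ≤ LinearMap.ker u := by
        intro y hy
        obtain ⟨x, rfl⟩ := (hex y).mp hy
        exact LinearMap.congr_fun hu' x
      -- descend along the surjection `g`
      let e := g.quotKerEquivOfSurjective hg
      let v : P →ₗ[R] K := (LinearMap.ker g).liftQ u hker ∘ₗ e.symm.toLinearMap
      have hv : v ∘ₗ g = u := by
        ext y
        change (LinearMap.ker g).liftQ u hker (e.symm (g y)) = u y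
        have : e.symm (g y) = Submodule.Quotient.mk y := by
          rw [LinearEquiv.symm_apply_eq]
          rfl
        rw [this]
        rfl
      have h1 := LinearMap.congr_fun hφ v
      change φ (v ∘ₗ g) = 0 at h1
      rw [hv] at h1
      exact h1
    let φbar := (LinearMap.ker (LinearMap.lcomp R K f)).liftQ φ hle
    let ι := (LinearMap.ker (LinearMap.lcomp R K f)).liftQ (LinearMap.lcomp R K f) le_rfl
    have hι : Function.Injective ι := by
      rw [← LinearMap.ker_eq_bot]
      exact Submodule.ker_liftQ_eq_bot _ _ _ le_rfl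
    obtain ⟨ψ, hψ⟩ := Module.Injective.out (R := R) (Q := E) ι hι φbar
    refine ⟨ψ, ?_⟩
    ext u
    change ψ (u ∘ₗ f) = φ u
    have := hψ (Submodule.Quotient.mk u)
    exact this
  · rintro ⟨ψ, rfl⟩
    ext v
    change ψ ((v ∘ₗ g) ∘ₗ f) = 0
    have : (v ∘ₗ g) ∘ₗ f = 0 := by
      ext x
      change v (g (f x)) = 0
      rw [hex.apply_apply_eq_zero, map_zero]
    rw [this, map_zero]

end Plain

/-- the functor `M ↦ Hom(Hom(M, K), E)` -/
noncomputable def ddFunctor : ModuleCat.{u} R ⥤ ModuleCat.{u} R where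
  obj M := ModuleCat.of R ((M →ₗ[R] K) →ₗ[R] E)
  map f := ModuleCat.ofHom (ddMap R K E f.hom)
  map_id M := by
    apply ModuleCat.hom_ext
    ext φ u
    rfl
  map_comp f g := by
    apply ModuleCat.hom_ext
    ext φ u
    rfl

instance ddAdditive : (ddFunctor R K E).Additive where
  map_add := by
    intro M N f g
    apply ModuleCat.hom_ext
    change ddMap R K E (f.hom + g.hom) = ddMap R K E f.hom + ddMap R K E g.hom
    ext φ v
    change φ (v ∘ₗ (f.hom + g.hom)) = φ (v ∘ₗ f.hom) + φ (v ∘ₗ g.hom)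
    rw [LinearMap.comp_add, map_add]

theorem rightExact_ddFunctor [Module.Injective R E] : RightExact (ddFunctor R K E) := by
  intro M N P f g hex hg
  exact ⟨ddMap_exact R K E f.hom g.hom hex hg, ddMap_surjective R K E g.hom hg⟩

/-- the plain comparison map `M ⊗ Hom(K, E) → Hom(Hom(M, K), E)` -/
noncomputable def ddτ (M : Type u) [AddCommGroup M] [Module R M] :
    (M ⊗[R] (K →ₗ[R] E)) →ₗ[R] ((M →ₗ[R] K) →ₗ[R] E) :=
  TensorProduct.lift
    ((LinearMap.llcomp R (M →ₗ[R] K) K E).flip ∘ₗ (LinearMap.applyₗ : M →ₗ[R] (M →ₗ[R] K) →ₗ[R] K))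

theorem ddτ_tmul (M : Type u) [AddCommGroup M] [Module R M] (m : M) (φ : K →ₗ[R] E)
    (u : M →ₗ[R] K) : ddτ R K E M (m ⊗ₜ φ) u = φ (u m) := rfl

/-- the comparison `M ⊗ Hom(K, E) → Hom(Hom(M, K), E)` -/
noncomputable def ddComparison : Comparison (K →ₗ[R] E) (ddFunctor R K E) where
  τ M := ddτ R K E M
  nat := by
    intro M N f
    apply TensorProduct.ext'
    intro m φ
    rfl

theorem ddτ_bijective_self : Function.Bijective (ddτ R K E R) := by
  let e : (K →ₗ[R] E) ≃ₗ[R] ((R →ₗ[R] K) →ₗ[R] E) :=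
    LinearEquiv.congrLeft E R (LinearMap.ringLmapEquivSelf R R K).symm
  have h : ddτ R K E R = e.toLinearMap ∘ₗ (TensorProduct.lid R (K →ₗ[R] E)).toLinearMap := by
    apply TensorProduct.ext'
    intro r φ
    ext u
    change φ (u r) = (r • φ) (u 1)
    rw [LinearMap.smul_apply, ← map_smul, ← map_smul, smul_eq_mul, mul_one]
  rw [h]
  exact e.bijective.comp (TensorProduct.lid R (K →ₗ[R] E)).bijective

theorem ddτ_bijective [IsNoetherianRing R] [Module.Injective R E]
    (M : Type u) [AddCommGroup M] [Module R M] [Module.Finite R M] :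
    Function.Bijective (ddτ R K E M) :=
  (ddComparison R K E).bijective (rightExact_ddFunctor R K E) (ddτ_bijective_self R K E)
    (ModuleCat.of R M)

/-- `M ⊗ Hom(K, E) ≃ Hom(Hom(M, K), E)` for finitely generated `M` and injective `E`. -/
noncomputable def ddTensorEquiv [IsNoetherianRing R] [Module.Injective R E]
    (M : Type u) [AddCommGroup M] [Module R M] [Module.Finite R M] :
    (M ⊗[R] (K →ₗ[R] E)) ≃ₗ[R] ((M →ₗ[R] K) →ₗ[R] E) :=
  LinearEquiv.ofBijective (ddτ R K E M) (ddτ_bijective R K E M)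

theorem ddTensorEquiv_tmul [IsNoetherianRing R] [Module.Injective R E]
    (M : Type u) [AddCommGroup M] [Module R M] [Module.Finite R M] (m : M) (φ : K →ₗ[R] E)
    (u : M →ₗ[R] K) : ddTensorEquiv R K E M (m ⊗ₜ φ) u = φ (u m) := rfl

end Groth.Agent.Helper8.Canon
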