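import Groth.Agent.Lib.Helper8.Canon2
import Groth.Agent.Lib.Helper8.Canon3
import Groth.Agent.Lib.Helper8.LCGNV
import Groth.Agent.Lib.Helper8.Matlis4

/-!
# Canonical modules: `H^n_m(M) ≅ Hom(Hom(M,K),E)` and associated primes (helper8)
-/

set_option autoImplicit false
universe u

namespace Groth.Agent.Helper8.Canon

open TensorProduct IsLocalRing Groth.Agent.Helper8 Groth.Agent.Helper8.LC

section Dim

variable {R : Type u} [CommRing R]

/-- for primes `p < q`, `dim R/q + 1 ≤ dim R/p` -/
theorem ringKrullDim_quotient_add_one_le_of_lt {p q : Ideal R} [hp : p.IsPrime] (hlt : p < q) :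
    ringKrullDim (R ⧸ q) + 1 ≤ ringKrullDim (R ⧸ p) := by
  obtain ⟨r, hrq, hrp⟩ := Set.exists_of_ssubset hlt
  let r' : R ⧸ p := Ideal.Quotient.mk p r
  have hr' : r' ∈ nonZeroDivisors (R ⧸ p) := by
    apply mem_nonZeroDivisors_of_ne_zero
    intro h
    exact hrp (Ideal.Quotient.eq_zero_iff_mem.mp h)
  refine le_trans ?_ (ringKrullDim_quotient_succ_le_of_nonZeroDivisor hr')
  gcongr
  -- `R/q` is a quotient of `(R/p)/(r')`
  have hle : Ideal.span {r'} ≤ Ideal.map (Ideal.Quotient.mk p) q := by
    rw [Ideal.span_singleton_le_iff_mem]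
    exact Ideal.mem_map_of_mem _ hrq
  let φ : (R ⧸ p) ⧸ Ideal.span {r'} →+* (R ⧸ p) ⧸ Ideal.map (Ideal.Quotient.mk p) q :=
    Ideal.Quotient.factor hle
  have hφ : Function.Surjective φ := Ideal.Quotient.factor_surjective hle
  let e : ((R ⧸ p) ⧸ Ideal.map (Ideal.Quotient.mk p) q) ≃+* R ⧸ q :=
    DoubleQuot.quotQuotEquivQuotOfLE hlt.le
  have := ringKrullDim_le_of_surjective (e.toRingHom.comp φ) (e.surjective.comp hφ)
  exact this

end Dim

variable {R : Type u} [CommRing R] [IsNoetherianRing R] [IsLocalRing R] {n : ℕ}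
  {E : Type u} [AddCommGroup E] [Module R E] {f : ResidueField R →ₗ[R] E}
  {K : Type u} [AddCommGroup K] [Module R K]

/-- `H^n_m(M) ≅ Hom(Hom(M,K),E)` for a canonical module `K` and `M` finitely generated. -/
noncomputable def canonDual (hn : ringKrullDim R = n) (hf : InjHull.IsInjectiveHull f)
    (eK : (K →ₗ[R] E) ≃ₗ[R] H (maximalIdeal R) n R)
    (M : Type u) [AddCommGroup M] [Module R M] [Module.Finite R M] :
    H (maximalIdeal R) n M ≃ₗ[R] ((M →ₗ[R] K) →ₗ[R] E) :=
  have hinj : Module.Injective R E := hf.isInjective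
  have hcd : ∀ (N : Type u) [AddCommGroup N] [Module R N],
      Subsingleton (H (maximalIdeal R) (n + 1) N) := fun N _ _ =>
    H_subsingleton_of_ringKrullDim_lt (maximalIdeal R) n hn N (n + 1) (by omega)
  (lcTensorEquiv (maximalIdeal R) n hcd M).symm ≪≫ₗ
    TensorProduct.congr (LinearEquiv.refl R M) eK.symm ≪≫ₗ ddTensorEquiv R K E M

theorem subsingleton_hom_iff (hn : ringKrullDim R = n) (hf : InjHull.IsInjectiveHull f)
    (eK : (K →ₗ[R] E) ≃ₗ[R] H (maximalIdeal R) n R)
    (M : Type u) [AddCommGroup M] [Module R M] [Module.Finite R M] :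
    Subsingleton (M →ₗ[R] K) ↔ Subsingleton (H (maximalIdeal R) n M) := by
  constructor
  · intro h
    have : Subsingleton ((M →ₗ[R] K) →ₗ[R] E) :=
      ⟨fun a b => LinearMap.ext fun u => by rw [Subsingleton.elim u 0, map_zero, map_zero]⟩
    exact (canonDual hn hf eK M).toEquiv.subsingleton
  · intro h
    have : Subsingleton ((M →ₗ[R] K) →ₗ[R] E) := (canonDual hn hf eK M).symm.toEquiv.subsingleton
    exact (Matlis.applyₗ_injective hf (M →ₗ[R] K)).subsingleton

theorem nontrivial_hom_iff (hn : ringKrullDim R = n) (hf : InjHull.IsInjectiveHull f)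
    (eK : (K →ₗ[R] E) ≃ₗ[R] H (maximalIdeal R) n R)
    (M : Type u) [AddCommGroup M] [Module R M] [Module.Finite R M] :
    Nontrivial (M →ₗ[R] K) ↔ Nontrivial (H (maximalIdeal R) n M) := by
  rw [← not_subsingleton_iff_nontrivial, ← not_subsingleton_iff_nontrivial,
    subsingleton_hom_iff hn hf eK M]

/-- `Hom(R/p, K) ≠ 0` iff `dim R/p = n`. -/
theorem nontrivial_hom_quotient_iff (hn : ringKrullDim R = n) (hf : InjHull.IsInjectiveHull f)
    (eK : (K →ₗ[R] E) ≃ₗ[R] H (maximalIdeal R) n R) (p : Ideal R) :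
    Nontrivial ((R ⧸ p) →ₗ[R] K) ↔ ringKrullDim (R ⧸ p) = n := by
  rw [nontrivial_hom_iff hn hf eK (R ⧸ p)]
  constructor
  · intro h
    by_contra hne
    have hle : ringKrullDim (R ⧸ p) ≤ n := hn ▸ ringKrullDim_quotient_le p
    have hlt : Module.supportDim R (R ⧸ p) < (n : WithBot ℕ∞) := by
      rw [Module.supportDim_quotient_eq_ringKrullDim]
      exact lt_of_le_of_ne hle hne
    have := H_subsingleton_of_supportDim_lt (maximalIdeal R) (R ⧸ p) n hlt
    exact not_subsingleton _ this
  · intro h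
    apply nontrivial_H_of_supportDim_eq
    rw [Module.supportDim_quotient_eq_ringKrullDim, h]

/-- The associated primes of a canonical module are the primes of maximal dimension. -/
theorem associatedPrimes_canon (hn : ringKrullDim R = n) (hf : InjHull.IsInjectiveHull f)
    (eK : (K →ₗ[R] E) ≃ₗ[R] H (maximalIdeal R) n R) :
    associatedPrimes R K = {p : Ideal R | p.IsPrime ∧ ringKrullDim (R ⧸ p) = n} := by
  have hsub : ∀ q : Ideal R, q ∈ associatedPrimes R K → q.IsPrime ∧ ringKrullDim (R ⧸ q) = n := by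
    intro q hq
    have hq' := hq
    rw [AssociatedPrimes.mem_iff, isAssociatedPrime_iff] at hq'
    obtain ⟨hqp, x, hx⟩ := hq'
    refine ⟨hqp, ?_⟩
    rw [← nontrivial_hom_quotient_iff hn hf eK q]
    have hle : q ≤ LinearMap.ker (LinearMap.toSpanSingleton R K x) := by
      intro r hr
      rw [hx, Submodule.mem_colon_singleton, Submodule.mem_bot] at hr
      rw [LinearMap.mem_ker, LinearMap.toSpanSingleton_apply]
      exact hr
    let u : (R ⧸ q) →ₗ[R] K := Submodule.liftQ q (LinearMap.toSpanSingleton R K x) hle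
    have hu1 : u (Submodule.Quotient.mk 1) = x := by
      change (LinearMap.toSpanSingleton R K x) 1 = x
      rw [LinearMap.toSpanSingleton_apply, one_smul]
    have hx0 : x ≠ 0 := by
      rintro rfl
      apply hqp.ne_top
      rw [hx]
      ext r
      simp [Submodule.mem_colon_singleton]
    refine ⟨⟨u, 0, ?_⟩⟩
    intro h0
    apply hx0
    rw [← hu1, h0, LinearMap.zero_apply]
  ext p
  constructor
  · exact hsub p
  · rintro ⟨hpp, hpd⟩
    have hnt := (nontrivial_hom_quotient_iff hn hf eK p).mpr hpd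
    obtain ⟨u, hu⟩ := exists_ne (0 : (R ⧸ p) →ₗ[R] K)
    let x : K := u (Submodule.Quotient.mk 1)
    have hx0 : x ≠ 0 := by
      intro h0
      apply hu
      refine LinearMap.ext fun r => ?_
      obtain ⟨r, rfl⟩ := Submodule.Quotient.mk_surjective _ r
      have : (Submodule.Quotient.mk r : R ⧸ p) = r • Submodule.Quotient.mk 1 := by
        rw [← Submodule.Quotient.mk_smul, smul_eq_mul, mul_one]
      rw [this, map_smul]
      change r • x = _
      rw [h0, smul_zero, LinearMap.zero_apply]
    obtain ⟨q, hq, hle⟩ := exists_le_isAssociatedPrime_of_isNoetherianRing R x hx0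
    have hpq : p ≤ q := by
      refine le_trans ?_ hle
      intro r hr
      rw [Submodule.mem_colon_singleton, Submodule.mem_bot]
      change r • u (Submodule.Quotient.mk 1) = 0
      rw [← map_smul, ← Submodule.Quotient.mk_smul, smul_eq_mul, mul_one]
      have : (Submodule.Quotient.mk r : R ⧸ p) = 0 := (Submodule.Quotient.mk_eq_zero p).mpr hr
      rw [this, map_zero]
    obtain ⟨hqp, hqd⟩ := hsub q hq
    rcases eq_or_lt_of_le hpq with heq | hlt
    · rw [heq]; exact hq
    · exfalso
      have h1 := ringKrullDim_quotient_add_one_le_of_lt hlt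
      rw [hqd, hpd] at h1
      have h2 : ((n + 1 : ℕ) : WithBot ℕ∞) ≤ (n : WithBot ℕ∞) := by exact_mod_cast h1
      have h3 : n + 1 ≤ n := by exact_mod_cast h2
      omega

end Groth.Agent.Helper8.Canon
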