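import Groth.Agent.Lib.Helper8.Canon4
import Groth.Agent.Lib.Helper8.LCGNV3

/-!
# Canonical modules: parameters are regular (helper8)
-/

set_option autoImplicit false
universe u

namespace Groth.Agent.Helper8.Canon

open TensorProduct IsLocalRing Groth.Agent.Helper8 Groth.Agent.Helper8.LC
open scoped Pointwise

section Dim

variable {R : Type u} [CommRing R] [IsNoetherianRing R] [IsLocalRing R]

omit [IsNoetherianRing R] in
/-- if `m ≤ rad I` then `dim R/I ≤ 0` -/
theorem ringKrullDim_quotient_le_zero_of_le_radical (I : Ideal R)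
    (h : maximalIdeal R ≤ I.radical) : ringKrullDim (R ⧸ I) ≤ 0 := by
  rw [ringKrullDim_quotient]
  have : Subsingleton (PrimeSpectrum.zeroLocus (R := R) I) := by
    refine ⟨fun p q => ?_⟩
    have hp : p.1.asIdeal = maximalIdeal R := by
      refine le_antisymm (le_maximalIdeal p.1.2.ne_top) ?_
      refine h.trans ?_
      rw [p.1.2.radical_le_iff]; exact p.2
    have hq : q.1.asIdeal = maximalIdeal R := by
      refine le_antisymm (le_maximalIdeal q.1.2.ne_top) ?_
      refine h.trans ?_
      rw [q.1.2.radical_le_iff]; exact q.2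
    exact Subtype.ext (PrimeSpectrum.ext (hp.trans hq.symm))
  exact Order.krullDim_nonpos_of_subsingleton

/-- if `J + (s)` is `m`-primary then `dim R/J ≤ |s|` -/
theorem ringKrullDim_quotient_le_card (J : Ideal R) (s : Finset R)
    (hs : (s : Set R) ⊆ maximalIdeal R)
    (hrad : maximalIdeal R ≤ (J ⊔ Ideal.span (s : Set R)).radical) :
    ringKrullDim (R ⧸ J) ≤ s.card := by
  by_cases hJ : J = ⊤
  · subst hJ
    rw [ringKrullDim_eq_bot_of_subsingleton]
    exact bot_le
  have : Nontrivial (R ⧸ J) := Ideal.Quotient.nontrivial_iff.mpr hJ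
  have : IsLocalRing (R ⧸ J) :=
    IsLocalRing.of_surjective' (Ideal.Quotient.mk J) Ideal.Quotient.mk_surjective
  classical
  let s' : Finset (R ⧸ J) := s.image (Ideal.Quotient.mk J)
  have hs' : (s' : Set (R ⧸ J)) ⊆ Ring.jacobson (R ⧸ J) := by
    intro x hx
    rw [← Ideal.jacobson_bot, IsLocalRing.jacobson_eq_maximalIdeal (⊥ : Ideal (R ⧸ J)) bot_ne_top]
    rw [Finset.mem_coe, Finset.mem_image] at hx
    obtain ⟨r, hr, rfl⟩ := hx
    rw [SetLike.mem_coe, mem_maximalIdeal, mem_nonunits_iff]
    intro hu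
    obtain ⟨y, hy⟩ := hu.exists_right_inv
    obtain ⟨t, rfl⟩ := Ideal.Quotient.mk_surjective y
    rw [← map_mul, ← map_one (Ideal.Quotient.mk J), Ideal.Quotient.eq] at hy
    have hJm : J ≤ maximalIdeal R := le_maximalIdeal hJ
    have h1 : r * t ∈ maximalIdeal R := Ideal.mul_mem_right _ _ (hs hr)
    have h2 : (1 : R) ∈ maximalIdeal R := by
      have := Ideal.sub_mem _ h1 (hJm hy)
      rwa [sub_sub_cancel] at this
    exact (Ideal.ne_top_iff_one _).mp (maximalIdeal.isMaximal R).ne_top h2
  refine le_trans (ringKrullDim_le_ringKrullDim_quotient_add_card s' hs') ?_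
  have h0 : ringKrullDim ((R ⧸ J) ⧸ Ideal.span (s' : Set (R ⧸ J))) ≤ 0 := by
    have hmap : Ideal.span (s' : Set (R ⧸ J)) = (Ideal.span (s : Set R)).map (Ideal.Quotient.mk J) := by
      rw [Ideal.map_span]
      congr 1
      simp [s']
    rw [hmap]
    rw [ringKrullDim_eq_of_ringEquiv (DoubleQuot.quotQuotEquivQuotSup J (Ideal.span (s : Set R)))]
    exact ringKrullDim_quotient_le_zero_of_le_radical _ hrad
  calc ringKrullDim ((R ⧸ J) ⧸ Ideal.span (s' : Set (R ⧸ J))) + (s'.card : WithBot ℕ∞)
      ≤ 0 + (s.card : WithBot ℕ∞) := by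
        gcongr
        exact_mod_cast Finset.card_image_le
    _ = s.card := zero_add _

omit [IsLocalRing R] [IsNoetherianRing R] in
/-- a finite module killed by `J` has dimension at most `dim R/J` -/
theorem supportDim_le_of_le_annihilator (J : Ideal R) (N : Type u) [AddCommGroup N] [Module R N]
    [Module.Finite R N] (h : J ≤ Module.annihilator R N) :
    Module.supportDim R N ≤ ringKrullDim (R ⧸ J) := by
  rw [Module.supportDim_eq_ringKrullDim_quotient_annihilator]
  exact ringKrullDim_le_of_surjective (Ideal.Quotient.factor h) (Ideal.Quotient.factor_surjective h)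

end Dim

section Chase

variable {R : Type u} [CommRing R] [IsNoetherianRing R] (I : Ideal R)

/-- `b` acts surjectively on `H^i_I(N)` if `dim N ≤ i` and `dim N/bN < i`. -/
theorem smul_surjective_H (N : Type u) [AddCommGroup N] [Module R N] [Module.Finite R N] (i : ℕ)
    (b : R) (h1 : Module.supportDim R N < ((i + 1 : ℕ) : WithBot ℕ∞))
    (h2 : Module.supportDim R (N ⧸ LinearMap.range (b • (LinearMap.id : N →ₗ[R] N))) <
      (i : WithBot ℕ∞)) (y : H I i N) : ∃ y' : H I i N, b • y' = y := by
  let β : N →ₗ[R] N := b • LinearMap.id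
  -- first step: `N ↠ bN`
  have hZ : Subsingleton (H I (i + 1) (LinearMap.ker β.rangeRestrict)) := by
    apply H_subsingleton_of_supportDim_lt
    exact lt_of_le_of_lt (Module.supportDim_le_of_injective _ (Submodule.injective_subtype _)) h1
  have hs1 : Function.Surjective (Hmap I i β.rangeRestrict) :=
    (isSES_of_surjective β.surjective_rangeRestrict).Hmap_g_surjective I i
  -- second step: `bN ↪ N`
  have hC : Subsingleton (H I i (N ⧸ LinearMap.range β)) :=
    H_subsingleton_of_supportDim_lt I _ i h2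
  have hs2 : Function.Surjective (Hmap I i (LinearMap.range β).subtype) :=
    (isSES_subtype_mkQ (LinearMap.range β)).Hmap_f_surjective I i
  obtain ⟨w, rfl⟩ := hs2 y
  obtain ⟨y', rfl⟩ := hs1 w
  refine ⟨y', ?_⟩
  rw [← Hmap_comp_apply, ← Hmap_smul_id]
  rfl

/-- the key divisibility on the `a`-torsion of top local cohomology -/
theorem exists_smul_eq_of_smul_eq_zero (i : ℕ) (a b : R)
    (hcd : ∀ (N : Type u) [AddCommGroup N] [Module R N], Subsingleton (H I (i + 1 + 1) N))
    (h1 : ringKrullDim (R ⧸ Ideal.span {a}) < ((i + 1 : ℕ) : WithBot ℕ∞))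
    (h2 : ringKrullDim (R ⧸ (Ideal.span {a} ⊔ Ideal.span {b})) < (i : WithBot ℕ∞))
    (h : H I (i + 1) R) (hah : a • h = 0) :
    ∃ h' : H I (i + 1) R, a • h' = 0 ∧ b • h' = h := by
  let α : R →ₗ[R] R := a • LinearMap.id
  let Z : Submodule R R := LinearMap.ker α
  have hZann : Ideal.span {a} ≤ Module.annihilator R Z := by
    rw [Ideal.span_singleton_le_iff_mem, Module.mem_annihilator]
    rintro ⟨z, hz⟩
    apply Subtype.ext
    exact hz
  have hZ1 : Subsingleton (H I (i + 1) Z) := by
    apply H_subsingleton_of_supportDim_lt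
    exact lt_of_le_of_lt (supportDim_le_of_le_annihilator _ _ hZann) h1
  have hZ2 : Subsingleton (H I (i + 1 + 1) Z) := hcd Z
  have hq_inj : Function.Injective (Hmap I (i + 1) Z.mkQ) :=
    (isSES_subtype_mkQ Z).Hmap_g_injective I (i + 1)
  have hq_surj : Function.Surjective (Hmap I (i + 1) Z.mkQ) :=
    (isSES_subtype_mkQ Z).Hmap_g_surjective I (i + 1)
  let abar : (R ⧸ Z) →ₗ[R] R := Z.liftQ α le_rfl
  have habar : Function.Injective abar := by
    rw [← LinearMap.ker_eq_bot]
    exact Submodule.ker_liftQ_eq_bot _ _ _ le_rfl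
  have hcomp : abar ∘ₗ Z.mkQ = α := Submodule.liftQ_mkQ _ _ _
  have hS := isSES_of_injective habar
  -- the cokernel `C = R / aR`
  have hCann : Ideal.span {a} ≤ Module.annihilator R (R ⧸ LinearMap.range abar) := by
    rw [Ideal.span_singleton_le_iff_mem, Module.mem_annihilator]
    intro c
    obtain ⟨r, rfl⟩ := Submodule.Quotient.mk_surjective _ c
    rw [← Submodule.Quotient.mk_smul, Submodule.Quotient.mk_eq_zero]
    exact ⟨Z.mkQ r, by rw [← LinearMap.comp_apply, hcomp]; rfl⟩
  have hC1 : Module.supportDim R (R ⧸ LinearMap.range abar) < ((i + 1 : ℕ) : WithBot ℕ∞) :=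
    lt_of_le_of_lt (supportDim_le_of_le_annihilator _ _ hCann) h1
  have hC2 : Module.supportDim R ((R ⧸ LinearMap.range abar) ⧸
      LinearMap.range (b • (LinearMap.id : (R ⧸ LinearMap.range abar) →ₗ[R] _))) <
      (i : WithBot ℕ∞) := by
    refine lt_of_le_of_lt (supportDim_le_of_le_annihilator _ _ ?_) h2
    rw [sup_le_iff, Ideal.span_singleton_le_iff_mem, Ideal.span_singleton_le_iff_mem,
      Module.mem_annihilator, Module.mem_annihilator]
    constructor
    · intro c
      obtain ⟨c, rfl⟩ := Submodule.Quotient.mk_surjective _ c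
      rw [← Submodule.Quotient.mk_smul, (Module.mem_annihilator.mp
        (hCann (Ideal.mem_span_singleton_self a))) c, Submodule.Quotient.mk_zero]
    · intro c
      obtain ⟨c, rfl⟩ := Submodule.Quotient.mk_surjective _ c
      rw [← Submodule.Quotient.mk_smul, Submodule.Quotient.mk_eq_zero]
      exact ⟨c, rfl⟩
  -- the chase
  have hker : Hmap I (i + 1) abar (Hmap I (i + 1) Z.mkQ h) = 0 := by
    rw [← Hmap_comp_apply, hcomp, Hmap_smul_id, hah]
  obtain ⟨y, hy⟩ := (hS.exact_δ_Hmap I i _).mp hker
  obtain ⟨y', rfl⟩ := smul_surjective_H I _ i b hC1 hC2 y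
  obtain ⟨h', hh'⟩ := hq_surj (Hδ I i hS y')
  refine ⟨h', ?_, ?_⟩
  · have : a • h' = Hmap I (i + 1) abar (Hmap I (i + 1) Z.mkQ h') := by
      rw [← Hmap_comp_apply, hcomp, Hmap_smul_id]
    rw [this, hh']
    exact (hS.exact_δ_Hmap I i _).mpr ⟨y', rfl⟩
  · apply hq_inj
    rw [map_smul, hh', ← map_smul, hy]

end Chase

section Regular

variable {R : Type u} [CommRing R] [IsNoetherianRing R] [IsLocalRing R] {n : ℕ}
  {E : Type u} [AddCommGroup E] [Module R E] {f : ResidueField R →ₗ[R] E}
  {K : Type u} [AddCommGroup K] [Module R K]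

theorem nontrivial_canon (hn : ringKrullDim R = n)
    (eK : (K →ₗ[R] E) ≃ₗ[R] H (maximalIdeal R) n R) : Nontrivial K := by
  have : Nontrivial (H (maximalIdeal R) n R) := by
    apply nontrivial_H_of_supportDim_eq
    rw [Module.supportDim_self_eq_ringKrullDim, hn]
  have h2 : Nontrivial (K →ₗ[R] E) := eK.toEquiv.nontrivial
  by_contra hK
  rw [not_nontrivial_iff_subsingleton] at hK
  obtain ⟨u, v, huv⟩ := h2
  exact huv (LinearMap.ext fun x => by rw [Subsingleton.elim x 0, map_zero, map_zero])

/-- an element with `dim R/a < n` is regular on the canonical module -/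
theorem isSMulRegular_canon (hn : ringKrullDim R = n) (hf : InjHull.IsInjectiveHull f)
    (eK : (K →ₗ[R] E) ≃ₗ[R] H (maximalIdeal R) n R) (a : R)
    (ha : ringKrullDim (R ⧸ Ideal.span {a}) < (n : WithBot ℕ∞)) : IsSMulRegular K a := by
  by_contra hreg
  have hmem : a ∈ ⋃ p ∈ associatedPrimes R K, (p : Set R) := by
    rw [biUnion_associatedPrimes_eq_compl_regular R K]
    exact hreg
  rw [Set.mem_iUnion₂] at hmem
  obtain ⟨p, hp, hap⟩ := hmem
  rw [associatedPrimes_canon hn hf eK] at hp
  obtain ⟨hpp, hpd⟩ := hp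
  have hle : Ideal.span {a} ≤ p := by
    rw [Ideal.span_singleton_le_iff_mem]; exact hap
  have := ringKrullDim_le_of_surjective (Ideal.Quotient.factor hle)
    (Ideal.Quotient.factor_surjective hle)
  rw [hpd] at this
  exact absurd (lt_of_le_of_lt this ha) (lt_irrefl _)

/-- second element of a system of parameters is regular on `K/aK` -/
theorem isSMulRegular_quot_canon (i : ℕ) (hn : ringKrullDim R = ((i + 1 : ℕ) : WithBot ℕ∞))
    (hf : InjHull.IsInjectiveHull f)
    (eK : (K →ₗ[R] E) ≃ₗ[R] H (maximalIdeal R) (i + 1) R) (a b : R)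
    (h1 : ringKrullDim (R ⧸ Ideal.span {a}) < ((i + 1 : ℕ) : WithBot ℕ∞))
    (h2 : ringKrullDim (R ⧸ (Ideal.span {a} ⊔ Ideal.span {b})) < (i : WithBot ℕ∞)) :
    IsSMulRegular (QuotSMulTop a K) b := by
  have hinj : Module.Injective R E := hf.isInjective
  have hcd : ∀ (N : Type u) [AddCommGroup N] [Module R N],
      Subsingleton (H (maximalIdeal R) (i + 1 + 1) N) := fun N _ _ =>
    H_subsingleton_of_ringKrullDim_lt (maximalIdeal R) (i + 1) hn N (i + 1 + 1) (by omega)
  -- the kernel of `b` on `K/aK`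
  let Kbar := QuotSMulTop a K
  let β : Kbar →ₗ[R] Kbar := b • LinearMap.id
  let N : Submodule R Kbar := LinearMap.ker β
  have hN : Subsingleton (N →ₗ[R] E) := by
    refine ⟨fun ψ ψ' => ?_⟩
    have key : ∀ ψ : N →ₗ[R] E, ψ = 0 := by
      intro ψ
      obtain ⟨φbar, hφbar⟩ := Module.Injective.out (R := R) (Q := E) N.subtype
        N.injective_subtype ψ
      let φ : K →ₗ[R] E := φbar ∘ₗ (a • (⊤ : Submodule R K)).mkQ
      have haφ : a • eK φ = 0 := by
        rw [← map_smul]
        have : a • φ = 0 := by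
          ext k
          change a • φbar ((a • (⊤ : Submodule R K)).mkQ k) = 0
          rw [← map_smul, ← map_smul, Submodule.mkQ_apply]
          have : (Submodule.Quotient.mk (a • k) : K ⧸ a • (⊤ : Submodule R K)) = 0 := by
            rw [Submodule.Quotient.mk_eq_zero]
            exact Submodule.smul_mem_pointwise_smul _ _ _ Submodule.mem_top
          rw [this, map_zero]
        rw [this, map_zero]
      obtain ⟨h', hah', hbh'⟩ := exists_smul_eq_of_smul_eq_zero (maximalIdeal R) i a b hcd h1 h2
        (eK φ) haφ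
      let φ' : K →ₗ[R] E := eK.symm h'
      have haφ' : a • φ' = 0 := by
        change a • eK.symm h' = 0
        rw [← map_smul, hah', map_zero]
      have hbφ' : b • φ' = φ := by
        change b • eK.symm h' = φ
        rw [← map_smul, hbh', LinearEquiv.symm_apply_apply]
      have hle : a • (⊤ : Submodule R K) ≤ LinearMap.ker φ' := by
        rintro _ ⟨k, -, rfl⟩
        rw [LinearMap.mem_ker]
        change φ' (a • k) = 0
        rw [map_smul, ← LinearMap.smul_apply, haφ', LinearMap.zero_apply]
      let φbar' : Kbar →ₗ[R] E := (a • (⊤ : Submodule R K)).liftQ φ' hle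
      have hb : ∀ x : Kbar, φbar x = b • φbar' x := by
        intro x
        obtain ⟨k, rfl⟩ := Submodule.Quotient.mk_surjective _ x
        change φ k = b • φ' k
        rw [← hbφ', LinearMap.smul_apply]
      ext x
      rw [LinearMap.zero_apply, ← hφbar x, hb, ← map_smul]
      have hx : b • (x : Kbar) = 0 := x.2
      rw [Submodule.subtype_apply, hx, map_zero]
    rw [key ψ, key ψ']
  have hN0 : Subsingleton N := (Matlis.applyₗ_injective hf N).subsingleton
  intro x y hxy
  have hmem : x - y ∈ N := by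
    change b • (x - y) = 0
    rw [smul_sub]
    exact sub_eq_zero.mpr hxy
  have := Subsingleton.elim (⟨x - y, hmem⟩ : N) 0
  exact sub_eq_zero.mp (congrArg Subtype.val this)

end Regular

end Groth.Agent.Helper8.Canon
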