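import Groth.Agent.Lib.Helper8.Canon5
import Groth.Agent.Lib.Helper8.LCFin

/-!
# Canonical modules over Cohen–Macaulay rings: regular sequences (helper8)
-/

set_option autoImplicit false
universe u

namespace Groth.Agent.Helper8.Canon

open TensorProduct IsLocalRing Groth.Agent.Helper8 Groth.Agent.Helper8.LC
open scoped Pointwise

section Dual

variable {R : Type u} [CommRing R] (E : Type u) [AddCommGroup E] [Module R E]

/-- dual of `C/xC` is the `x`-torsion of the dual of `C` -/
noncomputable def dualQuotEquiv (C : Type u) [AddCommGroup C] [Module R C] (x : R) :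
    ((QuotSMulTop x C) →ₗ[R] E) ≃ₗ[R]
      LinearMap.ker (x • (LinearMap.id : (C →ₗ[R] E) →ₗ[R] (C →ₗ[R] E))) where
  toFun φ := ⟨φ ∘ₗ (x • (⊤ : Submodule R C)).mkQ, by
    rw [LinearMap.mem_ker]
    ext c
    change x • φ ((x • (⊤ : Submodule R C)).mkQ c) = 0
    rw [← map_smul, ← map_smul]
    have : (x • (⊤ : Submodule R C)).mkQ (x • c) = 0 := by
      rw [Submodule.mkQ_apply, Submodule.Quotient.mk_eq_zero]
      exact Submodule.smul_mem_pointwise_smul _ _ _ Submodule.mem_top
    rw [this, map_zero]⟩
  map_add' φ ψ := by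
    apply Subtype.ext
    exact LinearMap.add_comp _ _ _
  map_smul' r φ := by
    apply Subtype.ext
    exact LinearMap.smul_comp _ _ _
  invFun φ := (x • (⊤ : Submodule R C)).liftQ φ.1 (by
    rintro _ ⟨c, -, rfl⟩
    rw [LinearMap.mem_ker]
    change φ.1 (x • c) = 0
    have h := φ.2
    rw [LinearMap.mem_ker] at h
    have := LinearMap.congr_fun h c
    rw [map_smul]
    exact this)
  left_inv φ := by
    apply Submodule.linearMap_qext
    ext c
    rfl
  right_inv φ := by
    apply Subtype.ext
    ext c
    rfl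

/-- restricting an equivalence to the `x`-torsion -/
noncomputable def kerSMulCongr {A B : Type u} [AddCommGroup A] [Module R A] [AddCommGroup B]
    [Module R B] (e : A ≃ₗ[R] B) (x : R) :
    LinearMap.ker (x • (LinearMap.id : A →ₗ[R] A)) ≃ₗ[R]
      LinearMap.ker (x • (LinearMap.id : B →ₗ[R] B)) where
  toFun a := ⟨e a.1, by
    have h := a.2
    rw [LinearMap.mem_ker] at h ⊢
    change x • e a.1 = 0
    rw [← map_smul]
    have h' : x • a.1 = 0 := h
    rw [h', map_zero]⟩
  map_add' a b := by apply Subtype.ext; exact map_add e _ _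
  map_smul' r a := by apply Subtype.ext; exact map_smul e _ _
  invFun b := ⟨e.symm b.1, by
    have h := b.2
    rw [LinearMap.mem_ker] at h ⊢
    change x • e.symm b.1 = 0
    rw [← map_smul]
    have h' : x • b.1 = 0 := h
    rw [h', map_zero]⟩
  left_inv a := by apply Subtype.ext; exact e.symm_apply_apply _
  right_inv b := by apply Subtype.ext; exact e.apply_symm_apply _

end Dual

section DualLocal

variable {R : Type u} [CommRing R] [IsLocalRing R] {E : Type u} [AddCommGroup E] [Module R E]
  {f : ResidueField R →ₗ[R] E}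

/-- if `x` acts surjectively on the Matlis dual, it acts injectively on the module -/
theorem isSMulRegular_of_dual_surjective (hf : InjHull.IsInjectiveHull f)
    (C : Type u) [AddCommGroup C] [Module R C] (x : R)
    (h : ∀ φ : C →ₗ[R] E, ∃ φ' : C →ₗ[R] E, x • φ' = φ) : IsSMulRegular C x := by
  have hinj : Module.Injective R E := hf.isInjective
  let β : C →ₗ[R] C := x • LinearMap.id
  let N : Submodule R C := LinearMap.ker β
  have hN : Subsingleton (N →ₗ[R] E) := by
    have key : ∀ ψ : N →ₗ[R] E, ψ = 0 := by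
      intro ψ
      obtain ⟨φ, hφ⟩ := Module.Injective.out (R := R) (Q := E) N.subtype N.injective_subtype ψ
      obtain ⟨φ', rfl⟩ := h φ
      ext c
      rw [LinearMap.zero_apply, ← hφ c, LinearMap.smul_apply, ← map_smul]
      have hc : x • (c : C) = 0 := c.2
      rw [Submodule.subtype_apply, hc, map_zero]
    exact ⟨fun ψ ψ' => by rw [key ψ, key ψ']⟩
  have hN0 : Subsingleton N := (Matlis.applyₗ_injective hf N).subsingleton
  intro c c' hcc
  have hmem : c - c' ∈ N := by
    change x • (c - c') = 0
    rw [smul_sub]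
    exact sub_eq_zero.mpr hcc
  have := Subsingleton.elim (⟨c - c', hmem⟩ : N) 0
  exact sub_eq_zero.mp (congrArg Subtype.val this)

end DualLocal

theorem withBot_enat_le_of_add_one_le {a : WithBot ℕ∞} {d : ℕ}
    (h : a + 1 ≤ ((d : ℕ) : WithBot ℕ∞) + 1) : a ≤ (d : WithBot ℕ∞) := by
  induction a with
  | bot => exact bot_le
  | coe a =>
    have h1 : a + 1 ≤ ((d : ℕ) : ℕ∞) + 1 := by exact_mod_cast h
    have h2 : a ≤ (d : ℕ∞) := by
      induction a with
      | top =>
        rw [top_add] at h1
        exact absurd (top_le_iff.mp h1) (by exact_mod_cast ENat.natCast_ne_top (d + 1))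
      | coe k =>
        have : k + 1 ≤ d + 1 := by exact_mod_cast h1
        exact_mod_cast Nat.le_of_succ_le_succ this
    exact_mod_cast h2

section Stage

variable (R : Type u) [CommRing R] [IsNoetherianRing R] [IsLocalRing R]
  (E : Type u) [AddCommGroup E] [Module R E]

/-- `C` is "canonical for `M`" in degree `d`, and `M` is Cohen–Macaulay of dimension `≤ d` -/
structure Stage (M C : Type u) [AddCommGroup M] [Module R M] [AddCommGroup C] [Module R C]
    (d : ℕ) : Prop where
  iso : Nonempty ((C →ₗ[R] E) ≃ₗ[R] H (maximalIdeal R) d M)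
  vanish : ∀ l < d, Subsingleton (H (maximalIdeal R) l M)
  dim : Module.supportDim R M ≤ (d : WithBot ℕ∞)

variable {R E}

omit [IsNoetherianRing R] in
theorem Stage.congr {M C M' C' : Type u} [AddCommGroup M] [Module R M] [AddCommGroup C]
    [Module R C] [AddCommGroup M'] [Module R M'] [AddCommGroup C'] [Module R C'] {d : ℕ}
    (st : Stage R E M C d) (eM : M ≃ₗ[R] M') (eC : C ≃ₗ[R] C') : Stage R E M' C' d where
  iso := by
    obtain ⟨e⟩ := st.iso
    exact ⟨(LinearEquiv.congrLeft E R eC).symm ≪≫ₗ e ≪≫ₗ Hcongr (maximalIdeal R) d eM⟩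
  vanish l hl := by
    have := st.vanish l hl
    exact (Hcongr (maximalIdeal R) l eM).symm.toEquiv.subsingleton
  dim := by
    rw [← Module.supportDim_eq_of_equiv eM]
    exact st.dim

variable {f : ResidueField R →ₗ[R] E}

/-- the inductive step -/
theorem Stage.step (hf : InjHull.IsInjectiveHull f) {M C : Type u} [AddCommGroup M] [Module R M]
    [Module.Finite R M] [AddCommGroup C] [Module R C] {d : ℕ} (st : Stage R E M C (d + 1)) (x : R)
    (hxm : x ∈ maximalIdeal R) (hx : IsSMulRegular M x) :
    IsSMulRegular C x ∧ Stage R E (QuotSMulTop x M) (QuotSMulTop x C) d := by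
  obtain ⟨e⟩ := st.iso
  have hS := isSES_smul M hx
  have hdimQ : Module.supportDim R (QuotSMulTop x M) ≤ (d : WithBot ℕ∞) := by
    have h1 := Module.supportDim_quotSMulTop_succ_eq_supportDim hx hxm
    have h2 : Module.supportDim R (QuotSMulTop x M) + 1 ≤ ((d : ℕ) : WithBot ℕ∞) + 1 := by
      rw [h1]
      have := st.dim
      push_cast at this
      exact this
    exact withBot_enat_le_of_add_one_le h2
  have hQtop : Subsingleton (H (maximalIdeal R) (d + 1) (QuotSMulTop x M)) := by
    apply H_subsingleton_of_supportDim_lt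
    refine lt_of_le_of_lt hdimQ ?_
    exact_mod_cast Nat.lt_succ_self d
  -- `x` is surjective on `H^{d+1}(M)`
  have hsurj : ∀ h : H (maximalIdeal R) (d + 1) M, ∃ h', x • h' = h := by
    intro h
    obtain ⟨h', hh'⟩ := hS.Hmap_f_surjective (maximalIdeal R) (d + 1) h
    exact ⟨h', by rw [← hh', Hmap_smul_id]⟩
  have hreg : IsSMulRegular C x := by
    apply isSMulRegular_of_dual_surjective hf
    intro φ
    obtain ⟨h', hh'⟩ := hsurj (e φ)
    refine ⟨e.symm h', ?_⟩
    rw [← map_smul, hh', LinearEquiv.symm_apply_apply]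
  refine ⟨hreg, ?_, ?_, hdimQ⟩
  · -- the isomorphism
    have hMd : Subsingleton (H (maximalIdeal R) d M) := st.vanish d (Nat.lt_succ_self d)
    have hδinj := hS.δ_injective (maximalIdeal R) d
    let T : Submodule R (H (maximalIdeal R) (d + 1) M) :=
      LinearMap.ker (x • (LinearMap.id : H (maximalIdeal R) (d + 1) M →ₗ[R] _))
    have hmemT : ∀ y, Hδ (maximalIdeal R) d hS y ∈ T := by
      intro y
      rw [LinearMap.mem_ker]
      change x • Hδ (maximalIdeal R) d hS y = 0
      rw [← Hmap_smul_id]
      exact (hS.exact_δ_Hmap (maximalIdeal R) d _).mpr ⟨y, rfl⟩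
    let δ' : H (maximalIdeal R) d (QuotSMulTop x M) →ₗ[R] T :=
      (Hδ (maximalIdeal R) d hS).codRestrict T hmemT
    have hδ' : Function.Bijective δ' := by
      constructor
      · intro y y' hyy'
        apply hδinj
        exact congrArg Subtype.val hyy'
      · rintro ⟨t, ht⟩
        rw [LinearMap.mem_ker] at ht
        have ht' : Hmap (maximalIdeal R) (d + 1) (x • (LinearMap.id : M →ₗ[R] M)) t = 0 := by
          rw [Hmap_smul_id]; exact ht
        obtain ⟨y, hy⟩ := (hS.exact_δ_Hmap (maximalIdeal R) d t).mp ht'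
        exact ⟨y, Subtype.ext hy⟩
    exact ⟨dualQuotEquiv E C x ≪≫ₗ kerSMulCongr e x ≪≫ₗ (LinearEquiv.ofBijective δ' hδ').symm⟩
  · intro l hl
    have h1 : Subsingleton (H (maximalIdeal R) l M) := st.vanish l (by omega)
    have h2 : Subsingleton (H (maximalIdeal R) (l + 1) M) := st.vanish (l + 1) (by omega)
    exact hS.subsingleton_right (maximalIdeal R) l

/-- regular sequences on `M` are regular on `C`, and the quotients are again a stage -/
theorem Stage.of_isWeaklyRegular (hf : InjHull.IsInjectiveHull f) :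
    ∀ (rs : List R) {M C : Type u} [AddCommGroup M] [Module R M] [Module.Finite R M]
      [AddCommGroup C] [Module R C] (d' : ℕ), Stage R E M C (rs.length + d') →
      (∀ r ∈ rs, r ∈ maximalIdeal R) → RingTheory.Sequence.IsWeaklyRegular M rs →
      RingTheory.Sequence.IsWeaklyRegular C rs ∧
        Stage R E (M ⧸ (Ideal.ofList rs • ⊤ : Submodule R M))
          (C ⧸ (Ideal.ofList rs • ⊤ : Submodule R C)) d' := by
  intro rs
  induction rs with
  | nil =>
    intro M C _ _ _ _ _ d' st _ _
    refine ⟨RingTheory.Sequence.IsWeaklyRegular.nil R C, ?_⟩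
    have h0 : ∀ (N : Type u) [AddCommGroup N] [Module R N],
        (Ideal.ofList ([] : List R) • ⊤ : Submodule R N) = ⊥ := by
      intro N _ _
      rw [Ideal.ofList_nil, Submodule.bot_smul]
    have st' : Stage R E M C d' := by
      have : ([] : List R).length + d' = d' := by simp
      rw [this] at st
      exact st
    exact st'.congr (Submodule.quotEquivOfEqBot _ (h0 M)).symm
      (Submodule.quotEquivOfEqBot _ (h0 C)).symm
  | cons x rs ih =>
    intro M C _ _ _ _ _ d' st hmem hreg
    rw [RingTheory.Sequence.isWeaklyRegular_cons_iff] at hreg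
    have st' : Stage R E M C (rs.length + d' + 1) := by
      have : (x :: rs).length + d' = rs.length + d' + 1 := by
        rw [List.length_cons]; omega
      rw [this] at st
      exact st
    obtain ⟨hx, stQ⟩ := st'.step hf x (hmem x (List.mem_cons_self)) hreg.1
    obtain ⟨hrs, stQ'⟩ := ih d' stQ (fun r hr => hmem r (List.mem_cons_of_mem _ hr)) hreg.2
    refine ⟨(RingTheory.Sequence.isWeaklyRegular_cons_iff C x rs).mpr ⟨hx, hrs⟩, ?_⟩
    exact stQ'.congr (Submodule.quotOfListConsSMulTopEquivQuotSMulTopInner M x rs).symm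
      (Submodule.quotOfListConsSMulTopEquivQuotSMulTopInner C x rs).symm

end Stage

end Groth.Agent.Helper8.Canon
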