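import Groth.Agent.Lib.Helper8.Canon6

/-!
# Canonical modules over Cohen–Macaulay rings: `R`-regular sequences are `K`-regular (helper8)
-/

set_option autoImplicit false
universe u

namespace Groth.Agent.Helper8.Canon

open TensorProduct IsLocalRing Groth.Agent.Helper8 Groth.Agent.Helper8.LC
open scoped Pointwise

variable {R : Type u} [CommRing R] [hCM : LocCoh.IsCohenMacaulayLocalRing R] {n : ℕ}
  {E : Type u} [AddCommGroup E] [Module R E] {f : ResidueField R →ₗ[R] E}
  {K : Type u} [AddCommGroup K] [Module R K]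

/-- the depth of a Cohen–Macaulay local ring is its dimension -/
theorem depth_eq_of_CM (hn : ringKrullDim R = n) : LocCoh.depth R R = (n : ℕ∞) := by
  have h := hCM.supportDim_eq_depth
  rw [Module.supportDim_self_eq_ringKrullDim, hn] at h
  have h' : ((n : ℕ∞) : WithBot ℕ∞) = ((LocCoh.depth R R : ℕ∞) : WithBot ℕ∞) := by
    exact_mod_cast h
  exact (WithBot.coe_injective h').symm

/-- the base stage -/
theorem stage_self (hn : ringKrullDim R = n)
    (eK : (K →ₗ[R] E) ≃ₗ[R] H (maximalIdeal R) n R) : Stage R E R K n where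
  iso := ⟨eK⟩
  vanish l hl := H_subsingleton_of_lt_depth R n (depth_eq_of_CM hn) l hl
  dim := by rw [Module.supportDim_self_eq_ringKrullDim, hn]

/-- a regular sequence in the maximal ideal has length at most the dimension -/
theorem length_le_of_isWeaklyRegular (hn : ringKrullDim R = n) (rs : List R)
    (hmem : ∀ r ∈ rs, r ∈ maximalIdeal R) (hreg : RingTheory.Sequence.IsWeaklyRegular R rs) :
    rs.length ≤ n := by
  have h := Groth.Agent.Lead.Depth.le_idealDepth_of_isWeaklyRegular (maximalIdeal R) R rs hreg hmem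
  have h2 : LocCoh.idealDepth (maximalIdeal R) R = (n : ℕ∞) := depth_eq_of_CM hn
  rw [h2] at h
  exact_mod_cast h

/-- Nakayama: `IK ≠ K` for `I ≤ m` -/
theorem top_ne_ofList_smul (hn : ringKrullDim R = n)
    (eK : (K →ₗ[R] E) ≃ₗ[R] H (maximalIdeal R) n R) [Module.Finite R K] (rs : List R)
    (hmem : ∀ r ∈ rs, r ∈ maximalIdeal R) :
    (⊤ : Submodule R K) ≠ Ideal.ofList rs • ⊤ := by
  intro htop
  have : Nontrivial K := nontrivial_canon hn eK
  have hle0 : Ideal.ofList rs ≤ maximalIdeal R := by
    rw [Ideal.ofList, Ideal.span_le]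
    intro x hx
    exact hmem x hx
  have hle : Ideal.ofList rs • (⊤ : Submodule R K) ≤ maximalIdeal R • ⊤ :=
    Submodule.smul_mono_left hle0
  have h3 : maximalIdeal R • (⊤ : Submodule R K) = ⊤ := top_le_iff.mp (htop.le.trans hle)
  exact maximalIdeal_smul_top_ne_top (R := R) (M := K) h3

/-- `R`-regular sequences are `K`-regular, and `K/IK` is canonical for `R/I`. -/
theorem canon_of_isWeaklyRegular (hn : ringKrullDim R = n) (hf : InjHull.IsInjectiveHull f)
    (eK : (K →ₗ[R] E) ≃ₗ[R] H (maximalIdeal R) n R) (rs : List R)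
    (hmem : ∀ r ∈ rs, r ∈ maximalIdeal R) (hreg : RingTheory.Sequence.IsWeaklyRegular R rs) :
    RingTheory.Sequence.IsWeaklyRegular K rs ∧
      Stage R E (R ⧸ (Ideal.ofList rs • ⊤ : Submodule R R))
        (K ⧸ (Ideal.ofList rs • ⊤ : Submodule R K)) (n - rs.length) := by
  have hle := length_le_of_isWeaklyRegular hn rs hmem hreg
  have st : Stage R E R K (rs.length + (n - rs.length)) := by
    have : rs.length + (n - rs.length) = n := by omega
    rw [this]
    exact stage_self hn eK
  exact Stage.of_isWeaklyRegular hf rs (n - rs.length) st hmem hreg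

end Groth.Agent.Helper8.Canon
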