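import Groth.Agent.Lib.Helper8.Matlis2
import Groth.Agent.Lib.Helper5.HS2

set_option autoImplicit false
universe u

namespace Groth.Agent.Helper8.Matlis

open IsLocalRing CategoryTheory

section Socle

variable {A : Type u} [CommRing A] [IsLocalRing A] {E : Type u} [AddCommGroup E] [Module A E]

/-- injective + power torsion + socle generated by any of its nonzero elements ⇒ injective hull. -/
theorem isInjectiveHull_of_socle_cyclic (hinj : Module.Injective A E)
    (htors : LocCoh.IsPowerTorsion (maximalIdeal A) E)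
    (e₀ : E) (he₀ : ∀ b ∈ maximalIdeal A, b • e₀ = 0) (hne : e₀ ≠ 0)
    (hcyc : ∀ e' : E, (∀ b ∈ maximalIdeal A, b • e' = 0) → e' ≠ 0 → ∃ b : A, e₀ = b • e') :
    InjHull.IsInjectiveHull (ofSocle e₀ he₀) := by
  have hφ : ofSocle e₀ he₀ ≠ 0 := by
    intro h
    apply hne
    rw [← ofSocle_one e₀ he₀, h, LinearMap.zero_apply]
  have hφinj : Function.Injective (ofSocle e₀ he₀) := by
    rw [← LinearMap.ker_eq_bot]
    rcases eq_bot_or_eq_top (LinearMap.ker (ofSocle e₀ he₀)) with h | h
    · exact h
    · exact absurd (LinearMap.ker_eq_top.1 h) hφ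
  refine ⟨⟨hφinj, ?_⟩, hinj⟩
  intro N hN
  obtain ⟨e', he'N, he'0, he'⟩ := exists_socle_mem htors N hN
  obtain ⟨b, hb⟩ := hcyc e' he' he'0
  rw [Submodule.ne_bot_iff]
  refine ⟨e₀, ⟨?_, ⟨1, ofSocle_one e₀ he₀⟩⟩, hne⟩
  rw [hb]
  exact N.smul_mem b he'N

end Socle

section DualCyclic

variable {A : Type u} [CommRing A] [IsLocalRing A] {E : Type u} [AddCommGroup E] [Module A E]
  {f : ResidueField A →ₗ[A] E}

/-- Matlis dual of a `B`-simple module of finite `A`-length is generated by any nonzero element. -/
theorem dual_cyclic (hf : InjHull.IsInjectiveHull f) {B : Type u} [CommRing B] [Algebra A B]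
    (V : Type u) [AddCommGroup V] [Module A V] [Module B V] [IsScalarTower A B V]
    [IsSimpleModule B V] (hV : IsFiniteLength A V)
    (χ' χ : V →ₗ[A] E) (hχ' : χ' ≠ 0) : ∃ b : B, ∀ v : V, χ v = χ' (b • v) := by
  classical
  -- the submodule of all `χ' ∘ b`
  let T : B →ₗ[A] (V →ₗ[A] E) :=
    { toFun := fun b => χ'.comp ((Algebra.lsmul A A V b : V →ₗ[A] V))
      map_add' := fun b b' => by
        ext v
        simp [add_smul]
      map_smul' := fun a b => by
        ext v
        simp }
  have hT : ∀ b v, T b v = χ' (b • v) := fun b v => rfl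
  by_contra hcon
  have hχ : χ ∉ LinearMap.range T := by
    rintro ⟨b, hb⟩
    exact hcon ⟨b, fun v => by rw [← hb, hT]⟩
  let W := LinearMap.range T
  have hx : W.mkQ χ ≠ 0 := by
    rw [Ne, Submodule.mkQ_apply, Submodule.Quotient.mk_eq_zero]
    exact hχ
  have h1 := applyₗ_injective hf ((V →ₗ[A] E) ⧸ W)
  have h2 : (LinearMap.applyₗ (W.mkQ χ) : (((V →ₗ[A] E) ⧸ W) →ₗ[A] E) →ₗ[A] E) ≠ 0 := by
    intro h0
    exact hx (h1 (by rw [h0, map_zero]))
  obtain ⟨g, hg⟩ : ∃ g : ((V →ₗ[A] E) ⧸ W) →ₗ[A] E, g (W.mkQ χ) ≠ 0 := by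
    by_contra hno
    push Not at hno
    apply h2
    ext g
    exact hno g
  obtain ⟨v, hv⟩ := (applyₗ_bijective hf V hV).2 (g.comp W.mkQ)
  have hv' : ∀ ψ : V →ₗ[A] E, ψ v = g (W.mkQ ψ) := fun ψ => by
    have := LinearMap.congr_fun hv ψ
    exact this
  have hv0 : v ≠ 0 := by
    intro h0
    apply hg
    rw [← hv', h0, map_zero]
  have hspan : ∀ w : V, ∃ b : B, b • v = w := by
    intro w
    have := IsSimpleModule.toSpanSingleton_surjective B hv0 w
    obtain ⟨b, hb⟩ := this
    exact ⟨b, hb⟩
  apply hχ'
  ext w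
  obtain ⟨b, rfl⟩ := hspan w
  rw [LinearMap.zero_apply, ← hT, hv']
  have : T b ∈ W := ⟨b, rfl⟩
  rw [Submodule.mkQ_apply, (Submodule.Quotient.mk_eq_zero W).2 this, map_zero]

end DualCyclic

section Coextend

variable (A B : Type u) [CommRing A] [CommRing B] [Algebra A B] (E : Type u) [AddCommGroup E]
  [Module A E]

/-- the coextended module `Hom_A(B, E)`. -/
abbrev Coext : Type u := (ModuleCat.coextendScalars (algebraMap A B)).obj (ModuleCat.of A E)

theorem injective_coext [hE : Module.Injective A E] : Module.Injective B (Coext A B E) := by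
  have h1 : Injective (ModuleCat.of A E) := Module.injective_object_of_injective_module A E
  have h2 : Injective ((ModuleCat.coextendScalars (algebraMap A B)).obj (ModuleCat.of A E)) :=
    Injective.injective_of_adjoint (ModuleCat.restrictCoextendScalarsAdj (algebraMap A B)) _
  exact Module.injective_module_of_injective_object B _

variable {A B E}

theorem Coext.smul_restrict (a : A) (t : B) :
    @HSMul.hSMul A ((ModuleCat.restrictScalars (algebraMap A B)).obj (ModuleCat.of B B))
      ((ModuleCat.restrictScalars (algebraMap A B)).obj (ModuleCat.of B B)) _ a t =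
    @HSMul.hSMul A B B _ a t := by
  rw [ModuleCat.restrictScalars.smul_def (M := ModuleCat.of B B)]
  exact (Algebra.smul_def a t).symm

/-- an element of `Hom_A(B,E)` as a linear map for the algebra module structure. -/
noncomputable def Coext.toLin (φ : Coext A B E) : B →ₗ[A] E where
  toFun := fun t => φ t
  map_add' := fun s t => map_add (ModuleCat.CoextendScalars.equiv (algebraMap A B) _ φ) s t
  map_smul' := fun a t => by
    have := (ModuleCat.CoextendScalars.equiv (algebraMap A B) _ φ).map_smul a t
    rw [RingHom.id_apply]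
    rw [← this]
    exact congrArg _ (Coext.smul_restrict a t).symm

theorem Coext.toLin_apply (φ : Coext A B E) (t : B) : Coext.toLin φ t = φ t := rfl

theorem Coext.smul_apply (b : B) (φ : Coext A B E) (t : B) : (b • φ) t = φ (t * b) := rfl

theorem Coext.ext' {φ ψ : Coext A B E} (h : ∀ t : B, φ t = ψ t) : φ = ψ := by
  apply ModuleCat.CoextendScalars.ext
  apply LinearMap.ext
  exact h

theorem Coext.toLin_injective : Function.Injective (Coext.toLin : Coext A B E → (B →ₗ[A] E)) := by
  intro φ ψ h
  apply Coext.ext'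
  intro t
  exact LinearMap.congr_fun h t

/-- construct an element from a linear map. -/
noncomputable def Coext.ofLin (χ : B →ₗ[A] E) : Coext A B E :=
  (ModuleCat.CoextendScalars.equiv (algebraMap A B) (ModuleCat.of A E)).symm
    { toFun := fun t => χ t
      map_add' := fun s t => map_add χ s t
      map_smul' := fun a t => by
        rw [RingHom.id_apply]
        let t' : B := t
        have h1 := χ.map_smul a t'
        exact (congrArg χ (Coext.smul_restrict a t')).trans h1 }

theorem Coext.ofLin_apply (χ : B →ₗ[A] E) (t : B) : Coext.ofLin χ t = χ t := rfl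

theorem Coext.zero_apply (t : B) : (0 : Coext A B E) t = 0 := rfl

end Coextend

end Groth.Agent.Helper8.Matlis
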