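import Groth.Agent.Lib.Helper8.Matlis2
import Groth.Agent.Lib.Helper5.HS2
import Groth.Agent.Lib.Helper8.Matlis5a

set_option autoImplicit false
universe u

namespace Groth.Agent.Helper8.Matlis

open IsLocalRing CategoryTheory

section Main

theorem exists_pow_smul_eq_zero_of_fg {A : Type u} [CommRing A] {I : Ideal A} {E : Type u}
    [AddCommGroup E] [Module A E] (htors : LocCoh.IsPowerTorsion I E) (N : Submodule A E)
    (hN : N.FG) : ∃ n : ℕ, ∀ a ∈ I ^ n, ∀ x ∈ N, a • x = 0 := by
  induction N, hN using Submodule.fg_induction with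
  | singleton x =>
    obtain ⟨n, hn⟩ := htors x
    refine ⟨n, fun a ha y hy => ?_⟩
    obtain ⟨c, rfl⟩ := Submodule.mem_span_singleton.1 hy
    rw [smul_comm, hn a ha, smul_zero]
  | sup N₁ N₂ _ _ h₁ h₂ =>
    obtain ⟨n₁, hn₁⟩ := h₁
    obtain ⟨n₂, hn₂⟩ := h₂
    refine ⟨max n₁ n₂, fun a ha y hy => ?_⟩
    obtain ⟨y₁, hy₁, y₂, hy₂, rfl⟩ := Submodule.mem_sup.1 hy
    rw [smul_add, hn₁ a (Ideal.pow_le_pow_right (le_max_left _ _) ha) y₁ hy₁,
      hn₂ a (Ideal.pow_le_pow_right (le_max_right _ _) ha) y₂ hy₂, add_zero]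

variable {A B : Type u} [CommRing A] [IsLocalRing A] [CommRing B] [IsLocalRing B]
  [Algebra A B] [Module.Finite A B]

theorem comap_maximalIdeal_eq :
    (maximalIdeal B).comap (algebraMap A B) = maximalIdeal A := by
  have : Algebra.IsIntegral A B := Algebra.IsIntegral.of_finite A B
  exact IsLocalRing.eq_maximalIdeal
    (Ideal.isMaximal_comap_of_isIntegral_of_isMaximal (R := A) (maximalIdeal B))

theorem map_maximalIdeal_le :
    Ideal.map (algebraMap A B) (maximalIdeal A) ≤ maximalIdeal B := by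
  rw [Ideal.map_le_iff_le_comap, comap_maximalIdeal_eq]

theorem exists_pow_le_map [IsNoetherianRing B] :
    ∃ r : ℕ, maximalIdeal B ^ r ≤ Ideal.map (algebraMap A B) (maximalIdeal A) := by
  have : Algebra.IsIntegral A B := Algebra.IsIntegral.of_finite A B
  apply Ideal.exists_pow_le_of_le_radical_of_fg _ (IsNoetherian.noetherian _)
  rw [Ideal.radical_eq_sInf]
  apply le_sInf
  rintro P ⟨hle, hP⟩
  have h1 : maximalIdeal A ≤ P.comap (algebraMap A B) := Ideal.map_le_iff_le_comap.1 hle
  have h2 : P.comap (algebraMap A B) ≠ ⊤ := (Ideal.comap_isPrime _ P).ne_top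
  have h3 : maximalIdeal A = P.comap (algebraMap A B) :=
    (IsLocalRing.maximalIdeal.isMaximal A).eq_of_le h2 h1
  have h4 : P.IsMaximal := by
    apply Ideal.isMaximal_of_isIntegral_of_isMaximal_comap (R := A) P
    rw [← h3]
    infer_instance
  rw [IsLocalRing.eq_maximalIdeal h4]

variable {E : Type u} [AddCommGroup E] [Module A E] {f : ResidueField A →ₗ[A] E}

theorem isPowerTorsion_coext [IsNoetherianRing A] [IsNoetherianRing B]
    (hf : InjHull.IsInjectiveHull f) :
    LocCoh.IsPowerTorsion (maximalIdeal B) (Coext A B E) := by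
  intro φ
  have hfg : (LinearMap.range (Coext.toLin φ)).FG := by
    rw [LinearMap.range_eq_map]
    exact Submodule.FG.map _ (Module.Finite.fg_top)
  obtain ⟨n, hn⟩ := exists_pow_smul_eq_zero_of_fg (isPowerTorsion hf.toIsEssentialInj) _ hfg
  obtain ⟨r, hr⟩ := exists_pow_le_map (A := A) (B := B)
  refine ⟨r * n, fun b hb => ?_⟩
  have hb' : b ∈ Ideal.map (algebraMap A B) (maximalIdeal A ^ n) := by
    rw [Ideal.map_pow]
    apply Ideal.pow_right_mono hr n
    rw [← pow_mul]
    exact hb
  have hle : Ideal.map (algebraMap A B) (maximalIdeal A ^ n) ≤ Ideal.torsionOf B _ φ := by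
    rw [Ideal.map_le_iff_le_comap]
    intro a ha
    rw [Ideal.mem_comap, Ideal.mem_torsionOf_iff]
    apply Coext.ext'
    intro t
    rw [Coext.smul_apply, Coext.zero_apply]
    have h1 : t * algebraMap A B a = a • t := by rw [Algebra.smul_def, mul_comm]
    rw [h1, ← Coext.toLin_apply, map_smul]
    exact hn a ha _ ⟨t, rfl⟩
  exact (Ideal.mem_torsionOf_iff _ _).1 (hle hb')

theorem isFiniteLength_residueField [IsNoetherianRing A] :
    IsFiniteLength A (ResidueField B) := by
  rw [Groth.Agent.Helper5.HS.isFiniteLength_iff_support]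
  intro p hp
  rw [Module.support_eq_zeroLocus] at hp
  have hp' : Module.annihilator A (ResidueField B) ≤ p.asIdeal := hp
  have h1 : maximalIdeal A ≤ Module.annihilator A (ResidueField B) := by
    intro a ha
    rw [Module.mem_annihilator]
    intro v
    obtain ⟨t, rfl⟩ := IsLocalRing.residue_surjective v
    rw [Algebra.smul_def, IsScalarTower.algebraMap_apply A B (ResidueField B)]
    have : algebraMap B (ResidueField B) (algebraMap A B a) = 0 := by
      rw [ResidueField.algebraMap_eq, residue_eq_zero_iff]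
      exact map_maximalIdeal_le (Ideal.mem_map_of_mem _ ha)
    rw [this, zero_mul]
  have h2 : maximalIdeal A = p.asIdeal :=
    (IsLocalRing.maximalIdeal.isMaximal A).eq_of_le p.2.ne_top (h1.trans hp')
  rw [← h2]
  infer_instance

theorem socle_cyclic [IsNoetherianRing A] (hf : InjHull.IsInjectiveHull f)
    (φ' φ : Coext A B E) (hφ' : ∀ b ∈ maximalIdeal B, b • φ' = 0)
    (hφ : ∀ b ∈ maximalIdeal B, b • φ = 0) (hne : φ' ≠ 0) : ∃ b : B, φ = b • φ' := by
  let π : B →ₗ[A] ResidueField B := (IsScalarTower.toAlgHom A B (ResidueField B)).toLinearMap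
  have hπ : Function.Surjective π := IsLocalRing.residue_surjective
  have hπa : ∀ t, π t = residue B t := fun t => rfl
  have hker : ∀ ψ : Coext A B E, (∀ b ∈ maximalIdeal B, b • ψ = 0) →
      LinearMap.ker π ≤ LinearMap.ker (Coext.toLin ψ) := by
    intro ψ hψ t ht
    rw [LinearMap.mem_ker, hπa, residue_eq_zero_iff] at ht
    rw [LinearMap.mem_ker, Coext.toLin_apply]
    have := hψ t ht
    have h2 : (t • ψ) (1 : B) = ψ t := by rw [Coext.smul_apply, one_mul]
    rw [← h2, this, Coext.zero_apply]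
  let desc : ∀ ψ : Coext A B E, (∀ b ∈ maximalIdeal B, b • ψ = 0) → (ResidueField B →ₗ[A] E) :=
    fun ψ hψ => ((LinearMap.ker π).liftQ (Coext.toLin ψ) (hker ψ hψ)).comp
      (π.quotKerEquivOfSurjective hπ).symm.toLinearMap
  have hdesc : ∀ ψ hψ t, desc ψ hψ (π t) = ψ t := by
    intro ψ hψ t
    have h1 : (π.quotKerEquivOfSurjective hπ).symm (π t) = (LinearMap.ker π).mkQ t := by
      rw [LinearEquiv.symm_apply_eq]
      rfl
    change ((LinearMap.ker π).liftQ (Coext.toLin ψ) (hker ψ hψ))
      ((π.quotKerEquivOfSurjective hπ).symm (π t)) = ψ t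
    rw [h1]
    rfl
  have hsimple : IsSimpleModule B (ResidueField B) :=
    isSimpleModule_iff_quot_maximal.2 ⟨maximalIdeal B, inferInstance, ⟨LinearEquiv.refl _ _⟩⟩
  have hne' : desc φ' hφ' ≠ 0 := by
    intro h0
    apply hne
    apply Coext.ext'
    intro t
    rw [← hdesc φ' hφ' t, h0, LinearMap.zero_apply, Coext.zero_apply]
  obtain ⟨b, hb⟩ := dual_cyclic hf (B := B) (ResidueField B) isFiniteLength_residueField
    (desc φ' hφ') (desc φ hφ) hne'
  refine ⟨b, Coext.ext' fun t => ?_⟩
  rw [Coext.smul_apply, ← hdesc φ hφ t, hb, ← hdesc φ' hφ' (t * b)]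
  congr 1
  rw [hπa, hπa, Algebra.smul_def, ResidueField.algebraMap_eq, ← map_mul, mul_comm]

theorem exists_isInjectiveHull_coext [IsNoetherianRing A] [IsNoetherianRing B]
    (hf : InjHull.IsInjectiveHull f) :
    ∃ g : ResidueField B →ₗ[B] Coext A B E, InjHull.IsInjectiveHull g := by
  have hinjE := hf.isInjective
  have hinj : Module.Injective B (Coext A B E) := injective_coext A B E
  have htors := isPowerTorsion_coext (B := B) hf
  have hnt : (⊤ : Submodule B (Coext A B E)) ≠ ⊥ := by
    have h1 := applyₗ_injective hf B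
    have h2 : (LinearMap.applyₗ (1 : B) : (B →ₗ[A] E) →ₗ[A] E) ≠ 0 := by
      intro h0
      exact one_ne_zero (h1 (by rw [h0, map_zero]))
    obtain ⟨χ, hχ⟩ : ∃ χ : B →ₗ[A] E, χ 1 ≠ 0 := by
      by_contra hno
      push Not at hno
      apply h2
      ext χ
      exact hno χ
    intro htb
    have : Coext.ofLin χ ∈ (⊥ : Submodule B (Coext A B E)) := htb ▸ Submodule.mem_top
    rw [Submodule.mem_bot] at this
    apply hχ
    rw [← Coext.ofLin_apply χ 1, this, Coext.zero_apply]
  obtain ⟨e₀, -, hne, he₀⟩ := exists_socle_mem htors ⊤ hnt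
  exact ⟨ofSocle e₀ he₀, isInjectiveHull_of_socle_cyclic hinj htors e₀ he₀ hne
    (fun e' he' hne' => socle_cyclic hf e' e₀ he' he₀ hne')⟩

end Main

end Groth.Agent.Helper8.Matlis
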