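import Groth.Agent.Lib.Helper8.TLD4
import Groth.Agent.Lib.Helper8.Matlis5
import Groth.Agent.Lib.Helper1.InjHullLib
import Groth.Agent.Lib.Helper8.LCIndep

/-!
# Existence of canonical modules for homomorphic images of Gorenstein local rings (helper8)
Part 1: injective hulls under a surjection of local rings.
-/

set_option autoImplicit false
universe u

namespace Groth.Agent.Helper8.CanonEx

open IsLocalRing Groth.Agent.Helper8 Groth.Agent.Helper8.LC Groth.Agent.Helper8.Matlis
open scoped Pointwise TensorProduct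

section Hull

variable {A B : Type u} [CommRing A] [IsLocalRing A] [IsNoetherianRing A] [CommRing B]
  [IsLocalRing B] [IsNoetherianRing B] [Algebra A B]
  {E' : Type u} [AddCommGroup E'] [Module A E'] {f' : ResidueField A →ₗ[A] E'}
  {E : Type u} [AddCommGroup E] [Module B E] [Module A E] [IsScalarTower A B E]
  {f : ResidueField B →ₗ[B] E}

/-- for a surjection `A → B` of Noetherian local rings the hull `E_B` embeds `A`-linearly into `E_A`
with image the elements killed by the kernel -/
theorem exists_hull_embedding (hsurj : Function.Surjective (algebraMap A B))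
    (hf' : InjHull.IsInjectiveHull f') (hf : InjHull.IsInjectiveHull f) :
    ∃ j : E →ₗ[A] E', Function.Injective j ∧
      ∀ x : E', (∀ a ∈ RingHom.ker (algebraMap A B), a • x = 0) → x ∈ LinearMap.range j := by
  haveI : Module.Finite A B := Module.Finite.of_surjective (Algebra.linearMap A B) hsurj
  obtain ⟨g, hg⟩ := exists_isInjectiveHull_coext (B := B) hf'
  obtain ⟨e, -⟩ := Groth.Agent.Helper1.exists_linearEquiv_of_hulls f hf g hg
  have hlin : ∀ (φ : Coext A B E') (a : A),
      Coext.toLin φ (algebraMap A B a) = a • Coext.toLin φ (1 : B) := by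
    intro φ a
    rw [← map_smul, Algebra.smul_def, mul_one]
  let j : E →ₗ[A] E' :=
    { toFun := fun x => Coext.toLin (e x) (1 : B)
      map_add' := fun x y => by
        rw [map_add]
        rfl
      map_smul' := fun a x => by
        rw [RingHom.id_apply, ← algebraMap_smul B a x, map_smul, Coext.toLin_apply,
          Coext.smul_apply, one_mul, ← Coext.toLin_apply, hlin] }
  have hj : ∀ x, j x = Coext.toLin (e x) (1 : B) := fun x => rfl
  refine ⟨j, ?_, ?_⟩
  · rw [injective_iff_map_eq_zero]
    intro x hx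
    rw [hj] at hx
    apply e.injective
    rw [map_zero]
    apply Coext.ext'
    intro t
    obtain ⟨a, rfl⟩ := hsurj t
    rw [← Coext.toLin_apply, hlin, hx, smul_zero, Coext.zero_apply]
  · intro x hx
    let χ0 : A →ₗ[A] E' := LinearMap.toSpanSingleton A E' x
    have hker : RingHom.ker (algebraMap A B) ≤ LinearMap.ker χ0 := by
      intro a ha
      rw [LinearMap.mem_ker]
      exact hx a ha
    let eQ : (A ⧸ RingHom.ker (algebraMap A B)) ≃ₗ[A] B :=
      (Ideal.quotientKerAlgEquivOfSurjective (f := Algebra.ofId A B) hsurj).toLinearEquiv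
    let χ : B →ₗ[A] E' := (Submodule.liftQ _ χ0 hker) ∘ₗ eQ.symm.toLinearMap
    have hχ : χ 1 = x := by
      have h1 : eQ.symm 1 = Submodule.Quotient.mk 1 := by
        rw [LinearEquiv.symm_apply_eq]
        exact (map_one (Ideal.quotientKerAlgEquivOfSurjective (f := Algebra.ofId A B) hsurj)).symm
      change Submodule.liftQ _ χ0 hker (eQ.symm 1) = x
      rw [h1, Submodule.liftQ_apply]
      exact one_smul A x
    refine ⟨e.symm (Coext.ofLin χ), ?_⟩
    rw [hj, LinearEquiv.apply_symm_apply, Coext.toLin_apply, Coext.ofLin_apply, hχ]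

end Hull

section HomLemma

variable {A : Type u} [CommRing A] {K E E' : Type u} [AddCommGroup K] [Module A K]
  [AddCommGroup E] [Module A E] [AddCommGroup E'] [Module A E']

/-- post-composition with an injection whose range contains the `I`-torsion is bijective on maps
from an `I`-torsion module -/
theorem exists_homCongr_of_range (I : Ideal A) (hK : ∀ a ∈ I, ∀ x : K, a • x = 0)
    (j : E →ₗ[A] E') (hj : Function.Injective j)
    (hr : ∀ x : E', (∀ a ∈ I, a • x = 0) → x ∈ LinearMap.range j) :
    Nonempty ((K →ₗ[A] E) ≃ₗ[A] (K →ₗ[A] E')) := by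
  refine ⟨LinearEquiv.ofBijective (LinearMap.compRight A j) ⟨?_, ?_⟩⟩
  · intro φ ψ h
    ext x
    apply hj
    exact LinearMap.congr_fun h x
  · intro ψ
    have hmem : ∀ x, ψ x ∈ LinearMap.range j := by
      intro x
      apply hr
      intro a ha
      rw [← map_smul, hK a ha x, map_zero]
    refine ⟨(LinearEquiv.ofInjective j hj).symm.toLinearMap ∘ₗ
      (ψ.codRestrict (LinearMap.range j) hmem), ?_⟩
    ext x
    rw [LinearMap.compRight_apply, LinearMap.comp_apply, LinearMap.comp_apply,
      LinearEquiv.coe_coe]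
    have := LinearEquiv.apply_symm_apply (LinearEquiv.ofInjective j hj)
      (ψ.codRestrict (LinearMap.range j) hmem x)
    exact congrArg Subtype.val this

end HomLemma

section Main

variable {R' R : Type u} [CommRing R'] [hG : LocCoh.IsGorensteinLocalRing R'] [CommRing R]
  [IsNoetherianRing R] [IsLocalRing R] [Algebra R' R]
  {E : Type u} [AddCommGroup E] [Module R E] {f : ResidueField R →ₗ[R] E}

/-- **existence of canonical modules** for homomorphic images of Gorenstein local rings -/
theorem exists_canonical (hsurj : Function.Surjective (algebraMap R' R)) (n : ℕ)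
    (hn : ringKrullDim R = n) (hf : InjHull.IsInjectiveHull f) :
    ∃ (K : Type u) (_ : AddCommGroup K) (_ : Module R K), Module.Finite R K ∧
      Nonempty ((K →ₗ[R] E) ≃ₗ[R] H (maximalIdeal R) n R) := by
  letI : Module R' E := Module.compHom E (algebraMap R' R)
  haveI : IsScalarTower R' R E := ⟨fun a b x => by
    change (a • b) • x = algebraMap R' R a • b • x
    rw [Algebra.smul_def, mul_smul]⟩
  obtain ⟨E', _, _, f', hf'⟩ :=
    Groth.Agent.Helper1.exists_injectiveHull (R := R') (ResidueField R')
  obtain ⟨j, hj, hr⟩ := exists_hull_embedding hsurj hf' hf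
  obtain ⟨s, hs⟩ := Groth.Agent.Lead.Depth.exists_nat_ringKrullDim (R := R')
  let I : Ideal R' := RingHom.ker (algebraMap R' R)
  have hI : I ≠ ⊤ := RingHom.ker_ne_top _
  have hd : ringKrullDim (R' ⧸ I) = n := by
    rw [← hn]
    exact ringKrullDim_eq_of_ringEquiv (RingHom.quotientKerEquivOfSurjective hsurj)
  obtain ⟨c, rs, hsc, hlen, hreg, hmem, -⟩ := TLD.exists_regular_sequence hs I hI n hd
  obtain ⟨e1⟩ := TLD.nonempty_dual_torsion_equiv_H hs hf' I n c hd hsc rs hlen hreg hmem hI
  have hK0 : ∀ a ∈ I, ∀ x : Submodule.torsionBySet R'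
      (R' ⧸ (Ideal.ofList rs • ⊤ : Submodule R' R')) (I : Set R'), a • x = 0 := by
    intro a ha x
    apply Subtype.ext
    exact (Submodule.mem_torsionBySet_iff _ _).mp x.2 ⟨a, ha⟩
  obtain ⟨e0⟩ := exists_homCongr_of_range (K := Submodule.torsionBySet R'
      (R' ⧸ (Ideal.ofList rs • ⊤ : Submodule R' R')) (I : Set R')) (E := E) (E' := E')
      I hK0 j hj hr
  let eQ : (R' ⧸ I) ≃ₗ[R'] R :=
    (Ideal.quotientKerAlgEquivOfSurjective (f := Algebra.ofId R' R) hsurj).toLinearEquiv
  let X : BMod R' R := { carrier := R }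
  obtain ⟨e3⟩ := exists_equiv_base (maximalIdeal R') n X
  haveI : IsScalarTower R' R (HA (maximalIdeal R') n X) := ⟨fun a b x => by
    change (a • b) • x = algebraMap R' R a • b • x
    rw [Algebra.smul_def, mul_smul]⟩
  have hm : (maximalIdeal R').map (algebraMap R' R) = maximalIdeal R :=
    IsLocalRing.map_maximalIdeal_of_surjective _ hsurj
  refine ⟨R ⊗[R'] Submodule.torsionBySet R'
      (R' ⧸ (Ideal.ofList rs • ⊤ : Submodule R' R')) (I : Set R'), inferInstance, inferInstance,
    inferInstance, ⟨(LinearMap.liftBaseChangeEquiv R).symm ≪≫ₗ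
      (e0 ≪≫ₗ e1 ≪≫ₗ Hcongr (maximalIdeal R') n eQ ≪≫ₗ e3.symm).extendScalarsOfSurjective hsurj
      ≪≫ₗ HcongrIdeal hm n R⟩⟩

end Main

end Groth.Agent.Helper8.CanonEx
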