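import Mathlib
import Groth.Prelude.Def_Wider

/-!
# Torsion-free modules of rank one are ideals (helper8)
An abstract lemma: a finite module `ω` over `B`, killed by a prime `p`, torsion-free over `B/p`,
whose localization at `p` is simple, is isomorphic to a nonzero ideal of `B/p`.
-/

set_option autoImplicit false
universe u v w

namespace Groth.Agent.Helper8.CanonId

open scoped Pointwise

section Unif

variable {B : Type u} [CommRing B] (p : Ideal B) [p.IsPrime] {ω : Type v} [AddCommGroup ω]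
  [Module B ω]

theorem exists_smul_mem_of_fg [Module.Finite B ω] (N : Submodule B ω)
    (h : ∀ x : ω, ∃ s : B, s ∉ p ∧ s • x ∈ N) : ∃ s : B, s ∉ p ∧ ∀ x : ω, s • x ∈ N := by
  classical
  obtain ⟨G, hG⟩ := (Module.Finite.fg_top : (⊤ : Submodule B ω).FG)
  choose s hs hsN using h
  refine ⟨∏ g ∈ G, s g, ?_, ?_⟩
  · intro hmem
    obtain ⟨g, -, hg⟩ := (Ideal.IsPrime.prod_mem_iff (p := p)).mp hmem
    exact hs g hg
  · intro x
    have hx : x ∈ Submodule.span B (G : Set ω) := by rw [hG]; exact Submodule.mem_top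
    have hle : Submodule.span B (G : Set ω) ≤
        N.comap (LinearMap.lsmul B ω (∏ g ∈ G, s g)) := by
      rw [Submodule.span_le]
      intro g hg
      rw [SetLike.mem_coe, Submodule.mem_comap, LinearMap.lsmul_apply,
        ← Finset.mul_prod_erase G s hg, mul_comm, mul_smul]
      exact N.smul_mem _ (hsN g)
    exact hle hx

end Unif

section Main

variable {B : Type u} [CommRing B] (p : Ideal B) [p.IsPrime] {ω : Type u} [AddCommGroup ω]
  [Module B ω] {W : Type u} [AddCommGroup W] [Module B W] [Module (Localization.AtPrime p) W]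
  [IsScalarTower B (Localization.AtPrime p) W]

theorem injective_of_regular (ι : ω →ₗ[B] W) [IsLocalizedModule p.primeCompl ι] (hreg : ∀ b : B, b ∉ p → IsSMulRegular ω b) :
    Function.Injective ι := by
  rw [injective_iff_map_eq_zero]
  intro x hx
  obtain ⟨s, hs⟩ := (IsLocalizedModule.eq_zero_iff p.primeCompl ι).mp hx
  have := hreg s.1 s.2
  apply this
  change s.1 • x = s.1 • (0 : ω)
  rw [smul_zero]
  exact hs

theorem exists_smul_mem_span (ι : ω →ₗ[B] W) [IsLocalizedModule p.primeCompl ι]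
    [IsSimpleModule (Localization.AtPrime p) W]
    (hreg : ∀ b : B, b ∉ p → IsSMulRegular ω b) (x₀ : ω) (hx₀ : x₀ ≠ 0) (x : ω) :
    ∃ s : B, s ∉ p ∧ s • x ∈ Submodule.span B {x₀} := by
  have hinj := injective_of_regular p ι hreg
  have hw₀ : ι x₀ ≠ 0 := fun h => hx₀ (hinj (by rw [h, map_zero]))
  have htop : Submodule.span (Localization.AtPrime p) {ι x₀} = ⊤ := by
    rcases eq_bot_or_eq_top (Submodule.span (Localization.AtPrime p) {ι x₀}) with h | h
    · exact absurd ((Submodule.span_singleton_eq_bot).mp h) hw₀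
    · exact h
  have hmem : ι x ∈ Submodule.span (Localization.AtPrime p) {ι x₀} := by
    rw [htop]; exact Submodule.mem_top
  obtain ⟨t, ht⟩ := Submodule.mem_span_singleton.mp hmem
  obtain ⟨b, s, rfl⟩ := IsLocalization.exists_mk'_eq p.primeCompl t
  refine ⟨s.1, s.2, ?_⟩
  have h1 : ι (s.1 • x) = ι (b • x₀) := by
    rw [map_smul, map_smul, ← ht, ← algebraMap_smul (Localization.AtPrime p) s.1,
      ← algebraMap_smul (Localization.AtPrime p) b, smul_smul, IsLocalization.mk'_spec']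
  rw [hinj h1]
  exact Submodule.smul_mem _ _ (Submodule.mem_span_singleton_self x₀)

/-- the embedding of `ω` into `B/p` -/
theorem exists_injective_to_quotient (ι : ω →ₗ[B] W) [IsLocalizedModule p.primeCompl ι]
    [Module.Finite B ω]
    [IsSimpleModule (Localization.AtPrime p) W]
    (hreg : ∀ b : B, b ∉ p → IsSMulRegular ω b) (hkill : ∀ b ∈ p, ∀ x : ω, b • x = 0) :
    Nontrivial ω ∧ ∃ ψ : ω →ₗ[B] (B ⧸ p), Function.Injective ψ := by
  have hinj := injective_of_regular p ι hreg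
  haveI : Nontrivial W := IsSimpleModule.nontrivial (Localization.AtPrime p) W
  have hω : ∃ x₀ : ω, x₀ ≠ 0 := by
    by_contra hno
    push Not at hno
    obtain ⟨w, hw⟩ := exists_ne (0 : W)
    obtain ⟨⟨x, s⟩, hxs⟩ := IsLocalizedModule.mk'_surjective p.primeCompl ι w
    apply hw
    rw [← hxs, Function.uncurry_apply_pair, hno x, IsLocalizedModule.mk'_zero]
  obtain ⟨x₀, hx₀⟩ := hω
  obtain ⟨s, hs, hsN⟩ := exists_smul_mem_of_fg p (Submodule.span B {x₀})
    (exists_smul_mem_span p ι hreg x₀ hx₀)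
  have htors : Ideal.torsionOf B ω x₀ = p := by
    ext b
    rw [Ideal.mem_torsionOf_iff]
    constructor
    · intro hb
      by_contra hbp
      exact hx₀ (hreg b hbp (by
        change b • x₀ = b • (0 : ω)
        rw [smul_zero]; exact hb))
    · intro hb
      exact hkill b hb x₀
  let φ : ω →ₗ[B] Submodule.span B {x₀} :=
    (LinearMap.lsmul B ω s).codRestrict _ hsN
  have hφ : Function.Injective φ := by
    intro x y hxy
    have h : (φ x).1 = (φ y).1 := congrArg Subtype.val hxy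
    exact hreg s hs h
  let e : Submodule.span B {x₀} ≃ₗ[B] (B ⧸ p) :=
    (Ideal.quotTorsionOfEquivSpanSingleton B ω x₀).symm ≪≫ₗ Submodule.quotEquivOfEq _ _ htors
  exact ⟨⟨⟨x₀, 0, hx₀⟩⟩, e.toLinearMap ∘ₗ φ, e.injective.comp hφ⟩

omit [p.IsPrime] in
theorem exists_ideal_equiv (ψ : ω →ₗ[B] (B ⧸ p)) (hψ : Function.Injective ψ) :
    ∃ I : Ideal (B ⧸ p), Nonempty (ω ≃ₗ[B] I) := by
  let I : Ideal (B ⧸ p) :=
    { carrier := Set.range ψ
      add_mem' := by
        rintro _ _ ⟨x, rfl⟩ ⟨y, rfl⟩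
        exact ⟨x + y, map_add ψ x y⟩
      zero_mem' := ⟨0, map_zero ψ⟩
      smul_mem' := by
        rintro c _ ⟨x, rfl⟩
        obtain ⟨b, rfl⟩ := Ideal.Quotient.mk_surjective c
        refine ⟨b • x, ?_⟩
        rw [map_smul, Algebra.smul_def]
        rfl }
  let φ : ω →ₗ[B] I :=
    { toFun := fun x => ⟨ψ x, ⟨x, rfl⟩⟩
      map_add' := fun x y => Subtype.ext (map_add ψ x y)
      map_smul' := fun b x => Subtype.ext (map_smul ψ b x) }
  refine ⟨I, ⟨LinearEquiv.ofBijective φ ⟨?_, ?_⟩⟩⟩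
  · intro x y hxy
    have h : (φ x).1 = (φ y).1 := congrArg Subtype.val hxy
    exact hψ h
  · rintro ⟨_, ⟨x, rfl⟩⟩
    exact ⟨x, rfl⟩

/-- a finite `B`-module killed by `p`, torsion-free over `B/p`, with simple localization at `p`,
is isomorphic to a nonzero ideal of `B/p` -/
theorem exists_ideal_equiv_of_simple (ι : ω →ₗ[B] W) [IsLocalizedModule p.primeCompl ι]
    [Module.Finite B ω] [IsSimpleModule (Localization.AtPrime p) W]
    (hreg : ∀ b : B, b ∉ p → IsSMulRegular ω b) (hkill : ∀ b ∈ p, ∀ x : ω, b • x = 0) :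
    ∃ I : Ideal (B ⧸ p), I ≠ ⊥ ∧ Nonempty (ω ≃ₗ[B] I) := by
  obtain ⟨hnt, ψ, hψ⟩ := exists_injective_to_quotient p ι hreg hkill
  obtain ⟨I, ⟨e⟩⟩ := exists_ideal_equiv p ψ hψ
  refine ⟨I, ?_, ⟨e⟩⟩
  intro hI
  obtain ⟨x, y, hxy⟩ := hnt
  apply hxy
  apply e.injective
  have h1 : ∀ z : I, z = 0 := by
    intro z
    apply Subtype.ext
    have h2 : (z : B ⧸ p) ∈ (⊥ : Ideal (B ⧸ p)) := hI ▸ z.2
    exact (Ideal.mem_bot).mp h2
  rw [h1 (e x), h1 (e y)]

end Main

end Groth.Agent.Helper8.CanonId
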