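import Mathlib

/-!
# Unmixed height-one ideals in local factorial domains are principal (helper8)
-/

set_option autoImplicit false
universe u

namespace Groth.Agent.Helper8.CanonId

open IsLocalRing
open scoped Pointwise

variable {A : Type u} [CommRing A] [IsDomain A] [IsNoetherianRing A] [IsLocalRing A]
  [UniqueFactorizationMonoid A]

/-- in a Noetherian local UFD, a nonzero ideal all of whose associated primes have height one is
principal -/
theorem exists_eq_span_singleton (I : Ideal A) (hI0 : I ≠ ⊥)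
    (hun : ∀ q ∈ associatedPrimes A (A ⧸ I), q.height = 1) :
    ∃ a : A, a ≠ 0 ∧ I = Ideal.span {a} := by
  let T : Set (Ideal A) := {J | ∃ a : A, a ≠ 0 ∧ I = Ideal.span {a} * J}
  have hT : T.Nonempty := ⟨I, 1, one_ne_zero, by rw [Ideal.span_singleton_one, Ideal.top_mul]⟩
  obtain ⟨J₀', ⟨a₀, ha₀, hIJ⟩, hmax⟩ :=
    (set_has_maximal_iff_noetherian (R := A) (M := A)).mpr inferInstance T hT
  obtain ⟨J₀, rfl⟩ : ∃ J₀ : Ideal A, J₀ = J₀' := ⟨J₀', rfl⟩
  have hJ0 : J₀ ≠ ⊥ := by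
    intro h
    apply hI0
    rw [hIJ, h, Ideal.mul_bot]
  by_cases htop : J₀ = ⊤
  · exact ⟨a₀, ha₀, by rw [hIJ, htop, Ideal.mul_top]⟩
  exfalso
  haveI : Nontrivial (A ⧸ J₀) := Ideal.Quotient.nontrivial_iff.mpr htop
  obtain ⟨q, hq⟩ := associatedPrimes.nonempty A (A ⧸ J₀)
  haveI hqp : q.IsPrime := ((AssociatedPrimes.mem_iff).mp hq).isPrime
  -- the injection `A/J₀ → A/I`
  have hle : J₀ ≤ Submodule.comap (LinearMap.lsmul A A a₀) I := by
    intro y hy
    rw [Submodule.mem_comap, LinearMap.lsmul_apply, smul_eq_mul, hIJ]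
    exact Ideal.mul_mem_mul (Ideal.mem_span_singleton_self a₀) hy
  let φ : (A ⧸ J₀) →ₗ[A] (A ⧸ I) := Submodule.mapQ J₀ I (LinearMap.lsmul A A a₀) hle
  have hφ : Function.Injective φ := by
    rw [injective_iff_map_eq_zero]
    intro x hx
    obtain ⟨y, rfl⟩ := Submodule.Quotient.mk_surjective _ x
    rw [Submodule.mapQ_apply, Submodule.Quotient.mk_eq_zero, LinearMap.lsmul_apply, smul_eq_mul,
      hIJ, Ideal.mem_span_singleton_mul] at hx
    obtain ⟨j, hj, hjy⟩ := hx
    rw [Submodule.Quotient.mk_eq_zero]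
    have : j = y := mul_left_cancel₀ ha₀ hjy
    rw [← this]
    exact hj
  have hqI : q ∈ associatedPrimes A (A ⧸ I) := associatedPrimes.subset_of_injective hφ hq
  have hht := hun q hqI
  obtain ⟨π, hπ⟩ := (UniqueFactorizationMonoid.isPrincipal_of_height_eq_one hht).principal
  have hqπ : q = Ideal.span {π} := hπ
  have hq0 : q ≠ ⊥ := Ideal.ne_bot_of_height_eq_one hht
  have hπ0 : π ≠ 0 := by
    intro h
    apply hq0
    rw [hqπ, h, Ideal.span_singleton_eq_bot]
  have hπm : π ∈ maximalIdeal A := by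
    have : q ≤ maximalIdeal A := IsLocalRing.le_maximalIdeal hqp.ne_top
    apply this
    rw [hqπ]
    exact Ideal.mem_span_singleton_self π
  -- `J₀ ≤ q`
  have hJq : J₀ ≤ q := by
    have := ((AssociatedPrimes.mem_iff).mp hq).annihilator_le
    rwa [Submodule.annihilator_top, Ideal.annihilator_quotient] at this
  -- `J₁ = (J₀ : π)`
  let J₁ : Ideal A := Submodule.comap (LinearMap.lsmul A A π) J₀
  have hJ₁ : ∀ y, y ∈ J₁ ↔ π * y ∈ J₀ := fun y => Iff.rfl
  have hJ01 : J₀ ≤ J₁ := fun y hy => (hJ₁ y).mpr (Ideal.mul_mem_left J₀ π hy)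
  have hJeq : J₀ = Ideal.span {π} * J₁ := by
    apply le_antisymm
    · intro j hj
      have hjq := hJq hj
      rw [hqπ, Ideal.mem_span_singleton] at hjq
      obtain ⟨y, rfl⟩ := hjq
      rw [Ideal.mem_span_singleton_mul]
      exact ⟨y, (hJ₁ y).mpr hj, rfl⟩
    · rw [Ideal.span_singleton_mul_le_iff]
      intro y hy
      exact (hJ₁ y).mp hy
  have hJ₁T : J₁ ∈ T := by
    refine ⟨a₀ * π, mul_ne_zero ha₀ hπ0, ?_⟩
    rw [hIJ, ← Ideal.span_singleton_mul_span_singleton, mul_assoc, ← hJeq]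
  have hJ10 : J₁ = J₀ := by
    by_contra hne
    exact hmax J₁ hJ₁T (lt_of_le_of_ne hJ01 (Ne.symm hne))
  rw [hJ10] at hJeq
  apply hJ0
  have hfg : (J₀ : Submodule A A).FG := IsNoetherian.noetherian J₀
  refine Submodule.eq_bot_of_le_smul_of_le_jacobson_bot (Ideal.span {π}) J₀ hfg ?_ ?_
  · rw [smul_eq_mul, ← hJeq]
  · rw [IsLocalRing.jacobson_eq_maximalIdeal ⊥ bot_ne_top, Ideal.span_singleton_le_iff_mem]
    exact hπm

end Groth.Agent.Helper8.CanonId
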