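import Groth.Agent.Lib.Helper8.CanonId2
import Groth.Agent.Lib.Helper8.CanonId3

/-!
# Cohen–Macaulay factorial quotients of Gorenstein local rings are Gorenstein (helper8)
-/

set_option autoImplicit false
universe u

namespace Groth.Agent.Helper8.CanonId

open IsLocalRing CategoryTheory Abelian Groth.Agent.Helper8 Groth.Agent.Helper8.LC
  Groth.Agent.Helper8.Canon Groth.Agent.Helper8.Gor
open scoped Pointwise TensorProduct

variable {B : Type u} [CommRing B] [hG : LocCoh.IsGorensteinLocalRing B] (p : Ideal B)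
  [hp : p.IsPrime] [hCM : LocCoh.IsCohenMacaulayLocalRing (B ⧸ p)]

/-- if `Ext^{ht p}(B/p, B) ≃ B/p` then `B/p` is Gorenstein -/
theorem isGorensteinLocalRing_of_ext_equiv (r : ℕ) (hr : p.height = r)
    (e : Ext (ModuleCat.of B (B ⧸ p)) (ModuleCat.of B B) r ≃ₗ[B] (B ⧸ p)) :
    LocCoh.IsGorensteinLocalRing (B ⧸ p) := by
  have hsurj : Function.Surjective (algebraMap B (B ⧸ p)) := Ideal.Quotient.mk_surjective
  have hker : RingHom.ker (algebraMap B (B ⧸ p)) = p := Ideal.mk_ker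
  obtain ⟨d, hd⟩ := Groth.Agent.Lead.Depth.exists_nat_ringKrullDim (R := B ⧸ p)
  obtain ⟨E, _, _, f, hf⟩ :=
    Groth.Agent.Helper1.exists_injectiveHull (R := B ⧸ p) (ResidueField (B ⧸ p))
  obtain ⟨K, _, _, _, _, hfin, ⟨eK⟩, ⟨eH⟩⟩ :=
    CanonEx.exists_canonical_ext hsurj d hd hf r (by rw [hker]; exact hr)
  let eq : (B ⧸ RingHom.ker (algebraMap B (B ⧸ p))) ≃ₗ[B] (B ⧸ p) :=
    Submodule.quotEquivOfEq _ _ hker
  let eKA : K ≃ₗ[B ⧸ p] (B ⧸ p) :=
    (eK ≪≫ₗ (extCongrLeft eq (ModuleCat.of B B) r).symm ≪≫ₗ e).extendScalarsOfSurjective hsurj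
  have h := hasInjectiveDimensionLT_canon hd hf eH
  have h2 : CategoryTheory.HasInjectiveDimensionLT (ModuleCat.of (B ⧸ p) (B ⧸ p)) (d + 1) :=
    CategoryTheory.hasInjectiveDimensionLT_of_iso (eKA.toModuleIso) (d + 1)
  exact { exists_hasInjectiveDimensionLT := ⟨d + 1, h2⟩ }

/-- **Murthy**: a Cohen–Macaulay factorial quotient of a Gorenstein local ring is Gorenstein -/
theorem isGorensteinLocalRing_of_ufd [UniqueFactorizationMonoid (B ⧸ p)] :
    LocCoh.IsGorensteinLocalRing (B ⧸ p) := by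
  have hne : p.height ≠ ⊤ := Ideal.height_ne_top hp.ne_top
  obtain ⟨r, hr⟩ := ENat.ne_top_iff_exists.mp hne
  obtain ⟨I, hI0, ⟨e⟩, hun⟩ := exists_ideal_equiv_ext p r hr.symm
  obtain ⟨a, ha, hIa⟩ := exists_eq_span_singleton I hI0 hun
  subst hIa
  let e1 : (B ⧸ p) ≃ₗ[B ⧸ p] (Ideal.span {a} : Ideal (B ⧸ p)) :=
    LinearEquiv.toSpanNonzeroSingleton (B ⧸ p) (B ⧸ p) a ha
  exact isGorensteinLocalRing_of_ext_equiv p r hr.symm (e ≪≫ₗ (e1.symm.restrictScalars B))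

end Groth.Agent.Helper8.CanonId
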