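import Groth.Agent.Lib.Helper8.CanonEx2
import Groth.Agent.Lib.Helper8.ExtLoc1
import Groth.Agent.Lib.Helper8.Canon13

/-!
# Localization of canonical modules (helper8)
Part 1: recognizing canonical modules of quotients of Gorenstein local rings.
-/

set_option autoImplicit false
universe u

namespace Groth.Agent.Helper8.CanonLoc

open IsLocalRing CategoryTheory Abelian Groth.Agent.Helper8 Groth.Agent.Helper8.LC
  Groth.Agent.Helper8.Canon Groth.Agent.Helper8.Gor
open scoped Pointwise TensorProduct

section Grade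

variable {R : Type u} [CommRing R] [hG : LocCoh.IsGorensteinLocalRing R]

/-- in a Gorenstein local ring, `Ext^i(R/I, R) = 0` for `i < ht I` -/
theorem ext_quotient_subsingleton_of_lt_height (I : Ideal R) (hI : I ≠ ⊤) (g : ℕ)
    (hg : I.height = g) (i : ℕ) (hi : i < g) :
    Subsingleton (Ext (ModuleCat.of R (R ⧸ I)) (ModuleCat.of R R) i) := by
  obtain ⟨s, hs⟩ := Groth.Agent.Lead.Depth.exists_nat_ringKrullDim (R := R)
  haveI : Nontrivial (R ⧸ I) := Ideal.Quotient.nontrivial_iff.mpr hI
  haveI : IsLocalRing (R ⧸ I) :=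
    IsLocalRing.of_surjective' (Ideal.Quotient.mk I) Ideal.Quotient.mk_surjective
  obtain ⟨d, hd⟩ := Groth.Agent.Lead.Depth.exists_nat_ringKrullDim (R := R ⧸ I)
  obtain ⟨c, rs, hsc, hlen, hreg, hmem, hvan⟩ := TLD.exists_regular_sequence hs I hI d hd
  have hcg : c = g := by
    have hIeq : (I • ⊤ : Submodule R R) = I := by
      change I • (⊤ : Ideal R) = I
      rw [smul_eq_mul, Ideal.mul_top]
    have htop : I • (⊤ : Submodule R R) ≠ ⊤ := by
      rw [hIeq]; exact hI
    have h1 : (c : ℕ∞) ≤ LocCoh.idealDepth I R :=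
      (Groth.Agent.Lead.Depth.le_idealDepth_iff I R htop c).mpr ⟨rs, hlen, hreg, hmem⟩
    have h2 := Groth.Agent.Lead.Depth.idealDepth_self_le_height I
    have h3 : c ≤ g := by
      have : (c : ℕ∞) ≤ (g : ℕ∞) := by rw [← hg]; exact h1.trans h2
      exact_mod_cast this
    have h4 := TLD.height_add_le I d s hd hs
    rw [hg] at h4
    have h5 : g + d ≤ s := by exact_mod_cast h4
    omega
  exact hvan i (by omega)

end Grade

section Recognize

variable {S T : Type u} [CommRing S] [hG : LocCoh.IsGorensteinLocalRing S] [CommRing T]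
  [IsNoetherianRing T] [IsLocalRing T] [Algebra S T]
  {E : Type u} [AddCommGroup E] [Module T E] {f : ResidueField T →ₗ[T] E}

/-- a `T`-module which over `S` looks like a nonzero `Ext^c(S/J, S)`, with vanishing below `c`, is
a canonical module of `T = S/J` -/
theorem nonempty_dual_equiv_of_ext_equiv (hsurj : Function.Surjective (algebraMap S T)) (h : ℕ)
    (hh : ringKrullDim T = h) (hf : InjHull.IsInjectiveHull f)
    (M : Type u) [AddCommGroup M] [Module T M] [Module S M] [IsScalarTower S T M]
    [Nontrivial M] (c : ℕ)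
    (e : M ≃ₗ[S] Ext (ModuleCat.of S (S ⧸ RingHom.ker (algebraMap S T))) (ModuleCat.of S S) c)
    (hvan : ∀ i < c, Subsingleton
      (Ext (ModuleCat.of S (S ⧸ RingHom.ker (algebraMap S T))) (ModuleCat.of S S) i)) :
    Nonempty ((M →ₗ[T] E) ≃ₗ[T] H (maximalIdeal T) h T) := by
  have hJ : RingHom.ker (algebraMap S T) ≠ ⊤ := RingHom.ker_ne_top _
  have hne : (RingHom.ker (algebraMap S T)).height ≠ ⊤ := Ideal.height_ne_top hJ
  obtain ⟨g, hg⟩ := ENat.ne_top_iff_exists.mp hne
  obtain ⟨K₂, _, _, _, _, hfin, ⟨e₂⟩, ⟨eH⟩⟩ :=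
    CanonEx.exists_canonical_ext hsurj h hh hf g hg.symm
  haveI hK₂ : Nontrivial K₂ := nontrivial_canon hh eH
  have hcg : c = g := by
    rcases lt_trichotomy c g with hlt | heq | hgt
    · exfalso
      haveI := ext_quotient_subsingleton_of_lt_height _ hJ g hg.symm c hlt
      haveI : Subsingleton M := e.toEquiv.subsingleton
      exact not_subsingleton M inferInstance
    · exact heq
    · exfalso
      haveI := hvan g hgt
      haveI : Subsingleton K₂ := e₂.toEquiv.subsingleton
      exact not_subsingleton K₂ inferInstance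
  subst hcg
  let eMK : M ≃ₗ[T] K₂ := (e ≪≫ₗ e₂.symm).extendScalarsOfSurjective hsurj
  exact ⟨(LinearEquiv.congrLeft E T eMK) ≪≫ₗ eH⟩

end Recognize

end Groth.Agent.Helper8.CanonLoc
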