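import Groth.Agent.Lib.Helper8.RMod8
import Groth.Agent.Lib.Helper8.RMod7
import Groth.Agent.Lib.Helper8.HomH

/-!
# Change of rings along a surjection `B → C` (helper8)

For a bounded below complex of injective `B`-modules `J`, the complex `W = Hom_B(C, J)` computes
`RHom_B(C, J)`.  If `Ext^j_B(C, J)` vanishes for `j ≠ e` and is `C` for `j = e`, then
`W ≅ C[-e]` and `Hom_{D(B)}(Y, J[i]) ≃ Hom_{D(C)}(Y, C[i - e])` for `Y ∈ D(C)`.
-/

set_option autoImplicit false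

open CategoryTheory CategoryTheory.Limits

universe u

namespace Groth.Agent.Helper8.CoR

open DerivedCategory Groth.Agent.Helper8.BiDual Groth.Agent.Helper3.HT Groth.Agent.Helper8.RMod

attribute [local instance] HasDerivedCategory.standard

variable {B C : Type u} [CommRing B] [CommRing C] (φ : B →+* C)
  (J : DRing.Cx B) (a : ℤ) (ha : ∀ i : ℤ, i < a → IsZero (J.X i))
  (hJ : ∀ i : ℤ, Injective (J.X i))

include ha hJ in
/-- `Hom_{D(C)}(Y, W[i]) ≃ Hom_{D(B)}(res Y, J[i])` -/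
theorem nonempty_homShiftEquiv (Y : Dual.D C) (i : ℤ) :
    Nonempty ((Y ⟶ (Q.obj ((coC φ).obj J))⟦i⟧) ≃
      ((DRing.restrictD φ).obj Y ⟶ (Q.obj J)⟦i⟧)) := by
  let J' : DRing.Cx B := (shiftFunctor (CochainComplex (ModuleCat.{u} B) ℤ) i).obj J
  have ha' : ∀ n : ℤ, n < a - i → IsZero (J'.X n) := fun n hn => ha (n + i) (by omega)
  have hJ' : ∀ n : ℤ, Injective (J'.X n) := fun n => hJ (n + i)
  let ι1 : (Q.obj ((coC φ).obj J))⟦i⟧ ≅
      Q.obj ((shiftFunctor (CochainComplex (ModuleCat.{u} C) ℤ) i).obj ((coC φ).obj J)) :=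
    ((Q.commShiftIso i).app ((coC φ).obj J)).symm
  let ι2 : Q.obj ((shiftFunctor (CochainComplex (ModuleCat.{u} C) ℤ) i).obj ((coC φ).obj J)) ≅
      Q.obj ((coC φ).obj J') :=
    Q.mapIso (((coF φ).mapCochainComplexShiftIso i).app J).symm
  let ιW : (Q.obj ((coC φ).obj J))⟦i⟧ ≅ Q.obj ((coC φ).obj J') := ι1 ≪≫ ι2
  let ιJ : Q.obj J' ≅ (Q.obj J)⟦i⟧ := (Q.commShiftIso i).app J
  let T := Q.objPreimage Y
  let eX : Q.obj T ≅ Y := Q.objObjPreimageIso Y
  have hΘ := Theta_bijective_Q φ J' (a - i) ha' hJ' T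
  exact ⟨(Iso.homCongr eX.symm ιW).trans ((Equiv.ofBijective _ hΘ).trans
    (Iso.homCongr ((DRing.restrictD φ).mapIso eX) ιJ))⟩

include ha hJ in
/-- the cohomology of `W`, restricted to `B`, is `Ext_B(C, J)` -/
theorem nonempty_homology_W_equiv (hinj : DRing.TermwiseInjective J) (j : ℤ) :
    Nonempty (((resF φ).obj ((homologyFunctor (ModuleCat.{u} C) j).obj
        (Q.obj ((coC φ).obj J)))) ≃ₗ[B]
      ((singleFunctor (ModuleCat.{u} B) 0).obj (BA φ) ⟶ (Q.obj J)⟦j⟧)) := by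
  have hJK : J.IsKInjective := Groth.Agent.Helper11.DC.isKInjective_of_vanishesBelow J a ha hinj
  obtain ⟨e⟩ := Groth.Agent.Helper8.HomH.nonempty_homology_homCx_equiv (sg (BA φ)) J j
  let e0 := ((homologyFunctorFactors (ModuleCat.{u} B) j).app
    (DRing.homCx (sg (BA φ)) J)).toLinearEquiv
  let e1 := (Groth.Agent.Helper11.DC.homologyRestrictIso φ (Q.obj ((coC φ).obj J)) j).symm ≪≫
    (homologyFunctor (ModuleCat.{u} B) j).mapIso (alphaD φ J)
  exact ⟨e1.toLinearEquiv.trans (e0.trans e)⟩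

omit J in
/-- a `B`-linear equivalence between `C`-modules is `C`-linear when `B → C` is surjective -/
noncomputable def linearEquivOfRestrict (hφ : Function.Surjective φ) (M N : ModuleCat.{u} C)
    (e : (resF φ).obj M ≃ₗ[B] (resF φ).obj N) : M ≃ₗ[C] N where
  toFun x := e x
  invFun y := e.symm y
  left_inv x := e.symm_apply_apply x
  right_inv y := e.apply_symm_apply y
  map_add' x y := e.map_add x y
  map_smul' c x := by
    obtain ⟨b, rfl⟩ := hφ c
    exact e.map_smul b x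

include ha hJ in
/-- if `Ext^j_B(C, J)` is `0` for `j ≠ e` and `C` for `j = e`, then `W ≅ C[-e]` -/
theorem nonempty_W_iso (hφ : Function.Surjective φ) (hinj : DRing.TermwiseInjective J) (e : ℤ)
    (hvan : ∀ j : ℤ, j ≠ e →
      Subsingleton ((singleFunctor (ModuleCat.{u} B) 0).obj (BA φ) ⟶ (Q.obj J)⟦j⟧))
    (he : Nonempty (((singleFunctor (ModuleCat.{u} B) 0).obj (BA φ) ⟶ (Q.obj J)⟦e⟧) ≃ₗ[B] BA φ)) :
    Nonempty (Q.obj ((coC φ).obj J) ≅ (Dual.inD C C)⟦-e⟧) := by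
  let W := Q.obj ((coC φ).obj J)
  have h0 : ∀ j : ℤ, j ≠ 0 → IsZero ((homologyFunctor (ModuleCat.{u} C) j).obj (W⟦e⟧)) := by
    intro j hj
    obtain ⟨e1⟩ := nonempty_homology_W_equiv φ J a ha hJ hinj (e + j)
    have := hvan (e + j) (by omega)
    have h1 : Subsingleton ((resF φ).obj ((homologyFunctor (ModuleCat.{u} C) (e + j)).obj W)) :=
      e1.toEquiv.subsingleton
    have h2 : Subsingleton ((homologyFunctor (ModuleCat.{u} C) (e + j)).obj W) :=
      ⟨fun x y => @Subsingleton.elim _ h1 x y⟩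
    exact (ModuleCat.isZero_of_subsingleton _).of_iso
      (Groth.Agent.Helper8.RFin.sigma' W e j (e + j) rfl)
  obtain ⟨e1⟩ := nonempty_homology_W_equiv φ J a ha hJ hinj e
  obtain ⟨e2⟩ := he
  let e3 : (homologyFunctor (ModuleCat.{u} C) e).obj W ≃ₗ[C] (ModuleCat.of C C) :=
    linearEquivOfRestrict φ hφ _ (ModuleCat.of C C) (e1.trans e2)
  let e4 : (homologyFunctor (ModuleCat.{u} C) 0).obj (W⟦e⟧) ≃ₗ[C] C :=
    (Groth.Agent.Helper8.RFin.sigma' W e 0 e (by omega)).toLinearEquiv.trans e3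
  obtain ⟨e5⟩ := nonempty_iso_inD_of_homology (W⟦e⟧) C h0 e4
  exact ⟨((shiftFunctorCompIsoId (Dual.D C) e (-e) (by omega)).app W).symm ≪≫
    (shiftFunctor (Dual.D C) (-e)).mapIso e5⟩

include ha hJ in
/-- **change of rings** -/
theorem nonempty_changeOfRings_equiv (hφ : Function.Surjective φ)
    (hinj : DRing.TermwiseInjective J) (e : ℤ)
    (hvan : ∀ j : ℤ, j ≠ e →
      Subsingleton ((singleFunctor (ModuleCat.{u} B) 0).obj (BA φ) ⟶ (Q.obj J)⟦j⟧))
    (he : Nonempty (((singleFunctor (ModuleCat.{u} B) 0).obj (BA φ) ⟶ (Q.obj J)⟦e⟧) ≃ₗ[B] BA φ))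
    (Y : Dual.D C) (i k : ℤ) (hk : -e + i = k) :
    Nonempty (((DRing.restrictD φ).obj Y ⟶ (Q.obj J)⟦i⟧) ≃ (Y ⟶ (Dual.inD C C)⟦k⟧)) := by
  obtain ⟨e1⟩ := nonempty_homShiftEquiv φ J a ha hJ Y i
  obtain ⟨e2⟩ := nonempty_W_iso φ J a ha hJ hφ hinj e hvan he
  let e3 : (Q.obj ((coC φ).obj J))⟦i⟧ ≅ (Dual.inD C C)⟦k⟧ :=
    (shiftFunctor (Dual.D C) i).mapIso e2 ≪≫
      ((shiftFunctorAdd' (Dual.D C) (-e) i k hk).app (Dual.inD C C)).symm
  exact ⟨e1.symm.trans (Iso.homCongr (Iso.refl Y) e3)⟩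

end Groth.Agent.Helper8.CoR
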