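import Groth.Agent.Lib.Helper8.PolyInj1

/-!
# Injective dimension of `A[X] ⊗ E` over `A[X]`, part 2 (helper8)
-/


set_option autoImplicit false
universe u

namespace Groth.Agent.Helper8.PolyInj

open CategoryTheory Abelian Polynomial

variable {A : Type u} [CommRing A]

/-- the short complex `N → Hom_A(A[X],N) → Hom_A(A[X],N)` -/
noncomputable def sc (N : ModuleCat.{u} A[X]) : ShortComplex (ModuleCat.{u} A[X]) :=
  ShortComplex.mk (ι N) (d N) (ι_d N)

theorem sc_shortExact (N : ModuleCat.{u} A[X]) : (sc N).ShortExact := by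
  have : Mono (sc N).f := (ModuleCat.mono_iff_injective _).mpr (ι_injective N)
  have : Epi (sc N).g := (ModuleCat.epi_iff_surjective _).mpr (fun ψ => ⟨preim N ψ, d_preim N ψ⟩)
  refine ShortComplex.ShortExact.mk ?_
  rw [ShortComplex.moduleCat_exact_iff]
  intro φ hφ
  exact exists_of_d_eq_zero N φ hφ

theorem injective_coext (N : ModuleCat.{u} A[X])
    (hN : Injective ((ModuleCat.restrictScalars (fC A)).obj N)) : Injective (coext N) :=
  Injective.injective_of_adjoint (ModuleCat.restrictCoextendScalarsAdj (fC A)) _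

theorem ext_subsingleton (N : ModuleCat.{u} A[X])
    (hN : Injective ((ModuleCat.restrictScalars (fC A)).obj N)) (Y : ModuleCat.{u} A[X]) (k : ℕ) :
    Subsingleton (Ext Y N (k + 2)) := by
  have := injective_coext N hN
  have : Injective (sc N).X₂ := injective_coext N hN
  have : Injective (sc N).X₃ := injective_coext N hN
  refine ⟨fun x y => ?_⟩
  have key : ∀ x : Ext Y N (k + 2), x = 0 := by
    intro x
    have h1 : x.comp (Ext.mk₀ (sc N).f) (add_zero (k + 2)) = 0 := Ext.eq_zero_of_injective _
    obtain ⟨x₃, hx₃⟩ := Ext.covariant_sequence_exact₁ Y (sc_shortExact N) x h1 (n₀ := k + 1) rfl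
    rw [← hx₃, Ext.eq_zero_of_injective x₃, Ext.zero_comp]
    rfl
  rw [key x, key y]

end Groth.Agent.Helper8.PolyInj

namespace Groth.Agent.Helper8.PolyInj

open CategoryTheory Abelian Polynomial TensorProduct

variable {A : Type u} [CommRing A]

theorem injective_polynomial_tensor [IsNoetherianRing A] (E : Type u) [AddCommGroup E] [Module A E]
    [Module.Injective A E] : Module.Injective A (A[X] ⊗[A] E) := by
  let e1 : A[X] ⊗[A] E ≃ₗ[A] (ℕ →₀ A) ⊗[A] E :=
    TensorProduct.congr (Polynomial.basisMonomials A).repr (LinearEquiv.refl A E)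
  let e2 : (ℕ →₀ A) ⊗[A] E ≃ₗ[A] (ℕ →₀ E) := TensorProduct.finsuppScalarLeft A E ℕ
  let e3 : (ℕ →₀ E) ≃ₗ[A] (ULift.{u} ℕ →₀ E) := Finsupp.domLCongr Equiv.ulift.symm
  let e4 : (ULift.{u} ℕ →₀ E) ≃ₗ[A] DirectSum (ULift.{u} ℕ) (fun _ => E) :=
    finsuppLEquivDirectSum A E (ULift.{u} ℕ)
  have h := Groth.Agent.Helper1.injective_directSum (R := A) (ι := ULift.{u} ℕ) (fun _ => E)
    (fun _ => inferInstance)
  exact Groth.Agent.Helper1.injective_of_linearEquiv
    (e1.trans (e2.trans (e3.trans e4))).symm h

theorem injective_restrictScalars_polynomial_tensor [IsNoetherianRing A] (E : Type u)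
    [AddCommGroup E] [Module A E] [Module.Injective A E] :
    Injective ((ModuleCat.restrictScalars (fC A)).obj (ModuleCat.of A[X] (A[X] ⊗[A] E))) := by
  have h := injective_polynomial_tensor (A := A) E
  have h2 : Injective (ModuleCat.of A (A[X] ⊗[A] E)) :=
    Module.injective_object_of_injective_module A (A[X] ⊗[A] E)
  let e' : (A[X] ⊗[A] E) ≃ₗ[A]
      ↑((ModuleCat.restrictScalars (fC A)).obj (ModuleCat.of A[X] (A[X] ⊗[A] E))) :=
      { toFun := fun x => x
        invFun := fun x => x
        map_add' := fun _ _ => rfl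
        map_smul' := fun a x => by
          have h3 : ∀ y : A[X] ⊗[A] E, a • y = (C a : A[X]) • y := by
            intro y
            rw [← Polynomial.algebraMap_eq, algebraMap_smul]
          exact h3 x
        left_inv := fun _ => rfl
        right_inv := fun _ => rfl }
  let e : ModuleCat.of A (A[X] ⊗[A] E) ≅
      (ModuleCat.restrictScalars (fC A)).obj (ModuleCat.of A[X] (A[X] ⊗[A] E)) :=
    e'.toModuleIso
  exact Injective.of_iso e h2

end Groth.Agent.Helper8.PolyInj
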