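import Groth.Agent.Lib.Helper8.FBC8
import Groth.Agent.Lib.Helper11.DCInj
import Groth.Agent.S1748

/-!
# Flat base change of dualizing complexes: finite injective dimension criterion, polynomial rings
(helper8)
-/

set_option autoImplicit false

open CategoryTheory CategoryTheory.Limits Opposite Pretriangulated

universe u

namespace Groth.Agent.Helper8.FBC

open DerivedCategory TensorProduct ChangeOfRings Groth.Agent.Helper8.LOC IsLocalRing
open scoped Polynomial

attribute [local instance] HasDerivedCategory.standard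

section General

variable {A : Type u} [CommRing A] (B : Type u) [CommRing B] [Algebra A B]
  [PreservesFiniteLimits (Efun (algebraMap A B))]
  [IsNoetherianRing A] [IsNoetherianRing B] [Module.Flat A B]

/-- flat base change of a dualizing complex is dualizing as soon as it has finite injective
dimension -/
theorem isDualizing_Ld_of_hasFiniteInjDim (ω : Dual.D A) (hω : Dual.IsDualizing A ω)
    (hinj : DRing.HasFiniteInjDim B ((Ld (algebraMap A B)).obj ω)) :
    Dual.IsDualizing B ((Ld (algebraMap A B)).obj ω) := by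
  obtain ⟨a₀, b₀, hab⟩ := exists_isZero_homology ω hω
  have hlow : ∀ j : ℤ, j < a₀ → IsZero ((homologyFunctor (ModuleCat.{u} A) j).obj ω) :=
    fun j hj => hab j (Or.inl hj)
  obtain ⟨a, b, hamp⟩ := hinj
  refine ⟨inferInstance, ⟨a, b, ?_⟩, finite_homology_Ld B ω hω, ?_, ?_⟩
  · intro N _ _ i hi
    refine ⟨fun x y => ?_⟩
    rw [Groth.Agent.Helper11.DC.hom_eq_zero_of_injAmp _ a b hamp (ModuleCat.of B N) i hi x,
      Groth.Agent.Helper11.DC.hom_eq_zero_of_injAmp _ a b hamp (ModuleCat.of B N) i hi y]
  · exact toEnd_Ld_bijective B ω a₀ b₀ hab hω.finite_cohomology hω.toEnd_bijective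
  · intro i hi
    have h1 := subsingleton_Ld_hom B ω a₀ b₀ hab hω.finite_cohomology (ω⟦i⟧) (a₀ - i)
      (isZero_homology_shift ω a₀ hlow i) (hω.ext_self_subsingleton i hi)
    exact (Iso.homCongr (Iso.refl _)
      (((Ld (algebraMap A B)).commShiftIso i).app ω)).subsingleton_congr.mp h1

end General

section Poly

variable {A : Type u} [CommRing A] [IsNoetherianRing A]

theorem hasFiniteInjDim_Ld_polynomial [PreservesFiniteLimits (Efun (algebraMap A A[X]))]
    (ω : Dual.D A) (hω : Dual.IsDualizing A ω) :
    DRing.HasFiniteInjDim A[X] ((Ld (algebraMap A A[X])).obj ω) := by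
  obtain ⟨J, a, b, e, hvan, hinj, -, -, -⟩ := Groth.Agent.Helper8.BiDual.exists_model ω hω
  have h1 : DRing.HasFiniteInjDim A[X] (Q.obj
      (((Efun (algebraMap A A[X])).mapHomologicalComplex (ComplexShape.up ℤ)).obj J)) := by
    refine Groth.Agent.Helper11.DC.thickLike_hasFiniteInjDim.of_bounded _ a b
      (fun i hi => (Efun (algebraMap A A[X])).map_isZero (hvan i hi)) (fun i => ?_)
    have := hinj i
    have h2 := Groth.Agent.S1748.result A (J.X i)
    refine Groth.Agent.Helper11.DC.thickLike_hasFiniteInjDim.iso ?_ ⟨0, 1, h2⟩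
    exact (singleFunctor (ModuleCat.{u} A[X]) 0).mapIso (EfunEquiv A[X] (J.X i)).toModuleIso.symm
  exact Groth.Agent.Helper11.DC.thickLike_hasFiniteInjDim.iso
    (((Efun (algebraMap A A[X])).mapDerivedCategoryFactors.app J).symm ≪≫
      (Ld (algebraMap A A[X])).mapIso e) h1

/-- `ω ⊗ A[X]` is dualizing -/
theorem isDualizing_Ld_polynomial [PreservesFiniteLimits (Efun (algebraMap A A[X]))]
    (ω : Dual.D A) (hω : Dual.IsDualizing A ω) :
    Dual.IsDualizing A[X] ((Ld (algebraMap A A[X])).obj ω) :=
  isDualizing_Ld_of_hasFiniteInjDim A[X] ω hω (hasFiniteInjDim_Ld_polynomial ω hω)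

end Poly

end Groth.Agent.Helper8.FBC
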