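import Groth.Agent.Lib.Helper8.CoR1
import Groth.Agent.Lib.Helper8.FBC9
import Groth.Agent.Lib.Helper8.BassCx2

/-!
# Flat local homomorphisms with Gorenstein closed fibre preserve dualizing complexes (helper8)

Let `(A, m) → (B, n)` be a flat local homomorphism of Noetherian local rings such that
`C = B / mB` has `C[0]` of finite injective dimension (i.e. `C` is Gorenstein).  If `ω` is a
dualizing complex for `A`, then `ω ⊗_A B` is a dualizing complex for `B`.
-/

set_option autoImplicit false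

open CategoryTheory CategoryTheory.Limits TensorProduct

universe u

namespace Groth.Agent.Helper8.CoR

open DerivedCategory IsLocalRing Groth.Agent.Helper8.BiDual Groth.Agent.Helper3.HT
  Groth.Agent.Helper8.RMod Groth.Agent.Helper8.LOC Groth.Agent.Helper8.FBC

attribute [local instance] HasDerivedCategory.standard

section Model

variable {B : Type u} [CommRing B]

/-- bounded below objects are represented by bounded below complexes of injectives -/
theorem exists_injective_model (X : Dual.D B) (a : ℤ) [X.IsGE a] :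
    ∃ J : DRing.Cx B, (∀ i : ℤ, i < a → IsZero (J.X i)) ∧ DRing.TermwiseInjective J ∧
      Nonempty (Q.obj J ≅ X) := by
  obtain ⟨L₀, _, ⟨e₀⟩⟩ := exists_iso_Q_obj_of_isGE X a
  obtain ⟨L, ι, hι, hLinj, hLge⟩ :=
    CochainComplex.Plus.modelCategoryQuillen.exists_quasiIso_injective L₀ a
  haveI : IsIso (Q.map ι) := by
    rw [isIso_Q_map_iff_quasiIso]
    exact hι
  refine ⟨L, fun i hi => CochainComplex.isZero_of_isStrictlyGE L a i hi, fun i => ?_,
    ⟨(e₀ ≪≫ asIso (Q.map ι)).symm⟩⟩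
  exact (Module.injective_iff_injective_object B (L.X i)).mpr (hLinj i)

end Model

section Local

variable {A B : Type u} [CommRing A] [CommRing B] [Algebra A B] [IsNoetherianRing A]
  [IsNoetherianRing B] [IsLocalRing A] [IsLocalRing B] [Module.Flat A B]
  [PreservesFiniteLimits (Efun (algebraMap A B))]

omit [IsNoetherianRing A] [IsNoetherianRing B] [IsLocalRing A] [IsLocalRing B] [Module.Flat A B] in
theorem Psi_smul (K Y : Dual.D A) (c : B) (t : B ⊗[A] (K ⟶ Y)) :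
    Psi B K Y (c • t) = c • Psi B K Y t := by
  induction t using TensorProduct.induction_on with
  | zero => rw [smul_zero, Psi_zero, smul_zero]
  | tmul b f => rw [TensorProduct.smul_tmul', Psi_tmul, Psi_tmul, smul_eq_mul, mul_smul]
  | add x y hx hy => rw [smul_add, Psi_add, Psi_add, hx, hy, smul_add]

/-- `Psi` as a `B`-linear map -/
noncomputable def PsiLin (K Y : Dual.D A) :
    B ⊗[A] (K ⟶ Y) →ₗ[B] ((Ld (algebraMap A B)).obj K ⟶ (Ld (algebraMap A B)).obj Y) where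
  toFun := Psi B K Y
  map_add' := Psi_add B K Y
  map_smul' c t := Psi_smul K Y c t

/-- the closed fibre ideal `mB` -/
noncomputable abbrev fibId (A B : Type u) [CommRing A] [CommRing B] [Algebra A B] [IsLocalRing A] :
    Ideal B := (maximalIdeal A).map (algebraMap A B)

/-- `Ext^j_B(B/mB, ω ⊗ B) ≃ B ⊗ Ext^j_A(k, ω)` -/
theorem nonempty_ext_fibre_equiv (ω : Dual.D A) (hω : Dual.IsDualizing A ω) (j : ℤ) :
    Nonempty ((Dual.inD B (B ⧸ fibId A B) ⟶ ((Ld (algebraMap A B)).obj ω)⟦j⟧) ≃ₗ[B]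
      B ⊗[A] (Dual.inD A (A ⧸ maximalIdeal A) ⟶ ω⟦j⟧)) := by
  obtain ⟨a₀, b₀, hab⟩ := exists_isZero_homology ω hω
  have hlow : ∀ j : ℤ, j < a₀ → IsZero ((homologyFunctor (ModuleCat.{u} A) j).obj ω) :=
    fun j hj => hab j (Or.inl hj)
  have hb := Psi_bijective B (Dual.inD A (A ⧸ maximalIdeal A)) 0 0
    (bdd_inD (A ⧸ maximalIdeal A)).1 (bdd_inD (A ⧸ maximalIdeal A)).2
    (ω⟦j⟧) (a₀ - j) (isZero_homology_shift ω a₀ hlow j)
  let e1 := LinearEquiv.ofBijective (PsiLin (B := B) (Dual.inD A (A ⧸ maximalIdeal A)) (ω⟦j⟧)) hb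
  let α : (Ld (algebraMap A B)).obj (Dual.inD A (A ⧸ maximalIdeal A)) ≅
      Dual.inD B (B ⧸ fibId A B) :=
    LdInD B (A ⧸ maximalIdeal A) ≪≫ (singleFunctor (ModuleCat.{u} B) 0).mapIso
      (tensorQuotEquiv B (maximalIdeal A) (fibId A B) rfl).toModuleIso
  let β : (Ld (algebraMap A B)).obj (ω⟦j⟧) ≅ ((Ld (algebraMap A B)).obj ω)⟦j⟧ :=
    ((Ld (algebraMap A B)).commShiftIso j).app ω
  exact ⟨(Linear.homCongr B α β).symm.trans e1.symm⟩

/-- `B / n` as a module over `C = B / mB` -/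
noncomputable abbrev resFieldModule (hle : fibId A B ≤ maximalIdeal B) :
    Module (B ⧸ fibId A B) (B ⧸ maximalIdeal B) :=
  Module.compHom (B ⧸ maximalIdeal B) (Ideal.Quotient.factor hle)

/-- **change of rings for the residue field**: `Ext^i_B(B/n, ω ⊗ B) ≃ Ext^{i-e}_C(B/n, C)` -/
theorem nonempty_ext_residue_equiv (hle : fibId A B ≤ maximalIdeal B)
    (ω : Dual.D A) (hω : Dual.IsDualizing A ω) (e : ℤ)
    (hvan_e : ∀ i : ℤ, i ≠ e → Subsingleton (Dual.inD A (A ⧸ maximalIdeal A) ⟶ ω⟦i⟧))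
    (he : Nonempty ((Dual.inD A (A ⧸ maximalIdeal A) ⟶ ω⟦e⟧) ≃ₗ[A] (A ⧸ maximalIdeal A)))
    (i k : ℤ) (hk : -e + i = k) :
    letI := resFieldModule (A := A) (B := B) hle
    Nonempty ((Dual.inD B (B ⧸ maximalIdeal B) ⟶ ((Ld (algebraMap A B)).obj ω)⟦i⟧) ≃
      (Dual.inD (B ⧸ fibId A B) (B ⧸ maximalIdeal B) ⟶
        (Dual.inD (B ⧸ fibId A B) (B ⧸ fibId A B))⟦k⟧)) := by
  letI := resFieldModule (A := A) (B := B) hle
  obtain ⟨a₀, b₀, hab⟩ := exists_isZero_homology ω hω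
  have hlow : ∀ j : ℤ, j < a₀ → IsZero ((homologyFunctor (ModuleCat.{u} A) j).obj ω) :=
    fun j hj => hab j (Or.inl hj)
  let X := (Ld (algebraMap A B)).obj ω
  have hXlow : ∀ j : ℤ, j < a₀ → IsZero ((homologyFunctor (ModuleCat.{u} B) j).obj X) :=
    fun j hj => isZero_homology_Ld B ω j (hlow j hj)
  haveI : X.IsGE a₀ := (isGE_iff X a₀).mpr hXlow
  obtain ⟨J, hJlow, hJinj, ⟨eJ⟩⟩ := exists_injective_model X a₀
  have hJ : ∀ n : ℤ, Injective (J.X n) := fun n =>
    (Module.injective_iff_injective_object B (J.X n)).mp (hJinj n)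
  let φ : B →+* (B ⧸ fibId A B) := Ideal.Quotient.mk (fibId A B)
  have hφ : Function.Surjective φ := Ideal.Quotient.mk_surjective
  -- the Ext computation
  have key : ∀ j : ℤ, Nonempty (((singleFunctor (ModuleCat.{u} B) 0).obj (BA φ) ⟶ (Q.obj J)⟦j⟧) ≃ₗ[B]
      B ⊗[A] (Dual.inD A (A ⧸ maximalIdeal A) ⟶ ω⟦j⟧)) := by
    intro j
    obtain ⟨e1⟩ := nonempty_ext_fibre_equiv (B := B) ω hω j
    exact ⟨(Linear.homCongr B ((singleFunctor (ModuleCat.{u} B) 0).mapIso (BAIso (fibId A B)))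
      ((shiftFunctor (Dual.D B) j).mapIso eJ)).trans e1⟩
  have hvan : ∀ j : ℤ, j ≠ e →
      Subsingleton ((singleFunctor (ModuleCat.{u} B) 0).obj (BA φ) ⟶ (Q.obj J)⟦j⟧) := by
    intro j hj
    obtain ⟨e1⟩ := key j
    haveI := hvan_e j hj
    haveI : Subsingleton (B ⊗[A] (Dual.inD A (A ⧸ maximalIdeal A) ⟶ ω⟦j⟧)) := subsingleton_tensor B
    exact e1.toEquiv.subsingleton
  have he' : Nonempty (((singleFunctor (ModuleCat.{u} B) 0).obj (BA φ) ⟶ (Q.obj J)⟦e⟧) ≃ₗ[B]
      BA φ) := by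
    obtain ⟨e1⟩ := key e
    obtain ⟨e2⟩ := he
    let e3 : (B ⊗[A] (Dual.inD A (A ⧸ maximalIdeal A) ⟶ ω⟦e⟧)) ≃ₗ[B]
        (B ⊗[A] (A ⧸ maximalIdeal A)) :=
      TensorProduct.AlgebraTensorModule.congr (LinearEquiv.refl B B) e2
    exact ⟨((e1.trans e3).trans (tensorQuotEquiv B (maximalIdeal A) (fibId A B) rfl)).trans
      (BAIso (fibId A B)).symm.toLinearEquiv⟩
  obtain ⟨E⟩ := nonempty_changeOfRings_equiv φ J a₀ hJlow hJ hφ hJinj e hvan he'
    (Dual.inD (B ⧸ fibId A B) (B ⧸ maximalIdeal B)) i k hk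
  -- restriction of the residue field
  let ρ : (resF φ).obj (ModuleCat.of (B ⧸ fibId A B) (B ⧸ maximalIdeal B)) ≅
      ModuleCat.of B (B ⧸ maximalIdeal B) :=
    LinearEquiv.toModuleIso
      { toFun := fun x => x
        invFun := fun x => x
        map_add' := fun _ _ => rfl
        map_smul' := fun b x => by
          obtain ⟨y, rfl⟩ := Ideal.Quotient.mk_surjective (x : B ⧸ maximalIdeal B)
          rfl
        left_inv := fun _ => rfl
        right_inv := fun _ => rfl }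
  let σ : (DRing.restrictD φ).obj (Dual.inD (B ⧸ fibId A B) (B ⧸ maximalIdeal B)) ≅
      Dual.inD B (B ⧸ maximalIdeal B) :=
    ((resF φ).mapDerivedCategorySingleFunctor 0).app
      (ModuleCat.of (B ⧸ fibId A B) (B ⧸ maximalIdeal B)) ≪≫
    (singleFunctor (ModuleCat.{u} B) 0).mapIso ρ
  exact ⟨(Iso.homCongr σ.symm ((shiftFunctor (Dual.D B) i).mapIso eJ.symm)).trans E⟩

/-- **flat local homomorphisms with Gorenstein closed fibre preserve dualizing complexes** -/
theorem isDualizing_Ld_of_fibre (hle : fibId A B ≤ maximalIdeal B)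
    (hC : ∃ b' : ℤ, ∀ (M : Type u) [AddCommGroup M] [Module (B ⧸ fibId A B) M] (i : ℤ),
      b' < i → Subsingleton (Dual.inD (B ⧸ fibId A B) M ⟶
        (Dual.inD (B ⧸ fibId A B) (B ⧸ fibId A B))⟦i⟧))
    (ω : Dual.D A) (hω : Dual.IsDualizing A ω) :
    Dual.IsDualizing B ((Ld (algebraMap A B)).obj ω) := by
  obtain ⟨e, hvan_e, he⟩ := exists_unique_ext_residue ω hω (maximalIdeal A)
  obtain ⟨b', hb'⟩ := hC
  obtain ⟨a₀, b₀, hab⟩ := exists_isZero_homology ω hω
  have hlow : ∀ j : ℤ, j < a₀ → IsZero ((homologyFunctor (ModuleCat.{u} A) j).obj ω) :=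
    fun j hj => hab j (Or.inl hj)
  have hXlow : ∀ j : ℤ, j < a₀ → IsZero ((homologyFunctor (ModuleCat.{u} B) j).obj
      ((Ld (algebraMap A B)).obj ω)) :=
    fun j hj => isZero_homology_Ld B ω j (hlow j hj)
  have hmax : ∀ (n' : Ideal B) [n'.IsMaximal] (i : ℤ), e + b' < i →
      Subsingleton (Dual.inD B (B ⧸ n') ⟶ ((Ld (algebraMap A B)).obj ω)⟦i⟧) := by
    intro n' hn' i hi
    have hn'' := IsLocalRing.eq_maximalIdeal hn'
    subst hn''
    obtain ⟨E⟩ := nonempty_ext_residue_equiv hle ω hω e hvan_e he i (i - e) (by omega)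
    letI := resFieldModule (A := A) (B := B) hle
    haveI := hb' (B ⧸ maximalIdeal B) (i - e) (by omega)
    exact E.subsingleton
  have hamp := Groth.Agent.Helper8.BassCx.injAmp_of_maximal ((Ld (algebraMap A B)).obj ω)
    (e + b') a₀ hXlow (finite_homology_Ld B ω hω) hmax
  exact isDualizing_Ld_of_hasFiniteInjDim B ω hω ⟨a₀, e + b', hamp⟩

end Local

end Groth.Agent.Helper8.CoR
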