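import Groth.Agent.Lib.Helper8.PtD1
import Groth.Agent.Lib.Helper8.BassCx2
import Groth.Agent.Lib.Helper8.LOC17
import Groth.Agent.Lib.Helper8.Caten1

/-!
# Pointwise dualizing complexes, part 2: finite Krull dimension implies dualizing (helper8)
-/

set_option autoImplicit false

open CategoryTheory CategoryTheory.Limits Opposite Pretriangulated

universe u

namespace Groth.Agent.Helper8.PtD

open DerivedCategory ChangeOfRings IsLocalRing Groth.Agent.Helper8.LOC

attribute [local instance] HasDerivedCategory.standard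

variable {A : Type u} [CommRing A] [IsNoetherianRing A] (R : Dual.D A)
  (hpt : ∀ (p : Ideal A) [p.IsPrime], Dual.IsDualizing (Localization.AtPrime p) (omegaAt R p))
  (a : ℤ)
  (hlow : ∀ j : ℤ, j < a → IsZero ((homologyFunctor (ModuleCat.{u} A) j).obj R))

include hlow in
/-- a bound of `pdeg` in terms of the height -/
theorem pdeg_le_add_height (M : ℤ)
    (hM : ∀ q : PrimeSpectrum A, IsMin q → pdeg R hpt q.asIdeal ≤ M) :
    ∀ (n : ℕ) (q : PrimeSpectrum A), Order.height q = n → pdeg R hpt q.asIdeal ≤ M + n := by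
  intro n
  induction n using Nat.strong_induction_on with
  | _ n ih =>
    intro q hq
    by_cases hmin : IsMin q
    · have := hM q hmin
      omega
    · rw [not_isMin_iff] at hmin
      obtain ⟨p, hp⟩ := hmin
      obtain ⟨r, hpr, hrq⟩ := Groth.Agent.Helper8.Caten.exists_covBy p q hp
      have h1 := pdeg_eq_of_covBy R hpt a hlow r q hrq
      have hr : Order.height r < Order.height q :=
        Order.height_strictMono hrq.lt (Groth.Agent.Helper8.Caten.height_lt_top r)
      obtain ⟨m, hm⟩ := ENat.ne_top_iff_exists.mp (Groth.Agent.Helper8.Caten.height_lt_top r).ne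
      have hmn : m < n := by
        rw [← hm, hq] at hr
        exact_mod_cast hr
      have := ih m hmn r hm.symm
      omega

include hlow in
/-- over a ring of finite Krull dimension, `pdeg` is bounded above -/
theorem exists_pdeg_le (hdim : ringKrullDim A < ⊤) :
    ∃ b : ℤ, ∀ q : PrimeSpectrum A, pdeg R hpt q.asIdeal ≤ b := by
  classical
  have hfin := PrimeSpectrum.finite_setOfPred_isMin A
  obtain ⟨M, hM⟩ := (hfin.image (fun q : PrimeSpectrum A => pdeg R hpt q.asIdeal)).bddAbove
  have hM' : ∀ q : PrimeSpectrum A, IsMin q → pdeg R hpt q.asIdeal ≤ M :=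
    fun q hq => hM ⟨q, hq, rfl⟩
  by_cases hne : Nonempty (PrimeSpectrum A)
  · have hd : Order.krullDim (PrimeSpectrum A) ≠ ⊤ := hdim.ne
    have hbot : Order.krullDim (PrimeSpectrum A) ≠ ⊥ := Order.krullDim_ne_bot_iff.mpr hne
    obtain ⟨d, hd'⟩ : ∃ d : ℕ, Order.krullDim (PrimeSpectrum A) = d := by
      have h1 := WithBot.ne_bot_iff_exists.mp hbot
      obtain ⟨x, hx⟩ := h1
      have hx' : x ≠ ⊤ := by
        intro h
        apply hd
        rw [← hx, h]
        rfl
      obtain ⟨d, hd⟩ := ENat.ne_top_iff_exists.mp hx'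
      exact ⟨d, by rw [← hx, ← hd]; rfl⟩
    refine ⟨M + d, fun q => ?_⟩
    obtain ⟨n, hn⟩ := ENat.ne_top_iff_exists.mp (Groth.Agent.Helper8.Caten.height_lt_top q).ne
    have h1 := pdeg_le_add_height R hpt a hlow M hM' n q hn.symm
    have h2 : (Order.height q : WithBot ℕ∞) ≤ Order.krullDim (PrimeSpectrum A) :=
      Order.height_le_krullDim q
    rw [← hn, hd'] at h2
    have h3 : n ≤ d := by exact_mod_cast h2
    omega
  · exact ⟨0, fun q => (hne ⟨q⟩).elim⟩

/-- vanishing of the cohomology of `R_p` above `pdeg p` -/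
theorem isZero_homology_omegaAt (p : Ideal A) [p.IsPrime] (i : ℤ) (hi : pdeg R hpt p < i) :
    IsZero ((homologyFunctor (ModuleCat.{u} (Localization.AtPrime p)) i).obj (omegaAt R p)) := by
  have hB : IsNoetherianRing (Localization.AtPrime p) :=
    IsLocalization.isNoetherianRing p.primeCompl _ inferInstance
  have h1 := Groth.Agent.Helper8.LD.subsingleton_hom_of_pos (pnu R hpt p) (isDualizing_pnu R hpt p)
    (isNormalized_pnu R hpt p) (Localization.AtPrime p) (i - pdeg R hpt p) (by omega)
  have h2 : Subsingleton (Dual.HD (Localization.AtPrime p) (pnu R hpt p) (i - pdeg R hpt p)) :=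
    (Groth.Agent.Helper8.LD.homSelfEquiv (pnu R hpt p) (i - pdeg R hpt p)).symm.toEquiv.subsingleton
  have h3 : IsZero ((homologyFunctor (ModuleCat.{u} (Localization.AtPrime p))
      (i - pdeg R hpt p)).obj (pnu R hpt p)) := ModuleCat.isZero_of_subsingleton _
  exact h3.of_iso (Groth.Agent.Helper8.RFin.sigma' (omegaAt R p) (pdeg R hpt p)
    (i - pdeg R hpt p) i (by omega)).symm


include hlow hpt in
/-- **pointwise dualizing complexes over rings of finite Krull dimension are dualizing** -/
theorem isDualizing_of_pointwise (hdim : ringKrullDim A < ⊤)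
    (hfin : ∀ i : ℤ, Module.Finite A (Dual.HD A R i)) : Dual.IsDualizing A R := by
  obtain ⟨b, hb⟩ := exists_pdeg_le R hpt a hlow hdim
  have hK : ∀ i : ℤ, (i < a ∨ b < i) →
      IsZero ((homologyFunctor (ModuleCat.{u} A) i).obj R) := by
    intro i hi
    rcases hi with hi | hi
    · exact hlow i hi
    · haveI : Subsingleton (Dual.HD A R i) := by
        apply subsingleton_of_forall_maximal (A := A)
        intro m hm
        haveI := hm
        refine ⟨m.primeCompl, fun s hs => hs, ?_⟩
        refine subsingleton_localizedModule_of_Ld (S := m.primeCompl) R i ?_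
        exact isZero_homology_omegaAt R hpt m i (lt_of_le_of_lt (hb ⟨m, hm.isPrime⟩) hi)
      exact ModuleCat.isZero_of_subsingleton _
  have hmax : ∀ (n : Ideal A) [n.IsMaximal] (i : ℤ), b < i →
      Subsingleton (Dual.inD A (A ⧸ n) ⟶ R⟦i⟧) := by
    intro n hn i hi
    have h1 : Subsingleton (LocalizedModule n.primeCompl (Dual.inD A (A ⧸ n) ⟶ R⟦i⟧)) := by
      rw [subsingleton_locHom_iff n.primeCompl (Localization.AtPrime n) (resMap n) R a hlow i,
        ← not_nontrivial_iff_subsingleton, pdeg_spec R hpt n i]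
      have hbn : pdeg R hpt n ≤ b := hb ⟨n, hn.isPrime⟩
      intro h
      have h' : i = pdeg R hpt n := h
      omega
    refine ⟨fun x y => ?_⟩
    have key : ∀ g : Dual.inD A (A ⧸ n) ⟶ R⟦i⟧, g = 0 := by
      intro g
      rw [LocalizedModule.subsingleton_iff] at h1
      obtain ⟨s, hs, hsg⟩ := h1 g
      obtain ⟨y, t, ht, hyt⟩ := hn.exists_inv hs
      have htg : t • g = 0 := by
        apply Groth.Agent.Helper8.BiDual.smul_hom_single_eq_zero (M := ModuleCat.of A (A ⧸ n)) t
        intro z
        obtain ⟨z, rfl⟩ := Ideal.Quotient.mk_surjective z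
        have h2 : t • (Ideal.Quotient.mk n z) = Ideal.Quotient.mk n (t * z) := rfl
        show t • (Ideal.Quotient.mk n z) = 0
        rw [h2, Ideal.Quotient.eq_zero_iff_mem]
        exact n.mul_mem_right z ht
      calc g = (1 : A) • g := (one_smul A g).symm
        _ = (y * s + t) • g := by rw [hyt]
        _ = y • (s • g) + t • g := by rw [add_smul, mul_smul]
        _ = 0 := by rw [hsg, htg, smul_zero, add_zero]
    rw [key x, key y]
  have hinj : ∃ a b : ℤ, ∀ (M : Type u) [AddCommGroup M] [Module A M] (i : ℤ),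
      (i < a ∨ b < i) → Subsingleton (Dual.inD A M ⟶ R⟦i⟧) :=
    ⟨a, b, fun M _ _ i hi =>
      Groth.Agent.Helper8.BassCx.subsingleton_hom_of_maximal R b a hlow hfin hmax M i hi⟩
  exact isDualizing_of_forall_maximal R a b hK hfin hinj (fun m hm => hpt m)

end Groth.Agent.Helper8.PtD
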