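import Groth.Agent.Lib.Helper8.CoR2
import Groth.Agent.Lib.Helper8.PtD2
import Groth.Agent.Lib.Helper8.FBC10
import Groth.Agent.Lib.Helper8.DualMod3
import Groth.Agent.Lib.Helper12.GorFib

/-!
# Flat homomorphisms with Gorenstein fibres preserve dualizing complexes (helper8)

Let `A → B` be a flat homomorphism of Noetherian rings, `B` of finite Krull dimension, such that
all the fibre local rings `B_r / p B_r` are Gorenstein.  If `ω` is a dualizing complex for `A`,
then `ω ⊗_A B` is a dualizing complex for `B`.
-/

set_option autoImplicit false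

open CategoryTheory CategoryTheory.Limits TensorProduct

universe u

namespace Groth.Agent.Helper8.CoR

open DerivedCategory IsLocalRing Groth.Agent.Helper8.BiDual Groth.Agent.Helper3.HT
  Groth.Agent.Helper8.RMod Groth.Agent.Helper8.LOC Groth.Agent.Helper8.FBC
  Groth.Agent.Lead.Fib

attribute [local instance] HasDerivedCategory.standard

/-- over a Gorenstein local ring, `Ext^i(M, C)` vanishes for large `i` uniformly in `M` -/
theorem exists_bound_of_gorenstein (C : Type u) [CommRing C] [hC : LocCoh.IsGorensteinLocalRing C] :
    ∃ b' : ℤ, ∀ (M : Type u) [AddCommGroup M] [Module C M] (i : ℤ),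
      b' < i → Subsingleton (Dual.inD C M ⟶ (Dual.inD C C)⟦i⟧) := by
  obtain ⟨n, hn⟩ := hC.exists_hasInjectiveDimensionLT
  refine ⟨(n : ℤ), fun M _ _ i hi => ?_⟩
  obtain ⟨m, rfl⟩ : ∃ m : ℕ, i = (m : ℤ) := ⟨i.toNat, by omega⟩
  haveI : Subsingleton (Abelian.Ext (ModuleCat.of C M) (ModuleCat.of C C) m) :=
    HasInjectiveDimensionLT.subsingleton (ModuleCat.of C C) n m (by omega) (ModuleCat.of C M)
  exact (Groth.Agent.Helper8.DualMod.homInDEquivExt C M C m).symm.subsingleton

section Global

variable {A B : Type u} [CommRing A] [CommRing B] [Algebra A B] [IsNoetherianRing A]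
  [IsNoetherianRing B] [Module.Flat A B]

/-- the localization of `ω ⊗ B` at a prime `r` of `B` is dualizing -/
theorem isDualizing_omegaAt_Ld [PreservesFiniteLimits (Efun (algebraMap A B))]
    (r : Ideal B) [r.IsPrime]
    (hfib : LocCoh.IsGorensteinLocalRing (FL (r.under A) r))
    (ω : Dual.D A) (hω : Dual.IsDualizing A ω) :
    Dual.IsDualizing (Localization.AtPrime r)
      (omegaAt ((Ld (algebraMap A B)).obj ω) r) := by
  haveI : r.LiesOver (r.under A) := ⟨rfl⟩
  haveI hB : IsNoetherianRing (Localization.AtPrime r) :=
    IsLocalization.isNoetherianRing r.primeCompl _ inferInstance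
  haveI hA : IsNoetherianRing (Localization.AtPrime (r.under A)) :=
    IsLocalization.isNoetherianRing (r.under A).primeCompl _ inferInstance
  letI : Algebra (Localization.AtPrime (r.under A)) (Localization.AtPrime r) :=
    Localization.AtPrime.algebraOfLiesOver (r.under A) r
  haveI hloc : IsLocalHom
      (algebraMap (Localization.AtPrime (r.under A)) (Localization.AtPrime r)) :=
    Localization.isLocalHom_localRingHom _ _ _ _
  haveI : Module.Flat (Localization.AtPrime (r.under A)) (Localization.AtPrime r) := inferInstance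
  haveI : PreservesFiniteLimits
      (Efun (algebraMap (Localization.AtPrime (r.under A)) (Localization.AtPrime r))) :=
    preservesFiniteLimits_Efun_of_flat _
  have hmap : (r.under A).map (algebraMap A (Localization.AtPrime r)) =
      fibId (Localization.AtPrime (r.under A)) (Localization.AtPrime r) := by
    unfold fibId
    rw [← Localization.AtPrime.map_eq_maximalIdeal, Ideal.map_map, ← IsScalarTower.algebraMap_eq]
  have hle : fibId (Localization.AtPrime (r.under A)) (Localization.AtPrime r) ≤
      maximalIdeal (Localization.AtPrime r) :=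
    ((IsLocalRing.local_hom_TFAE
      (algebraMap (Localization.AtPrime (r.under A)) (Localization.AtPrime r))).out 0 2).mp
      hloc
  haveI hG : LocCoh.IsGorensteinLocalRing (Localization.AtPrime r ⧸
      fibId (Localization.AtPrime (r.under A)) (Localization.AtPrime r)) :=
    (Groth.Agent.Helper12.GorFlatLoc.gor_iff_of_ringEquiv (Ideal.quotEquivOfEq hmap)).mp hfib
  have hd := isDualizing_Ld_of_fibre hle (exists_bound_of_gorenstein _)
    (omegaAt ω (r.under A)) (isDualizing_omegaAt ω hω (r.under A))
  haveI : PreservesFiniteLimits (Efun (algebraMap A (Localization.AtPrime r))) := by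
    haveI : Module.Flat A (Localization.AtPrime r) :=
      Module.Flat.trans A B (Localization.AtPrime r)
    exact preservesFiniteLimits_Efun_of_flat _
  obtain ⟨i1⟩ := nonempty_LdComp_iso (algebraMap A (Localization.AtPrime (r.under A)))
    (algebraMap (Localization.AtPrime (r.under A)) (Localization.AtPrime r))
    (algebraMap A (Localization.AtPrime r)) (IsScalarTower.algebraMap_eq _ _ _) ω
  obtain ⟨i2⟩ := nonempty_LdComp_iso (algebraMap A B) (algebraMap B (Localization.AtPrime r))
    (algebraMap A (Localization.AtPrime r)) (IsScalarTower.algebraMap_eq _ _ _) ω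
  exact Groth.Agent.Helper8.FLD.isDualizing_of_iso (i1 ≪≫ i2.symm) hd

/-- **flat homomorphisms with Gorenstein fibres preserve dualizing complexes** -/
theorem isDualizing_Ld_of_gorenstein_fibres [PreservesFiniteLimits (Efun (algebraMap A B))]
    (hdim : ringKrullDim B < ⊤)
    (hfib : ∀ (r : Ideal B) [r.IsPrime], LocCoh.IsGorensteinLocalRing (FL (r.under A) r))
    (ω : Dual.D A) (hω : Dual.IsDualizing A ω) :
    Dual.IsDualizing B ((Ld (algebraMap A B)).obj ω) := by
  obtain ⟨a₀, b₀, hab⟩ := exists_isZero_homology ω hω
  have hlow : ∀ j : ℤ, j < a₀ → IsZero ((homologyFunctor (ModuleCat.{u} B) j).obj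
      ((Ld (algebraMap A B)).obj ω)) :=
    fun j hj => isZero_homology_Ld B ω j (hab j (Or.inl hj))
  exact Groth.Agent.Helper8.PtD.isDualizing_of_pointwise ((Ld (algebraMap A B)).obj ω)
    (fun r _ => isDualizing_omegaAt_Ld r (hfib r) ω hω) a₀ hlow hdim
    (finite_homology_Ld B ω hω)

end Global

end Groth.Agent.Helper8.CoR
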