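import Groth.Agent.Lib.Helper8.CoR3
import Groth.Agent.Lib.Lead.Bass5
import Groth.Agent.Lib.Lead.Depth5

/-!
# The degree of `ω ⊗ B` along a flat local homomorphism (helper8)

For a flat local homomorphism `A → B` with closed fibre `C` of dimension `c`, and `ω` a dualizing
complex for `A` with `Ext^i(k, ω) ≠ 0` exactly for `i = e`:
`Ext^{e + c}_B(l, ω ⊗ B) ≠ 0`, and if `C` is Gorenstein, `Ext^i_B(l, ω ⊗ B) = 0` for `i ≠ e + c`.
-/

set_option autoImplicit false

open CategoryTheory CategoryTheory.Limits TensorProduct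

universe u

namespace Groth.Agent.Helper8.CoR

open DerivedCategory IsLocalRing Groth.Agent.Helper8.BiDual Groth.Agent.Helper3.HT
  Groth.Agent.Helper8.RMod Groth.Agent.Helper8.LOC Groth.Agent.Helper8.FBC

attribute [local instance] HasDerivedCategory.standard

section Quot

variable {B : Type u} [CommRing B] [IsLocalRing B] (I : Ideal B) (hI : I ≤ maximalIdeal B)

include hI in
theorem nontrivial_quot : Nontrivial (B ⧸ I) :=
  Ideal.Quotient.nontrivial_iff.mpr (fun h =>
    (maximalIdeal.isMaximal B).ne_top (top_le_iff.mp (h ▸ hI)))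

include hI in
theorem isLocalRing_quot : IsLocalRing (B ⧸ I) :=
  haveI := nontrivial_quot I hI
  IsLocalRing.of_surjective' (Ideal.Quotient.mk I) Ideal.Quotient.mk_surjective

/-- `B / n` as a module over `B / I` -/
noncomputable abbrev quotResModule : Module (B ⧸ I) (B ⧸ maximalIdeal B) :=
  Module.compHom (B ⧸ maximalIdeal B) (Ideal.Quotient.factor hI)

theorem ker_factor :
    haveI := isLocalRing_quot I hI
    RingHom.ker (Ideal.Quotient.factor hI) = maximalIdeal (B ⧸ I) := by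
  haveI := isLocalRing_quot I hI
  letI : Field (B ⧸ maximalIdeal B) := Ideal.Quotient.field (maximalIdeal B)
  haveI : (RingHom.ker (Ideal.Quotient.factor hI)).IsMaximal :=
    RingHom.ker_isMaximal_of_surjective (Ideal.Quotient.factor hI)
      (Ideal.Quotient.factor_surjective hI)
  exact IsLocalRing.eq_maximalIdeal this

/-- the residue field of `B / I` is `B / n`, linearly over `B / I` -/
noncomputable def quotResEquiv :
    haveI := isLocalRing_quot I hI
    letI := quotResModule I hI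
    ResidueField (B ⧸ I) ≃ₗ[B ⧸ I] (B ⧸ maximalIdeal B) := by
  haveI := isLocalRing_quot I hI
  letI := quotResModule I hI
  let r : (B ⧸ I) ⧸ maximalIdeal (B ⧸ I) ≃+* (B ⧸ maximalIdeal B) :=
    (Ideal.quotEquivOfEq (ker_factor I hI).symm).trans
      (RingHom.quotientKerEquivOfSurjective (Ideal.Quotient.factor_surjective hI))
  exact
    { toFun := fun x => r x
      invFun := fun y => r.symm y
      left_inv := r.symm_apply_apply
      right_inv := r.apply_symm_apply
      map_add' := r.map_add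
      map_smul' := fun c x => by
        obtain ⟨y, rfl⟩ := Ideal.Quotient.mk_surjective x
        change r (Ideal.Quotient.mk _ (c * y)) = (Ideal.Quotient.factor hI c) * r (Ideal.Quotient.mk _ y)
        rw [map_mul, map_mul]
        rfl }

end Quot

section Local

variable {A B : Type u} [CommRing A] [CommRing B] [Algebra A B] [IsNoetherianRing A]
  [IsNoetherianRing B] [IsLocalRing A] [IsLocalRing B] [Module.Flat A B]
  [PreservesFiniteLimits (Efun (algebraMap A B))]

/-- `Ext^c_C(l, C) ≠ 0` for `c = dim C` -/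
theorem nontrivial_hom_resField (hle : fibId A B ≤ maximalIdeal B) (c : ℕ)
    (hc : ringKrullDim (B ⧸ fibId A B) = c) :
    letI := resFieldModule (A := A) (B := B) hle
    Nontrivial (Dual.inD (B ⧸ fibId A B) (B ⧸ maximalIdeal B) ⟶
      (Dual.inD (B ⧸ fibId A B) (B ⧸ fibId A B))⟦(c : ℤ)⟧) := by
  letI := resFieldModule (A := A) (B := B) hle
  haveI := isLocalRing_quot (fibId A B) hle
  have h1 := Groth.Agent.Lead.Depth.ext_residueField_self_nontrivial (R := B ⧸ fibId A B) c hc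
  let ρ : Dual.inD (B ⧸ fibId A B) (ResidueField (B ⧸ fibId A B)) ≅
      Dual.inD (B ⧸ fibId A B) (B ⧸ maximalIdeal B) :=
    (singleFunctor (ModuleCat.{u} (B ⧸ fibId A B)) 0).mapIso
      (quotResEquiv (fibId A B) hle).toModuleIso
  have h2 : Nontrivial (Dual.inD (B ⧸ fibId A B) (ResidueField (B ⧸ fibId A B)) ⟶
      (Dual.inD (B ⧸ fibId A B) (B ⧸ fibId A B))⟦(c : ℤ)⟧) :=
    (Groth.Agent.Helper8.DualMod.homInDEquivExt (B ⧸ fibId A B) (ResidueField (B ⧸ fibId A B))
      (B ⧸ fibId A B) c).symm.nontrivial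
  exact (Iso.homCongr ρ (Iso.refl _)).symm.nontrivial

/-- `Ext^k_C(l, C) = 0` for `k ≠ dim C`, `C` Gorenstein -/
theorem subsingleton_hom_resField (hle : fibId A B ≤ maximalIdeal B)
    [hG : LocCoh.IsGorensteinLocalRing (B ⧸ fibId A B)] (c : ℕ)
    (hc : ringKrullDim (B ⧸ fibId A B) = c) (k : ℤ) (hk : k ≠ c) :
    letI := resFieldModule (A := A) (B := B) hle
    Subsingleton (Dual.inD (B ⧸ fibId A B) (B ⧸ maximalIdeal B) ⟶
      (Dual.inD (B ⧸ fibId A B) (B ⧸ fibId A B))⟦k⟧) := by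
  letI := resFieldModule (A := A) (B := B) hle
  rcases lt_or_ge k 0 with hneg | hpos
  · exact Groth.Agent.Helper8.DualMod.subsingleton_hom_inD_shift_of_neg _ _ _ k hneg
  obtain ⟨m, rfl⟩ : ∃ m : ℕ, k = (m : ℤ) := ⟨k.toNat, by omega⟩
  have hm : m ≠ c := fun h => hk (by rw [h])
  let ρ : Dual.inD (B ⧸ fibId A B) (ResidueField (B ⧸ fibId A B)) ≅
      Dual.inD (B ⧸ fibId A B) (B ⧸ maximalIdeal B) :=
    (singleFunctor (ModuleCat.{u} (B ⧸ fibId A B)) 0).mapIso
      (quotResEquiv (fibId A B) hle).toModuleIso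
  have h1 : Subsingleton (Abelian.Ext (ModuleCat.of (B ⧸ fibId A B)
      (ResidueField (B ⧸ fibId A B))) (ModuleCat.of (B ⧸ fibId A B) (B ⧸ fibId A B)) m) := by
    rcases lt_or_gt_of_ne hm with hlt | hgt
    · haveI := Groth.Agent.Lead.Depth.isCohenMacaulayLocalRing_of_isGorensteinLocalRing
        (B ⧸ fibId A B)
      have hCM := LocCoh.IsCohenMacaulayLocalRing.supportDim_eq_depth (R := B ⧸ fibId A B)
      rw [Module.supportDim_self_eq_ringKrullDim, hc] at hCM
      have hs : LocCoh.depth (B ⧸ fibId A B) (B ⧸ fibId A B) = c := by exact_mod_cast hCM.symm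
      exact (Groth.Agent.Lead.Depth.le_depth_iff_ext (R := B ⧸ fibId A B) (B ⧸ fibId A B) c).mp
        (le_of_eq hs.symm) m hlt
    · exact Groth.Agent.Lead.Depth.gorenstein_ext_residueField_subsingleton c hc m (by omega)
  have h2 : Subsingleton (Dual.inD (B ⧸ fibId A B) (ResidueField (B ⧸ fibId A B)) ⟶
      (Dual.inD (B ⧸ fibId A B) (B ⧸ fibId A B))⟦(m : ℤ)⟧) :=
    (Groth.Agent.Helper8.DualMod.homInDEquivExt (B ⧸ fibId A B) (ResidueField (B ⧸ fibId A B))
      (B ⧸ fibId A B) m).symm.subsingleton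
  exact (Iso.homCongr ρ (Iso.refl _)).symm.subsingleton

/-- **nonvanishing in degree `e + dim C`** -/
theorem nontrivial_ext_residue_Ld (hle : fibId A B ≤ maximalIdeal B)
    (ω : Dual.D A) (hω : Dual.IsDualizing A ω) (e : ℤ)
    (hvan_e : ∀ i : ℤ, i ≠ e → Subsingleton (Dual.inD A (A ⧸ maximalIdeal A) ⟶ ω⟦i⟧))
    (he : Nonempty ((Dual.inD A (A ⧸ maximalIdeal A) ⟶ ω⟦e⟧) ≃ₗ[A] (A ⧸ maximalIdeal A)))
    (c : ℕ) (hc : ringKrullDim (B ⧸ fibId A B) = c) (i : ℤ) (hi : i = e + c) :
    Nontrivial (Dual.inD B (B ⧸ maximalIdeal B) ⟶ ((Ld (algebraMap A B)).obj ω)⟦i⟧) := by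
  obtain ⟨E⟩ := nonempty_ext_residue_equiv hle ω hω e hvan_e he i (c : ℤ) (by omega)
  letI := resFieldModule (A := A) (B := B) hle
  haveI := nontrivial_hom_resField (A := A) (B := B) hle c hc
  exact E.nontrivial

/-- **vanishing in degrees `≠ e + dim C`** for a Gorenstein closed fibre -/
theorem subsingleton_ext_residue_Ld (hle : fibId A B ≤ maximalIdeal B)
    [hG : LocCoh.IsGorensteinLocalRing (B ⧸ fibId A B)]
    (ω : Dual.D A) (hω : Dual.IsDualizing A ω) (e : ℤ)
    (hvan_e : ∀ i : ℤ, i ≠ e → Subsingleton (Dual.inD A (A ⧸ maximalIdeal A) ⟶ ω⟦i⟧))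
    (he : Nonempty ((Dual.inD A (A ⧸ maximalIdeal A) ⟶ ω⟦e⟧) ≃ₗ[A] (A ⧸ maximalIdeal A)))
    (c : ℕ) (hc : ringKrullDim (B ⧸ fibId A B) = c) (i : ℤ) (hi : i ≠ e + c) :
    Subsingleton (Dual.inD B (B ⧸ maximalIdeal B) ⟶ ((Ld (algebraMap A B)).obj ω)⟦i⟧) := by
  obtain ⟨E⟩ := nonempty_ext_residue_equiv hle ω hω e hvan_e he i (i - e) (by omega)
  letI := resFieldModule (A := A) (B := B) hle
  haveI := subsingleton_hom_resField (A := A) (B := B) hle c hc (i - e) (by omega)
  exact E.subsingleton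

end Local

end Groth.Agent.Helper8.CoR
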