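import Groth.Agent.Lib.Helper8.CoR4
import Groth.Agent.Lib.Helper8.SmD1
import Groth.Agent.Lib.Helper8.SmD2
import Groth.Agent.Lib.Helper14.SmoothReg
import Groth.Agent.Lib.Helper12.GorFib

/-!
# Localizing `Ext(A/n, -)` at a maximal ideal; the polynomial ring over a local ring (helper8)
-/

set_option autoImplicit false

open CategoryTheory CategoryTheory.Limits TensorProduct

universe u

namespace Groth.Agent.Helper8.CoR

open DerivedCategory IsLocalRing Groth.Agent.Helper8.BiDual Groth.Agent.Helper3.HT
  Groth.Agent.Helper8.RMod Groth.Agent.Helper8.LOC Groth.Agent.Helper8.FBC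
  Groth.Agent.Lead.Fib

attribute [local instance] HasDerivedCategory.standard

section Max

variable {A : Type u} [CommRing A] [IsNoetherianRing A]

/-- for a maximal ideal `n`, `Ext^i(A/n, W)` vanishes iff it does after localizing at `n` -/
theorem subsingleton_hom_maximal_iff (n : Ideal A) [hn : n.IsMaximal] (W : Dual.D A) (a : ℤ)
    (hW : ∀ j : ℤ, j < a → IsZero ((homologyFunctor (ModuleCat.{u} A) j).obj W)) (i : ℤ) :
    Subsingleton (Dual.inD A (A ⧸ n) ⟶ W⟦i⟧) ↔
      Subsingleton (Dual.inD (Localization.AtPrime n)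
        (Localization.AtPrime n ⧸ maximalIdeal (Localization.AtPrime n)) ⟶
          ((Ld (algebraMap A (Localization.AtPrime n))).obj W)⟦i⟧) := by
  rw [← subsingleton_locHom_iff n.primeCompl (Localization.AtPrime n) (resMap n) W a hW i]
  constructor
  · intro h
    infer_instance
  · intro h1
    refine ⟨fun x y => ?_⟩
    have key : ∀ g : Dual.inD A (A ⧸ n) ⟶ W⟦i⟧, g = 0 := by
      intro g
      rw [LocalizedModule.subsingleton_iff] at h1
      obtain ⟨s, hs, hsg⟩ := h1 g
      obtain ⟨y, t, ht, hyt⟩ := hn.exists_inv hs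
      have htg : t • g = 0 := by
        apply Groth.Agent.Helper8.BiDual.smul_hom_single_eq_zero (M := ModuleCat.of A (A ⧸ n)) t
        intro z
        obtain ⟨z, rfl⟩ := Ideal.Quotient.mk_surjective z
        have h2 : t • (Ideal.Quotient.mk n z) = Ideal.Quotient.mk n (t * z) := rfl
        show t • (Ideal.Quotient.mk n z) = 0
        rw [h2, Ideal.Quotient.eq_zero_iff_mem]
        exact n.mul_mem_right z ht
      calc g = (1 : A) • g := (one_smul A g).symm
        _ = (y * s + t) • g := by rw [hyt]
        _ = y • (s • g) + t • g := by rw [add_smul, mul_smul]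
        _ = 0 := by rw [hsg, htg, smul_zero, add_zero]
    rw [key x, key y]

end Max

section Surj

variable {P A : Type u} [CommRing P] [CommRing A] (ψ : P →+* A)

/-- restriction of `A/m` along a surjection `ψ : P → A` is `P / ψ⁻¹ m` -/
noncomputable def restrictQuotIso (hψ : Function.Surjective ψ) (m : Ideal A) :
    (DRing.restrictD ψ).obj (Dual.inD A (A ⧸ m)) ≅ Dual.inD P (P ⧸ m.comap ψ) :=
  ((resF ψ).mapDerivedCategorySingleFunctor 0).app (ModuleCat.of A (A ⧸ m)) ≪≫
    (singleFunctor (ModuleCat.{u} P) 0).mapIso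
      (LinearEquiv.toModuleIso
        (LinearEquiv.ofBijective
          ({ toFun := fun x => Ideal.quotientMap m ψ (le_refl _) x
             map_add' := fun x y => map_add _ x y
             map_smul' := fun p x => by
               obtain ⟨y, rfl⟩ := Ideal.Quotient.mk_surjective x
               change Ideal.quotientMap m ψ (le_refl _) (Ideal.Quotient.mk _ (p * y)) =
                 ψ p • Ideal.quotientMap m ψ (le_refl _) (Ideal.Quotient.mk _ y)
               rw [Ideal.quotientMap_mk, Ideal.quotientMap_mk, map_mul]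
               rfl } : (P ⧸ m.comap ψ) →ₗ[P] ((resF ψ).obj (ModuleCat.of A (A ⧸ m))))
          ⟨Ideal.quotientMap_injective, Ideal.quotientMap_surjective (H := le_refl _) hψ⟩)).symm

end Surj

section Poly

variable (R : Type u) [CommRing R] [IsNoetherianRing R] [IsLocalRing R] (n : ℕ)

/-- the transcendence degree of the residue field at a maximal ideal over the closed point -/
theorem trdeg_quotient_maximal_eq_zero (m' : Ideal (MvPolynomial (Fin n) R)) [hm' : m'.IsMaximal]
    [m'.LiesOver (maximalIdeal R)] :
    Algebra.trdeg (R ⧸ maximalIdeal R) (MvPolynomial (Fin n) R ⧸ m') = 0 := by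
  letI : Field (R ⧸ maximalIdeal R) := Ideal.Quotient.field (maximalIdeal R)
  letI : Field (MvPolynomial (Fin n) R ⧸ m') := Ideal.Quotient.field m'
  haveI : Algebra.FiniteType R (MvPolynomial (Fin n) R ⧸ m') := inferInstance
  haveI : Algebra.FiniteType (R ⧸ maximalIdeal R) (MvPolynomial (Fin n) R ⧸ m') :=
    Algebra.FiniteType.of_restrictScalars_finiteType R _ _
  haveI : Module.Finite (R ⧸ maximalIdeal R) (MvPolynomial (Fin n) R ⧸ m') :=
    finite_of_finite_type_of_isJacobsonRing _ _
  haveI : Algebra.IsAlgebraic (R ⧸ maximalIdeal R) (MvPolynomial (Fin n) R ⧸ m') :=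
    Algebra.IsAlgebraic.of_finite _ _
  exact _root_.trdeg_eq_zero

variable {R n}

/-- **the polynomial ring over a local ring**: `Ext^j(P/m', ω ⊗ P) = 0` for `j ≠ n`, for `ω` a
normalized dualizing complex and `m'` a maximal ideal over the closed point -/
theorem subsingleton_hom_mvPolynomial_maximal (m' : Ideal (MvPolynomial (Fin n) R))
    [hm' : m'.IsMaximal] [hlo : m'.LiesOver (maximalIdeal R)]
    [PreservesFiniteLimits (Efun (algebraMap R (MvPolynomial (Fin n) R)))]
    (ω : Dual.D R) (hω : Dual.IsDualizing R ω) (hn : Dual.IsNormalized R ω) (j : ℤ)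
    (hj : j ≠ (n : ℤ)) :
    Subsingleton (Dual.inD (MvPolynomial (Fin n) R) (MvPolynomial (Fin n) R ⧸ m') ⟶
      ((Ld (algebraMap R (MvPolynomial (Fin n) R))).obj ω)⟦j⟧) := by
  -- lower bound
  obtain ⟨a₀, b₀, hab⟩ := exists_isZero_homology ω hω
  have hlow : ∀ i : ℤ, i < a₀ → IsZero ((homologyFunctor (ModuleCat.{u} (MvPolynomial (Fin n) R)) i).obj
      ((Ld (algebraMap R (MvPolynomial (Fin n) R))).obj ω)) :=
    fun i hi => isZero_homology_Ld (MvPolynomial (Fin n) R) ω i (hab i (Or.inl hi))
  rw [subsingleton_hom_maximal_iff m' _ a₀ hlow j]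
  -- the flat local homomorphism `R → P_{m'}`
  haveI hB : IsNoetherianRing (Localization.AtPrime m') :=
    IsLocalization.isNoetherianRing m'.primeCompl _ inferInstance
  haveI : Module.Flat R (Localization.AtPrime m') :=
    Module.Flat.trans R (MvPolynomial (Fin n) R) (Localization.AtPrime m')
  haveI : PreservesFiniteLimits (Efun (algebraMap R (Localization.AtPrime m'))) :=
    preservesFiniteLimits_Efun_of_flat _
  have hle : fibId R (Localization.AtPrime m') ≤ maximalIdeal (Localization.AtPrime m') :=
    map_le_maximalIdeal (maximalIdeal R) m'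
  -- the closed fibre is Gorenstein of dimension `n`
  haveI : Algebra.Smooth R (MvPolynomial (Fin n) R) := {}
  haveI : IsRegularRing ((maximalIdeal R).Fiber (MvPolynomial (Fin n) R)) :=
    Groth.Agent.Helper14.SmoothReg.isRegularRing_of_smooth (maximalIdeal R).ResidueField _
  haveI hG : LocCoh.IsGorensteinLocalRing
      (Localization.AtPrime m' ⧸ fibId R (Localization.AtPrime m')) :=
    (Groth.Agent.Helper12.GorFib.isGorensteinRing_fiber_iff (maximalIdeal R)).mp
      (Groth.Agent.Helper12.GorFib.isGorensteinRing_of_isRegularRing _) m'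
  have hc : ringKrullDim (Localization.AtPrime m' ⧸ fibId R (Localization.AtPrime m')) =
      (n : WithBot ℕ∞) := by
    have := Groth.Agent.Helper8.SmD.ringKrullDim_FL_add_trdeg R (MvPolynomial (Fin n) R) n
      (maximalIdeal R) m' 0 (by rw [trdeg_quotient_maximal_eq_zero R n m']; simp)
    simpa using this
  -- the degree of `ω`
  obtain ⟨e, hvan_e, he⟩ := exists_unique_ext_residue ω hω (maximalIdeal R)
  have he0 : e = 0 := by
    by_contra hne
    have h1 : Subsingleton (Dual.inD R (R ⧸ maximalIdeal R) ⟶ ω⟦e⟧) := hn e hne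
    obtain ⟨E⟩ := he
    haveI : Nontrivial (R ⧸ maximalIdeal R) :=
      Ideal.Quotient.nontrivial_iff.mpr (maximalIdeal.isMaximal R).ne_top
    exact (not_subsingleton_iff_nontrivial.mpr E.toEquiv.nontrivial) h1
  subst he0
  have h2 := subsingleton_ext_residue_Ld hle ω hω 0 hvan_e he n hc j (by omega)
  obtain ⟨ι⟩ := nonempty_LdComp_iso (algebraMap R (MvPolynomial (Fin n) R))
    (algebraMap (MvPolynomial (Fin n) R) (Localization.AtPrime m'))
    (algebraMap R (Localization.AtPrime m')) (IsScalarTower.algebraMap_eq _ _ _) ω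
  exact (Iso.homCongr (Iso.refl _) ((shiftFunctor _ j).mapIso ι)).subsingleton_congr.mpr h2

end Poly

end Groth.Agent.Helper8.CoR
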