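import Groth.Agent.Lib.Helper8.CoR4

/-!
# The degree formula for the base change of a dualizing complex along a flat map (helper8)
-/

set_option autoImplicit false

open CategoryTheory CategoryTheory.Limits TensorProduct

universe u

namespace Groth.Agent.Helper8.CoR

open DerivedCategory IsLocalRing Groth.Agent.Helper8.BiDual Groth.Agent.Helper3.HT
  Groth.Agent.Helper8.RMod Groth.Agent.Helper8.LOC Groth.Agent.Helper8.FBC
  Groth.Agent.Lead.Fib

attribute [local instance] HasDerivedCategory.standard

variable {A B : Type u} [CommRing A] [CommRing B] [Algebra A B] [IsNoetherianRing A]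
  [IsNoetherianRing B] [Module.Flat A B]

/-- **degree formula**: if `Ext^d(κ(p), ω_p) ≠ 0` then `Ext^{d + c}(κ(q), (ω ⊗ B)_q) ≠ 0`,
`c = dim (B_q / p B_q)` -/
theorem nontrivial_ext_residue_of_flat (p : Ideal A) [p.IsPrime] (q : Ideal B) [q.IsPrime]
    [q.LiesOver p] (ω : Dual.D A) (hω : Dual.IsDualizing A ω) (d : ℤ)
    (hd : Nontrivial (Dual.inD (Localization.AtPrime p)
      (Localization.AtPrime p ⧸ maximalIdeal (Localization.AtPrime p)) ⟶ (omegaAt ω p)⟦d⟧))
    (c : ℕ) (hc : ringKrullDim (FL p q) = c)
    [PreservesFiniteLimits (Efun (algebraMap A (Localization.AtPrime q)))] :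
    Nontrivial (Dual.inD (Localization.AtPrime q)
      (Localization.AtPrime q ⧸ maximalIdeal (Localization.AtPrime q)) ⟶
        ((Ld (algebraMap A (Localization.AtPrime q))).obj ω)⟦d + c⟧) := by
  haveI hB : IsNoetherianRing (Localization.AtPrime q) :=
    IsLocalization.isNoetherianRing q.primeCompl _ inferInstance
  haveI hA : IsNoetherianRing (Localization.AtPrime p) :=
    IsLocalization.isNoetherianRing p.primeCompl _ inferInstance
  letI : Algebra (Localization.AtPrime p) (Localization.AtPrime q) :=
    Localization.AtPrime.algebraOfLiesOver p q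
  haveI hloc : IsLocalHom (algebraMap (Localization.AtPrime p) (Localization.AtPrime q)) :=
    Localization.isLocalHom_localRingHom _ _ _ _
  haveI : Module.Flat (Localization.AtPrime p) (Localization.AtPrime q) := inferInstance
  haveI : PreservesFiniteLimits
      (Efun (algebraMap (Localization.AtPrime p) (Localization.AtPrime q))) :=
    preservesFiniteLimits_Efun_of_flat _
  have hmap : p.map (algebraMap A (Localization.AtPrime q)) =
      fibId (Localization.AtPrime p) (Localization.AtPrime q) := by
    unfold fibId
    rw [← Localization.AtPrime.map_eq_maximalIdeal, Ideal.map_map, ← IsScalarTower.algebraMap_eq]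
  have hle : fibId (Localization.AtPrime p) (Localization.AtPrime q) ≤
      maximalIdeal (Localization.AtPrime q) :=
    ((IsLocalRing.local_hom_TFAE
      (algebraMap (Localization.AtPrime p) (Localization.AtPrime q))).out 0 2).mp hloc
  have hc' : ringKrullDim (Localization.AtPrime q ⧸
      fibId (Localization.AtPrime p) (Localization.AtPrime q)) = c := by
    rw [← ringKrullDim_eq_of_ringEquiv (Ideal.quotEquivOfEq hmap)]
    exact hc
  have hωp := isDualizing_omegaAt ω hω p
  obtain ⟨e, hvan_e, he⟩ := exists_unique_ext_residue (omegaAt ω p) hωp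
    (maximalIdeal (Localization.AtPrime p))
  have hed : e = d := by
    by_contra hne
    have h1 := hvan_e d (fun h => hne h.symm)
    exact (not_subsingleton_iff_nontrivial.mpr hd) h1
  subst hed
  have h2 := nontrivial_ext_residue_Ld hle (omegaAt ω p) hωp e hvan_e he c hc' (e + c) rfl
  obtain ⟨i1⟩ := nonempty_LdComp_iso (algebraMap A (Localization.AtPrime p))
    (algebraMap (Localization.AtPrime p) (Localization.AtPrime q))
    (algebraMap A (Localization.AtPrime q)) (IsScalarTower.algebraMap_eq _ _ _) ω
  exact (Iso.homCongr (Iso.refl _) ((shiftFunctor _ (e + (c : ℤ))).mapIso i1)).symm.nontrivial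

end Groth.Agent.Helper8.CoR
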