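import Groth.Agent.Lib.Helper8.CoR4
import Groth.Agent.Lib.Helper8.RMod8
import Groth.Agent.Lib.Helper8.BiDual10

/-!
# The converse: if `ω` and `ω ⊗ B` are dualizing, the fibres of the flat map `A → B` are Gorenstein
(helper8)
-/

set_option autoImplicit false

open CategoryTheory CategoryTheory.Limits TensorProduct

universe u

namespace Groth.Agent.Helper8.CoR

open DerivedCategory IsLocalRing Groth.Agent.Helper8.BiDual Groth.Agent.Helper3.HT
  Groth.Agent.Helper8.RMod Groth.Agent.Helper8.LOC Groth.Agent.Helper8.FBC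
  Groth.Agent.Lead.Fib

attribute [local instance] HasDerivedCategory.standard

section Gor

variable (C : Type u) [CommRing C]

/-- if `C[0]` is a dualizing complex then `C` has finite injective dimension -/
theorem exists_hasInjectiveDimensionLT_of_isDualizing (h : Dual.IsDualizing C (Dual.inD C C)) :
    ∃ n : ℕ, HasInjectiveDimensionLT (ModuleCat.of C C) n := by
  obtain ⟨a, b, hab⟩ := h.finite_injective_dimension
  refine ⟨(b + 1).toNat, HasInjectiveDimensionLT.mk (fun i hi Y e => ?_)⟩
  have h1 : Subsingleton (Dual.inD C Y ⟶ (Dual.inD C C)⟦(i : ℤ)⟧) :=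
    hab Y (i : ℤ) (Or.inr (by omega))
  have h2 : Subsingleton (Abelian.Ext (ModuleCat.of C Y) (ModuleCat.of C C) i) :=
    (Groth.Agent.Helper8.DualMod.homInDEquivExt C Y C i).subsingleton
  exact @Subsingleton.elim _ h2 e 0

/-- a local ring `C` with `C[k]` dualizing is Gorenstein -/
theorem isGorensteinLocalRing_of_isDualizing_shift [IsLocalRing C] (k : ℤ)
    (h : Dual.IsDualizing C ((Dual.inD C C)⟦k⟧)) : LocCoh.IsGorensteinLocalRing C := by
  haveI := h.isNoetherianRing
  have h1 : Dual.IsDualizing C (((Dual.inD C C)⟦k⟧)⟦-k⟧) := isDualizing_shift _ h (-k)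
  have h2 : Dual.IsDualizing C (Dual.inD C C) :=
    Groth.Agent.Helper8.FLD.isDualizing_of_iso
      ((shiftFunctorCompIsoId (Dual.D C) k (-k) (by omega)).app (Dual.inD C C)) h1
  exact { exists_hasInjectiveDimensionLT := exists_hasInjectiveDimensionLT_of_isDualizing C h2 }

end Gor

section Local

variable {A B : Type u} [CommRing A] [CommRing B] [Algebra A B] [IsNoetherianRing A]
  [IsNoetherianRing B] [IsLocalRing A] [IsLocalRing B] [Module.Flat A B]
  [PreservesFiniteLimits (Efun (algebraMap A B))]

/-- **converse, local case**: if `ω` and `ω ⊗ B` are dualizing then the closed fibre is Gorenstein -/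
theorem isGorensteinLocalRing_fibre_of_isDualizing (hle : fibId A B ≤ maximalIdeal B)
    (ω : Dual.D A) (hω : Dual.IsDualizing A ω)
    (hB : Dual.IsDualizing B ((Ld (algebraMap A B)).obj ω)) :
    LocCoh.IsGorensteinLocalRing (B ⧸ fibId A B) := by
  haveI := isLocalRing_quot (fibId A B) hle
  obtain ⟨e, hvan_e, he⟩ := exists_unique_ext_residue ω hω (maximalIdeal A)
  obtain ⟨J, a, b, eJ, hvanJ, hJinj, hend, hext, hfinH⟩ :=
    exists_model ((Ld (algebraMap A B)).obj ω) hB
  have hJlow : ∀ i : ℤ, i < a → IsZero (J.X i) := fun i hi => hvanJ i (Or.inl hi)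
  have hJ : ∀ n : ℤ, Injective (J.X n) := fun n =>
    (Module.injective_iff_injective_object B (J.X n)).mp (hJinj n)
  let φ : B →+* (B ⧸ fibId A B) := Ideal.Quotient.mk (fibId A B)
  have hφ : Function.Surjective φ := Ideal.Quotient.mk_surjective
  have key : ∀ j : ℤ, Nonempty (((singleFunctor (ModuleCat.{u} B) 0).obj (BA φ) ⟶ (Q.obj J)⟦j⟧) ≃ₗ[B]
      B ⊗[A] (Dual.inD A (A ⧸ maximalIdeal A) ⟶ ω⟦j⟧)) := by
    intro j
    obtain ⟨e1⟩ := nonempty_ext_fibre_equiv (B := B) ω hω j
    exact ⟨(Linear.homCongr B ((singleFunctor (ModuleCat.{u} B) 0).mapIso (BAIso (fibId A B)))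
      ((shiftFunctor (Dual.D B) j).mapIso eJ)).trans e1⟩
  have hvan : ∀ j : ℤ, j ≠ e →
      Subsingleton ((singleFunctor (ModuleCat.{u} B) 0).obj (BA φ) ⟶ (Q.obj J)⟦j⟧) := by
    intro j hj
    obtain ⟨e1⟩ := key j
    haveI := hvan_e j hj
    haveI : Subsingleton (B ⊗[A] (Dual.inD A (A ⧸ maximalIdeal A) ⟶ ω⟦j⟧)) := subsingleton_tensor B
    exact e1.toEquiv.subsingleton
  have he' : Nonempty (((singleFunctor (ModuleCat.{u} B) 0).obj (BA φ) ⟶ (Q.obj J)⟦e⟧) ≃ₗ[B]
      BA φ) := by
    obtain ⟨e1⟩ := key e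
    obtain ⟨e2⟩ := he
    let e3 : (B ⊗[A] (Dual.inD A (A ⧸ maximalIdeal A) ⟶ ω⟦e⟧)) ≃ₗ[B]
        (B ⊗[A] (A ⧸ maximalIdeal A)) :=
      TensorProduct.AlgebraTensorModule.congr (LinearEquiv.refl B B) e2
    exact ⟨((e1.trans e3).trans (tensorQuotEquiv B (maximalIdeal A) (fibId A B) rfl)).trans
      (BAIso (fibId A B)).symm.toLinearEquiv⟩
  obtain ⟨ι⟩ := nonempty_W_iso φ J a hJlow hJ hφ hJinj e hvan he'
  have hW : Dual.IsDualizing (B ⧸ fibId A B)
      (Q.obj ((coC (algebraMap B (B ⧸ fibId A B))).obj J)) :=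
    isDualizing_coC ((Ld (algebraMap A B)).obj ω) hB J a b eJ hvanJ hJinj hend hext hfinH
  exact isGorensteinLocalRing_of_isDualizing_shift (B ⧸ fibId A B) (-e)
    (Groth.Agent.Helper8.FLD.isDualizing_of_iso ι hW)

end Local

section Global

variable {A B : Type u} [CommRing A] [CommRing B] [Algebra A B] [IsNoetherianRing A]
  [IsNoetherianRing B] [Module.Flat A B]

/-- **converse**: if `ω` and `ω ⊗ B` are dualizing then all the fibre local rings are Gorenstein -/
theorem isGorensteinLocalRing_FL_of_isDualizing [PreservesFiniteLimits (Efun (algebraMap A B))]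
    (ω : Dual.D A) (hω : Dual.IsDualizing A ω)
    (hB : Dual.IsDualizing B ((Ld (algebraMap A B)).obj ω))
    (p : Ideal A) [p.IsPrime] (r : Ideal B) [r.IsPrime] [r.LiesOver p] :
    LocCoh.IsGorensteinLocalRing (FL p r) := by
  haveI hBr : IsNoetherianRing (Localization.AtPrime r) :=
    IsLocalization.isNoetherianRing r.primeCompl _ inferInstance
  haveI hAp : IsNoetherianRing (Localization.AtPrime p) :=
    IsLocalization.isNoetherianRing p.primeCompl _ inferInstance
  letI : Algebra (Localization.AtPrime p) (Localization.AtPrime r) :=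
    Localization.AtPrime.algebraOfLiesOver p r
  haveI hloc : IsLocalHom (algebraMap (Localization.AtPrime p) (Localization.AtPrime r)) :=
    Localization.isLocalHom_localRingHom _ _ _ _
  haveI : Module.Flat (Localization.AtPrime p) (Localization.AtPrime r) := inferInstance
  haveI : PreservesFiniteLimits
      (Efun (algebraMap (Localization.AtPrime p) (Localization.AtPrime r))) :=
    preservesFiniteLimits_Efun_of_flat _
  have hmap : p.map (algebraMap A (Localization.AtPrime r)) =
      fibId (Localization.AtPrime p) (Localization.AtPrime r) := by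
    unfold fibId
    rw [← Localization.AtPrime.map_eq_maximalIdeal, Ideal.map_map, ← IsScalarTower.algebraMap_eq]
  have hle : fibId (Localization.AtPrime p) (Localization.AtPrime r) ≤
      maximalIdeal (Localization.AtPrime r) :=
    ((IsLocalRing.local_hom_TFAE
      (algebraMap (Localization.AtPrime p) (Localization.AtPrime r))).out 0 2).mp hloc
  haveI : PreservesFiniteLimits (Efun (algebraMap A (Localization.AtPrime r))) := by
    haveI : Module.Flat A (Localization.AtPrime r) :=
      Module.Flat.trans A B (Localization.AtPrime r)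
    exact preservesFiniteLimits_Efun_of_flat _
  obtain ⟨i1⟩ := nonempty_LdComp_iso (algebraMap A (Localization.AtPrime p))
    (algebraMap (Localization.AtPrime p) (Localization.AtPrime r))
    (algebraMap A (Localization.AtPrime r)) (IsScalarTower.algebraMap_eq _ _ _) ω
  obtain ⟨i2⟩ := nonempty_LdComp_iso (algebraMap A B) (algebraMap B (Localization.AtPrime r))
    (algebraMap A (Localization.AtPrime r)) (IsScalarTower.algebraMap_eq _ _ _) ω
  have hd : Dual.IsDualizing (Localization.AtPrime r)
      ((Ld (algebraMap (Localization.AtPrime p) (Localization.AtPrime r))).obj (omegaAt ω p)) :=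
    Groth.Agent.Helper8.FLD.isDualizing_of_iso (i2 ≪≫ i1.symm)
      (isDualizing_Ld r.primeCompl (Localization.AtPrime r) _ hB)
  have hG := isGorensteinLocalRing_fibre_of_isDualizing hle (omegaAt ω p)
    (isDualizing_omegaAt ω hω p) hd
  exact (Groth.Agent.Helper12.GorFlatLoc.gor_iff_of_ringEquiv (Ideal.quotEquivOfEq hmap)).mpr hG

end Global

end Groth.Agent.Helper8.CoR
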