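import Mathlib

/-!
# Sections of constant sheaves of modules on a small site (helper8)

`T M := M̲(U)` is an exact `Λ`-linear functor; hence `M̲(U) ⊗ Q ≃ (M ⊗ Q)̲(U)` for finitely
presented `Q`.
-/

namespace Groth.Agent.Helper8.ConstSh

universe u

open CategoryTheory Limits Opposite TensorProduct

variable {C : Type u} [SmallCategory C] (J : GrothendieckTopology C)
  (Λ : Type u) [CommRing Λ] (U : C)

/-- sections over `U` of the constant sheaf, as a functor. -/
noncomputable def T : ModuleCat.{u} Λ ⥤ ModuleCat.{u} Λ :=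
  constantSheaf J (ModuleCat.{u} Λ) ⋙ sheafToPresheaf J _ ⋙ (evaluation Cᵒᵖ _).obj (op U)

theorem T_obj (M : ModuleCat.{u} Λ) :
    (T J Λ U).obj M = ((constantSheaf J (ModuleCat.{u} Λ)).obj M).obj.obj (op U) := rfl

theorem T_map {M N : ModuleCat.{u} Λ} (φ : M ⟶ N) :
    (T J Λ U).map φ = ((constantSheaf J (ModuleCat.{u} Λ)).map φ).hom.app (op U) := rfl

instance : (T J Λ U).Additive := by
  unfold T
  infer_instance

instance : PreservesFiniteLimits (constantSheaf J (ModuleCat.{u} Λ)) :=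
  inferInstanceAs (PreservesFiniteLimits (Functor.const Cᵒᵖ ⋙ presheafToSheaf J _))

instance : PreservesFiniteLimits (T J Λ U) := by
  unfold T
  infer_instance

/-- the constant sheaf of sets sends surjections to maps that are surjective on sections. -/
theorem constType_surjective {X Y : Type u} (f : X ⟶ Y) (hf : Function.Surjective f) :
    Function.Surjective (((constantSheaf J (Type u)).map f).hom.app (op U)) := by
  classical
  let σ : Y ⟶ X := TypeCat.ofHom fun y => (hf y).choose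
  have hσ : σ ≫ f = 𝟙 Y := by
    apply ConcreteCategory.hom_ext
    intro y
    exact (hf y).choose_spec
  intro y
  refine ⟨((constantSheaf J (Type u)).map σ).hom.app (op U) y, ?_⟩
  have h1 : (constantSheaf J (Type u)).map σ ≫ (constantSheaf J (Type u)).map f = 𝟙 _ := by
    rw [← CategoryTheory.Functor.map_comp, hσ, CategoryTheory.Functor.map_id]
  have h2 : ((constantSheaf J (Type u)).map σ).hom.app (op U) ≫
      ((constantSheaf J (Type u)).map f).hom.app (op U) = 𝟙 _ := by
    have h3 := congrArg (fun t => t.hom.app (op U)) h1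
    exact h3
  exact ConcreteCategory.congr_hom h2 y

theorem T_map_surjective {M N : ModuleCat.{u} Λ} (φ : M ⟶ N) (hφ : Function.Surjective φ.hom) :
    Function.Surjective ((T J Λ U).map φ).hom := by
  let F := forget (ModuleCat.{u} Λ)
  let α := constantCommuteCompose J F
  have nat := α.hom.naturality φ
  have nat' : ((constantSheaf J (ModuleCat.{u} Λ) ⋙ sheafCompose J F).map φ).hom.app (op U) ≫
      (α.hom.app N).hom.app (op U) =
      (α.hom.app M).hom.app (op U) ≫ ((F ⋙ constantSheaf J (Type u)).map φ).hom.app (op U) :=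
    congrArg (fun t => t.hom.app (op U)) nat
  have hc := constType_surjective J U (F.map φ) hφ
  have hiso : ∀ K : ModuleCat.{u} Λ, Function.Bijective ((α.hom.app K).hom.app (op U)) := by
    intro K
    have : IsIso ((α.hom.app K).hom.app (op U)) := inferInstance
    exact (isIso_iff_bijective _).mp this
  intro y
  obtain ⟨z, hz⟩ := hc ((α.hom.app N).hom.app (op U) y)
  obtain ⟨x, hx⟩ := (hiso M).2 z
  refine ⟨x, ?_⟩
  apply (hiso N).1
  rw [← hz, ← hx]
  exact ConcreteCategory.congr_hom nat' x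

/-- `T` is `Λ`-linear on morphisms. -/
theorem T_map_smul {M N : ModuleCat.{u} Λ} (a : Λ) (φ : M ⟶ N) :
    (T J Λ U).map (a • φ) = a • (T J Λ U).map φ := by
  have key : sheafifyMap J ((Functor.const Cᵒᵖ).map (a • φ)) =
      a • sheafifyMap J ((Functor.const Cᵒᵖ).map φ) := by
    apply sheafify_hom_ext J _ _ ((presheafToSheaf J (ModuleCat.{u} Λ)).obj _).property
    rw [← toSheafify_naturality, Linear.comp_smul, ← toSheafify_naturality, ← Linear.smul_comp]
    congr 1
  show (sheafifyMap J ((Functor.const Cᵒᵖ).map (a • φ))).app (op U) = _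
  rw [key]
  rfl

/-- the action of `T` on linear maps. -/
noncomputable def Tl {M N : Type u} [AddCommGroup M] [Module Λ M] [AddCommGroup N]
    [Module Λ N] :
    (M →ₗ[Λ] N) →ₗ[Λ] (↥((T J Λ U).obj (ModuleCat.of Λ M)) →ₗ[Λ]
      ↥((T J Λ U).obj (ModuleCat.of Λ N))) where
  toFun φ := ((T J Λ U).map (ModuleCat.ofHom φ)).hom
  map_add' φ ψ := by
    rw [ModuleCat.ofHom_add, Functor.map_add, ModuleCat.hom_add]
  map_smul' a φ := by
    have h : ModuleCat.ofHom (a • φ) = a • ModuleCat.ofHom φ := rfl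
    rw [h, T_map_smul, ModuleCat.hom_smul]
    rfl

theorem Tl_apply {M N : Type u} [AddCommGroup M] [Module Λ M] [AddCommGroup N] [Module Λ N]
    (φ : M →ₗ[Λ] N) : Tl J Λ U φ = ((T J Λ U).map (ModuleCat.ofHom φ)).hom := rfl

theorem Tl_id {M : Type u} [AddCommGroup M] [Module Λ M] :
    Tl J Λ U (LinearMap.id : M →ₗ[Λ] M) = LinearMap.id := by
  rw [Tl_apply, ModuleCat.ofHom_id, CategoryTheory.Functor.map_id]
  rfl

theorem Tl_comp {M N P : Type u} [AddCommGroup M] [Module Λ M] [AddCommGroup N] [Module Λ N]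
    [AddCommGroup P] [Module Λ P] (ψ : N →ₗ[Λ] P) (φ : M →ₗ[Λ] N) :
    Tl J Λ U (ψ ∘ₗ φ) = Tl J Λ U ψ ∘ₗ Tl J Λ U φ := by
  rw [Tl_apply, ModuleCat.ofHom_comp, CategoryTheory.Functor.map_comp]
  rfl

theorem Tl_comp_apply {M N P : Type u} [AddCommGroup M] [Module Λ M] [AddCommGroup N]
    [Module Λ N] [AddCommGroup P] [Module Λ P] (ψ : N →ₗ[Λ] P) (φ : M →ₗ[Λ] N)
    (s : ↥((T J Λ U).obj (ModuleCat.of Λ M))) :
    Tl J Λ U ψ (Tl J Λ U φ s) = Tl J Λ U (ψ ∘ₗ φ) s := by
  rw [Tl_comp]
  rfl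

theorem Tl_surjective {M N : Type u} [AddCommGroup M] [Module Λ M] [AddCommGroup N]
    [Module Λ N] (φ : M →ₗ[Λ] N) (hφ : Function.Surjective φ) :
    Function.Surjective (Tl J Λ U φ) :=
  T_map_surjective J Λ U (ModuleCat.ofHom φ) hφ

theorem Tl_injective {M N : Type u} [AddCommGroup M] [Module Λ M] [AddCommGroup N]
    [Module Λ N] (φ : M →ₗ[Λ] N) (hφ : Function.Injective φ) :
    Function.Injective (Tl J Λ U φ) := by
  haveI : Mono (ModuleCat.ofHom φ) := (ModuleCat.mono_iff_injective _).mpr hφ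
  haveI : Mono ((T J Λ U).map (ModuleCat.ofHom φ)) := inferInstance
  exact (ModuleCat.mono_iff_injective _).mp this

/-- `T` is exact in the middle. -/
theorem Tl_exact {M₁ M₂ M₃ : Type u} [AddCommGroup M₁] [Module Λ M₁] [AddCommGroup M₂]
    [Module Λ M₂] [AddCommGroup M₃] [Module Λ M₃] (f : M₁ →ₗ[Λ] M₂) (g : M₂ →ₗ[Λ] M₃)
    (hfg : Function.Exact f g) : Function.Exact (Tl J Λ U f) (Tl J Λ U g) := by
  -- factor `f` through the kernel of `g`
  let N : Submodule Λ M₂ := LinearMap.ker g
  have hfN : ∀ x, f x ∈ N := fun x => by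
    show g (f x) = 0
    exact hfg.apply_apply_eq_zero x
  let f' : M₁ →ₗ[Λ] N := LinearMap.codRestrict N f hfN
  have hf' : Function.Surjective f' := by
    rintro ⟨y, hy⟩
    obtain ⟨x, hx⟩ := (hfg y).mp hy
    exact ⟨x, Subtype.ext hx⟩
  have hfac : f = N.subtype ∘ₗ f' := rfl
  -- exactness of `T` applied to `0 → N → M₂ → M₃`
  let S : ShortComplex (ModuleCat.{u} Λ) :=
    ShortComplex.mk (ModuleCat.ofHom N.subtype) (ModuleCat.ofHom g) (by
      ext x
      exact x.2)
  have hS : S.Exact := by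
    rw [ShortComplex.moduleCat_exact_iff]
    intro x hx
    exact ⟨⟨x, hx⟩, rfl⟩
  haveI : Mono S.f := (ModuleCat.mono_iff_injective _).mpr (Submodule.injective_subtype N)
  have hTS : (S.map (T J Λ U)).Exact :=
    hS.map_of_mono_of_preservesKernel (T J Λ U) inferInstance inferInstance
  rw [ShortComplex.moduleCat_exact_iff] at hTS
  intro y
  constructor
  · intro hy
    obtain ⟨x, hx⟩ := hTS y hy
    obtain ⟨w, hw⟩ := Tl_surjective J Λ U f' hf' x
    refine ⟨w, ?_⟩
    rw [hfac, Tl_comp]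
    show Tl J Λ U N.subtype (Tl J Λ U f' w) = y
    rw [hw]
    exact hx
  · rintro ⟨w, rfl⟩
    rw [Tl_comp_apply, hfg.linearMap_comp_eq_zero, map_zero]
    rfl

end Groth.Agent.Helper8.ConstSh
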