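import Mathlib
import Groth.Agent.Lib.Helper8.ConstSh1

/-!
# `M̲(U) ⊗ Q ≃ (M ⊗ Q)̲(U)` for finitely presented `Q`, and flatness of `M̲(U)` (helper8)
-/

namespace Groth.Agent.Helper8.ConstSh

universe u

open CategoryTheory Limits Opposite TensorProduct

variable {C : Type u} [SmallCategory C] (J : GrothendieckTopology C)
  (Λ : Type u) [CommRing Λ] (U : C)

section

variable (M : Type u) [AddCommGroup M] [Module Λ M]

/-- the comparison map `T(M) ⊗ P → T(M ⊗ P)`. -/
noncomputable def theta (P : Type u) [AddCommGroup P] [Module Λ P] :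
    (↥((T J Λ U).obj (ModuleCat.of Λ M)) ⊗[Λ] P) →ₗ[Λ]
      ↥((T J Λ U).obj (ModuleCat.of Λ (M ⊗[Λ] P))) :=
  TensorProduct.lift ((Tl J Λ U ∘ₗ (TensorProduct.mk Λ M P).flip).flip)

theorem theta_tmul (P : Type u) [AddCommGroup P] [Module Λ P]
    (s : ↥((T J Λ U).obj (ModuleCat.of Λ M))) (p : P) :
    theta J Λ U M P (s ⊗ₜ p) = Tl J Λ U ((TensorProduct.mk Λ M P).flip p) s := rfl

theorem theta_natural {P P' : Type u} [AddCommGroup P] [Module Λ P] [AddCommGroup P']
    [Module Λ P'] (h : P →ₗ[Λ] P') :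
    Tl J Λ U (LinearMap.lTensor M h) ∘ₗ theta J Λ U M P =
      theta J Λ U M P' ∘ₗ LinearMap.lTensor _ h := by
  apply TensorProduct.ext'
  intro s p
  show Tl J Λ U (LinearMap.lTensor M h) (theta J Λ U M P (s ⊗ₜ p)) =
    theta J Λ U M P' (LinearMap.lTensor _ h (s ⊗ₜ p))
  rw [LinearMap.lTensor_tmul, theta_tmul, theta_tmul, Tl_comp_apply]
  congr 2

/-- `theta` is bijective for finite free modules. -/
theorem theta_free_bijective (n : ℕ) : Function.Bijective (theta J Λ U M (Fin n → Λ)) := by
  classical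
  let P := Fin n → Λ
  let e : Fin n → P := fun i => Pi.single i 1
  let ι : Fin n → (M →ₗ[Λ] M ⊗[Λ] P) := fun i => (TensorProduct.mk Λ M P).flip (e i)
  let ρ : Fin n → (M ⊗[Λ] P →ₗ[Λ] M) := fun j =>
    (TensorProduct.rid Λ M).toLinearMap ∘ₗ LinearMap.lTensor M (LinearMap.proj j)
  have hρ : ∀ j (m : M) (p : P), ρ j (m ⊗ₜ p) = p j • m := fun j m p => by
    show (TensorProduct.rid Λ M) (LinearMap.lTensor M (LinearMap.proj j) (m ⊗ₜ p)) = _
    rw [LinearMap.lTensor_tmul, TensorProduct.rid_tmul]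
    rfl
  have hsum : ∀ p : P, p = ∑ i, p i • e i := by
    intro p
    have h : ∀ p : Fin n → Λ, p = ∑ i, p i • (Pi.single i (1 : Λ) : Fin n → Λ) := by
      intro p
      ext k
      simp [Finset.sum_apply, Pi.single_apply]
    exact h p
  have hρι : ∀ (p : P) j, ρ j ∘ₗ (TensorProduct.mk Λ M P).flip p = p j • LinearMap.id := by
    intro p j
    ext m
    show ρ j (m ⊗ₜ p) = p j • m
    exact hρ j m p
  have hιρ : ∑ i, ι i ∘ₗ ρ i = LinearMap.id := by
    apply TensorProduct.ext'
    intro m p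
    rw [LinearMap.sum_apply, LinearMap.id_apply]
    conv_rhs => rw [hsum p, TensorProduct.tmul_sum]
    refine Finset.sum_congr rfl fun i _ => ?_
    show (ρ i (m ⊗ₜ p)) ⊗ₜ[Λ] e i = m ⊗ₜ[Λ] (p i • e i)
    rw [hρ, TensorProduct.smul_tmul]
  let β : ↥((T J Λ U).obj (ModuleCat.of Λ (M ⊗[Λ] P))) →
      (↥((T J Λ U).obj (ModuleCat.of Λ M)) ⊗[Λ] P) := fun y => ∑ i, (Tl J Λ U (ρ i) y) ⊗ₜ e i
  have h1 : ∀ z, β (theta J Λ U M P z) = z := by
    intro z
    induction z using TensorProduct.induction_on with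
    | zero =>
      show ∑ i, (Tl J Λ U (ρ i) (theta J Λ U M P 0)) ⊗ₜ e i = 0
      simp
    | tmul s p =>
      show ∑ i, (Tl J Λ U (ρ i) (theta J Λ U M P (s ⊗ₜ p))) ⊗ₜ e i = s ⊗ₜ p
      conv_rhs => rw [hsum p, TensorProduct.tmul_sum]
      refine Finset.sum_congr rfl fun i _ => ?_
      rw [theta_tmul, Tl_comp_apply, hρι, map_smul, Tl_id, LinearMap.smul_apply,
        LinearMap.id_apply, TensorProduct.smul_tmul]
    | add x y hx hy =>
      have hadd : ∀ a b, β (a + b) = β a + β b := by
        intro a b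
        show ∑ i, (Tl J Λ U (ρ i) (a + b)) ⊗ₜ e i = _
        simp only [map_add, TensorProduct.add_tmul, Finset.sum_add_distrib]
        rfl
      rw [map_add, hadd, hx, hy]
  have h2 : ∀ y, theta J Λ U M P (β y) = y := by
    intro y
    show theta J Λ U M P (∑ i, (Tl J Λ U (ρ i) y) ⊗ₜ e i) = y
    rw [map_sum]
    have h3 : ∀ i, theta J Λ U M P ((Tl J Λ U (ρ i) y) ⊗ₜ e i) = Tl J Λ U (ι i ∘ₗ ρ i) y := by
      intro i
      rw [theta_tmul, Tl_comp_apply]
    rw [Finset.sum_congr rfl fun i _ => h3 i, ← LinearMap.sum_apply, ← map_sum, hιρ, Tl_id,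
      LinearMap.id_apply]
  exact ⟨Function.LeftInverse.injective h1, Function.RightInverse.surjective h2⟩

/-- `theta` is bijective for finitely presented modules. -/
theorem theta_bijective (Q : Type u) [AddCommGroup Q] [Module Λ Q]
    [Module.FinitePresentation Λ Q] : Function.Bijective (theta J Λ U M Q) := by
  obtain ⟨n, m, π, g, hπ, hex⟩ := Module.FinitePresentation.exists_fin' Λ Q
  have hn := theta_free_bijective J Λ U M n
  have hm := theta_free_bijective J Λ U M m
  have natπ := theta_natural J Λ U M π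
  have natg := theta_natural J Λ U M g
  -- exactness
  have exM : Function.Exact (LinearMap.lTensor M g) (LinearMap.lTensor M π) :=
    lTensor_exact M hex hπ
  have exT : Function.Exact (Tl J Λ U (LinearMap.lTensor M g)) (Tl J Λ U (LinearMap.lTensor M π)) :=
    Tl_exact J Λ U _ _ exM
  have surT : Function.Surjective (Tl J Λ U (LinearMap.lTensor M π)) :=
    Tl_surjective J Λ U _ (LinearMap.lTensor_surjective M hπ)
  have surL : Function.Surjective
      (LinearMap.lTensor ↥((T J Λ U).obj (ModuleCat.of Λ M)) π) :=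
    LinearMap.lTensor_surjective _ hπ
  constructor
  · rw [injective_iff_map_eq_zero]
    intro z hz
    obtain ⟨y, rfl⟩ := surL z
    have e1 : Tl J Λ U (LinearMap.lTensor M π) (theta J Λ U M _ y) = 0 := by
      have := LinearMap.congr_fun natπ y
      rw [LinearMap.comp_apply, LinearMap.comp_apply] at this
      rw [this, hz]
    obtain ⟨w, hw⟩ := (exT _).mp e1
    obtain ⟨x, rfl⟩ := hm.2 w
    have e2 : theta J Λ U M _ (LinearMap.lTensor _ g x) = theta J Λ U M _ y := by
      have := LinearMap.congr_fun natg x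
      rw [LinearMap.comp_apply, LinearMap.comp_apply] at this
      rw [← this, hw]
    have e3 := hn.1 e2
    rw [← e3, ← LinearMap.comp_apply, ← LinearMap.lTensor_comp, hex.linearMap_comp_eq_zero,
      LinearMap.lTensor_zero, LinearMap.zero_apply]
  · intro y
    obtain ⟨y', rfl⟩ := surT y
    obtain ⟨x, rfl⟩ := hn.2 y'
    refine ⟨LinearMap.lTensor _ π x, ?_⟩
    have := LinearMap.congr_fun natπ x
    rw [LinearMap.comp_apply, LinearMap.comp_apply] at this
    exact this.symm

end

/-- **Flatness of sections of a constant sheaf on a flat module over a coherent ring.** -/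
theorem flat_sections (hΛ : ∀ I : Ideal Λ, I.FG → Module.FinitePresentation Λ I)
    (M : Type u) [AddCommGroup M] [Module Λ M] [Module.Flat Λ M] :
    Module.Flat Λ ↥((T J Λ U).obj (ModuleCat.of Λ M)) := by
  rw [Module.Flat.iff_lTensor_injective]
  intro I hI
  haveI := hΛ I hI
  have hI' : Function.Bijective (theta J Λ U M ↥I) := theta_bijective J Λ U M ↥I
  have nat := theta_natural J Λ U M (I.subtype)
  have hinj : Function.Injective (Tl J Λ U (LinearMap.lTensor M I.subtype)) :=
    Tl_injective J Λ U _ (Module.Flat.lTensor_preserves_injective_linearMap _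
      (Submodule.injective_subtype I))
  intro a b hab
  apply hI'.1
  apply hinj
  have ha := LinearMap.congr_fun nat a
  have hb := LinearMap.congr_fun nat b
  rw [LinearMap.comp_apply, LinearMap.comp_apply] at ha hb
  rw [ha, hb, hab]

end Groth.Agent.Helper8.ConstSh
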