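import Groth.Agent.Lib.Helper8.DArt1
import Groth.Agent.Lib.Helper11.DCHom
import Groth.Agent.Lib.Helper1.InjHullLib
import Groth.Agent.Lib.Helper1.MatlisLib1

/-!
# Dualizing complexes over Artinian local rings, part 2 (helper8)
-/


set_option autoImplicit false
universe u

namespace Groth.Agent.Helper8.DArt

open CategoryTheory Abelian DerivedCategory Pretriangulated Limits

attribute [local instance] HasDerivedCategory.standard

variable {A : Type u} [CommRing A]

theorem isFiniteLength_of_finite_of_dim_zero [IsNoetherianRing A] (h0 : ringKrullDim A = 0)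
    (N : Type u) [AddCommGroup N] [Module A N] [Module.Finite A N] : IsFiniteLength A N := by
  have h1 : Ring.KrullDimLE 0 A := by
    rw [Ring.krullDimLE_iff, h0]
    rfl
  have h2 : IsArtinianRing A := isArtinianRing_iff_isNoetherianRing_krullDimLE_zero.mpr ⟨‹_›, h1⟩
  rw [isFiniteLength_iff_isNoetherian_isArtinian]
  exact ⟨inferInstance, inferInstance⟩

theorem isZero_homology_of_subsingleton_hom (K : Dual.D A) (i : ℤ)
    (h : Subsingleton (Dual.inD A A ⟶ K⟦i⟧)) :
    IsZero ((homologyFunctor (ModuleCat.{u} A) i).obj K) := by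
  have hb := Groth.Agent.Helper11.DC.psi_bijective (ModuleCat.of A A) (K⟦i⟧)
  have hs : Subsingleton ((homologyFunctor (ModuleCat.{u} A) 0).obj
      ((singleFunctor (ModuleCat.{u} A) 0).obj (ModuleCat.of A A)) ⟶
        (homologyFunctor (ModuleCat.{u} A) 0).obj (K⟦i⟧)) :=
    ⟨fun x y => by
      obtain ⟨x', rfl⟩ := hb.2 x
      obtain ⟨y', rfl⟩ := hb.2 y
      rw [Subsingleton.elim x' y']⟩
  have hz : IsZero ((homologyFunctor (ModuleCat.{u} A) 0).obj (K⟦i⟧)) := by
    have hsub : Subsingleton ((homologyFunctor (ModuleCat.{u} A) 0).obj (K⟦i⟧)) := by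
      refine ⟨fun x y => ?_⟩
      have key : ∀ x : (homologyFunctor (ModuleCat.{u} A) 0).obj (K⟦i⟧), x = 0 := by
        intro x
        let φ : (homologyFunctor (ModuleCat.{u} A) 0).obj
            ((singleFunctor (ModuleCat.{u} A) 0).obj (ModuleCat.of A A)) ⟶
              (homologyFunctor (ModuleCat.{u} A) 0).obj (K⟦i⟧) :=
          (Groth.Agent.Helper11.DC.iota (ModuleCat.of A A)).hom ≫
            ModuleCat.ofHom (LinearMap.toSpanSingleton A _ x)
        have hφ : φ = 0 := Subsingleton.elim _ _
        have h1 : φ.hom ((Groth.Agent.Helper11.DC.iota (ModuleCat.of A A)).inv.hom (1 : A)) = x := by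
          show (LinearMap.toSpanSingleton A _ x)
            ((Groth.Agent.Helper11.DC.iota (ModuleCat.of A A)).hom.hom
              ((Groth.Agent.Helper11.DC.iota (ModuleCat.of A A)).inv.hom (1 : A))) = x
          have h2 : (Groth.Agent.Helper11.DC.iota (ModuleCat.of A A)).hom.hom
              ((Groth.Agent.Helper11.DC.iota (ModuleCat.of A A)).inv.hom (1 : A)) = (1 : A) := by
            rw [← LinearMap.comp_apply, ← ModuleCat.hom_comp, Iso.inv_hom_id]
            rfl
          rw [h2, LinearMap.toSpanSingleton_apply, one_smul]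
        rw [← h1, hφ]
        rfl
      rw [key x, key y]
    exact ModuleCat.isZero_of_subsingleton _
  exact hz.of_iso (Groth.Agent.Helper11.DC.sigma K i).symm



open IsLocalRing


theorem isPowerTorsion_of_artinian [IsLocalRing A] [IsArtinianRing A] (M : Type u)
    [AddCommGroup M] [Module A M] : LocCoh.IsPowerTorsion (maximalIdeal A) M := by
  obtain ⟨n, hn⟩ := IsArtinianRing.isNilpotent_jacobson_bot (R := A)
  rw [IsLocalRing.jacobson_eq_maximalIdeal ⊥ bot_ne_top] at hn
  intro x
  refine ⟨n, fun a ha => ?_⟩
  rw [hn] at ha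
  rw [Ideal.zero_eq_bot, Ideal.mem_bot] at ha
  rw [ha, zero_smul]

theorem nonempty_linearEquiv_hull_of_end [IsLocalRing A] [IsArtinianRing A] (M : Type u)
    [AddCommGroup M] [Module A M] (hinj : Module.Injective A M)
    (hend : ∀ φ : M →ₗ[A] M, ∃ a : A, φ = a • LinearMap.id)
    (hfaith : ∀ a : A, (a • (LinearMap.id : M →ₗ[A] M) = 0) → a = 0)
    (E : Type u) [AddCommGroup E] [Module A E] (f : ResidueField A →ₗ[A] E)
    (hf : InjHull.IsInjectiveHull f) : Nonempty (M ≃ₗ[A] E) := by
  -- M is nontrivial
  have hM : Nontrivial M := by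
    by_contra hne
    rw [not_nontrivial_iff_subsingleton] at hne
    have h1 : (1 : A) • (LinearMap.id : M →ₗ[A] M) = 0 := by
      ext x
      exact Subsingleton.elim _ _
    exact one_ne_zero (hfaith 1 h1)
  obtain ⟨x, hx⟩ := exists_ne (0 : M)
  obtain ⟨r, hrx, hsoc⟩ := Groth.Agent.Helper1.exists_smul_mem_socle
    (isPowerTorsion_of_artinian (A := A) M) x hx
  set y := r • x with hy
  -- the map κ → M
  have hle : maximalIdeal A ≤ LinearMap.ker (LinearMap.toSpanSingleton A M y) := by
    intro a ha
    rw [LinearMap.mem_ker, LinearMap.toSpanSingleton_apply]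
    exact hsoc a ha
  let i : ResidueField A →ₗ[A] M :=
    Submodule.liftQ (maximalIdeal A) (LinearMap.toSpanSingleton A M y) hle
  have hi : Function.Injective i := by
    rw [← LinearMap.ker_eq_bot]
    have hker : LinearMap.ker (LinearMap.toSpanSingleton A M y) = maximalIdeal A := by
      refine le_antisymm ?_ hle
      intro a ha
      rw [LinearMap.mem_ker, LinearMap.toSpanSingleton_apply] at ha
      by_contra hna
      have hu : IsUnit a := by
        by_contra hnu
        exact hna ((IsLocalRing.mem_maximalIdeal a).mpr hnu)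
      obtain ⟨u, rfl⟩ := hu
      apply hrx
      have : (↑u⁻¹ : A) • ((u : A) • y) = 0 := by rw [ha, smul_zero]
      rwa [smul_smul, Units.inv_mul, one_smul] at this
    show LinearMap.ker (Submodule.liftQ (maximalIdeal A) (LinearMap.toSpanSingleton A M y) hle) = ⊥
    rw [Submodule.ker_liftQ, hker]
    exact (Submodule.mkQ_map_self _)
  obtain ⟨α, β, hα, -, hβα, -⟩ :=
    Groth.Agent.Helper1.exists_embedding_of_hull f hf i hi hinj
  have hβα' : ∀ e, β (α e) = e := fun e => LinearMap.congr_fun hβα e
  obtain ⟨a, ha⟩ := hend (α ∘ₗ β)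
  -- a is idempotent
  have hidem : (a * a - a) • (LinearMap.id : M →ₗ[A] M) = 0 := by
    ext z
    have h1 : α (β z) = a • z := by
      have := LinearMap.congr_fun ha z
      simpa using this
    have h2 : α (β (α (β z))) = α (β z) := by rw [hβα']
    rw [h1, map_smul, map_smul, h1] at h2
    show ((a * a - a) • (LinearMap.id : M →ₗ[A] M)) z = 0
    rw [LinearMap.smul_apply, LinearMap.id_apply, sub_smul, mul_smul, h2, sub_self]
  have haa : a * a - a = 0 := hfaith _ hidem
  have ha01 : a = 0 ∨ a = 1 := by
    have h3 : a * (a - 1) = 0 := by rw [mul_sub, mul_one]; exact haa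
    by_cases hu : IsUnit a
    · right
      obtain ⟨u, rfl⟩ := hu
      have : (↑u⁻¹ : A) * ((u : A) * ((u : A) - 1)) = 0 := by rw [h3, mul_zero]
      rw [← mul_assoc, Units.inv_mul, one_mul] at this
      exact sub_eq_zero.mp this
    · left
      have hu' : IsUnit (a - 1) := by
        have h4 : a ∈ maximalIdeal A := (IsLocalRing.mem_maximalIdeal a).mpr hu
        have h5 : IsUnit (1 - a) := by
          by_contra hnu
          have h6 : 1 - a ∈ maximalIdeal A := (IsLocalRing.mem_maximalIdeal _).mpr hnu
          have h7 : (1 : A) ∈ maximalIdeal A := by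
            have := (maximalIdeal A).add_mem h6 h4
            rwa [sub_add_cancel] at this
          exact (maximalIdeal.isMaximal A).ne_top ((Ideal.eq_top_iff_one _).mpr h7)
        have : a - 1 = -(1 - a) := by ring
        rw [this]
        exact h5.neg
      obtain ⟨u, hu2⟩ := hu'
      have : a * (u : A) * (↑u⁻¹ : A) = 0 := by rw [hu2, h3, zero_mul]
      rwa [mul_assoc, Units.mul_inv, mul_one] at this
  rcases ha01 with h0 | h1
  · exfalso
    -- α ∘ β = 0, so α = 0, contradiction with E nontrivial
    have hE : ∃ e : E, e ≠ 0 := by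
      refine ⟨f 1, fun h => ?_⟩
      have := hf.injective (h.trans (map_zero f).symm)
      exact one_ne_zero this
    obtain ⟨e, he⟩ := hE
    apply he
    have h2 : α (β (α e)) = 0 := by
      have := LinearMap.congr_fun ha (α e)
      rw [h0, zero_smul] at this
      simpa using this
    rw [hβα'] at h2
    exact hα (h2.trans (map_zero α).symm)
  · -- α ∘ β = id
    have hαβ : ∀ z, α (β z) = z := by
      intro z
      have := LinearMap.congr_fun ha z
      rw [h1, one_smul] at this
      simpa using this
    exact ⟨(LinearEquiv.ofLinearMap α β (LinearMap.ext hαβ) (LinearMap.ext hβα')).symm⟩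

end Groth.Agent.Helper8.DArt
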