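import Groth.Agent.Lib.Helper8.DArt2

/-!
# Dualizing complexes over Artinian local rings, part 3 (helper8)
-/


set_option autoImplicit false
universe u

namespace Groth.Agent.Helper8.DArt

open CategoryTheory Abelian DerivedCategory Pretriangulated Limits IsLocalRing

attribute [local instance] HasDerivedCategory.standard

variable {A : Type u} [CommRing A]

theorem exists_iso_inD_hull_of_dim_zero [IsLocalRing A] [IsNoetherianRing A]
    (h0 : ringKrullDim A = 0) (ω : Dual.D A) (hω : Dual.IsDualizing A ω)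
    (hn : Dual.IsNormalized A ω) (E : Type u) [AddCommGroup E] [Module A E]
    (f : ResidueField A →ₗ[A] E) (hf : InjHull.IsInjectiveHull f) :
    Nonempty (ω ≅ Dual.inD A E) := by
  have hart : IsArtinianRing A := by
    have h1 : Ring.KrullDimLE 0 A := by
      rw [Ring.krullDimLE_iff, h0]
      rfl
    exact isArtinianRing_iff_isNoetherianRing_krullDimLE_zero.mpr ⟨‹_›, h1⟩
  -- vanishing
  have hvan : ∀ (N : Type u) [AddCommGroup N] [Module A N] [Module.Finite A N] (i : ℤ),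
      i ≠ 0 → Subsingleton (Dual.inD A N ⟶ ω⟦i⟧) := by
    intro N _ _ _ i hi
    exact subsingleton_hom_of_isFiniteLength (ω⟦i⟧) (hn i hi) N
      (isFiniteLength_of_finite_of_dim_zero h0 N)
  have hH : ∀ i : ℤ, i ≠ 0 → IsZero ((homologyFunctor (ModuleCat.{u} A) i).obj ω) :=
    fun i hi => isZero_homology_of_subsingleton_hom ω i (hvan A i hi)
  have hge : ω.IsGE 0 := (isGE_iff ω 0).mpr (fun i hi => hH i (by omega))
  have hle : ω.IsLE 0 := (isLE_iff ω 0).mpr (fun i hi => hH i (by omega))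
  obtain ⟨M0, ⟨e⟩⟩ := exists_iso_singleFunctor_obj_of_isGE_of_isLE ω 0
  -- M0 injective
  have hinj : Module.Injective A M0 := by
    apply Groth.Agent.Helper8.InjBC.injective_of_ext_one_quotient_subsingleton
    intro I
    have h1 : Subsingleton (Dual.inD A (A ⧸ I) ⟶ ω⟦(1 : ℤ)⟧) := hvan (A ⧸ I) 1 one_ne_zero
    have h2 : Subsingleton (Dual.inD A (A ⧸ I) ⟶ (Dual.inD A M0)⟦((1 : ℕ) : ℤ)⟧) := by
      refine ⟨fun φ ψ => ?_⟩
      have := Subsingleton.elim (φ ≫ (shiftFunctor (Dual.D A) (1 : ℤ)).map e.inv)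
        (ψ ≫ (shiftFunctor (Dual.D A) (1 : ℤ)).map e.inv)
      exact (cancel_mono ((shiftFunctor (Dual.D A) (1 : ℤ)).map e.inv)).mp this
    exact (Groth.Agent.Helper8.DualMod.homInDEquivExt A (A ⧸ I) M0 1).subsingleton
  -- endomorphisms
  have hmap : ∀ a : A, (singleFunctor (ModuleCat.{u} A) 0).map (a • 𝟙 M0) =
      e.inv ≫ (a • 𝟙 ω) ≫ e.hom := by
    intro a
    rw [CategoryTheory.Functor.map_smul, CategoryTheory.Functor.map_id, Linear.smul_comp,
      Linear.comp_smul, Category.id_comp, e.inv_hom_id]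
  have hend : ∀ φ : M0 →ₗ[A] M0, ∃ a : A, φ = a • LinearMap.id := by
    intro φ
    obtain ⟨a, ha⟩ := hω.toEnd_bijective.2
      (e.hom ≫ (singleFunctor (ModuleCat.{u} A) 0).map (ModuleCat.ofHom φ) ≫ e.inv)
    refine ⟨a, ?_⟩
    have ha' : a • 𝟙 ω =
        e.hom ≫ (singleFunctor (ModuleCat.{u} A) 0).map (ModuleCat.ofHom φ) ≫ e.inv := ha
    have h1 : (singleFunctor (ModuleCat.{u} A) 0).map (ModuleCat.ofHom φ) =
        (singleFunctor (ModuleCat.{u} A) 0).map (a • 𝟙 M0) := by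
      rw [hmap, ha']
      simp
    have h2 := (singleFunctor (ModuleCat.{u} A) 0).map_injective h1
    have h3 := congrArg ModuleCat.Hom.hom h2
    rw [ModuleCat.hom_ofHom] at h3
    rw [h3]
    rfl
  have hfaith : ∀ a : A, (a • (LinearMap.id : M0 →ₗ[A] M0) = 0) → a = 0 := by
    intro a ha
    have h1 : a • 𝟙 M0 = 0 := by
      apply ModuleCat.hom_ext
      exact ha
    have h2 : a • 𝟙 ω = (0 : A) • 𝟙 ω := by
      have h3 := hmap a
      rw [h1, Functor.map_zero] at h3
      have h4 : (a • 𝟙 ω) ≫ e.hom = 0 := (cancel_epi e.inv).mp (h3.symm.trans comp_zero.symm)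
      have h5 : a • 𝟙 ω = 0 := (cancel_mono e.hom).mp (h4.trans zero_comp.symm)
      rw [h5, zero_smul]
    exact hω.toEnd_bijective.1 h2
  obtain ⟨eM⟩ := nonempty_linearEquiv_hull_of_end M0 hinj hend hfaith E f hf
  exact ⟨e ≪≫ (singleFunctor (ModuleCat.{u} A) 0).mapIso eM.toModuleIso⟩

end Groth.Agent.Helper8.DArt
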