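import Groth.Agent.Lib.Helper8.DualMod2
import Groth.Agent.Lib.Helper8.ExtFin
import Groth.Agent.Lib.Helper11.DCInjAmp
import Groth.Agent.Lib.Helper11.DCExtClosed

/-!
# Finiteness of `Hom(K, L[i])` in `D(A)` (helper8)
-/

set_option autoImplicit false
universe u

namespace Groth.Agent.Helper8.DFin

open CategoryTheory Abelian DerivedCategory Pretriangulated Limits

attribute [local instance] HasDerivedCategory.standard

variable {A : Type u} [CommRing A]

/-- all shifted Hom modules into `L` are Noetherian -/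
def NoethHom (K L : Dual.D A) : Prop := ∀ i : ℤ, IsNoetherian A (K ⟶ L⟦i⟧)

theorem noethHom_of_iso_left {K K' L : Dual.D A} (e : K ≅ K') (h : NoethHom K L) :
    NoethHom K' L := by
  intro i
  have := h i
  let φ : (K' ⟶ L⟦i⟧) →ₗ[A] (K ⟶ L⟦i⟧) := Linear.leftComp A (L⟦i⟧) e.hom
  refine isNoetherian_of_injective φ ?_
  intro f g hfg
  exact (cancel_epi e.hom).mp hfg

theorem noethHom_of_iso_right {K L L' : Dual.D A} (e : L ≅ L') (h : NoethHom K L) :
    NoethHom K L' := by
  intro i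
  have := h i
  let φ : (K ⟶ L'⟦i⟧) →ₗ[A] (K ⟶ L⟦i⟧) :=
    Linear.rightComp A K ((shiftFunctor (Dual.D A) i).map e.inv)
  refine isNoetherian_of_injective φ ?_
  intro f g hfg
  exact (cancel_mono ((shiftFunctor (Dual.D A) i).map e.inv)).mp hfg

theorem noethHom_of_isZero_left {K L : Dual.D A} (hK : IsZero K) : NoethHom K L := by
  intro i
  have : Subsingleton (K ⟶ L⟦i⟧) := ⟨fun f g => hK.eq_of_src f g⟩
  infer_instance

theorem noethHom_of_isZero_right {K L : Dual.D A} (hL : IsZero L) : NoethHom K L := by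
  intro i
  have : Subsingleton (K ⟶ L⟦i⟧) :=
    ⟨fun f g => ((shiftFunctor (Dual.D A) i).map_isZero hL).eq_of_tgt f g⟩
  infer_instance

theorem noethHom_ext_left {L : Dual.D A} (T : Triangle (Dual.D A)) (hT : T ∈ distTriang (Dual.D A))
    (h1 : NoethHom T.obj₁ L) (h3 : NoethHom T.obj₃ L) : NoethHom T.obj₂ L := by
  intro i
  have := h1 i
  have := h3 i
  refine isNoetherian_of_range_eq_ker (Linear.leftComp A (L⟦i⟧) T.mor₂)
    (Linear.leftComp A (L⟦i⟧) T.mor₁) ?_
  ext f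
  constructor
  · rintro ⟨g, rfl⟩
    show T.mor₁ ≫ T.mor₂ ≫ g = 0
    rw [← Category.assoc, comp_distTriang_mor_zero₁₂ T hT, zero_comp]
  · intro hf
    obtain ⟨g, hg⟩ := Triangle.yoneda_exact₂ T hT f hf
    exact ⟨g, hg.symm⟩

theorem noethHom_ext_right {K : Dual.D A} (T : Triangle (Dual.D A))
    (hT : T ∈ distTriang (Dual.D A))
    (h1 : NoethHom K T.obj₁) (h3 : NoethHom K T.obj₃) : NoethHom K T.obj₂ := by
  intro i
  have := h1 i
  have := h3 i
  have hTi := Triangle.shift_distinguished T hT i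
  refine isNoetherian_of_range_eq_ker
    (Linear.rightComp A K ((shiftFunctor (Dual.D A) i).map T.mor₁))
    (Linear.rightComp A K ((shiftFunctor (Dual.D A) i).map T.mor₂)) ?_
  ext f
  constructor
  · rintro ⟨g, rfl⟩
    show (g ≫ (shiftFunctor (Dual.D A) i).map T.mor₁) ≫ (shiftFunctor (Dual.D A) i).map T.mor₂ = 0
    rw [Category.assoc, ← Functor.map_comp, comp_distTriang_mor_zero₁₂ T hT, Functor.map_zero,
      comp_zero]
  · intro hf
    have hf' : f ≫ (shiftFunctor (Dual.D A) i).map T.mor₂ = 0 := hf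
    obtain ⟨g, hg⟩ : ∃ g : K ⟶ (shiftFunctor (Dual.D A) i).obj T.obj₁,
        f = g ≫ (i.negOnePow • (shiftFunctor (Dual.D A) i).map T.mor₁) :=
      Triangle.coyoneda_exact₂ _ hTi f (by
        show f ≫ (i.negOnePow • (shiftFunctor (Dual.D A) i).map T.mor₂) = 0
        rw [Linear.comp_units_smul, hf', smul_zero])
    refine ⟨i.negOnePow • g, ?_⟩
    show (i.negOnePow • g) ≫ (shiftFunctor (Dual.D A) i).map T.mor₁ = f
    rw [hg, Linear.comp_units_smul, Linear.units_smul_comp]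

theorem noethHom_shift_right {K L : Dual.D A} (n : ℤ) (h : NoethHom K L) :
    NoethHom K (L⟦n⟧) := by
  intro i
  have := h (n + i)
  let e : (L⟦n⟧)⟦i⟧ ≅ L⟦n + i⟧ := ((shiftFunctorAdd' (Dual.D A) n i (n + i) rfl).app L).symm
  let φ : (K ⟶ (L⟦n⟧)⟦i⟧) →ₗ[A] (K ⟶ L⟦n + i⟧) := Linear.rightComp A K e.hom
  refine isNoetherian_of_injective φ ?_
  intro f g hfg
  exact (cancel_mono e.hom).mp hfg

theorem noethHom_shift_left {K L : Dual.D A} (n : ℤ) (h : NoethHom K L) :
    NoethHom (K⟦n⟧) L := by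
  intro i
  have := h (i - n)
  let e : (L⟦i - n⟧)⟦n⟧ ≅ L⟦i⟧ :=
    ((shiftFunctorAdd' (Dual.D A) (i - n) n i (by omega)).app L).symm
  let φ : (K ⟶ L⟦i - n⟧) →ₗ[A] (K⟦n⟧ ⟶ L⟦i⟧) :=
    (Linear.rightComp A (K⟦n⟧) e.hom).comp
      (Functor.mapLinearMap A (shiftFunctor (Dual.D A) n))
  refine isNoetherian_of_surjective φ ?_
  rw [LinearMap.range_eq_top]
  intro g
  obtain ⟨f, hf⟩ := (shiftFunctor (Dual.D A) n).map_surjective (g ≫ e.inv)
  refine ⟨f, ?_⟩
  show (shiftFunctor (Dual.D A) n).map f ≫ e.hom = g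
  rw [hf, Category.assoc, e.inv_hom_id, Category.comp_id]

theorem noethHom_single_single [IsNoetherianRing A] (M N : ModuleCat.{u} A)
    [Module.Finite A M] [Module.Finite A N] :
    NoethHom ((singleFunctor (ModuleCat.{u} A) 0).obj M)
      ((singleFunctor (ModuleCat.{u} A) 0).obj N) := by
  intro i
  rcases lt_or_ge i 0 with hi | hi
  · have : Subsingleton ((singleFunctor (ModuleCat.{u} A) 0).obj M ⟶
        ((singleFunctor (ModuleCat.{u} A) 0).obj N)⟦i⟧) :=
      Groth.Agent.Helper8.DualMod.subsingleton_hom_inD_shift_of_neg A M N i hi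
    infer_instance
  · obtain ⟨n, rfl⟩ := Int.eq_ofNat_of_zero_le hi
    have hfin : Module.Finite A (Ext (ModuleCat.of A M) (ModuleCat.of A N) n) :=
      Groth.Agent.Helper8.ExtFin.finite_ext N n M
    have hN : IsNoetherian A (Ext (ModuleCat.of A M) (ModuleCat.of A N) n) :=
      isNoetherian_of_isNoetherianRing_of_finite A _
    let e : Ext (ModuleCat.of A M) (ModuleCat.of A N) n ≃ₗ[A]
        ((singleFunctor (ModuleCat.{u} A) 0).obj M ⟶
          ((singleFunctor (ModuleCat.{u} A) 0).obj N)⟦(n : ℤ)⟧) :=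
      Ext.homLinearEquiv
    exact isNoetherian_of_linearEquiv e

end Groth.Agent.Helper8.DFin
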