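import Groth.Agent.Lib.Helper8.LOC22

/-!
# Dévissage for `Hom(Z, W)` along the cohomology modules of `Z` (helper8)
-/

set_option autoImplicit false

open CategoryTheory CategoryTheory.Limits Opposite Pretriangulated

universe u

namespace Groth.Agent.Helper8.DMod

open DerivedCategory

attribute [local instance] HasDerivedCategory.standard

variable {A : Type u} [CommRing A]

/-- `N[0]⟦s⟧` is zero for a trivial module `N` -/
theorem isZero_inD_shift (N : Type u) [AddCommGroup N] [Module A N] [Subsingleton N] (s : ℤ) :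
    IsZero ((Dual.inD A N)⟦s⟧) :=
  (shiftFunctor (Dual.D A) s).map_isZero
    ((singleFunctor (ModuleCat.{u} A) 0).map_isZero (ModuleCat.isZero_of_subsingleton _))

/-- a linear equivalence `N ≃ N'` gives `N[0]⟦s⟧ ≅ N'[0]⟦s⟧` -/
noncomputable def inDShiftIso {N N' : Type u} [AddCommGroup N] [Module A N] [AddCommGroup N']
    [Module A N'] (ε : N ≃ₗ[A] N') (s : ℤ) : (Dual.inD A N)⟦s⟧ ≅ (Dual.inD A N')⟦s⟧ :=
  (shiftFunctor (Dual.D A) s).mapIso ((singleFunctor (ModuleCat.{u} A) 0).mapIso ε.toModuleIso)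

/-- an object of `D^{[a,a]}` is `H^a[-a]` -/
noncomputable def singleIso (X : Dual.D A) (a : ℤ) [X.IsGE a] [X.IsLE a] :
    (Dual.inD A (Dual.HD A X a))⟦-a⟧ ≅ X := by
  let h := exists_iso_singleFunctor_obj_of_isGE_of_isLE X a
  let K₀ := h.choose
  let e : X ≅ (singleFunctor (ModuleCat.{u} A) a).obj K₀ := h.choose_spec.some
  let e' : K₀ ≅ (homologyFunctor (ModuleCat.{u} A) a).obj X :=
    ((singleFunctorCompHomologyFunctorIso (ModuleCat.{u} A) a).app K₀).symm ≪≫
      (homologyFunctor (ModuleCat.{u} A) a).mapIso e.symm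
  exact ((singleFunctors (ModuleCat.{u} A)).shiftIso (-a) a 0 (by omega)).app _ ≪≫
    (singleFunctor (ModuleCat.{u} A) a).mapIso e'.symm ≪≫ e.symm

/-- an object all of whose shifted cohomology modules have no nonzero maps to `W` has no nonzero
maps to `W` -/
theorem hom_eq_zero_of_cohomology (W : Dual.D A) :
    ∀ (k : ℕ) (Z : Dual.D A) (a : ℤ), Z.IsGE a → Z.IsLE (a + k - 1) →
      (∀ (m : ℤ) (φ : (Dual.inD A (Dual.HD A Z m))⟦-m⟧ ⟶ W), φ = 0) → ∀ φ : Z ⟶ W, φ = 0 := by
  intro k
  induction k with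
  | zero =>
    intro Z a hge hle _ φ
    have hz : IsZero Z := DerivedCategory.TStructure.t.isZero Z (a + (0 : ℕ) - 1) a (by simp)
    exact hz.eq_of_src φ 0
  | succ k ih =>
    intro Z a hge hle hZ φ
    obtain ⟨X, Y, f, g, h, hXle, hYge, hT, hfiso, hgiso⟩ :=
      Groth.Agent.Helper8.DFin.exists_trunc_triangle Z a
    haveI hXge : X.IsGE a := by
      rw [isGE_iff]
      intro j hj
      have := hfiso j (by omega)
      exact (isZero_of_isGE Z a j hj).of_iso
        (asIso ((homologyFunctor (ModuleCat.{u} A) j).map f))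
    haveI := hXle
    haveI := hfiso a le_rfl
    -- `f ≫ φ = 0`
    let ε : Dual.HD A Z a ≃ₗ[A] Dual.HD A X a :=
      (asIso ((homologyFunctor (ModuleCat.{u} A) a).map f)).symm.toLinearEquiv
    have h0 : f ≫ φ = 0 := by
      have h1 := hZ a ((inDShiftIso ε (-a)).hom ≫ (singleIso X a).hom ≫ f ≫ φ)
      rw [← cancel_epi (singleIso X a).hom, ← cancel_epi (inDShiftIso ε (-a)).hom, h1,
        comp_zero, comp_zero]
    obtain ⟨ψ, hψ⟩ := Triangle.yoneda_exact₂ _ hT φ h0
    have hYle : Y.IsLE (a + 1 + k - 1) := by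
      rw [isLE_iff]
      intro j hj
      have := hgiso j (by omega)
      have hQ : IsZero ((homologyFunctor (ModuleCat.{u} A) j).obj Z) :=
        isZero_of_isLE Z (a + (k + 1 : ℕ) - 1) j (by push_cast; omega)
      exact hQ.of_iso (asIso ((homologyFunctor (ModuleCat.{u} A) j).map g)).symm
    have hψ0 : ψ = 0 := by
      refine ih Y (a + 1) hYge hYle ?_ ψ
      intro m φ'
      rcases lt_or_ge m (a + 1) with hm | hm
      · haveI : Subsingleton (Dual.HD A Y m) :=
          ModuleCat.subsingleton_of_isZero (isZero_of_isGE Y (a + 1) m hm)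
        exact (isZero_inD_shift (Dual.HD A Y m) (-m)).eq_of_src _ _
      · haveI := hgiso m hm
        let ε' : Dual.HD A Z m ≃ₗ[A] Dual.HD A Y m :=
          (asIso ((homologyFunctor (ModuleCat.{u} A) m).map g)).toLinearEquiv
        have h1 := hZ m ((inDShiftIso ε' (-m)).hom ≫ φ')
        rw [← cancel_epi (inDShiftIso ε' (-m)).hom, h1, comp_zero]
    rw [hψ, hψ0]
    exact comp_zero

end Groth.Agent.Helper8.DMod
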