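import Groth.Agent.Lib.Helper8.DMod1
import Groth.Agent.Lib.Helper8.Caten1
import Groth.Agent.S1717

/-!
# `(S_k)` and the truncation `τ_{> -n} ω` of a normalized dualizing complex (helper8)
-/

set_option autoImplicit false

open CategoryTheory CategoryTheory.Limits Opposite Pretriangulated

universe u

namespace Groth.Agent.Helper8.DMod

open DerivedCategory Groth.Agent.Helper8.LOC

attribute [local instance] HasDerivedCategory.standard

section Shift

variable {A : Type u} [CommRing A]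

theorem hom_shift_eq_zero (X W : Dual.D A) (s j j' : ℤ) (hj : j' + s = j)
    (hvan : ∀ φ : X ⟶ W⟦j'⟧, φ = 0) (φ : X⟦s⟧ ⟶ W⟦j⟧) : φ = 0 := by
  let c : W⟦j⟧ ≅ (W⟦j'⟧)⟦s⟧ := (shiftFunctorAdd' (Dual.D A) j' s j hj).app W
  obtain ⟨ψ, hψ⟩ := (shiftFunctor (Dual.D A) s).map_surjective (φ ≫ c.hom)
  rw [hvan ψ, Functor.map_zero] at hψ
  rw [← cancel_mono c.hom, ← hψ, zero_comp]

end Shift

section Local

variable {A : Type u} [CommRing A] [IsLocalRing A] [IsNoetherianRing A] (ω : Dual.D A)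
  (hω : Dual.IsDualizing A ω) (hn : Dual.IsNormalized A ω)

theorem hasSk_mono {k k' : ℕ} (h : k ≤ k') (M : Type u) [AddCommGroup M] [Module A M]
    (hS : LocCoh.HasSk k' A M) : LocCoh.HasSk k A M := by
  intro p _
  refine le_trans (min_le_min ?_ le_rfl) (hS p)
  exact_mod_cast h

include hω hn in
/-- `(S_k)`, `k ≥ 2`, bounds the supports of the lower cohomology modules of `ω` -/
theorem supportDim_HD_of_hasSk (n : ℕ) (hd : ringKrullDim A = n) (k : ℕ) (hk : 2 ≤ k)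
    (hS : LocCoh.HasSk k A A) (i : ℕ) (hi : i ≠ n) :
    (i < k → Subsingleton (Dual.HD A ω (-(i : ℤ)))) ∧
      (k ≤ i → Module.supportDim A (Dual.HD A ω (-(i : ℤ))) ≤ ((i - k : ℕ) : WithBot ℕ∞)) := by
  have hS2 : LocCoh.HasSk 2 A A := hasSk_mono hk A hS
  have hcat := Groth.Agent.Helper8.Caten.isCatenary_of_isDualizing ω hω
  have hδ : Module.supportDim A A = n := by
    rw [Module.supportDim_self_eq_ringKrullDim, hd]
  have hann : Module.annihilator A A = ⊥ := by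
    rw [eq_bot_iff]
    intro x hx
    have := Module.mem_annihilator.mp hx (1 : A)
    rw [smul_eq_mul, mul_one] at this
    exact this
  have hM : EGA4.IsEquidimModule A A := by
    intro p hp
    rw [hann] at hp
    rw [hδ, ← hd]
    exact Groth.Agent.S1717.result A hcat hS2 p hp
  obtain ⟨h1, h2⟩ := (hasSk_iff_of_equidim ω hω hn A hM n hδ k).mp hS (-(i : ℤ)) (by omega)
  let e := Groth.Agent.Helper8.LD.homSelfEquiv ω (-(i : ℤ))
  constructor
  · intro hik
    haveI := h1 (by omega)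
    exact e.symm.toEquiv.subsingleton
  · intro hik
    have h3 := h2 (by omega)
    rw [Module.supportDim_eq_of_equiv e] at h3
    have h4 : (-(-(i : ℤ)) - (k : ℤ)).toNat = i - k := by omega
    rw [h4] at h3
    exact h3

include hω hn in
/-- under `(S_k)`, `k ≥ 2`, the truncation `τ_{> -n} ω` has no maps to `ω⟦j⟧` for `j < k` -/
theorem hom_trunc_eq_zero (n : ℕ) (hd : ringKrullDim A = n) (k : ℕ) (hk : 2 ≤ k)
    (hS : LocCoh.HasSk k A A) (Y : Dual.D A) [Y.IsGE (-(n : ℤ) + 1)] [Y.IsLE 0]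
    (hY : ∀ m : ℤ, -(n : ℤ) < m → Nonempty (Dual.HD A Y m ≃ₗ[A] Dual.HD A ω m)) (j : ℤ)
    (hj : j < k) (φ : Y ⟶ ω⟦j⟧) : φ = 0 := by
  have hle : Y.IsLE (-(n : ℤ) + 1 + (n : ℕ) - 1) := by
    have h0 : -(n : ℤ) + 1 + (n : ℕ) - 1 = 0 := by omega
    rw [h0]
    infer_instance
  refine hom_eq_zero_of_cohomology (ω⟦j⟧) n Y (-(n : ℤ) + 1) inferInstance hle ?_ φ
  intro m φ'
  by_cases hm : -(n : ℤ) < m ∧ m ≤ 0
  · obtain ⟨hm1, hm2⟩ := hm
    obtain ⟨ε⟩ := hY m hm1
    obtain ⟨i, rfl⟩ : ∃ i : ℕ, m = -(i : ℤ) := ⟨(-m).toNat, by omega⟩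
    have hin : i ≠ n := by omega
    obtain ⟨h1, h2⟩ := supportDim_HD_of_hasSk ω hω hn n hd k hk hS i hin
    by_cases hik : i < k
    · haveI := h1 hik
      haveI : Subsingleton (Dual.HD A Y (-(i : ℤ))) := ε.toEquiv.subsingleton
      exact (isZero_inD_shift (Dual.HD A Y (-(i : ℤ))) (-(-(i : ℤ)))).eq_of_src _ _
    · have h3 := h2 (by omega)
      haveI : Module.Finite A (Dual.HD A ω (-(i : ℤ))) := hω.finite_cohomology _
      have hvan : ∀ ψ : Dual.inD A (Dual.HD A ω (-(i : ℤ))) ⟶ ω⟦j + -(i : ℤ)⟧, ψ = 0 := by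
        intro ψ
        by_contra hcon
        have hnt : Nontrivial (Dual.inD A (Dual.HD A ω (-(i : ℤ))) ⟶ ω⟦j + -(i : ℤ)⟧) :=
          ⟨⟨ψ, 0, hcon⟩⟩
        have := (range_of_nontrivial_hom ω hω hn (Dual.HD A ω (-(i : ℤ))) (i - k) h3 _ hnt).1
        omega
      have h4 := hom_shift_eq_zero (Dual.inD A (Dual.HD A ω (-(i : ℤ)))) ω (-(-(i : ℤ))) j
        (j + -(i : ℤ)) (by omega) hvan ((inDShiftIso ε (-(-(i : ℤ)))).inv ≫ φ')
      rw [← cancel_epi (inDShiftIso ε (-(-(i : ℤ)))).inv, h4, comp_zero]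
  · haveI : Subsingleton (Dual.HD A Y m) := by
      rcases lt_or_ge 0 m with h | h
      · exact ModuleCat.subsingleton_of_isZero (isZero_of_isLE Y 0 m h)
      · exact ModuleCat.subsingleton_of_isZero (isZero_of_isGE Y (-(n : ℤ) + 1) m (by omega))
    exact (isZero_inD_shift (Dual.HD A Y m) (-m)).eq_of_src _ _

end Local

end Groth.Agent.Helper8.DMod
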