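import Groth.Agent.Lib.Helper8.LD7
import Groth.Agent.Lib.Helper8.LCDepth
import Groth.Agent.Lib.Helper1.InjHullLib

/-!
# Local duality, part 8: consequences (helper8)
-/

set_option autoImplicit false

open CategoryTheory CategoryTheory.Limits Opposite Pretriangulated

universe u v

namespace Groth.Agent.Helper8.LD

open DerivedCategory Groth.Agent.Helper8.FLD Groth.Agent.Helper8.HDI IsLocalRing

attribute [local instance] HasDerivedCategory.standard

section Dual

variable {A : Type u} [CommRing A] [IsLocalRing A]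
  {E : Type u} [AddCommGroup E] [Module A E] {f : ResidueField A →ₗ[A] E}

/-- enough maps to `E` (universe polymorphic) -/
theorem exists_dual_ne_zero (hf : InjHull.IsInjectiveHull f) {X : Type v} [AddCommGroup X]
    [Module A X] (x : X) (hx0 : x ≠ 0) : ∃ φ : X →ₗ[A] E, φ x ≠ 0 := by
  have := hf.isInjective
  let t : A →ₗ[A] X := LinearMap.toSpanSingleton A X x
  have hker : LinearMap.ker t ≤ (maximalIdeal A : Submodule A A) := by
    apply IsLocalRing.le_maximalIdeal
    intro htop
    have : (1 : A) ∈ LinearMap.ker t := by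
      rw [show LinearMap.ker t = (⊤ : Ideal A) from htop]; trivial
    rw [LinearMap.mem_ker, LinearMap.toSpanSingleton_apply, one_smul] at this
    exact hx0 this
  let q : (A ⧸ LinearMap.ker t) →ₗ[A] ResidueField A :=
    (LinearMap.ker t).liftQ (Algebra.linearMap A (ResidueField A)) (by
      intro a ha
      rw [LinearMap.mem_ker, Algebra.linearMap_apply]
      exact (residue_eq_zero_iff a).2 (hker ha))
  let ψ : LinearMap.range t →ₗ[A] E := f ∘ₗ q ∘ₗ (t.quotKerEquivRange.symm : _ →ₗ[A] _)
  obtain ⟨h, hh⟩ := Module.Injective.extension_property A E (LinearMap.range t) X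
    (LinearMap.range t).subtype (LinearMap.range t).injective_subtype ψ
  refine ⟨h, ?_⟩
  have h1 : h x = f 1 := by
    have hx1 : t 1 = x := by rw [LinearMap.toSpanSingleton_apply, one_smul]
    have := LinearMap.congr_fun hh ⟨t 1, LinearMap.mem_range_self t 1⟩
    rw [LinearMap.comp_apply, Submodule.subtype_apply] at this
    rw [← hx1, this]
    simp only [ψ, LinearMap.comp_apply, LinearEquiv.coe_coe]
    rw [LinearMap.quotKerEquivRange_symm_apply_image]
    rfl
  rw [h1]
  intro h0
  have h3 : (1 : ResidueField A) = 0 :=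
    (injective_iff_map_eq_zero f).1 hf.injective 1 h0
  exact one_ne_zero h3

theorem subsingleton_dual_iff' (hf : InjHull.IsInjectiveHull f) (X : Type v) [AddCommGroup X]
    [Module A X] : Subsingleton (X →ₗ[A] E) ↔ Subsingleton X := by
  constructor
  · intro h
    refine ⟨fun x y => ?_⟩
    have key : ∀ x : X, x = 0 := by
      intro x
      by_contra hx
      obtain ⟨φ, hφ⟩ := exists_dual_ne_zero hf x hx
      exact hφ (by rw [Subsingleton.elim φ 0, LinearMap.zero_apply])
    rw [key x, key y]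
  · intro h
    infer_instance

theorem annihilator_dual_eq (hf : InjHull.IsInjectiveHull f) (X : Type v) [AddCommGroup X]
    [Module A X] : Module.annihilator A (X →ₗ[A] E) = Module.annihilator A X := by
  ext a
  rw [Module.mem_annihilator, Module.mem_annihilator]
  constructor
  · intro h x
    by_contra hx
    obtain ⟨φ, hφ⟩ := exists_dual_ne_zero hf (a • x) hx
    apply hφ
    rw [map_smul, ← LinearMap.smul_apply, h φ, LinearMap.zero_apply]
  · intro h φ
    ext x
    rw [LinearMap.smul_apply, ← map_smul, h x, map_zero, LinearMap.zero_apply]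

end Dual

section LocalDuality

variable {A : Type u} [CommRing A] [IsLocalRing A] [IsNoetherianRing A] (ω : Dual.D A)
  (hω : Dual.IsDualizing A ω) (hn : Dual.IsNormalized A ω)
  {E : Type u} [AddCommGroup E] [Module A E] {f : ResidueField A →ₗ[A] E}
  (hf : InjHull.IsInjectiveHull f)
  (M : Type u) [AddCommGroup M] [Module A M] [Module.Finite A M]

include hω hn hf in
/-- **local duality** `H^i_m(M) ≃ Hom_A(Hom(M[0], ω⟦-i⟧), E)` -/
theorem nonempty_localDuality (i : ℕ) :
    Nonempty (LocCoh.H (maximalIdeal A) i M ≃ₗ[A]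
      ((Dual.inD A M ⟶ ω⟦(-(i : ℤ))⟧) →ₗ[A] E)) := by
  obtain ⟨Ψ⟩ := nonempty_HH_equiv ω hω hn hf
  have hb := Lam_bijective ω hω hn hf Ψ.toLinearMap Ψ.injective M (i : ℤ)
  exact ⟨((brEquiv (maximalIdeal A) i M).symm.trans (LinearEquiv.ofBijective _ hb)).trans
    (LinearEquiv.arrowCongr (homShiftEquiv (Dual.inD A M) ω (i : ℤ)).symm (LinearEquiv.refl A E))⟩

include hω hn in
theorem subsingleton_H_iff (i : ℕ) :
    Subsingleton (LocCoh.H (maximalIdeal A) i M) ↔
      Subsingleton (Dual.inD A M ⟶ ω⟦(-(i : ℤ))⟧) := by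
  obtain ⟨E, _, _, f, hf⟩ := Groth.Agent.Helper1.exists_injectiveHull (R := A) (ResidueField A)
  obtain ⟨e⟩ := nonempty_localDuality ω hω hn hf M i
  have h1 := subsingleton_dual_iff' hf (Dual.inD A M ⟶ ω⟦(-(i : ℤ))⟧)
  rw [← h1]
  exact ⟨fun h => e.symm.toEquiv.subsingleton, fun h => e.toEquiv.subsingleton⟩

include hω hn in
theorem annihilator_hom_eq (i : ℕ) :
    Module.annihilator A (Dual.inD A M ⟶ ω⟦(-(i : ℤ))⟧) =
      Module.annihilator A (LocCoh.H (maximalIdeal A) i M) := by
  obtain ⟨E, _, _, f, hf⟩ := Groth.Agent.Helper1.exists_injectiveHull (R := A) (ResidueField A)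
  obtain ⟨e⟩ := nonempty_localDuality ω hω hn hf M i
  rw [e.annihilator_eq, annihilator_dual_eq hf]

include hω hn in
/-- depth via the dualizing complex -/
theorem depth_eq_iff (n : ℕ) :
    LocCoh.depth A M = n ↔
      ((∀ δ : ℕ, δ < n → Subsingleton (Dual.inD A M ⟶ ω⟦(-(δ : ℤ))⟧)) ∧
        Nontrivial (Dual.inD A M ⟶ ω⟦(-(n : ℤ))⟧)) := by
  have key := fun k : ℕ =>
    Groth.Agent.Helper8.LC.le_idealDepth_iff_H' (maximalIdeal A) k M
  have hiff := subsingleton_H_iff ω hω hn M
  constructor
  · intro h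
    have h1 : ((n : ℕ) : ℕ∞) ≤ LocCoh.idealDepth (maximalIdeal A) M := h.ge
    refine ⟨fun δ hδ => (hiff δ).mp ((key n).mp h1 δ hδ), ?_⟩
    rw [← not_subsingleton_iff_nontrivial, ← hiff n]
    intro hsub
    have h2 : (((n + 1 : ℕ)) : ℕ∞) ≤ LocCoh.idealDepth (maximalIdeal A) M := by
      rw [key (n + 1)]
      intro i hi
      rcases Nat.lt_succ_iff_lt_or_eq.mp hi with h' | rfl
      · exact (key n).mp h1 i h'
      · exact hsub
    have h3 : LocCoh.idealDepth (maximalIdeal A) M = n := h
    rw [h3] at h2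
    exact absurd h2 (by exact_mod_cast Nat.not_succ_le_self n)
  · rintro ⟨h1, h2⟩
    have h3 : ((n : ℕ) : ℕ∞) ≤ LocCoh.idealDepth (maximalIdeal A) M :=
      (key n).mpr (fun δ hδ => (hiff δ).mpr (h1 δ hδ))
    have h4 : ¬ (((n + 1 : ℕ)) : ℕ∞) ≤ LocCoh.idealDepth (maximalIdeal A) M := by
      intro h
      have := (hiff n).mp ((key (n + 1)).mp h n (Nat.lt_succ_self n))
      exact not_subsingleton_iff_nontrivial.mpr h2 this
    have h5 : LocCoh.idealDepth (maximalIdeal A) M < ((n + 1 : ℕ) : ℕ∞) := not_le.mp h4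
    have h6 : LocCoh.idealDepth (maximalIdeal A) M ≤ (n : ℕ∞) := by
      rw [Nat.cast_add, Nat.cast_one] at h5
      exact Order.le_of_lt_add_one h5
    exact le_antisymm h6 h3

end LocalDuality

end Groth.Agent.Helper8.LD
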