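import Groth.Agent.Lib.Helper8.InjBC1

/-!
# Base change of injective modules along flat maps with `pB_q = qB_q` (helper8)
-/

set_option autoImplicit false
universe u

namespace Groth.Agent.Helper8.InjBC

open IsLocalRing CategoryTheory Abelian Groth.Agent.Helper8 Groth.Agent.Helper8.LC
  Groth.Agent.Helper8.Canon Groth.Agent.Helper8.ExtLoc Groth.Agent.Helper8.ExtBC
open scoped TensorProduct

variable (A B : Type u) [CommRing A] [CommRing B] [Algebra A B]

theorem injective_baseChange [IsNoetherianRing A] [IsNoetherianRing B] [Module.Flat A B]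
    (h : ∀ q : PrimeSpectrum B, Ideal.map (algebraMap B (Localization.AtPrime q.asIdeal))
      ((q.asIdeal.comap (algebraMap A B)).map (algebraMap A B)) =
        IsLocalRing.maximalIdeal (Localization.AtPrime q.asIdeal))
    (I : Type u) [AddCommGroup I] [Module A I] [Module.Injective A I] :
    Module.Injective B (B ⊗[A] I) := by
  apply injective_of_forall_prime
  intro Q hQ ξ
  apply exists_smul_eq_zero_of_localization
  -- notation
  set T := Localization.AtPrime Q with hT
  set P : Ideal A := Q.comap (algebraMap A B) with hP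
  haveI : Module.Flat A T := Module.Flat.trans A B T
  -- `Ext^1_T(T ⊗_A A/P, T ⊗_A I) = 0`
  have hZ1 : Subsingleton (Ext (ModuleCat.of T (T ⊗[A] (A ⧸ P))) (ModuleCat.of T (T ⊗[A] I)) 1) := by
    obtain ⟨e1⟩ := ExtBC.ext_baseChange (A := A) (B := T) I 1 (A ⧸ P)
    haveI : Injective (ModuleCat.of A I) := Module.injective_object_of_injective_module A I
    haveI : Subsingleton (Ext (ModuleCat.of A (A ⧸ P)) (ModuleCat.of A I) 1) :=
      ⟨fun a b => (Ext.eq_zero_of_injective a).trans (Ext.eq_zero_of_injective b).symm⟩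
    haveI : Subsingleton (T ⊗[A] Ext (ModuleCat.of A (A ⧸ P)) (ModuleCat.of A I) 1) := by
      refine ⟨fun a b => ?_⟩
      have key : ∀ c : T ⊗[A] Ext (ModuleCat.of A (A ⧸ P)) (ModuleCat.of A I) 1, c = 0 := by
        intro c
        induction c using TensorProduct.induction_on with
        | zero => rfl
        | tmul t x => rw [Subsingleton.elim x 0, TensorProduct.tmul_zero]
        | add x y hx hy => rw [hx, hy, add_zero]
      rw [key a, key b]
    exact e1.symm.toEquiv.subsingleton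
  -- `T ⊗_B B/Q ≅ T ⊗_A A/P`
  have hmapQ : Q.map (algebraMap B T) = maximalIdeal T := Localization.AtPrime.map_eq_maximalIdeal
  have hmapP : P.map (algebraMap A T) = maximalIdeal T := by
    have := h ⟨Q, hQ⟩
    rw [IsScalarTower.algebraMap_eq A B T, ← Ideal.map_map]
    exact this
  let e2 : (T ⧸ Q.map (algebraMap B T)) ≃ₗ[T] T ⊗[B] (B ⧸ Q) :=
    (Algebra.TensorProduct.quotIdealMapEquivTensorQuot T Q).toLinearEquiv
  let e3 : (T ⧸ P.map (algebraMap A T)) ≃ₗ[T] T ⊗[A] (A ⧸ P) :=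
    (Algebra.TensorProduct.quotIdealMapEquivTensorQuot T P).toLinearEquiv
  let e4 : (T ⧸ Q.map (algebraMap B T)) ≃ₗ[T] (T ⧸ P.map (algebraMap A T)) :=
    Submodule.quotEquivOfEq _ _ (hmapQ.trans hmapP.symm)
  let eL : T ⊗[B] (B ⧸ Q) ≃ₗ[T] T ⊗[A] (A ⧸ P) := e2.symm ≪≫ₗ e4 ≪≫ₗ e3
  -- `T ⊗_B (B ⊗_A I) ≅ T ⊗_A I`
  let eR : T ⊗[B] (B ⊗[A] I) ≃ₗ[T] T ⊗[A] I :=
    TensorProduct.AlgebraTensorModule.cancelBaseChange A B T T I
  have e5 := extCongrLeft eL (ModuleCat.of T (T ⊗[B] (B ⊗[A] I))) 1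
  have e6 := extCongrRight (ModuleCat.of T (T ⊗[A] (A ⧸ P))) eR 1
  exact (e5.symm ≪≫ₗ e6).toEquiv.subsingleton

end Groth.Agent.Helper8.InjBC
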