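import Groth.Agent.Lib.Helper8.LOC6
import Groth.Agent.Lib.Helper8.BiDual10
import Groth.Agent.Lib.Helper8.InjBC2
import Groth.Agent.Lib.Helper11.DCInjAmp

/-!
# Localization of dualizing complexes (helper8)

For `A` noetherian, `B = S⁻¹A` and `ω` a dualizing complex over `A`, the derived base change
`L ω` is a dualizing complex over `B`.
-/

set_option autoImplicit false

open CategoryTheory CategoryTheory.Limits Opposite Pretriangulated

universe u

namespace Groth.Agent.Helper8.LOC

open DerivedCategory ChangeOfRings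

attribute [local instance] HasDerivedCategory.standard

variable {A : Type u} [CommRing A] (S : Submonoid A) (B : Type u) [CommRing B] [Algebra A B]
  [IsLocalization S B]

include S in
theorem flat_of_isLocalization : (algebraMap A B).Flat := by
  rw [RingHom.flat_algebraMap_iff]
  exact IsLocalization.flat B S

include S in
theorem preservesFiniteLimits_Efun : PreservesFiniteLimits (Efun (algebraMap A B)) :=
  ModuleCat.preservesFiniteLimits_extendScalars_of_flat (flat_of_isLocalization S B)

include S in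
/-- base change of injectives along a localization of a noetherian ring -/
theorem injective_Efun [IsNoetherianRing A] (I : ModuleCat.{u} A) [Module.Injective A I] :
    Module.Injective B ((Efun (algebraMap A B)).obj I) := by
  have hB : IsNoetherianRing B := IsLocalization.isNoetherianRing S B inferInstance
  have hflat : Module.Flat A B := IsLocalization.flat B S
  have h := Groth.Agent.Helper8.InjBC.injective_baseChange A B (fun q => by
    rw [IsLocalization.map_comap S B q.asIdeal, Localization.AtPrime.map_eq_maximalIdeal]) I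
  have h1 : Injective (ModuleCat.of B (TensorProduct A B I)) :=
    (Module.injective_iff_injective_object B _).mp h
  have h2 : Injective ((Efun (algebraMap A B)).obj I) :=
    Injective.of_iso (EfunEquiv B I).toModuleIso.symm h1
  exact (Module.injective_iff_injective_object B _).mpr h2

section Dualizing

variable [IsNoetherianRing A]

omit [IsNoetherianRing A] in
/-- the cohomology of a dualizing complex is bounded -/
theorem exists_isZero_homology (ω : Dual.D A) (hω : Dual.IsDualizing A ω) :
    ∃ a b : ℤ, ∀ i : ℤ, (i < a ∨ b < i) →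
      IsZero ((homologyFunctor (ModuleCat.{u} A) i).obj ω) := by
  obtain ⟨a, b, hab⟩ := hω.finite_injective_dimension
  refine ⟨a, b, fun i hi => ?_⟩
  have := hab A i hi
  have : Subsingleton (Dual.HD A ω i) :=
    (Groth.Agent.Helper8.LD.homSelfEquiv ω i).symm.toEquiv.subsingleton
  exact ModuleCat.isZero_of_subsingleton _

theorem PP_of_isDualizing (ω : Dual.D A) (hω : Dual.IsDualizing A ω) : PP S ω := by
  obtain ⟨a, b, hab⟩ := exists_isZero_homology ω hω
  exact PP_of_bounded ω a b hab hω.finite_cohomology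

omit [IsNoetherianRing A] in
theorem isZero_homology_shift (W : Dual.D A) (a : ℤ)
    (hW : ∀ j : ℤ, j < a → IsZero ((homologyFunctor (ModuleCat.{u} A) j).obj W)) (i : ℤ) :
    ∀ j : ℤ, j < a - i → IsZero ((homologyFunctor (ModuleCat.{u} A) j).obj (W⟦i⟧)) := by
  intro j hj
  exact IsZero.of_iso (hW (i + j) (by omega))
    (((homologyFunctor (ModuleCat.{u} A) 0).shiftIso i j (i + j) rfl).app W)

variable [PreservesFiniteLimits (Efun (algebraMap A B))]

include S in
theorem hasInjAmplitudeIn_Ld (ω : Dual.D A) (hω : Dual.IsDualizing A ω) :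
    ∃ a b : ℤ, DRing.HasInjAmplitudeIn B a b ((Ld (algebraMap A B)).obj ω) := by
  obtain ⟨J, a, b, e, hvan, hinj, -, -, -⟩ := Groth.Agent.Helper8.BiDual.exists_model ω hω
  refine ⟨a, b, ((Efun (algebraMap A B)).mapHomologicalComplex (ComplexShape.up ℤ)).obj J,
    fun i hi => (Efun (algebraMap A B)).map_isZero (hvan i hi), fun i => ?_,
    ⟨((Efun (algebraMap A B)).mapDerivedCategoryFactors.app J).symm ≪≫
      (Ld (algebraMap A B)).mapIso e⟩⟩
  have := hinj i
  exact injective_Efun S B (J.X i)

theorem finite_homology_Ld (ω : Dual.D A) (hω : Dual.IsDualizing A ω) (i : ℤ) :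
    Module.Finite B (Dual.HD B ((Ld (algebraMap A B)).obj ω) i) := by
  let X := Q.objPreimage ω
  let e : Q.obj X ≅ ω := Q.objObjPreimageIso ω
  have h1 : Module.Finite A ((homologyFunctor (ModuleCat.{u} A) i).obj (Q.obj X)) := by
    have := hω.finite_cohomology i
    exact Module.Finite.equiv
      ((homologyFunctor (ModuleCat.{u} A) i).mapIso e).symm.toLinearEquiv
  have h2 := Groth.Agent.Helper11.DC.es_finite (algebraMap A B)
    ((homologyFunctor (ModuleCat.{u} A) i).obj (Q.obj X))
  let e2 := (Groth.Agent.Helper11.DC.qMapDerivedHomologyIso (Efun (algebraMap A B)) i).app X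
  haveI : Module.Finite B ((Q ⋙ homologyFunctor (ModuleCat.{u} A) i ⋙
    Efun (algebraMap A B)).obj X) := h2
  exact Module.Finite.equiv (e2.symm ≪≫ (homologyFunctor (ModuleCat.{u} B) i).mapIso
    ((Ld (algebraMap A B)).mapIso e)).toLinearEquiv

include S in
/-- **localization of dualizing complexes** -/
theorem isDualizing_Ld (ω : Dual.D A) (hω : Dual.IsDualizing A ω) :
    Dual.IsDualizing B ((Ld (algebraMap A B)).obj ω) := by
  obtain ⟨a₀, b₀, hab⟩ := exists_isZero_homology ω hω
  have hPP := PP_of_isDualizing S ω hω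
  have hlow : ∀ j : ℤ, j < a₀ → IsZero ((homologyFunctor (ModuleCat.{u} A) j).obj ω) :=
    fun j hj => hab j (Or.inl hj)
  refine ⟨IsLocalization.isNoetherianRing S B inferInstance, ?_, finite_homology_Ld B ω hω,
    ⟨?_, ?_⟩, ?_⟩
  · obtain ⟨a, b, h⟩ := hasInjAmplitudeIn_Ld S B ω hω
    refine ⟨a, b, fun N _ _ i hi => ⟨fun x y => ?_⟩⟩
    rw [Groth.Agent.Helper11.DC.hom_eq_zero_of_injAmp _ a b h (ModuleCat.of B N) i hi x,
      Groth.Agent.Helper11.DC.hom_eq_zero_of_injAmp _ a b h (ModuleCat.of B N) i hi y]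
  · -- injectivity of `B → End`
    intro b b' hbb
    have hbb' : b • 𝟙 ((Ld (algebraMap A B)).obj ω) = b' • 𝟙 ((Ld (algebraMap A B)).obj ω) := hbb
    have hd : (b - b') • 𝟙 ((Ld (algebraMap A B)).obj ω) = 0 := by
      rw [sub_smul, hbb', sub_self]
    obtain ⟨⟨x, s⟩, hxs⟩ := IsLocalization.surj S (b - b')
    have h1 : (Ld (algebraMap A B)).map (x • 𝟙 ω) = 0 := by
      rw [Ld_map_smul_id, ← hxs, mul_comm, mul_smul, hd, smul_zero]
    obtain ⟨t, ht, h2⟩ := Ld_map_eq_zero S B hPP a₀ hlow (x • 𝟙 ω) h1
    have h3 : t * x = 0 := by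
      apply hω.toEnd_bijective.1
      show (t * x) • 𝟙 ω = (0 : A) • 𝟙 ω
      rw [mul_smul, h2, zero_smul]
    have h4 : algebraMap A B x = 0 := by
      obtain ⟨u, hu⟩ := IsLocalization.map_units B (⟨t, ht⟩ : S)
      have h5 : algebraMap A B t * algebraMap A B x = 0 := by rw [← map_mul, h3, map_zero]
      have h6 : (u : B) * algebraMap A B x = 0 := by rw [hu]; exact h5
      exact (Units.mul_right_eq_zero u).mp h6
    rw [h4] at hxs
    obtain ⟨v, hv⟩ := IsLocalization.map_units B s
    have h7 : (b - b') * (v : B) = 0 := by rw [hv]; exact hxs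
    exact sub_eq_zero.mp ((Units.mul_left_eq_zero v).mp h7)
  · -- surjectivity of `B → End`
    intro f'
    obtain ⟨s, hs, f, hf⟩ := exists_Ld_map_eq S B hPP a₀ hlow f'
    obtain ⟨x, hx⟩ := hω.toEnd_bijective.2 f
    have hx' : x • 𝟙 ω = f := hx
    refine ⟨IsLocalization.mk' B x (⟨s, hs⟩ : S), ?_⟩
    show IsLocalization.mk' B x (⟨s, hs⟩ : S) • 𝟙 ((Ld (algebraMap A B)).obj ω) = f'
    have h1 : algebraMap A B s • (IsLocalization.mk' B x (⟨s, hs⟩ : S) •
        𝟙 ((Ld (algebraMap A B)).obj ω) - f') = 0 := by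
      rw [smul_sub, ← mul_smul, ← hf, ← hx', Ld_map_smul_id, sub_eq_zero]
      congr 1
      exact IsLocalization.mk'_spec' B x (⟨s, hs⟩ : S)
    exact sub_eq_zero.mp (eq_zero_of_smul_eq_zero S B _ s hs h1)
  · intro i hi
    have := hω.ext_self_subsingleton i hi
    refine ⟨fun x y => ?_⟩
    have key : ∀ f' : (Ld (algebraMap A B)).obj ω ⟶ ((Ld (algebraMap A B)).obj ω)⟦i⟧, f' = 0 := by
      intro f'
      let c := ((Ld (algebraMap A B)).commShiftIso i).app ω
      obtain ⟨s, hs, f, hf⟩ := exists_Ld_map_eq S B hPP (a₀ - i)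
        (isZero_homology_shift ω a₀ hlow i) (f' ≫ c.inv)
      rw [Subsingleton.elim f 0, Functor.map_zero] at hf
      have h1 := eq_zero_of_smul_eq_zero S B _ s hs hf.symm
      rw [← cancel_mono c.inv, h1, zero_comp]
    rw [key x, key y]

end Dualizing

end Groth.Agent.Helper8.LOC
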