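import Groth.Agent.Lib.Helper8.KT1
import Groth.Agent.Lib.Helper8.LD8
import Groth.Agent.Lib.Helper8.LD12
import Groth.Agent.Lib.Helper8.LOC7
import Groth.Agent.Lib.Helper8.LCTop2
import Groth.Agent.S1719

/-!
# `H^0_I(ω) = 0` implies `cd(A, I) < dim A` (helper8)
-/

set_option autoImplicit false

open CategoryTheory CategoryTheory.Limits CategoryTheory.Pretriangulated

universe u

namespace Groth.Agent.Helper8.KT

open DerivedCategory

attribute [local instance] HasDerivedCategory.standard

section Tri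

variable {A : Type u} [CommRing A] {X Q Y : Dual.D A} (i : X ⟶ Q) (g : Q ⟶ Y)
  (δ : Y ⟶ X⟦(1 : ℤ)⟧) (hT : Triangle.mk i g δ ∈ distTriang (Dual.D A)) (a : ℤ)

include hT

theorem homology_mor₁_injective [X.IsLE a] [Y.IsGE (a + 1)] (j : ℤ) (hj : j ≤ a) :
    Function.Injective ((homologyFunctor (ModuleCat.{u} A) j).map i).hom := by
  have hz : IsZero ((homologyFunctor (ModuleCat.{u} A) (j - 1)).obj Y) :=
    isZero_of_isGE Y (a + 1) (j - 1) (by omega)
  have h0 : HomologySequence.δ (Triangle.mk i g δ) (j - 1) j (by omega) = 0 := hz.eq_of_src _ _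
  have hm := (HomologySequence.mono_homologyMap_mor₁_iff (Triangle.mk i g δ) hT (j - 1) j
    (by omega)).mpr h0
  exact (ModuleCat.mono_iff_injective _).mp hm

theorem homology_mor₁_surjective [X.IsLE a] [Y.IsGE (a + 1)] (j : ℤ) (hj : j ≤ a) :
    Function.Surjective ((homologyFunctor (ModuleCat.{u} A) j).map i).hom := by
  have hz : IsZero ((homologyFunctor (ModuleCat.{u} A) j).obj Y) :=
    isZero_of_isGE Y (a + 1) j (by omega)
  have h0 : (homologyFunctor (ModuleCat.{u} A) j).map (Triangle.mk i g δ).mor₂ = 0 :=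
    hz.eq_of_tgt _ _
  have hm := (HomologySequence.epi_homologyMap_mor₁_iff (Triangle.mk i g δ) hT j).mpr h0
  exact (ModuleCat.epi_iff_surjective _).mp hm

theorem homology_mor₂_surjective [X.IsLE a] [Y.IsGE (a + 1)] (j : ℤ) (hj : a + 1 ≤ j) :
    Function.Surjective ((homologyFunctor (ModuleCat.{u} A) j).map g).hom := by
  have hz : IsZero ((homologyFunctor (ModuleCat.{u} A) (j + 1)).obj X) :=
    isZero_of_isLE X a (j + 1) (by omega)
  have h0 : HomologySequence.δ (Triangle.mk i g δ) j (j + 1) rfl = 0 := hz.eq_of_tgt _ _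
  have hm := (HomologySequence.epi_homologyMap_mor₂_iff (Triangle.mk i g δ) hT j (j + 1)
    rfl).mpr h0
  exact (ModuleCat.epi_iff_surjective _).mp hm

end Tri

section Main

variable {A : Type u} [CommRing A] [IsLocalRing A] [IsNoetherianRing A]

open IsLocalRing

theorem exists_nat_ringKrullDim : ∃ d : ℕ, ringKrullDim A = d := by
  have h1 : ringKrullDim A ≠ ⊥ := ringKrullDim_ne_bot
  have h2 : ringKrullDim A ≠ ⊤ := ringKrullDim_ne_top
  cases h : ringKrullDim A with
  | bot => exact absurd h h1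
  | coe x =>
    cases hx : x with
    | top => rw [hx] at h; exact absurd h h2
    | coe n => exact ⟨n, rfl⟩

/-- a normalized dualizing complex lives in degrees `≥ - dim A` -/
theorem isGE_neg_dim (ω : Dual.D A) (hω : Dual.IsDualizing A ω) (hn : Dual.IsNormalized A ω)
    (d : ℕ) (hd : ringKrullDim A = d) : ω.IsGE (-(d : ℤ)) := by
  rw [isGE_iff]
  intro j hj
  obtain ⟨k, rfl⟩ : ∃ k : ℕ, j = -(k : ℤ) := ⟨(-j).toNat, by omega⟩
  have h1 : Subsingleton (LocCoh.H (maximalIdeal A) k A) :=
    Groth.Agent.Helper8.LC.H_subsingleton_of_ringKrullDim_lt (maximalIdeal A) d hd A k (by omega)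
  have h2 := (Groth.Agent.Helper8.LD.subsingleton_H_iff ω hω hn A k).mp h1
  haveI : Subsingleton (Dual.HD A ω (-(k : ℤ))) :=
    (Groth.Agent.Helper8.LD.homSelfEquiv ω (-(k : ℤ))).symm.toEquiv.subsingleton
  exact ModuleCat.isZero_of_subsingleton _

end Main

end Groth.Agent.Helper8.KT
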