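import Groth.Agent.Lib.Helper8.DMod2
import Groth.Agent.Lib.Helper8.KT2

/-!
# The dualizing module `K = H^{-n}(ω)`: `A ≃ End(K)` under `(S₂)`, `Ext¹(K, K) = 0` under `(S₃)`
(helper8)
-/

set_option autoImplicit false

open CategoryTheory CategoryTheory.Limits Opposite Pretriangulated

universe u

namespace Groth.Agent.Helper8.DMod

open DerivedCategory Groth.Agent.Helper8.LOC Groth.Agent.Helper8.FLD

attribute [local instance] HasDerivedCategory.standard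

variable {A : Type u} [CommRing A] [IsLocalRing A] [IsNoetherianRing A] (ω : Dual.D A)
  (hω : Dual.IsDualizing A ω) (hn : Dual.IsNormalized A ω)

include hω hn in
theorem subsingleton_HD_of_pos (j : ℤ) (hj : 0 < j) : Subsingleton (Dual.HD A ω j) := by
  by_contra hcon
  rw [not_subsingleton_iff_nontrivial] at hcon
  have h1 : Nontrivial (Dual.inD A A ⟶ ω⟦j⟧) :=
    (Groth.Agent.Helper8.LD.homSelfEquiv ω j).toEquiv.nontrivial
  obtain ⟨d, hd⟩ := Groth.Agent.Helper8.KT.exists_nat_ringKrullDim (A := A)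
  have := range_of_nontrivial_hom ω hω hn A d
    (by rw [Module.supportDim_self_eq_ringKrullDim, hd]) j h1
  omega

include hω hn in
/-- the truncation triangle `K[n] → ω → τ_{> -n} ω` -/
theorem exists_trunc_data (n : ℕ) (hd : ringKrullDim A = n) :
    ∃ (X Y : Dual.D A) (f : X ⟶ ω) (g : ω ⟶ Y) (h : Y ⟶ X⟦(1 : ℤ)⟧),
      Triangle.mk f g h ∈ distTriang (Dual.D A) ∧ X.IsLE (-(n : ℤ)) ∧ X.IsGE (-(n : ℤ)) ∧
      Y.IsGE (-(n : ℤ) + 1) ∧ Y.IsLE 0 ∧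
      (∀ m : ℤ, -(n : ℤ) < m → Nonempty (Dual.HD A Y m ≃ₗ[A] Dual.HD A ω m)) ∧
      Nonempty (Dual.HD A X (-(n : ℤ)) ≃ₗ[A] Dual.HD A ω (-(n : ℤ))) := by
  obtain ⟨X, Y, f, g, h, hXle, hYge, hT, hfiso, hgiso⟩ :=
    Groth.Agent.Helper8.DFin.exists_trunc_triangle ω (-(n : ℤ))
  have hXge : X.IsGE (-(n : ℤ)) := by
    rw [isGE_iff]
    intro j hj
    have := hfiso j (by omega)
    exact (isZero_homology_of_lt_neg_dim ω hω hn n hd j hj).of_iso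
      (asIso ((homologyFunctor (ModuleCat.{u} A) j).map f))
  have hYle : Y.IsLE 0 := by
    rw [isLE_iff]
    intro j hj
    have := hgiso j (by omega)
    haveI := subsingleton_HD_of_pos ω hω hn j hj
    have hz : IsZero ((homologyFunctor (ModuleCat.{u} A) j).obj ω) :=
      ModuleCat.isZero_of_subsingleton _
    exact hz.of_iso (asIso ((homologyFunctor (ModuleCat.{u} A) j).map g)).symm
  refine ⟨X, Y, f, g, h, hT, hXle, hXge, hYge, hYle, ?_, ?_⟩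
  · intro m hm
    have := hgiso m (by omega)
    exact ⟨(asIso ((homologyFunctor (ModuleCat.{u} A) m).map g)).symm.toLinearEquiv⟩
  · have := hfiso (-(n : ℤ)) le_rfl
    exact ⟨(asIso ((homologyFunctor (ModuleCat.{u} A) (-(n : ℤ))).map f)).toLinearEquiv⟩

omit [IsLocalRing A] [IsNoetherianRing A] in
theorem inDMap_smul_id_shift (N : Type u) [AddCommGroup N] [Module A N] (r : A) (s : ℤ) :
    (inDMap (r • (LinearMap.id : N →ₗ[A] N)))⟦s⟧' = r • 𝟙 ((Dual.inD A N)⟦s⟧) := by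
  have h1 : inDMap (r • (LinearMap.id : N →ₗ[A] N)) = r • 𝟙 (Dual.inD A N) := by
    show (singleFunctor (ModuleCat.{u} A) 0).map (ModuleCat.ofHom (r • LinearMap.id)) = _
    have h2 : ModuleCat.ofHom (r • (LinearMap.id : N →ₗ[A] N)) = r • 𝟙 (ModuleCat.of A N) := rfl
    rw [h2, Functor.map_smul, CategoryTheory.Functor.map_id]
  rw [h1, Functor.map_smul, CategoryTheory.Functor.map_id]

omit [IsLocalRing A] [IsNoetherianRing A] in
theorem inDMap_shift_injective (N N' : Type u) [AddCommGroup N] [Module A N] [AddCommGroup N']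
    [Module A N'] (s : ℤ) (ℓ ℓ' : N →ₗ[A] N') (h : (inDMap ℓ)⟦s⟧' = (inDMap ℓ')⟦s⟧') : ℓ = ℓ' := by
  have h1 := (shiftFunctor (Dual.D A) s).map_injective h
  have h2 : ModuleCat.ofHom ℓ = ModuleCat.ofHom ℓ' :=
    (singleFunctor (ModuleCat.{u} A) 0).map_injective h1
  exact congrArg ModuleCat.Hom.hom h2

include hω hn in
/-- under `(S₂)`, `A → End(K)` is bijective -/
theorem bijective_toEnd_dualizingModule (n : ℕ) (hd : ringKrullDim A = n)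
    (hS : LocCoh.HasSk 2 A A) :
    Function.Bijective (fun r : A => r • (LinearMap.id :
      Dual.HD A ω (-(n : ℤ)) →ₗ[A] Dual.HD A ω (-(n : ℤ)))) := by
  obtain ⟨X, Y, f, g, h, hT, hXle, hXge, hYge, hYle, hY, ⟨ε⟩⟩ := exists_trunc_data ω hω hn n hd
  have hT' := inv_rot_of_distTriang _ hT
  -- vanishing
  have V0 : ∀ ψ : Y ⟶ ω, ψ = 0 := by
    intro ψ
    have h1 := hom_trunc_eq_zero ω hω hn n hd 2 le_rfl hS Y hY 0 (by norm_num)
      (ψ ≫ (shiftFunctorZero (Dual.D A) ℤ).inv.app ω)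
    rw [← cancel_mono ((shiftFunctorZero (Dual.D A) ℤ).inv.app ω), h1, zero_comp]
  have V1 : ∀ ψ : Y⟦(-1 : ℤ)⟧ ⟶ ω, ψ = 0 := by
    intro ψ
    have h1 := hom_shift_eq_zero Y ω (-1) 0 1 (by norm_num)
      (fun φ => hom_trunc_eq_zero ω hω hn n hd 2 le_rfl hS Y hY 1 (by norm_num) φ)
      (ψ ≫ (shiftFunctorZero (Dual.D A) ℤ).inv.app ω)
    rw [← cancel_mono ((shiftFunctorZero (Dual.D A) ℤ).inv.app ω), h1, zero_comp]
  -- exactness
  have hXX : ∀ φ : X ⟶ X, φ ≫ f = 0 → φ = 0 := by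
    intro φ hφ
    obtain ⟨ψ, hψ⟩ := Triangle.coyoneda_exact₂ _ hT' φ hφ
    haveI : TStructure.t.IsGE (Y⟦(-1 : ℤ)⟧) (-(n : ℤ) + 2) :=
      TStructure.t.isGE_shift Y (-(n : ℤ) + 1) (-1) (-(n : ℤ) + 2) (by omega)
    have h0 : ψ = 0 :=
      TStructure.t.zero_of_isLE_of_isGE ψ (-(n : ℤ)) (-(n : ℤ) + 2) (by omega) hXle this
    rw [hψ, h0]
    exact zero_comp
  have hinj : ∀ ψ : ω ⟶ ω, f ≫ ψ = 0 → ψ = 0 := by
    intro ψ hψ
    obtain ⟨ψ', hψ'⟩ := Triangle.yoneda_exact₂ _ hT ψ hψ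
    have h0 : ψ' = 0 := V0 ψ'
    rw [hψ', h0]
    exact comp_zero
  have hsurj : ∀ φ : X ⟶ ω, ∃ ψ : ω ⟶ ω, φ = f ≫ ψ := by
    intro φ
    exact Triangle.yoneda_exact₂ _ hT' φ (V1 _)
  haveI := hXle
  haveI := hXge
  let eX : (Dual.inD A (Dual.HD A ω (-(n : ℤ))))⟦-(-(n : ℤ))⟧ ≅ X :=
    inDShiftIso ε.symm (-(-(n : ℤ))) ≪≫ singleIso X (-(n : ℤ))
  constructor
  · intro r r' hrr
    have hrr' : r • (LinearMap.id : Dual.HD A ω (-(n : ℤ)) →ₗ[A] Dual.HD A ω (-(n : ℤ))) =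
        r' • LinearMap.id := hrr
    have h1 : ∀ x : Dual.HD A X (-(n : ℤ)), (r - r') • x = 0 := by
      intro x
      have h2 := LinearMap.congr_fun hrr' (ε x)
      simp only [LinearMap.smul_apply, LinearMap.id_coe, id_eq] at h2
      apply ε.injective
      rw [map_smul, sub_smul, h2, sub_self, map_zero]
    have h3 := Groth.Agent.Helper8.KT.smul_id_eq_zero_of_single (r - r') X (-(n : ℤ)) h1
    have h4 : f ≫ ((r - r') • 𝟙 ω) = 0 := by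
      have : f ≫ ((r - r') • 𝟙 ω) = ((r - r') • 𝟙 X) ≫ f := by
        rw [Linear.comp_smul, Linear.smul_comp, Category.comp_id, Category.id_comp]
      rw [this, h3, zero_comp]
    have h5 := hinj _ h4
    have h6 : (r - r') • 𝟙 ω = (0 : A) • 𝟙 ω := by rw [h5, zero_smul]
    have h7 := hω.toEnd_bijective.1 h6
    exact sub_eq_zero.mp h7
  · intro ℓ
    let φ : X ⟶ X := eX.inv ≫ (inDMap ℓ)⟦-(-(n : ℤ))⟧' ≫ eX.hom
    obtain ⟨ψ, hψ⟩ := hsurj (φ ≫ f)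
    obtain ⟨r, hr⟩ := hω.toEnd_bijective.2 ψ
    have hr' : r • 𝟙 ω = ψ := hr
    refine ⟨r, ?_⟩
    have h1 : (φ - r • 𝟙 X) ≫ f = 0 := by
      rw [Preadditive.sub_comp, hψ, ← hr', Linear.comp_smul, Linear.smul_comp, Category.comp_id,
        Category.id_comp, sub_self]
    have h2 : φ = r • 𝟙 X := sub_eq_zero.mp (hXX _ h1)
    have h3 : (inDMap ℓ)⟦-(-(n : ℤ))⟧' = r • 𝟙 _ := by
      have h4 : (inDMap ℓ)⟦-(-(n : ℤ))⟧' = eX.hom ≫ φ ≫ eX.inv := by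
        show _ = eX.hom ≫ (eX.inv ≫ (inDMap ℓ)⟦-(-(n : ℤ))⟧' ≫ eX.hom) ≫ eX.inv
        simp only [Category.assoc, Iso.hom_inv_id, Category.comp_id, Iso.hom_inv_id_assoc]
      rw [h4, h2, Linear.smul_comp, Linear.comp_smul, Category.id_comp, eX.hom_inv_id]
    show r • LinearMap.id = ℓ
    refine inDMap_shift_injective _ _ (-(-(n : ℤ))) _ _ ?_
    rw [h3, inDMap_smul_id_shift]

include hω hn in
/-- under `(S₃)`, `Ext¹(K, K) = 0` -/
theorem subsingleton_ext_one_dualizingModule (n : ℕ) (hd : ringKrullDim A = n)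
    (hS : LocCoh.HasSk 3 A A) :
    Subsingleton (Dual.inD A (Dual.HD A ω (-(n : ℤ))) ⟶
      (Dual.inD A (Dual.HD A ω (-(n : ℤ))))⟦(1 : ℤ)⟧) := by
  obtain ⟨X, Y, f, g, h, hT, hXle, hXge, hYge, hYle, hY, ⟨ε⟩⟩ := exists_trunc_data ω hω hn n hd
  have hT' := inv_rot_of_distTriang _ hT
  have hT'' := rot_of_distTriang _ (rot_of_distTriang _ hT)
  have V2 : ∀ ψ : Y⟦(-1 : ℤ)⟧ ⟶ ω⟦(1 : ℤ)⟧, ψ = 0 := by
    intro ψ
    exact hom_shift_eq_zero Y ω (-1) 1 2 (by norm_num)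
      (fun φ => hom_trunc_eq_zero ω hω hn n hd 3 (by norm_num) hS Y hY 2 (by norm_num) φ) ψ
  have hXX : ∀ φ : X ⟶ X⟦(1 : ℤ)⟧, φ ≫ f⟦(1 : ℤ)⟧' = 0 → φ = 0 := by
    intro φ hφ
    have hφ' : φ ≫ (Triangle.mk f g h).rotate.rotate.mor₂ = 0 := by
      show φ ≫ (-f⟦(1 : ℤ)⟧') = 0
      rw [Preadditive.comp_neg, hφ, neg_zero]
    obtain ⟨ψ, hψ⟩ := Triangle.coyoneda_exact₂ _ hT'' φ hφ'
    have h0 : ψ = 0 :=
      TStructure.t.zero_of_isLE_of_isGE ψ (-(n : ℤ)) (-(n : ℤ) + 1) (by omega) hXle hYge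
    rw [hψ, h0]
    exact zero_comp
  have hX1 : ∀ φ : X ⟶ ω⟦(1 : ℤ)⟧, φ = 0 := by
    intro φ
    obtain ⟨ψ, hψ⟩ : ∃ ψ : ω ⟶ ω⟦(1 : ℤ)⟧, φ = f ≫ ψ :=
      Triangle.yoneda_exact₂ _ hT' φ (V2 _)
    haveI := hω.ext_self_subsingleton 1 (by norm_num)
    have h0 : ψ = 0 := Subsingleton.elim _ _
    rw [hψ, h0]
    exact comp_zero
  haveI := hXle
  haveI := hXge
  let eX : (Dual.inD A (Dual.HD A ω (-(n : ℤ))))⟦-(-(n : ℤ))⟧ ≅ X :=
    inDShiftIso ε.symm (-(-(n : ℤ))) ≪≫ singleIso X (-(n : ℤ))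
  have key : ∀ ψ : Dual.inD A (Dual.HD A ω (-(n : ℤ))) ⟶
      (Dual.inD A (Dual.HD A ω (-(n : ℤ))))⟦(1 : ℤ)⟧, ψ = 0 := by
    intro ψ
    let c := (shiftFunctorComm (Dual.D A) 1 (-(-(n : ℤ)))).app
      (Dual.inD A (Dual.HD A ω (-(n : ℤ))))
    let e1 := (shiftFunctor (Dual.D A) (1 : ℤ)).mapIso eX
    have h1 : eX.inv ≫ ψ⟦-(-(n : ℤ))⟧' ≫ c.hom ≫ e1.hom = 0 :=
      hXX _ (hX1 _)
    have h2 : ψ⟦-(-(n : ℤ))⟧' = 0 := by
      have h3 : ψ⟦-(-(n : ℤ))⟧' =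
          eX.hom ≫ (eX.inv ≫ ψ⟦-(-(n : ℤ))⟧' ≫ c.hom ≫ e1.hom) ≫ e1.inv ≫ c.inv := by
        simp
      rw [h3, h1, zero_comp, comp_zero]
    exact (shiftFunctor (Dual.D A) (-(-(n : ℤ)))).map_injective
      (h2.trans (Functor.map_zero _ _ _).symm)
  exact ⟨fun x y => by rw [key x, key y]⟩

end Groth.Agent.Helper8.DMod
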