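import Groth.Agent.Lib.Helper3.HT4
import Groth.Agent.Lib.Helper11.Tel7
import Groth.Agent.Lib.Helper11.DCCone2
import Groth.Prelude.Def_DTen
import Mathlib.Algebra.Homology.DerivedCategory.Linear

/-!
# The swap `Hom(S, Hom•(P, W)) ≃ Hom(P, Hom•(S, W))` (helper8)

Chain-level swap of the two arguments through the symmetry of the tensor product of complexes, and
the induced linear equivalence on morphisms in the derived category for K-projective `S`, `P`.
-/

set_option autoImplicit false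

open CategoryTheory CategoryTheory.Limits MonoidalCategory CochainComplex HomComplex
open scoped TensorProduct

universe u

attribute [local instance] HasDerivedCategory.standard

namespace Groth.Agent.Helper8.DU

open Groth.Agent.Helper3.HT DerivedCategory

variable {A : Type u} [CommRing A]

section Chain

variable {S P W : DRing.Cx A}

theorem uncH_add (ψ ψ' : S ⟶ DRing.homCx P W) : uncH (ψ + ψ') = uncH ψ + uncH ψ' := by
  apply Cochain.ofHom_injective
  rw [ofHom_uncH, Cochain.ofHom_add, Cochain.ofHom_add, unc_add, ofHom_uncH, ofHom_uncH]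

theorem curH_add (φ φ' : S ⊗ P ⟶ W) : curH (φ + φ') = curH φ + curH φ' := by
  apply uncH_injective
  rw [uncH_add, uncH_curH, uncH_curH, uncH_curH]

theorem smul_id_whiskerRight (a : A) (S K : DRing.Cx A) :
    a • 𝟙 (S ⊗ K) = (a • 𝟙 S) ▷ K := by
  apply tensor_hom_ext
  intro p q m hpq x y
  rw [whiskerRight_ι_tmul]
  have h1 : ((a • 𝟙 (S ⊗ K)).f m).hom ((HomologicalComplex.ιTensorObj S K p q m hpq).hom (x ⊗ₜ[A] y)) =
      a • (HomologicalComplex.ιTensorObj S K p q m hpq).hom (x ⊗ₜ[A] y) := by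
    simp
  have h2 : ((a • 𝟙 S).f p).hom x = a • x := by simp
  rw [h1, h2, ← map_smul, TensorProduct.smul_tmul']

theorem uncH_smul (a : A) (ψ : S ⟶ DRing.homCx P W) : uncH (a • ψ) = a • uncH ψ := by
  have h : a • ψ = (a • 𝟙 S) ≫ ψ := by
    rw [Linear.smul_comp, Category.id_comp]
  rw [h, uncH_comp_left, ← smul_id_whiskerRight, Linear.smul_comp, Category.id_comp]

theorem curH_smul (a : A) (φ : S ⊗ P ⟶ W) : curH (a • φ) = a • curH φ := by
  apply uncH_injective
  rw [uncH_smul, uncH_curH, uncH_curH]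

/-- the swap of the two arguments -/
noncomputable def sw (ψ : S ⟶ DRing.homCx P W) : P ⟶ DRing.homCx S W :=
  curH ((DTen.braidCx P S).hom ≫ uncH ψ)

/-- the inverse swap -/
noncomputable def swInv (φ : P ⟶ DRing.homCx S W) : S ⟶ DRing.homCx P W :=
  curH ((DTen.braidCx P S).inv ≫ uncH φ)

theorem swInv_sw (ψ : S ⟶ DRing.homCx P W) : swInv (sw ψ) = ψ := by
  unfold swInv sw
  rw [uncH_curH, Iso.inv_hom_id_assoc, curH_uncH]

theorem sw_swInv (φ : P ⟶ DRing.homCx S W) : sw (swInv φ) = φ := by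
  unfold swInv sw
  rw [uncH_curH, Iso.hom_inv_id_assoc, curH_uncH]

theorem sw_add (ψ ψ' : S ⟶ DRing.homCx P W) : sw (ψ + ψ') = sw ψ + sw ψ' := by
  unfold sw
  rw [uncH_add, Preadditive.comp_add, curH_add]

theorem sw_smul (a : A) (ψ : S ⟶ DRing.homCx P W) : sw (a • ψ) = a • sw ψ := by
  unfold sw
  rw [uncH_smul, Linear.comp_smul, curH_smul]

theorem swInv_add (φ φ' : P ⟶ DRing.homCx S W) : swInv (φ + φ') = swInv φ + swInv φ' := by
  unfold swInv
  rw [uncH_add, Preadditive.comp_add, curH_add]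

theorem swInv_smul (a : A) (φ : P ⟶ DRing.homCx S W) : swInv (a • φ) = a • swInv φ := by
  unfold swInv
  rw [uncH_smul, Linear.comp_smul, curH_smul]

/-- the swap preserves homotopies -/
noncomputable def swHomotopy {ψ ψ' : S ⟶ DRing.homCx P W} (H : Homotopy ψ ψ') :
    Homotopy (sw ψ) (sw ψ') :=
  curHomotopy ((uncHomotopy H).compLeft (DTen.braidCx P S).hom)

/-- the inverse swap preserves homotopies -/
noncomputable def swInvHomotopy {φ φ' : P ⟶ DRing.homCx S W} (H : Homotopy φ φ') :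
    Homotopy (swInv φ) (swInv φ') :=
  curHomotopy ((uncHomotopy H).compLeft (DTen.braidCx P S).inv)

end Chain

section Derived

variable (S P W : DRing.Cx A) [S.IsKProjective] [P.IsKProjective]

theorem Q_map_sw_eq {ψ ψ' : S ⟶ DRing.homCx P W} (h : Q.map ψ = Q.map ψ') :
    Q.map (sw ψ) = Q.map (sw ψ') := by
  obtain ⟨H⟩ := Groth.Agent.Helper11.Tel.homotopy_of_Q_map_eq S _ ψ ψ' h
  exact DerivedCategory.Q_map_eq_of_homotopy (h := swHomotopy H)

theorem Q_map_swInv_eq {φ φ' : P ⟶ DRing.homCx S W} (h : Q.map φ = Q.map φ') :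
    Q.map (swInv φ) = Q.map (swInv φ') := by
  obtain ⟨H⟩ := Groth.Agent.Helper11.Tel.homotopy_of_Q_map_eq P _ φ φ' h
  exact DerivedCategory.Q_map_eq_of_homotopy (h := swInvHomotopy H)

/-- **the swap on morphisms in the derived category** -/
theorem exists_swapEquiv :
    ∃ e : (Q.obj S ⟶ Q.obj (DRing.homCx P W)) ≃ₗ[A] (Q.obj P ⟶ Q.obj (DRing.homCx S W)),
      ∀ ψ : S ⟶ DRing.homCx P W, e (Q.map ψ) = Q.map (sw ψ) := by
  have hl := fun g : Q.obj S ⟶ Q.obj (DRing.homCx P W) =>
    Groth.Agent.Helper11.DC.exists_lift_of_isKProjective S (DRing.homCx P W) g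
  have hl' := fun g : Q.obj P ⟶ Q.obj (DRing.homCx S W) =>
    Groth.Agent.Helper11.DC.exists_lift_of_isKProjective P (DRing.homCx S W) g
  let F : (Q.obj S ⟶ Q.obj (DRing.homCx P W)) → (Q.obj P ⟶ Q.obj (DRing.homCx S W)) :=
    fun g => Q.map (sw (Classical.choose (hl g)))
  let G : (Q.obj P ⟶ Q.obj (DRing.homCx S W)) → (Q.obj S ⟶ Q.obj (DRing.homCx P W)) :=
    fun g => Q.map (swInv (Classical.choose (hl' g)))
  have hF : ∀ ψ : S ⟶ DRing.homCx P W, F (Q.map ψ) = Q.map (sw ψ) := fun ψ =>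
    Q_map_sw_eq S P W (Classical.choose_spec (hl (Q.map ψ)))
  have hG : ∀ φ : P ⟶ DRing.homCx S W, G (Q.map φ) = Q.map (swInv φ) := fun φ =>
    Q_map_swInv_eq S P W (Classical.choose_spec (hl' (Q.map φ)))
  refine ⟨{ toFun := F
            invFun := G
            map_add' := ?_
            map_smul' := ?_
            left_inv := ?_
            right_inv := ?_ }, hF⟩
  · intro g g'
    obtain ⟨ψ, rfl⟩ := hl g
    obtain ⟨ψ', rfl⟩ := hl g'
    rw [← Functor.map_add, hF, hF, hF, sw_add, Functor.map_add]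
  · intro a g
    obtain ⟨ψ, rfl⟩ := hl g
    rw [← Functor.map_smul, hF, hF, sw_smul, Functor.map_smul]
    rfl
  · intro g
    obtain ⟨ψ, rfl⟩ := hl g
    rw [hF, hG, swInv_sw]
  · intro g
    obtain ⟨φ, rfl⟩ := hl' g
    rw [hG, hF, sw_swInv]

end Derived

end Groth.Agent.Helper8.DU
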