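import Groth.Agent.Lib.Helper8.HomH
import Groth.Agent.Lib.Helper11.Tel7
import Groth.Agent.Lib.Helper11.DCCone2

/-!
# `Hⁿ(Hom•(K, L)) ≃ Hom_{D(A)}(K, L[n])` for K-projective `K` (helper8)
-/

set_option autoImplicit false

open CategoryTheory CategoryTheory.Limits CochainComplex HomComplex

universe u

namespace Groth.Agent.Helper8.DU

open DerivedCategory Groth.Agent.Helper8.HomH

attribute [local instance] HasDerivedCategory.standard

variable {A : Type u} [CommRing A] (K L : DRing.Cx A) (n : ℤ)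

theorem toHomD_surjective_proj [K.IsKProjective] : Function.Surjective (toHomD K L n) := by
  intro f
  obtain ⟨φ, hφ⟩ := Groth.Agent.Helper11.DC.exists_lift_of_isKProjective K (L⟦n⟧)
    (f ≫ (Q.commShiftIso n).inv.app L)
  let c : Cocycle K L n := Cocycle.equivHomShift φ
  have hc : δ n (n + 1) c.1 = 0 := c.δ_eq_zero (n + 1)
  let z : cocyc K L n := ⟨c.1, LinearMap.mem_ker.mpr hc⟩
  have hz : toCocycle z = c := by
    ext
    rfl
  refine ⟨z, ?_⟩
  show Q.map (toChain z) ≫ (Q.commShiftIso n).hom.app L = f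
  have h1 : toChain z = φ := by
    unfold toChain
    rw [hz]
    exact Cocycle.equivHomShift.symm_apply_apply φ
  rw [h1, hφ, Category.assoc, Iso.inv_hom_id_app]
  exact Category.comp_id _

theorem toHomD_eq_zero_iff_proj [K.IsKProjective] (z : cocyc K L n) :
    toHomD K L n z = 0 ↔ ∃ y : Cochain K L (n - 1), δ (n - 1) n y = z.1 := by
  have h1 : toHomD K L n z = 0 ↔ Q.map (toChain z) = 0 := by
    show Q.map (toChain z) ≫ (Q.commShiftIso n).hom.app L = 0 ↔ _
    constructor
    · intro h
      exact (cancel_mono ((Q.commShiftIso n).hom.app L)).mp (h.trans zero_comp.symm)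
    · intro h
      rw [h, zero_comp]
  have h2 : Q.map (toChain z) = 0 ↔
      (HomotopyCategory.quotient (ModuleCat.{u} A) (ComplexShape.up ℤ)).map (toChain z) = 0 := by
    constructor
    · intro h
      obtain ⟨H⟩ := Groth.Agent.Helper11.Tel.homotopy_of_Q_map_eq K (L⟦n⟧) (toChain z) 0
        (h.trans (Q.map_zero _ _).symm)
      rw [HomotopyCategory.eq_of_homotopy _ _ H, Functor.map_zero]
    · intro h
      refine (Groth.Agent.Helper11.DC.Qh_quot_map (toChain z)).symm.trans ?_
      rw [h]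
      exact Functor.map_zero _ _ _
  rw [h1, h2]
  have h3 : (HomotopyCategory.quotient (ModuleCat.{u} A) (ComplexShape.up ℤ)).map (toChain z) =
      CohomologyClass.toHom (CohomologyClass.mk (toCocycle z)) := rfl
  rw [h3, CohomologyClass.toHom_mk_eq_zero_iff, mem_coboundaries_iff (toCocycle z) (n - 1) (by omega)]
  rfl

/-- **`Hⁿ(Hom•(K, L)) ≃ Hom_{D(A)}(K, L[n])`** for K-projective `K` -/
theorem nonempty_homology_homCx_equiv_proj [K.IsKProjective] :
    Nonempty ((DRing.homCx K L).homology n ≃ₗ[A] (Q.obj K ⟶ (Q.obj L)⟦n⟧)) := by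
  let C := DRing.homCx K L
  let Φ : LinearMap.ker (C.sc' (n - 1) n (n + 1)).g.hom →ₗ[A] (Q.obj K ⟶ (Q.obj L)⟦n⟧) :=
    toHomD K L n
  have hΦ : Function.Surjective Φ := toHomD_surjective_proj K L n
  have hker : LinearMap.range (C.sc' (n - 1) n (n + 1)).moduleCatToCycles = LinearMap.ker Φ := by
    ext z
    rw [LinearMap.mem_ker]
    have := toHomD_eq_zero_iff_proj K L n z
    rw [show Φ z = toHomD K L n z from rfl, this]
    constructor
    · rintro ⟨y, hy⟩
      refine ⟨y, ?_⟩
      exact congrArg Subtype.val hy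
    · rintro ⟨y, hy⟩
      exact ⟨y, Subtype.ext hy⟩
  exact ⟨(homologyEquiv C n).trans ((Submodule.quotEquivOfEq _ _ hker).trans
    (LinearMap.quotKerEquivOfSurjective Φ hΦ))⟩

/-- a complex of modules with vanishing differentials at `n` has homology its term -/
theorem nonempty_homology_equiv_of_d_eq_zero (C : DRing.Cx A) (n : ℤ)
    (h1 : C.d (n - 1) n = 0) (h2 : C.d n (n + 1) = 0) :
    Nonempty (C.homology n ≃ₗ[A] C.X n) := by
  have hf : (C.sc' (n - 1) n (n + 1)).f = 0 := h1
  have hg : (C.sc' (n - 1) n (n + 1)).g = 0 := h2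
  exact ⟨((C.homologyIsoSc' (n - 1) n (n + 1) (by simp) (by simp)) ≪≫
    (ShortComplex.HomologyData.ofZeros (C.sc' (n - 1) n (n + 1)) hf hg).left.homologyIso).toLinearEquiv⟩

end Groth.Agent.Helper8.DU
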