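import Mathlib.CategoryTheory.EffectiveEpi.Comp
import Mathlib.CategoryTheory.MorphismProperty.Limits
import Mathlib.CategoryTheory.Limits.Shapes.Pullback.HasPullback
import Mathlib.CategoryTheory.Comma.Over.Pullback

set_option autoImplicit false

namespace Groth.Agent.Helper8

open CategoryTheory CategoryTheory.Limits

universe v₁ u₁

variable {C : Type u₁} [Category.{v₁} C]

/-- Universal effective epimorphisms. -/
abbrev UEE : MorphismProperty C :=
  MorphismProperty.universally (fun (A B : C) (p : A ⟶ B) => EffectiveEpi p)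

theorem UEE.effectiveEpi {X Y : C} {f : X ⟶ Y} (h : UEE f) : EffectiveEpi f :=
  MorphismProperty.universally_le _ _ h

theorem UEE.of_isPullback {X Y X' Y' : C} {f : X ⟶ Y} {f' : X' ⟶ Y'} {i₁ : X' ⟶ X}
    {i₂ : Y' ⟶ Y} (sq : IsPullback f' i₁ i₂ f) (h : UEE f) : UEE f' :=
  MorphismProperty.of_isPullback (P := UEE) sq.flip h

theorem UEE.universally_epi {X Y : C} {f : X ⟶ Y} (h : UEE f) :
    MorphismProperty.universally (MorphismProperty.epimorphisms C) f := by
  intro X' Y' i₁ i₂ f' sq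
  have := (h i₁ i₂ f' sq : EffectiveEpi f')
  exact (MorphismProperty.epimorphisms.iff _).mpr inferInstance

theorem UEE.epi_of_isPullback {X Y X' Y' : C} {f : X ⟶ Y} {f' : X' ⟶ Y'} {i₁ : X' ⟶ X}
    {i₂ : Y' ⟶ Y} (sq : IsPullback f' i₁ i₂ f) (h : UEE f) : Epi f' := by
  have := (h i₁ i₂ f' sq : EffectiveEpi f')
  infer_instance

theorem UEE.of_iso {X Y : C} (f : X ⟶ Y) [IsIso f] : UEE f := by
  intro X' Y' i₁ i₂ f' sq
  have : IsIso f' := sq.isIso_fst_of_isIso
  show EffectiveEpi f'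
  infer_instance

variable [HasPullbacks C]

theorem effectiveEpi_comp_of_universally_epi
    {U T S : C} (v : U ⟶ T) (u : T ⟶ S) [EffectiveEpi u] [EffectiveEpi v]
    (hv : MorphismProperty.universally (MorphismProperty.epimorphisms C) v) :
    EffectiveEpi (v ≫ u) := by
  have hvepi : ∀ {Z : C} (g : Z ⟶ T), Epi (pullback.fst g v) := fun g =>
    (MorphismProperty.epimorphisms.iff _).mp
      (hv (pullback.snd g v) g (pullback.fst g v) (IsPullback.of_hasPullback g v))
  have step1 : ∀ {W : C} (e : U ⟶ W),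
      (∀ {Z : C} (g₁ g₂ : Z ⟶ U), g₁ ≫ v ≫ u = g₂ ≫ v ≫ u → g₁ ≫ e = g₂ ≫ e) →
      ∀ {Z : C} (g₁ g₂ : Z ⟶ U), g₁ ≫ v = g₂ ≫ v → g₁ ≫ e = g₂ ≫ e := by
    intro W e h Z g₁ g₂ hg
    apply h
    rw [← Category.assoc, hg, Category.assoc]
  have step2 : ∀ {W : C} (e : U ⟶ W)
      (h : ∀ {Z : C} (g₁ g₂ : Z ⟶ U), g₁ ≫ v ≫ u = g₂ ≫ v ≫ u → g₁ ≫ e = g₂ ≫ e),
      ∀ {Z : C} (g₁ g₂ : Z ⟶ T), g₁ ≫ u = g₂ ≫ u →
        g₁ ≫ EffectiveEpi.desc v e (step1 e h) = g₂ ≫ EffectiveEpi.desc v e (step1 e h) := by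
    intro W e h Z g₁ g₂ hg
    have := hvepi g₁
    have := hvepi (pullback.fst g₁ v ≫ g₂)
    have hepi : Epi (pullback.fst (pullback.fst g₁ v ≫ g₂) v ≫ pullback.fst g₁ v) := epi_comp _ _
    rw [← cancel_epi (pullback.fst (pullback.fst g₁ v ≫ g₂) v ≫ pullback.fst g₁ v)]
    have h1 : (pullback.fst (pullback.fst g₁ v ≫ g₂) v ≫ pullback.snd g₁ v) ≫ e =
        pullback.snd (pullback.fst g₁ v ≫ g₂) v ≫ e := by
      apply h
      simp only [Category.assoc]
      rw [← pullback.condition_assoc, hg, ← pullback.condition_assoc]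
      simp only [Category.assoc]
    calc (pullback.fst (pullback.fst g₁ v ≫ g₂) v ≫ pullback.fst g₁ v) ≫ g₁ ≫
          EffectiveEpi.desc v e (step1 e h)
        = (pullback.fst (pullback.fst g₁ v ≫ g₂) v ≫ pullback.snd g₁ v) ≫ v ≫
          EffectiveEpi.desc v e (step1 e h) := by
          simp only [Category.assoc]
          rw [pullback.condition_assoc]
      _ = (pullback.fst (pullback.fst g₁ v ≫ g₂) v ≫ pullback.snd g₁ v) ≫ e := by
          rw [EffectiveEpi.fac]
      _ = pullback.snd (pullback.fst g₁ v ≫ g₂) v ≫ e := h1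
      _ = pullback.snd (pullback.fst g₁ v ≫ g₂) v ≫ v ≫
          EffectiveEpi.desc v e (step1 e h) := by rw [EffectiveEpi.fac]
      _ = (pullback.fst (pullback.fst g₁ v ≫ g₂) v ≫ pullback.fst g₁ v) ≫ g₂ ≫
          EffectiveEpi.desc v e (step1 e h) := by
          rw [← pullback.condition_assoc]
          simp only [Category.assoc]
  refine ⟨⟨{
    desc := fun {W} e h => EffectiveEpi.desc u (EffectiveEpi.desc v e (step1 e @h))
      (step2 e @h)
    fac := fun {W} e h => by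
      rw [Category.assoc, EffectiveEpi.fac, EffectiveEpi.fac]
    uniq := fun {W} e h m hm => by
      apply EffectiveEpi.uniq
      apply EffectiveEpi.uniq
      rw [← Category.assoc]
      exact hm }⟩⟩

theorem UEE.comp {U T S : C} {v : U ⟶ T} {u : T ⟶ S} (hv : UEE v) (hu : UEE u) :
    UEE (v ≫ u) := by
  intro X' Y' i₁ i₂ f' sq
  -- T' = pullback i₂ u
  have sq_u : IsPullback (pullback.fst i₂ u) (pullback.snd i₂ u) i₂ u :=
    IsPullback.of_hasPullback i₂ u
  let v' : X' ⟶ pullback i₂ u := pullback.lift f' (i₁ ≫ v) (by rw [sq.w, Category.assoc])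
  have hf' : f' = v' ≫ pullback.fst i₂ u := (pullback.lift_fst _ _ _).symm
  have hv'snd : v' ≫ pullback.snd i₂ u = i₁ ≫ v := pullback.lift_snd _ _ _
  have sq_v : IsPullback v' i₁ (pullback.snd i₂ u) v := by
    apply IsPullback.of_right _ hv'snd sq_u
    rw [← hf']
    exact sq
  have hu' : UEE (pullback.fst i₂ u) := hu.of_isPullback sq_u
  have hv' : UEE v' := hv.of_isPullback sq_v
  have := hu'.effectiveEpi
  have := hv'.effectiveEpi
  show EffectiveEpi f'
  rw [hf']
  exact effectiveEpi_comp_of_universally_epi _ _ hv'.universally_epi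

theorem effectiveEpi_of_comp_UEE {U T S : C} (v : U ⟶ T) (u : T ⟶ S) (h : UEE (v ≫ u)) :
    EffectiveEpi u := by
  have hw := h.effectiveEpi
  -- pr₁ : T ×_S U → T is epi
  have sq : IsPullback (pullback.fst u (v ≫ u)) (pullback.snd u (v ≫ u)) u (v ≫ u) :=
    IsPullback.of_hasPullback _ _
  have hepi : Epi (pullback.fst u (v ≫ u)) := h.epi_of_isPullback sq
  have hu_epi : Epi u := epi_of_epi v u
  have key : ∀ {W : C} (e : T ⟶ W),
      (∀ {Z : C} (g₁ g₂ : Z ⟶ T), g₁ ≫ u = g₂ ≫ u → g₁ ≫ e = g₂ ≫ e) →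
      ∀ {Z : C} (g₁ g₂ : Z ⟶ U), g₁ ≫ v ≫ u = g₂ ≫ v ≫ u → g₁ ≫ v ≫ e = g₂ ≫ v ≫ e := by
    intro W e he Z g₁ g₂ hg
    have := he (g₁ ≫ v) (g₂ ≫ v) (by simpa using hg)
    simpa using this
  refine ⟨⟨{
    desc := fun {W} e he => EffectiveEpi.desc (v ≫ u) (v ≫ e) (key e @he)
    fac := fun {W} e he => by
      rw [← cancel_epi (pullback.fst u (v ≫ u))]
      have h1 : pullback.fst u (v ≫ u) ≫ e = (pullback.snd u (v ≫ u) ≫ v) ≫ e := by
        apply he
        rw [pullback.condition, Category.assoc]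
      rw [h1, pullback.condition_assoc, EffectiveEpi.fac (v ≫ u) (v ≫ e) (key e @he)]
      simp
    uniq := fun {W} e he m hm => by
      apply EffectiveEpi.uniq
      rw [Category.assoc, hm] }⟩⟩

theorem UEE.of_comp {U T S : C} (v : U ⟶ T) (u : T ⟶ S) (h : UEE (v ≫ u)) : UEE u := by
  intro X' Y' i₁ i₂ u' sq
  -- U' = pullback i₁ v
  have sq_v : IsPullback (pullback.fst i₁ v) (pullback.snd i₁ v) i₁ v :=
    IsPullback.of_hasPullback i₁ v
  have sq_w : IsPullback (pullback.fst i₁ v ≫ u') (pullback.snd i₁ v) i₂ (v ≫ u) :=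
    sq_v.paste_horiz sq
  show EffectiveEpi u'
  exact effectiveEpi_of_comp_UEE _ _ (h.of_isPullback sq_w)

end Groth.Agent.Helper8

namespace Groth.Agent.Helper8

open CategoryTheory CategoryTheory.Limits

universe v₁ u₁

variable {C : Type u₁} [Category.{v₁} C] [HasPullbacks C]

theorem mono_of_isPullback_of_UEE {X Y X' Y' : C} {g : X ⟶ Y} {g' : X' ⟶ Y'} {pX : X' ⟶ X}
    {pY : Y' ⟶ Y} (sq : IsPullback g' pX pY g) (hp : UEE pY) [Mono g'] : Mono g := by
  constructor
  intro Z a b hab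
  have sqZ : IsPullback (pullback.fst (a ≫ g) pY) (pullback.snd (a ≫ g) pY) (a ≫ g) pY :=
    IsPullback.of_hasPullback _ _
  have hq : Epi (pullback.fst (a ≫ g) pY) := hp.epi_of_isPullback sqZ
  rw [← cancel_epi (pullback.fst (a ≫ g) pY)]
  have wa : pullback.snd (a ≫ g) pY ≫ pY = (pullback.fst (a ≫ g) pY ≫ a) ≫ g := by
    rw [Category.assoc, pullback.condition]
  have wb : pullback.snd (a ≫ g) pY ≫ pY = (pullback.fst (a ≫ g) pY ≫ b) ≫ g := by
    rw [Category.assoc, ← hab, pullback.condition]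
  have h1 : sq.lift _ _ wa = sq.lift _ _ wb := by
    rw [← cancel_mono g']
    simp
  calc pullback.fst (a ≫ g) pY ≫ a = sq.lift _ _ wa ≫ pX := by simp
    _ = sq.lift _ _ wb ≫ pX := by rw [h1]
    _ = pullback.fst (a ≫ g) pY ≫ b := by simp

theorem isIso_of_isPullback_of_UEE {X Y X' Y' : C} {g : X ⟶ Y} {g' : X' ⟶ Y'} {pX : X' ⟶ X}
    {pY : Y' ⟶ Y} (sq : IsPullback g' pX pY g) (hp : UEE pY) [IsIso g'] : IsIso g := by
  have hmono : Mono g := mono_of_isPullback_of_UEE sq hp
  have h1 : UEE (g' ≫ pY) := UEE.comp (UEE.of_iso g') hp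
  rw [sq.w] at h1
  have h2 : UEE g := UEE.of_comp _ _ h1
  have := h2.effectiveEpi
  exact isIso_of_mono_of_strongEpi g

theorem isPullback_overPullback_map {S' S : C} (f : S' ⟶ S) {X Y : Over S} (g : X ⟶ Y) :
    IsPullback ((Over.pullback f).map g).left (pullback.fst X.hom f) (pullback.fst Y.hom f)
      g.left := by
  have sqY : IsPullback (pullback.fst Y.hom f) (pullback.snd Y.hom f) Y.hom f :=
    IsPullback.of_hasPullback _ _
  have sqX : IsPullback (pullback.fst X.hom f) (pullback.snd X.hom f) X.hom f :=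
    IsPullback.of_hasPullback _ _
  have h1 : ((Over.pullback f).map g).left ≫ pullback.fst Y.hom f =
      pullback.fst X.hom f ≫ g.left := pullback.lift_fst _ _ _
  have h2 : ((Over.pullback f).map g).left ≫ pullback.snd Y.hom f = pullback.snd X.hom f :=
    pullback.lift_snd _ _ _
  refine IsPullback.of_right ?_ h1 sqY.flip
  rw [h2, Over.w g]
  exact sqX.flip

end Groth.Agent.Helper8

namespace Groth.Agent.Helper8

open CategoryTheory CategoryTheory.Limits

universe v₁ u₁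

variable {C : Type u₁} [Category.{v₁} C] [HasPullbacks C]

theorem mono_of_UEE_of_isKernelPair {X B Z R : C} {π : X ⟶ B} (hπ : UEE π) (g : B ⟶ Z)
    {p₁ p₂ : R ⟶ X} (hk : IsKernelPair (π ≫ g) p₁ p₂) (hw : p₁ ≫ π = p₂ ≫ π) : Mono g := by
  constructor
  intro W a b hab
  have hq₁ : Epi (pullback.fst a π) := hπ.epi_of_isPullback (IsPullback.of_hasPullback a π)
  have hq₂ : Epi (pullback.fst (pullback.fst a π ≫ b) π) :=
    hπ.epi_of_isPullback (IsPullback.of_hasPullback _ π)
  have hw' : (pullback.fst (pullback.fst a π ≫ b) π ≫ pullback.snd a π) ≫ π ≫ g =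
      pullback.snd (pullback.fst a π ≫ b) π ≫ π ≫ g := by
    rw [Category.assoc, ← pullback.condition_assoc, hab, ← pullback.condition_assoc]
    simp
  have key : (pullback.fst (pullback.fst a π ≫ b) π ≫ pullback.snd a π) ≫ π =
      pullback.snd (pullback.fst a π ≫ b) π ≫ π := by
    have h1 : hk.lift _ _ hw' ≫ p₁ ≫ π = hk.lift _ _ hw' ≫ p₂ ≫ π := by rw [hw]
    rw [IsKernelPair.lift_fst_assoc, IsKernelPair.lift_snd_assoc] at h1
    exact h1
  rw [← cancel_epi (pullback.fst a π), ← cancel_epi (pullback.fst (pullback.fst a π ≫ b) π)]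
  rw [pullback.condition, ← Category.assoc, key, ← pullback.condition]

end Groth.Agent.Helper8
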