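import Mathlib

/-!
# Dévissage along associated primes (helper8)

A class `C` of modules over a Noetherian ring which is closed under subobjects (injections) and
extensions and contains `R ⧸ p` for every `p ∈ Ass M` contains the finite module `M`.

* `DevClass`: the closure properties
* `DevClass.of_coprimary`: the `p`-coprimary case
* `DevClass.of_associatedPrimes`: the general case, via primary decomposition
-/

set_option autoImplicit false
universe u

namespace Groth.Agent.Helper8

/-- closure properties of a class of modules used for dévissage -/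
structure DevClass (R : Type u) [CommRing R]
    (C : ∀ (N : Type u) [AddCommGroup N] [Module R N], Prop) : Prop where
  zero : ∀ (N : Type u) [AddCommGroup N] [Module R N] [Subsingleton N], C N
  of_injective : ∀ {K L : Type u} [AddCommGroup K] [Module R K] [AddCommGroup L] [Module R L]
    (j : K →ₗ[R] L), Function.Injective j → C L → C K
  of_ses : ∀ {K L P : Type u} [AddCommGroup K] [Module R K] [AddCommGroup L] [Module R L]
    [AddCommGroup P] [Module R P] (f : K →ₗ[R] L) (g : L →ₗ[R] P), Function.Injective f →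
    Function.Exact f g → Function.Surjective g → C K → C P → C L

namespace DevClass

variable {R : Type u} [CommRing R] {C : ∀ (N : Type u) [AddCommGroup N] [Module R N], Prop}

theorem of_equiv (hC : DevClass R C) {K L : Type u} [AddCommGroup K] [Module R K]
    [AddCommGroup L] [Module R L] (e : K ≃ₗ[R] L) (h : C L) : C K :=
  hC.of_injective e.toLinearMap e.injective h

theorem of_prod (hC : DevClass R C) {K L : Type u} [AddCommGroup K] [Module R K]
    [AddCommGroup L] [Module R L] (hK : C K) (hL : C L) : C (K × L) := by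
  refine hC.of_ses (LinearMap.inl R K L) (LinearMap.snd R K L) LinearMap.inl_injective ?_
    LinearMap.snd_surjective hK hL
  intro x
  constructor
  · intro hx
    refine ⟨x.1, ?_⟩
    ext
    · rfl
    · exact hx.symm
  · rintro ⟨m, rfl⟩
    rfl

/-- the range/kernel decomposition -/
theorem of_ker_range (hC : DevClass R C) {L P : Type u} [AddCommGroup L] [Module R L]
    [AddCommGroup P] [Module R P] (φ : L →ₗ[R] P) (hk : C (LinearMap.ker φ))
    (hr : C (LinearMap.range φ)) : C L := by
  refine hC.of_ses (LinearMap.ker φ).subtype φ.rangeRestrict (Submodule.injective_subtype _) ?_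
    φ.surjective_rangeRestrict hk hr
  have := LinearMap.exact_subtype_ker_map φ.rangeRestrict
  rw [LinearMap.ker_rangeRestrict] at this
  exact this

section Coprimary

variable [IsNoetherianRing R]

/-- the `p`-coprimary case of dévissage -/
theorem of_coprimary (hC : DevClass R C) (p : Ideal R) [hp : p.IsPrime] (hCp : C (R ⧸ p))
    (N : Type u) [AddCommGroup N] [Module R N] [Module.Finite R N]
    (h1 : ∀ r : R, r ∉ p → ∀ x : N, r • x = 0 → x = 0)
    (h2 : ∀ r : R, r ∈ p → ∃ n : ℕ, ∀ x : N, r ^ n • x = 0) : C N := by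
  classical
  have : IsNoetherian R N := isNoetherian_of_isNoetherianRing_of_finite R N
  let S : Set (Submodule R N) :=
    {T | C T ∧ ∀ r : R, r ∉ p → ∀ x : N, r • x ∈ T → x ∈ T}
  have hS0 : (⊥ : Submodule R N) ∈ S := by
    refine ⟨hC.zero _, fun r hr x hx => ?_⟩
    rw [Submodule.mem_bot] at hx ⊢
    exact h1 r hr x hx
  obtain ⟨T, hTS, hTmax⟩ := set_has_maximal_iff_noetherian.mpr ‹IsNoetherian R N› S ⟨⊥, hS0⟩
  obtain ⟨hCT, hTsat⟩ := hTS
  suffices hT : T = ⊤ by
    rw [hT] at hCT
    exact hC.of_equiv (Submodule.topEquiv (R := R) (M := N)).symm hCT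
  by_contra hT
  obtain ⟨y, hy⟩ : ∃ y : N, y ∉ T := by
    by_contra hcon
    push Not at hcon
    exact hT (eq_top_iff.mpr fun y _ => hcon y)
  -- find `x ∉ T` with `p • x ⊆ T`
  have hrad : p ≤ (T.colon {y}).radical := by
    intro r hr
    obtain ⟨n, hn⟩ := h2 r hr
    refine ⟨n, ?_⟩
    rw [Submodule.mem_colon_singleton, hn y]
    exact T.zero_mem
  obtain ⟨k0, hk0⟩ := Ideal.exists_pow_le_of_le_radical_of_fg hrad (IsNoetherian.noetherian p)
  have hex : ∃ k : ℕ, p ^ k ≤ T.colon {y} := ⟨k0, hk0⟩
  let k := Nat.find hex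
  have hk : p ^ k ≤ T.colon {y} := Nat.find_spec hex
  have hkpos : k ≠ 0 := by
    intro hk0'
    rw [hk0', pow_zero, Ideal.one_eq_top] at hk
    have := hk (Submodule.mem_top : (1 : R) ∈ ⊤)
    rw [Submodule.mem_colon_singleton, one_smul] at this
    exact hy this
  have hkm : ¬ p ^ (k - 1) ≤ T.colon {y} := Nat.find_min hex (by omega)
  obtain ⟨a, hap, hay⟩ := SetLike.not_le_iff_exists.mp hkm
  rw [Submodule.mem_colon_singleton] at hay
  obtain ⟨x, hx⟩ : ∃ x : N, x = a • y := ⟨_, rfl⟩
  rw [← hx] at hay
  have hpx : ∀ r ∈ p, r • x ∈ T := by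
    intro r hr
    have : r * a ∈ p ^ k := by
      have : k = (k - 1) + 1 := by omega
      rw [this, pow_succ']
      exact Ideal.mul_mem_mul hr hap
    have := hk this
    rw [Submodule.mem_colon_singleton, mul_smul, ← hx] at this
    exact this
  -- the saturation of `T + R x`
  let U : Submodule R N := T ⊔ Submodule.span R {x}
  let T' : Submodule R N :=
    { carrier := {z | ∃ s : R, s ∉ p ∧ s • z ∈ U}
      add_mem' := by
        rintro z1 z2 ⟨s1, hs1, h1'⟩ ⟨s2, hs2, h2'⟩
        refine ⟨s1 * s2, fun h => (hp.mem_or_mem h).elim hs1 hs2, ?_⟩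
        rw [smul_add]
        refine U.add_mem ?_ ?_
        · rw [mul_comm, mul_smul]
          exact U.smul_mem _ h1'
        · rw [mul_smul]
          exact U.smul_mem _ h2'
      zero_mem' := ⟨1, fun h => hp.ne_top ((Ideal.eq_top_iff_one _).mpr h), by simp⟩
      smul_mem' := by
        rintro c z ⟨s, hs, h⟩
        refine ⟨s, hs, ?_⟩
        rw [smul_comm]
        exact U.smul_mem _ h }
  have hmemT' : ∀ z : N, z ∈ T' ↔ ∃ s : R, s ∉ p ∧ s • z ∈ U := fun z => Iff.rfl
  have h1p : (1 : R) ∉ p := fun h => hp.ne_top ((Ideal.eq_top_iff_one _).mpr h)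
  have hUT' : U ≤ T' := fun z hz => ⟨1, h1p, by rwa [one_smul]⟩
  have hTT' : T ≤ T' := le_trans le_sup_left hUT'
  have hxT' : x ∈ T' := hUT' (Submodule.mem_sup_right (Submodule.mem_span_singleton_self x))
  have hlt : T < T' := lt_of_le_of_ne hTT' (fun h => hay (h ▸ hxT'))
  have hT'sat : ∀ r : R, r ∉ p → ∀ z : N, r • z ∈ T' → z ∈ T' := by
    rintro r hr z ⟨s, hs, h⟩
    refine ⟨s * r, fun h' => (hp.mem_or_mem h').elim hs hr, ?_⟩
    rw [mul_smul]
    exact h
  -- a uniform denominator
  obtain ⟨s, hs, hsT'⟩ : ∃ s : R, s ∉ p ∧ ∀ z ∈ T', s • z ∈ U := by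
    obtain ⟨G, hG⟩ := (IsNoetherian.noetherian T' : T'.FG)
    have hch : ∀ g : N, ∃ sg : R, sg ∉ p ∧ (g ∈ T' → sg • g ∈ U) := by
      intro g
      by_cases hg : g ∈ T'
      · obtain ⟨sg, h, h'⟩ := hg
        exact ⟨sg, h, fun _ => h'⟩
      · exact ⟨1, h1p, fun h => absurd h hg⟩
    choose sg hsg hsg' using hch
    refine ⟨∏ g ∈ G, sg g, ?_, ?_⟩
    · intro h
      obtain ⟨g, _, hg⟩ := (Ideal.IsPrime.prod_mem_iff).mp h
      exact hsg g hg
    · intro z hz
      rw [← hG] at hz
      induction hz using Submodule.span_induction with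
      | mem g hg =>
        have hgT' : g ∈ T' := by
          rw [← hG]; exact Submodule.subset_span hg
        rw [← Finset.mul_prod_erase G sg hg, mul_comm, mul_smul]
        exact U.smul_mem _ (hsg' g hgT')
      | zero => rw [smul_zero]; exact U.zero_mem
      | add a b _ _ ha hb => rw [smul_add]; exact U.add_mem ha hb
      | smul c a _ ha => rw [smul_comm]; exact U.smul_mem _ ha
  -- `C T'`
  have hCT' : C T' := by
    let φ : T' →ₗ[R] N ⧸ T := T.mkQ ∘ₗ (s • (LinearMap.id : N →ₗ[R] N)) ∘ₗ T'.subtype
    have hφ : ∀ z : T', φ z = Submodule.Quotient.mk (s • (z : N)) := fun z => rfl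
    refine hC.of_ker_range φ ?_ ?_
    · -- the kernel embeds in `T`
      have hmem : ∀ z : LinearMap.ker φ, ((z : T') : N) ∈ T := by
        intro z
        have hz : φ z = 0 := z.2
        rw [hφ, Submodule.Quotient.mk_eq_zero] at hz
        exact hTsat s hs _ hz
      let j : LinearMap.ker φ →ₗ[R] T :=
        LinearMap.codRestrict T (T'.subtype ∘ₗ (LinearMap.ker φ).subtype) hmem
      refine hC.of_injective j ?_ hCT
      intro z1 z2 h
      have : ((z1 : T') : N) = ((z2 : T') : N) := by
        have h' := congrArg Subtype.val h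
        exact h'
      exact Subtype.ext (Subtype.ext this)
    · -- the range embeds in `R ⧸ p`
      let xb : N ⧸ T := Submodule.Quotient.mk x
      let τ : R →ₗ[R] N ⧸ T := LinearMap.toSpanSingleton R (N ⧸ T) xb
      have hker : LinearMap.ker τ = p := by
        ext r
        rw [LinearMap.mem_ker, LinearMap.toSpanSingleton_apply]
        change r • Submodule.Quotient.mk x = (0 : N ⧸ T) ↔ r ∈ p
        rw [← Submodule.Quotient.mk_smul, Submodule.Quotient.mk_eq_zero]
        constructor
        · intro h
          by_contra hr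
          exact hay (hTsat r hr x h)
        · exact hpx r
      have hle : LinearMap.range φ ≤ LinearMap.range τ := by
        rintro _ ⟨z, rfl⟩
        rw [hφ]
        have hzU : s • (z : N) ∈ U := hsT' z z.2
        obtain ⟨t, ht, w, hw, htw⟩ := Submodule.mem_sup.mp hzU
        obtain ⟨c, rfl⟩ := Submodule.mem_span_singleton.mp hw
        refine ⟨c, ?_⟩
        rw [LinearMap.toSpanSingleton_apply, ← htw]
        change c • Submodule.Quotient.mk x =
          (Submodule.Quotient.mk t + Submodule.Quotient.mk (c • x) : N ⧸ T)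
        rw [(Submodule.Quotient.mk_eq_zero T).mpr ht, zero_add]
        rfl
      let e : (R ⧸ p) ≃ₗ[R] LinearMap.range τ :=
        (Submodule.quotEquivOfEq _ _ hker.symm).trans (LinearMap.quotKerEquivRange τ)
      let j : LinearMap.range φ →ₗ[R] R ⧸ p :=
        e.symm.toLinearMap ∘ₗ Submodule.inclusion hle
      refine hC.of_injective j ?_ hCp
      exact e.symm.injective.comp (Submodule.inclusion_injective hle)
  exact hTmax T' ⟨hCT', hT'sat⟩ hlt

end Coprimary

section General

theorem of_finset_inf (hC : DevClass R C) (M : Type u) [AddCommGroup M] [Module R M]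
    (s : Finset (Submodule R M)) (h : ∀ J ∈ s, C (M ⧸ J)) : C (M ⧸ s.inf id) := by
  classical
  induction s using Finset.induction_on with
  | empty =>
    have : Subsingleton (M ⧸ (∅ : Finset (Submodule R M)).inf id) := by
      rw [Finset.inf_empty]
      infer_instance
    exact hC.zero _
  | insert J s hJ ih =>
    have h1 : C (M ⧸ J) := h J (Finset.mem_insert_self _ _)
    have h2 : C (M ⧸ s.inf id) := ih (fun K hK => h K (Finset.mem_insert_of_mem hK))
    let ψ : M →ₗ[R] (M ⧸ J) × (M ⧸ s.inf id) := LinearMap.prod J.mkQ (s.inf id).mkQ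
    have hker : LinearMap.ker ψ = (insert J s).inf id := by
      rw [LinearMap.ker_prod, Submodule.ker_mkQ, Submodule.ker_mkQ, Finset.inf_insert, id]
    let j := ((insert J s).inf id).liftQ ψ hker.ge
    refine hC.of_injective j ?_ (hC.of_prod h1 h2)
    rw [← LinearMap.ker_eq_bot]
    exact Submodule.ker_liftQ_eq_bot _ _ _ hker.le

variable [IsNoetherianRing R]

/-- **dévissage**: a class of modules closed under subobjects and extensions which contains
`R ⧸ p` for all `p ∈ Ass M` contains the finite module `M` -/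
theorem of_associatedPrimes (hC : DevClass R C) (M : Type u) [AddCommGroup M] [Module R M]
    [Module.Finite R M] (h : ∀ p ∈ associatedPrimes R M, C (R ⧸ p)) : C M := by
  have : IsNoetherian R M := isNoetherian_of_isNoetherianRing_of_finite R M
  obtain ⟨t, ht⟩ := Submodule.IsLasker.exists_isMinimalPrimaryDecomposition (Submodule.isLasker R M) ⊥
  have h1 : C (M ⧸ t.inf id) := by
    refine hC.of_finset_inf M t (fun J hJ => ?_)
    have hJp := ht.primary hJ
    have hpAss : (J.colon Set.univ).radical ∈ associatedPrimes R M := ht.mem_associatedPrimes hJ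
    haveI : ((J.colon Set.univ).radical).IsPrime := hpAss.1
    refine hC.of_coprimary (J.colon Set.univ).radical (h _ hpAss) (M ⧸ J) ?_ ?_
    · intro r hr x hx
      obtain ⟨m, rfl⟩ := Submodule.Quotient.mk_surjective _ x
      rw [← Submodule.Quotient.mk_smul, Submodule.Quotient.mk_eq_zero] at hx
      rcases hJp.mem_or_mem hx with h' | h'
      · exact (Submodule.Quotient.mk_eq_zero _).mpr h'
      · exact absurd h' hr
    · rintro r ⟨n, hn⟩
      refine ⟨n, fun x => ?_⟩
      obtain ⟨m, rfl⟩ := Submodule.Quotient.mk_surjective _ x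
      rw [← Submodule.Quotient.mk_smul, Submodule.Quotient.mk_eq_zero]
      exact Submodule.mem_colon.mp hn m (Set.mem_univ m)
  have hinj : Function.Injective (t.inf id).mkQ := by
    rw [← LinearMap.ker_eq_bot, Submodule.ker_mkQ, ht.inf_eq]
  exact hC.of_injective (t.inf id).mkQ hinj h1

end General

end DevClass

end Groth.Agent.Helper8
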