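import Groth.Agent.Lib.Helper8.ExtBC2
import Groth.Agent.Lib.Helper8.Canon14
import Groth.Agent.Lib.Helper8.ExtLoc1
import Groth.Agent.Lib.Lead.Bass3

/-!
# A Noetherian ring with a faithful finite module of finite injective dimension is
Cohen–Macaulay (helper8)
-/

set_option autoImplicit false
universe u

namespace Groth.Agent.Helper8.DualMod

open IsLocalRing CategoryTheory Abelian Groth.Agent.Helper8 Groth.Agent.Helper8.LC
  Groth.Agent.Helper8.Canon Groth.Agent.Helper8.ExtLoc Groth.Agent.Lead.Depth
open scoped TensorProduct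

section Local

variable {R : Type u} [CommRing R] [IsLocalRing R] [IsNoetherianRing R]

/-- `Ext^{dim R}(k, W) ≠ 0` for a faithful finite module `W`. -/
theorem ext_residueField_nontrivial_of_annihilator_eq_bot (W : Type u) [AddCommGroup W]
    [Module R W] [Module.Finite R W] (hann : Module.annihilator R W = ⊥)
    (d : ℕ) (hd : ringKrullDim R = d) :
    Nontrivial (Ext (ModuleCat.of R (ResidueField R)) (ModuleCat.of R W) d) := by
  have hd' : (d : WithBot ℕ∞) ≤ Order.krullDim (PrimeSpectrum R) := by
    rw [← hd]; rfl
  obtain ⟨l, hl⟩ := Order.le_krullDim_iff.mp hd'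
  have h1 : (d : ℕ∞) ≤ Order.coheight l.head := by
    rw [← hl]; exact Order.length_le_coheight_head
  have h2 : ((Order.coheight l.head : ℕ∞) : WithBot ℕ∞) ≤ (d : WithBot ℕ∞) := by
    have := Order.coheight_le_krullDim l.head
    have h3 : Order.krullDim (PrimeSpectrum R) = (d : WithBot ℕ∞) := hd
    rw [h3] at this
    exact this
  have h2' : Order.coheight l.head ≤ (d : ℕ∞) := by exact_mod_cast h2
  have hco : Order.coheight l.head = (d : ℕ∞) := le_antisymm h2' h1
  have hmin : l.head.asIdeal ∈ minimalPrimes R := by
    refine ⟨⟨l.head.2, bot_le⟩, ?_⟩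
    rintro q ⟨hq, -⟩ hle
    by_contra hnle
    have hlt : (⟨q, hq⟩ : PrimeSpectrum R) < l.head := lt_of_le_of_ne hle (by
      rintro heq
      apply hnle
      rw [← heq])
    have h3 := Order.coheight_add_one_le hlt
    rw [hco] at h3
    have h4 := Order.coheight_le_krullDim (⟨q, hq⟩ : PrimeSpectrum R)
    have h5 : Order.krullDim (PrimeSpectrum R) = (d : WithBot ℕ∞) := hd
    rw [h5] at h4
    have h6 : Order.coheight (⟨q, hq⟩ : PrimeSpectrum R) ≤ (d : ℕ∞) := by exact_mod_cast h4
    have h7 : ((d + 1 : ℕ) : ℕ∞) ≤ (d : ℕ∞) := by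
      push_cast
      exact h3.trans h6
    exact absurd (by exact_mod_cast h7 : d + 1 ≤ d) (by omega)
  have hass : l.head.asIdeal ∈ associatedPrimes R W := by
    apply Module.associatedPrimes.minimalPrimes_annihilator_subset_associatedPrimes R W
    rw [hann]
    exact hmin
  have hsupp := mem_support_ext_zero_of_mem_associatedPrimes W l.head hass
  exact ext_residueField_nontrivial_of_mem_support W d l.head hco 0 d (by omega) hsupp

/-- a Noetherian local ring with a faithful finite module of finite injective dimension is
Cohen–Macaulay -/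
theorem isCohenMacaulayLocalRing_of_faithful (W : Type u) [AddCommGroup W]
    [Module R W] [Module.Finite R W] (hann : Module.annihilator R W = ⊥) (B : ℕ)
    (hB : ∀ i, B ≤ i →
      Subsingleton (Ext (ModuleCat.of R (ResidueField R)) (ModuleCat.of R W) i)) :
    LocCoh.IsCohenMacaulayLocalRing R := by
  refine { supportDim_eq_depth := ?_ }
  rw [Module.supportDim_self_eq_ringKrullDim]
  refine le_antisymm ?_ depth_self_le_ringKrullDim
  obtain ⟨d, hd⟩ := exists_nat_ringKrullDim (R := R)
  obtain ⟨s, hs⟩ := ENat.ne_top_iff_exists.mp (depth_ne_top (R := R) R)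
  have hnt := ext_residueField_nontrivial_of_annihilator_eq_bot W hann d hd
  have hds : d ≤ s := by
    by_contra hlt
    push Not at hlt
    have := ext_residueField_subsingleton_of_depth_lt W B hB s hs.symm d hlt
    exact not_subsingleton _ this
  rw [hd, ← hs]
  exact_mod_cast hds

end Local

section Loc

variable (A : Type u) [CommRing A] (p : Ideal A) [p.IsPrime]
  (W : Type u) [AddCommGroup W] [Module A W]

theorem annihilator_baseChange_eq_bot [Module.Finite A W] (hann : Module.annihilator A W = ⊥) :
    Module.annihilator (Localization.AtPrime p) (Localization.AtPrime p ⊗[A] W) = ⊥ := by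
  rw [eq_bot_iff]
  intro t ht
  rw [Module.mem_annihilator] at ht
  obtain ⟨a, s, rfl⟩ := IsLocalization.exists_mk'_eq p.primeCompl t
  haveI : IsLocalizedModule p.primeCompl (TensorProduct.mk A (Localization.AtPrime p) W 1) :=
    (isLocalizedModule_iff_isBaseChange p.primeCompl (Localization.AtPrime p) _).mpr
      (TensorProduct.isBaseChange A W (Localization.AtPrime p))
  have hcomp : (TensorProduct.mk A (Localization.AtPrime p) W 1) ∘ₗ
      (a • (LinearMap.id : W →ₗ[A] W)) =
      (TensorProduct.mk A (Localization.AtPrime p) W 1) ∘ₗ (0 : W →ₗ[A] W) := by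
    apply LinearMap.ext
    intro w
    rw [LinearMap.comp_apply, LinearMap.comp_apply, LinearMap.zero_apply, map_zero,
      LinearMap.smul_apply, LinearMap.id_apply, map_smul]
    have h1 := ht ((1 : Localization.AtPrime p) ⊗ₜ[A] w)
    have h2 : algebraMap A (Localization.AtPrime p) a • ((1 : Localization.AtPrime p) ⊗ₜ[A] w) =
        0 := by
      rw [← IsLocalization.mk'_spec' (Localization.AtPrime p) a s, mul_smul, h1, smul_zero]
    rw [algebraMap_smul] at h2
    exact h2
  obtain ⟨u, hu⟩ := Module.Finite.exists_smul_of_comp_eq_of_isLocalizedModule p.primeCompl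
    (TensorProduct.mk A (Localization.AtPrime p) W 1) _ _ hcomp
  have h3 : (u : A) * a ∈ Module.annihilator A W := by
    rw [Module.mem_annihilator]
    intro w
    have := LinearMap.congr_fun hu w
    rw [smul_zero, LinearMap.zero_apply, LinearMap.smul_apply, LinearMap.smul_apply,
      LinearMap.id_apply] at this
    rw [mul_smul]
    exact this
  rw [hann, Submodule.mem_bot] at h3
  rw [Submodule.mem_bot, IsLocalization.mk'_eq_zero_iff]
  exact ⟨u, h3⟩

theorem subsingleton_tensor_of_subsingleton (T : Type u) [CommRing T] [Algebra A T]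
    (X : Type u) [AddCommGroup X] [Module A X] [Subsingleton X] : Subsingleton (T ⊗[A] X) := by
  refine ⟨fun a b => ?_⟩
  have key : ∀ c : T ⊗[A] X, c = 0 := by
    intro c
    induction c using TensorProduct.induction_on with
    | zero => rfl
    | tmul t x => rw [Subsingleton.elim x 0, TensorProduct.tmul_zero]
    | add x y hx hy => rw [hx, hy, add_zero]
  rw [key a, key b]

theorem ext_residueField_localization_subsingleton [IsNoetherianRing A] (i : ℕ)
    (h : Subsingleton (Ext (ModuleCat.of A (A ⧸ p)) (ModuleCat.of A W) i)) :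
    Subsingleton (Ext (ModuleCat.of (Localization.AtPrime p)
        (ResidueField (Localization.AtPrime p)))
      (ModuleCat.of (Localization.AtPrime p) (Localization.AtPrime p ⊗[A] W)) i) := by
  obtain ⟨e1⟩ := ExtBC.ext_baseChange (A := A) (B := Localization.AtPrime p) W i (A ⧸ p)
  haveI := subsingleton_tensor_of_subsingleton A (Localization.AtPrime p)
    (Ext (ModuleCat.of A (A ⧸ p)) (ModuleCat.of A W) i)
  let e2 : (Localization.AtPrime p ⧸ p.map (algebraMap A (Localization.AtPrime p)))
      ≃ₗ[Localization.AtPrime p] Localization.AtPrime p ⊗[A] (A ⧸ p) :=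
    (Algebra.TensorProduct.quotIdealMapEquivTensorQuot (Localization.AtPrime p) p).toLinearEquiv
  have hmap : p.map (algebraMap A (Localization.AtPrime p)) =
      maximalIdeal (Localization.AtPrime p) := Localization.AtPrime.map_eq_maximalIdeal
  let e3 : (Localization.AtPrime p ⧸ maximalIdeal (Localization.AtPrime p))
      ≃ₗ[Localization.AtPrime p]
      (Localization.AtPrime p ⧸ p.map (algebraMap A (Localization.AtPrime p))) :=
    Submodule.quotEquivOfEq _ _ hmap.symm
  have e4 := extCongrLeft (e3 ≪≫ₗ e2)
    (ModuleCat.of (Localization.AtPrime p) (Localization.AtPrime p ⊗[A] W)) i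
  exact (e4.symm ≪≫ₗ e1.symm).toEquiv.subsingleton

/-- A Noetherian ring with a faithful finite module of finite injective dimension is
Cohen–Macaulay. -/
theorem isCohenMacaulayRing_of_faithful [IsNoetherianRing A] [Module.Finite A W]
    (hann : Module.annihilator A W = ⊥) (b : ℕ)
    (hb : ∀ (M : Type u) [AddCommGroup M] [Module A M] [Module.Finite A M] (i : ℕ), b < i →
      Subsingleton (Ext (ModuleCat.of A M) (ModuleCat.of A W) i)) :
    LocCoh.IsCohenMacaulayRing A := by
  refine { isCohenMacaulayLocalRing_localization := ?_ }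
  intro q hq
  exact isCohenMacaulayLocalRing_of_faithful (Localization.AtPrime q ⊗[A] W)
    (annihilator_baseChange_eq_bot A q W hann) (b + 1)
    (fun i hi => ext_residueField_localization_subsingleton A q W i (hb (A ⧸ q) i (by omega)))

end Loc

end Groth.Agent.Helper8.DualMod
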