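import Mathlib
import Groth.Prelude

set_option autoImplicit false
universe u

open Polynomial LaurentPolynomial

namespace Groth.Agent.Helper8.ExtReesUFD

section Poly

variable {A : Type u} [CommRing A] [IsDomain A]

theorem poly_eq_monomial_of_le (P : A[X]) (h : P.natDegree ≤ P.natTrailingDegree) :
    P = Polynomial.C P.leadingCoeff * X ^ P.natDegree := by
  ext n
  rw [coeff_C_mul, coeff_X_pow]
  obtain hn | rfl | hn := lt_trichotomy n P.natDegree
  · rw [if_neg hn.ne, coeff_eq_zero_of_lt_natTrailingDegree (hn.trans_le h), mul_zero]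
  · simp
  · rw [if_neg hn.ne', coeff_eq_zero_of_natDegree_lt hn, mul_zero]

theorem poly_monomial_of_mul (P Q : A[X]) (a : A) (ha : a ≠ 0) (k : ℕ)
    (h : P * Q = Polynomial.C a * X ^ k) :
    P = Polynomial.C P.leadingCoeff * X ^ P.natDegree ∧
    Q = Polynomial.C Q.leadingCoeff * X ^ Q.natDegree ∧
    P.leadingCoeff * Q.leadingCoeff = a ∧ P.natDegree + Q.natDegree = k := by
  have hmon : (Polynomial.C a * X ^ k : A[X]) = monomial k a := C_mul_X_pow_eq_monomial
  have hne : (Polynomial.C a * X ^ k : A[X]) ≠ 0 := by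
    rw [hmon]
    exact (monomial_eq_zero_iff a k).not.2 ha
  have hP : P ≠ 0 := by
    rintro rfl
    rw [zero_mul] at h
    exact hne h.symm
  have hQ : Q ≠ 0 := by
    rintro rfl
    rw [mul_zero] at h
    exact hne h.symm
  have hd : P.natDegree + Q.natDegree = k := by
    rw [← natDegree_mul hP hQ, h, natDegree_C_mul_X_pow k a ha]
  have ht : P.natTrailingDegree + Q.natTrailingDegree = k := by
    rw [← natTrailingDegree_mul hP hQ, h, hmon, natTrailingDegree_monomial ha]
  have h1 := natTrailingDegree_le_natDegree (p := P)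
  have h2 := natTrailingDegree_le_natDegree (p := Q)
  have hl : P.leadingCoeff * Q.leadingCoeff = a := by
    rw [← leadingCoeff_mul, h, hmon, leadingCoeff_monomial]
  exact ⟨poly_eq_monomial_of_le P (by omega), poly_eq_monomial_of_le Q (by omega), hl, hd⟩

theorem laurent_monomial_of_mul (f g : A[T;T⁻¹]) (a : A) (ha : a ≠ 0) (n : ℤ)
    (h : f * g = LaurentPolynomial.C a * T n) :
    ∃ (b c : A) (i j : ℤ), f = LaurentPolynomial.C b * T i ∧ g = LaurentPolynomial.C c * T j ∧ b * c = a ∧ i + j = n := by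
  obtain ⟨N, P, hP⟩ := exists_T_pow f
  obtain ⟨M, Q, hQ⟩ := exists_T_pow g
  set K : ℕ := (-(n + N + M)).toNat with hK
  set k : ℕ := (n + N + M + K).toNat with hk
  have hkz : (k : ℤ) = n + N + M + K := by omega
  have hprod : P * (Q * X ^ K) = Polynomial.C a * X ^ k := by
    apply Polynomial.toLaurent_injective
    rw [map_mul, map_mul, hP, hQ, Polynomial.toLaurent_X_pow, map_mul, Polynomial.toLaurent_C,
      Polynomial.toLaurent_X_pow, hkz]
    calc f * T ↑N * (g * T ↑M * T ↑K) = (f * g) * (T ↑N * (T ↑M * T ↑K)) := by ring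
      _ = LaurentPolynomial.C a * T n * (T ↑N * (T ↑M * T ↑K)) := by rw [h]
      _ = LaurentPolynomial.C a * T (n + ↑N + ↑M + ↑K) := by
        rw [← T_add, ← T_add, mul_assoc, ← T_add]
        congr 2
        ring
  obtain ⟨h1, h2, h3, h4⟩ := poly_monomial_of_mul P (Q * X ^ K) a ha k hprod
  refine ⟨P.leadingCoeff, (Q * X ^ K).leadingCoeff, (P.natDegree : ℤ) - N,
    ((Q * X ^ K).natDegree : ℤ) - M - K, ?_, ?_, h3, ?_⟩
  · have : f = toLaurent P * T (-(N : ℤ)) := by
      rw [hP, mul_T_assoc, add_neg_cancel, T_zero, mul_one]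
    have e1 : toLaurent P = LaurentPolynomial.C P.leadingCoeff * T (P.natDegree : ℤ) := by
      conv_lhs => rw [h1]
      rw [map_mul, Polynomial.toLaurent_C, Polynomial.toLaurent_X_pow]
    rw [this, e1, mul_T_assoc, sub_eq_add_neg]
  · have : g = toLaurent (Q * X ^ K) * T (-(M : ℤ) - K) := by
      rw [map_mul, hQ, Polynomial.toLaurent_X_pow, mul_T_assoc, mul_T_assoc]
      rw [show (M : ℤ) + ((K : ℤ) + (-(M : ℤ) - K)) = 0 by ring, T_zero, mul_one]
    have e2 : toLaurent (Q * X ^ K) = LaurentPolynomial.C (Q * X ^ K).leadingCoeff *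
        T ((Q * X ^ K).natDegree : ℤ) := by
      conv_lhs => rw [h2]
      rw [map_mul, Polynomial.toLaurent_C, Polynomial.toLaurent_X_pow]
    rw [this, e2, mul_T_assoc]
    congr 2
    ring
  · have : ((P.natDegree + (Q * X ^ K).natDegree : ℕ) : ℤ) = k := by rw [h4]
    push_cast at this
    omega

/-- evaluation at `T = 1`. -/
noncomputable def ev1 : A[T;T⁻¹] →+* A := LaurentPolynomial.eval₂ (RingHom.id A) (1 : Aˣ)

@[simp] theorem ev1_C (a : A) : ev1 (LaurentPolynomial.C a) = a := by
  simp [ev1]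

theorem irreducible_C_of_irreducible {a : A} (ha : Irreducible a) :
    Irreducible (LaurentPolynomial.C a : A[T;T⁻¹]) := by
  refine ⟨fun hu => ha.not_isUnit (by simpa using hu.map ev1), fun f g hfg => ?_⟩
  obtain ⟨b, c, i, j, hf, hg, hbc, -⟩ :=
    laurent_monomial_of_mul f g a ha.ne_zero 0 (by rw [T_zero, mul_one]; exact hfg.symm)
  rcases ha.isUnit_or_isUnit hbc.symm with hb | hc
  · left
    rw [hf]
    exact (hb.map (LaurentPolynomial.C : A →+* A[T;T⁻¹])).mul (isUnit_T i)
  · right
    rw [hg]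
    exact (hc.map (LaurentPolynomial.C : A →+* A[T;T⁻¹])).mul (isUnit_T j)

theorem ufd_of_laurent [IsNoetherianRing A] [UniqueFactorizationMonoid A[T;T⁻¹]] :
    UniqueFactorizationMonoid A := by
  haveI : WfDvdMonoid A := inferInstance
  refine { irreducible_iff_prime := fun {a} => ⟨fun ha => ?_, Prime.irreducible⟩ }
  have hp : Prime (LaurentPolynomial.C a : A[T;T⁻¹]) :=
    UniqueFactorizationMonoid.irreducible_iff_prime.1 (irreducible_C_of_irreducible ha)
  refine ⟨ha.ne_zero, ha.not_isUnit, fun x y hxy => ?_⟩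
  have h1 : (LaurentPolynomial.C a : A[T;T⁻¹]) ∣ LaurentPolynomial.C x * LaurentPolynomial.C y := by
    rw [← map_mul]
    exact map_dvd (LaurentPolynomial.C : A →+* A[T;T⁻¹]) hxy
  rcases hp.dvd_or_dvd h1 with h | h
  · left
    simpa using map_dvd ev1 h
  · right
    simpa using map_dvd ev1 h

end Poly

end Groth.Agent.Helper8.ExtReesUFD
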