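import Groth.Agent.Lib.Helper8.ExtReesUFD1
import Groth.Agent.Lib.Helper20.RE6

set_option autoImplicit false
universe u

open Polynomial LaurentPolynomial

namespace Groth.Agent.Helper8.ExtReesUFD

open Groth.Agent.Helper20.RE

variable {A : Type u} [CommRing A] [IsDomain A] (𝓕 : FiltBl.IdealFiltration A)

theorem u_ne_zero : 𝓕.u ≠ 0 := by
  intro h
  have h1 := congrArg (fun z : 𝓕.extRees => (z : A[T;T⁻¹])) h
  simp only [coe_u, ZeroMemClass.coe_zero] at h1
  exact (isUnit_T (R := A) (-1)).ne_zero h1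

theorem F_eq_top_of_one (h : 𝓕.F 1 = ⊤) (n : ℕ) : 𝓕.F n = ⊤ := by
  induction n with
  | zero => exact 𝓕.zero_eq
  | succ n ih =>
    have h1 := 𝓕.mul_le 1 n
    rw [h, ih, Ideal.top_mul, add_comm] at h1
    exact top_le_iff.1 h1

theorem F_one_ne_top (hsep : ⨅ n, 𝓕.F n = ⊥) : 𝓕.F 1 ≠ ⊤ := by
  intro h
  have : (⨅ n, 𝓕.F n) = ⊤ := by
    simp [F_eq_top_of_one 𝓕 h]
  rw [hsep] at this
  exact bot_ne_top this

theorem F_one_eq_top_of_isUnit_mem {n : ℕ} (hn : 1 ≤ n) {b : A} (hb : IsUnit b)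
    (hmem : b ∈ 𝓕.F n) : 𝓕.F 1 = ⊤ :=
  Ideal.eq_top_of_isUnit_mem _ (𝓕.antitone hn hmem) hb

theorem coeff_C_mul_T (b : A) (i : ℤ) :
    ((LaurentPolynomial.C b * T i : A[T;T⁻¹])).coeff i = b := by
  classical
  rw [← LaurentPolynomial.single_eq_C_mul_T, AddMonoidAlgebra.coeff_single, Finsupp.single_apply,
    if_pos rfl]

theorem isUnit_of_coe_eq_C {f : 𝓕.extRees} {b c : A} (hbc : b * c = 1)
    (hf : (f : A[T;T⁻¹]) = LaurentPolynomial.C b) : IsUnit f := by
  refine IsUnit.of_mul_eq_one (algebraMap A 𝓕.extRees c) ?_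
  apply Subtype.ext
  rw [Subalgebra.coe_mul, hf, coe_algebraMap_extRees, ← map_mul, hbc, map_one]
  rfl

theorem irreducible_u [IsDomain 𝓕.extRees] (hsep : ⨅ n, 𝓕.F n = ⊥) : Irreducible 𝓕.u := by
  have hF1 := F_one_ne_top 𝓕 hsep
  constructor
  · intro hu
    obtain ⟨v, hv⟩ := hu.exists_right_inv
    have h1 := congrArg (fun z : 𝓕.extRees => (z : A[T;T⁻¹])) hv
    simp only [Subalgebra.coe_mul, coe_u, Subalgebra.coe_one] at h1
    have h2 : (v : A[T;T⁻¹]) = T 1 := by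
      have := congrArg (fun z => T 1 * z) h1
      simp only [← mul_assoc, ← T_add, mul_one] at this
      rw [show (1 : ℤ) + -1 = 0 by norm_num, T_zero, one_mul] at this
      exact this
    have h3 := v.2 1
    rw [h2] at h3
    have h4 : ((T 1 : A[T;T⁻¹])).coeff 1 = 1 := by
      rw [LaurentPolynomial.T_apply, if_pos rfl]
    rw [h4] at h3
    exact hF1 ((Ideal.eq_top_iff_one _).2 (by simpa using h3))
  · intro f g hfg
    have h1 := congrArg (fun z : 𝓕.extRees => (z : A[T;T⁻¹])) hfg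
    simp only [Subalgebra.coe_mul, coe_u] at h1
    obtain ⟨b, c, i, j, hf, hg, hbc, hij⟩ :=
      laurent_monomial_of_mul (f : A[T;T⁻¹]) (g : A[T;T⁻¹]) 1 one_ne_zero (-1)
        (by rw [map_one, one_mul]; exact h1.symm)
    have hb : IsUnit b := IsUnit.of_mul_eq_one c hbc
    have hc : IsUnit c := IsUnit.of_mul_eq_one b (by rw [mul_comm]; exact hbc)
    have hi : i ≤ 0 := by
      by_contra hi
      have h3 := f.2 i
      rw [hf, coeff_C_mul_T] at h3
      exact hF1 (F_one_eq_top_of_isUnit_mem 𝓕 (by omega) hb h3)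
    have hj : j ≤ 0 := by
      by_contra hj
      have h3 := g.2 j
      rw [hg, coeff_C_mul_T] at h3
      exact hF1 (F_one_eq_top_of_isUnit_mem 𝓕 (by omega) hc h3)
    rcases (show i = 0 ∨ j = 0 by omega) with h0 | h0
    · left
      refine isUnit_of_coe_eq_C 𝓕 hbc ?_
      rw [hf, h0, T_zero, mul_one]
    · right
      refine isUnit_of_coe_eq_C 𝓕 (b := c) (c := b) (by rw [mul_comm]; exact hbc) ?_
      rw [hg, h0, T_zero, mul_one]

theorem main [IsNoetherianRing A] (hsep : ⨅ n, 𝓕.F n = ⊥)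
    (hfg : Algebra.FiniteType A 𝓕.rees) [IsDomain 𝓕.extRees] :
    UniqueFactorizationMonoid 𝓕.extRees ↔ (UniqueFactorizationMonoid A ∧ IsDomain 𝓕.Gr) := by
  haveI : IsNoetherianRing 𝓕.extRees := isNoetherianRing_extRees 𝓕 hfg
  haveI hloc : IsLocalization.Away 𝓕.u A[T;T⁻¹] := isLocalization_away_u 𝓕
  constructor
  · intro hufd
    have hprime : Prime 𝓕.u :=
      UniqueFactorizationMonoid.irreducible_iff_prime.1 (irreducible_u 𝓕 hsep)
    haveI : UniqueFactorizationMonoid A[T;T⁻¹] :=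
      (UniqueFactorizationMonoid.iff_of_isLocalizationAway_of_prime hprime A[T;T⁻¹]).1 hufd
    refine ⟨ufd_of_laurent, ?_⟩
    show IsDomain (𝓕.extRees ⧸ Ideal.span {𝓕.u})
    rw [Ideal.Quotient.isDomain_iff_prime, Ideal.span_singleton_prime (u_ne_zero 𝓕)]
    exact hprime
  · rintro ⟨hA, hG⟩
    have hprime : Prime 𝓕.u := by
      rw [← Ideal.span_singleton_prime (u_ne_zero 𝓕), ← Ideal.Quotient.isDomain_iff_prime]
      exact hG
    rw [UniqueFactorizationMonoid.iff_of_isLocalizationAway_of_prime hprime A[T;T⁻¹]]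
    exact UniqueFactorizationMonoid.of_isLocalization (Submonoid.powers (X : A[X])) A[T;T⁻¹]

end Groth.Agent.Helper8.ExtReesUFD
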