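import Groth.Agent.Lib.Helper8.Canon14
import Groth.Agent.Lib.Helper8.LCBasic

/-!
# `Ext^n(-, G)` is represented by `H^n_J(G)` on modules supported in `V(J)` (helper8)
Part 1: left exactness, the comparison map and its injectivity.
-/

set_option autoImplicit false
universe u

namespace Groth.Agent.Helper8.ExtRep

open CategoryTheory Abelian Groth.Agent.Helper8 Groth.Agent.Helper8.LC
  Groth.Agent.Helper8.Canon

section LE

variable {R : Type u} [CommRing R]
  {K P F : Type u} [AddCommGroup K] [Module R K] [AddCommGroup P] [Module R P]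
  [AddCommGroup F] [Module R F] {i : K →ₗ[R] P} {p : P →ₗ[R] F}

/-- left exactness, part (a) -/
theorem extPre_injective (h : IsSES i p) (Y : ModuleCat.{u} R) (n : ℕ)
    (hK : ∀ j : ℕ, j + 1 = n → Subsingleton (Ext (ModuleCat.of R K) Y j)) :
    Function.Injective (extPre (ModuleCat.ofHom p) Y n) := by
  have hSE := h.shortExact
  rcases Nat.eq_zero_or_pos n with h0 | hpos
  · subst h0
    haveI : Epi (ModuleCat.ofHom p) := hSE.epi_g
    exact Ext.precomp_mk₀_injective_of_epi Y (ModuleCat.ofHom p)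
  · obtain ⟨n', rfl⟩ : ∃ n', n = 1 + n' := ⟨n - 1, by omega⟩
    rw [injective_iff_map_eq_zero]
    intro a ha
    obtain ⟨x₁, hx₁⟩ := Ext.contravariant_sequence_exact₃ hSE Y a ha rfl
    have : x₁ = 0 := (hK n' (by omega)).elim _ _
    rw [← hx₁, this]
    exact Ext.comp_zero _ _ _ _ _

/-- left exactness, part (b) -/
theorem exists_extPre_eq (h : IsSES i p) (Y : ModuleCat.{u} R) (n : ℕ)
    (y : Ext (ModuleCat.of R P) Y n) (hy : extPre (ModuleCat.ofHom i) Y n y = 0) :
    ∃ x : Ext (ModuleCat.of R F) Y n, extPre (ModuleCat.ofHom p) Y n x = y := by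
  have hSE := h.shortExact
  obtain ⟨x₃, hx₃⟩ := Ext.contravariant_sequence_exact₂ hSE Y y hy
  exact ⟨x₃, hx₃⟩

theorem extPre_add {X X' : ModuleCat.{u} R} (g g' : X ⟶ X') (Y : ModuleCat.{u} R) (n : ℕ)
    (a : Ext X' Y n) : extPre (g + g') Y n a = extPre g Y n a + extPre g' Y n a := by
  rw [extPre_apply, extPre_apply, extPre_apply, Ext.mk₀_add, Ext.add_comp]

theorem extPre_smul {X X' : ModuleCat.{u} R} (r : R) (g : X ⟶ X') (Y : ModuleCat.{u} R) (n : ℕ)
    (a : Ext X' Y n) : extPre (r • g) Y n a = r • extPre g Y n a := by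
  rw [extPre_apply, extPre_apply, Ext.mk₀_smul, Ext.smul_comp]

theorem extPre_zero {X X' : ModuleCat.{u} R} (Y : ModuleCat.{u} R) (n : ℕ)
    (a : Ext X' Y n) : extPre (0 : X ⟶ X') Y n a = 0 := by
  rw [extPre_apply, Ext.mk₀_zero, Ext.zero_comp]

theorem ext_subsingleton_of_subsingleton (F : Type u) [AddCommGroup F] [Module R F]
    [Subsingleton F] (Y : ModuleCat.{u} R) (n : ℕ) :
    Subsingleton (Ext (ModuleCat.of R F) Y n) := by
  refine ⟨fun a b => ?_⟩
  have h0 : (𝟙 (ModuleCat.of R F)) = 0 := by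
    ext x
    exact Subsingleton.elim _ _
  have key : ∀ c : Ext (ModuleCat.of R F) Y n, c = 0 := by
    intro c
    rw [← extPre_id Y n c, h0, extPre_zero]
  rw [key a, key b]

end LE

section Phi

variable {R : Type u} [CommRing R] (J : Ideal R) (n : ℕ) (G : Type u) [AddCommGroup G] [Module R G]

/-- the map `R/J^k → F`, `1 ↦ u` -/
noncomputable def cyc (k : ℕ) (F : Type u) [AddCommGroup F] [Module R F]
    (hk : ∀ a ∈ J ^ k, ∀ u : F, a • u = 0) (u : F) : (R ⧸ J ^ k) →ₗ[R] F :=
  Submodule.liftQ (J ^ k) (LinearMap.toSpanSingleton R F u) (by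
    intro a ha
    rw [LinearMap.mem_ker, LinearMap.toSpanSingleton_apply]
    exact hk a ha u)

variable {J} {k : ℕ} {F : Type u} [AddCommGroup F] [Module R F]
  (hk : ∀ a ∈ J ^ k, ∀ u : F, a • u = 0)

@[simp] theorem cyc_mk (u : F) (a : R) :
    cyc J k F hk u (Ideal.Quotient.mk (J ^ k) a) = a • u := rfl

theorem cyc_add (u v : F) : cyc J k F hk (u + v) = cyc J k F hk u + cyc J k F hk v := by
  refine LinearMap.ext fun c => ?_
  obtain ⟨a, rfl⟩ := Ideal.Quotient.mk_surjective c
  rw [LinearMap.add_apply, cyc_mk, cyc_mk, cyc_mk, smul_add]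

theorem cyc_smul (r : R) (u : F) : cyc J k F hk (r • u) = r • cyc J k F hk u := by
  refine LinearMap.ext fun c => ?_
  obtain ⟨a, rfl⟩ := Ideal.Quotient.mk_surjective c
  rw [LinearMap.smul_apply, cyc_mk, cyc_mk, smul_comm]

theorem comp_cyc {F' : Type u} [AddCommGroup F'] [Module R F']
    (hk' : ∀ a ∈ J ^ k, ∀ u : F', a • u = 0) (g : F' →ₗ[R] F) (u : F') :
    g ∘ₗ cyc J k F' hk' u = cyc J k F hk (g u) := by
  refine LinearMap.ext fun c => ?_
  obtain ⟨a, rfl⟩ := Ideal.Quotient.mk_surjective c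
  rw [LinearMap.comp_apply, cyc_mk, cyc_mk, map_smul]

variable (J k F)

/-- the comparison map `Ext^n(F, G) → Hom(F, H^n_J(G))` for `F` killed by `J^k` -/
noncomputable def Phi : Ext (ModuleCat.of R F) (ModuleCat.of R G) n →ₗ[R] (F →ₗ[R] H J n G) where
  toFun x :=
    { toFun := fun u => ι J n (ModuleCat.of R G) k
        (extPre (ModuleCat.ofHom (cyc J k F hk u)) (ModuleCat.of R G) n x)
      map_add' := fun u v => by
        rw [cyc_add, ModuleCat.ofHom_add, extPre_add, map_add]
      map_smul' := fun r u => by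
        have h1 : ModuleCat.ofHom (r • cyc J k F hk u) = r • ModuleCat.ofHom (cyc J k F hk u) :=
          rfl
        rw [cyc_smul, h1, extPre_smul, map_smul]
        rfl }
  map_add' x y := by
    refine LinearMap.ext fun u => ?_
    change ι J n (ModuleCat.of R G) k _ = ι J n (ModuleCat.of R G) k _ + ι J n (ModuleCat.of R G) k _
    rw [map_add, map_add]
  map_smul' r x := by
    refine LinearMap.ext fun u => ?_
    change ι J n (ModuleCat.of R G) k _ = r • ι J n (ModuleCat.of R G) k _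
    rw [map_smul, map_smul]

variable {J k F}

theorem Phi_apply (x : Ext (ModuleCat.of R F) (ModuleCat.of R G) n) (u : F) :
    Phi J n G k F hk x u = ι J n (ModuleCat.of R G) k
      (extPre (ModuleCat.ofHom (cyc J k F hk u)) (ModuleCat.of R G) n x) := rfl

/-- naturality of `Phi` -/
theorem Phi_natural {F' : Type u} [AddCommGroup F'] [Module R F']
    (hk' : ∀ a ∈ J ^ k, ∀ u : F', a • u = 0) (g : F' →ₗ[R] F)
    (x : Ext (ModuleCat.of R F) (ModuleCat.of R G) n) (u : F') :
    Phi J n G k F' hk' (extPre (ModuleCat.ofHom g) (ModuleCat.of R G) n x) u =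
      Phi J n G k F hk x (g u) := by
  rw [Phi_apply, Phi_apply, extPre_comp, ← ModuleCat.ofHom_comp, comp_cyc hk hk']

end Phi

end Groth.Agent.Helper8.ExtRep
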