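import Groth.Agent.Lib.Helper8.ExtRep1

/-!
# `Ext^n(-, G)` is represented by `H^n_J(G)` on modules supported in `V(J)` (helper8)
Part 2: injectivity of the comparison map.
-/

set_option autoImplicit false
universe u

namespace Groth.Agent.Helper8.ExtRep

open CategoryTheory Abelian Groth.Agent.Helper8 Groth.Agent.Helper8.LC
  Groth.Agent.Helper8.Canon

variable {R : Type u} [CommRing R] (J : Ideal R) (n : ℕ) (G : Type u) [AddCommGroup G]
  [Module R G]

/-- the vanishing hypothesis -/
def Van : Prop :=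
  ∀ (K : Type u) [AddCommGroup K] [Module R K], Module.Finite R K →
    (∃ m : ℕ, ∀ a ∈ J ^ m, ∀ y : K, a • y = 0) → ∀ j : ℕ, j + 1 = n →
      Subsingleton (Ext (ModuleCat.of R K) (ModuleCat.of R G) j)

variable {J}

theorem quot_pow_smul {m : ℕ} (a : R) (ha : a ∈ J ^ m) (c : R ⧸ J ^ m) : a • c = 0 := by
  obtain ⟨b, rfl⟩ := Ideal.Quotient.mk_surjective c
  change Ideal.Quotient.mk (J ^ m) (a * b) = 0
  rw [Ideal.Quotient.eq_zero_iff_mem]
  exact Ideal.mul_mem_right _ _ ha

theorem trans_comp_cyc {k m : ℕ} (h : k ≤ m) {F : Type u} [AddCommGroup F] [Module R F]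
    (hk : ∀ a ∈ J ^ k, ∀ u : F, a • u = 0) (hm : ∀ a ∈ J ^ m, ∀ u : F, a • u = 0) (u : F) :
    trans J h ≫ ModuleCat.ofHom (cyc J k F hk u) = ModuleCat.ofHom (cyc J m F hm u) := by
  ext c
  rfl

variable {n G}

section Inj

variable [IsNoetherianRing R]

theorem Phi_injective (hv : Van J n G) : ∀ (b : ℕ) (F : Type u) [AddCommGroup F] [Module R F]
    (k : ℕ) (hk : ∀ a ∈ J ^ k, ∀ u : F, a • u = 0) (s : Fin b → F),
    Submodule.span R (Set.range s) = ⊤ → Function.Injective (Phi J n G k F hk) := by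
  intro b
  induction b with
  | zero =>
    intro F _ _ k hk s hs
    have h1 : (⊥ : Submodule R F) = ⊤ := by
      rw [← hs, Set.range_eq_empty, Submodule.span_empty]
    haveI : Subsingleton F := by
      have := subsingleton_of_bot_eq_top h1
      exact (Submodule.subsingleton_iff R).mp this
    haveI := ext_subsingleton_of_subsingleton F (ModuleCat.of R G) n
    exact Function.injective_of_subsingleton _
  | succ b ih =>
    intro F _ _ k hk s hs
    rw [injective_iff_map_eq_zero]
    intro x hx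
    set u := s 0 with hu
    have h0 : Phi J n G k F hk x u = 0 := by rw [hx]; rfl
    rw [Phi_apply, ι_eq_zero_iff] at h0
    obtain ⟨m, hkm, h1⟩ := h0
    have hm : ∀ a ∈ J ^ m, ∀ v : F, a • v = 0 := fun a ha v =>
      hk a (Ideal.pow_le_pow_right hkm ha) v
    have h1' : extPre (ModuleCat.ofHom (cyc J m F hm u)) (ModuleCat.of R G) n x = 0 := by
      rw [← trans_comp_cyc hkm hk hm u, ← extPre_comp]
      exact h1
    let N : Submodule R F := Submodule.span R {u}
    have hmN : ∀ a ∈ J ^ m, ∀ v : N, a • v = 0 := fun a ha v => Subtype.ext (hm a ha v.1)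
    let q : (R ⧸ J ^ m) →ₗ[R] N := cyc J m N hmN ⟨u, Submodule.mem_span_singleton_self u⟩
    have hq : Function.Surjective q := by
      rintro ⟨v, hv'⟩
      obtain ⟨a, rfl⟩ := Submodule.mem_span_singleton.mp hv'
      exact ⟨Ideal.Quotient.mk (J ^ m) a, rfl⟩
    have hqs : N.subtype ∘ₗ q = cyc J m F hm u := comp_cyc hm hmN N.subtype _
    have hKill : ∃ m' : ℕ, ∀ a ∈ J ^ m', ∀ y : LinearMap.ker q, a • y = 0 :=
      ⟨m, fun a ha y => Subtype.ext (quot_pow_smul a ha y.1)⟩
    have hq_inj := extPre_injective (isSES_of_surjective hq) (ModuleCat.of R G) n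
      (hv (LinearMap.ker q) inferInstance hKill)
    have h2 : extPre (ModuleCat.ofHom N.subtype) (ModuleCat.of R G) n x = 0 := by
      apply hq_inj
      rw [extPre_comp, map_zero, ← ModuleCat.ofHom_comp, hqs]
      exact h1'
    obtain ⟨x', hx'⟩ := exists_extPre_eq (isSES_subtype_mkQ N) (ModuleCat.of R G) n x h2
    have hkQ : ∀ a ∈ J ^ k, ∀ w : F ⧸ N, a • w = 0 := by
      intro a ha w
      obtain ⟨v, rfl⟩ := N.mkQ_surjective w
      rw [← map_smul, hk a ha v, map_zero]
    have hsQ : Submodule.span R (Set.range (fun i : Fin b => N.mkQ (s i.succ))) = ⊤ := by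
      rw [eq_top_iff, ← Submodule.range_mkQ N, ← Submodule.map_top, ← hs, Submodule.map_span,
        Submodule.span_le]
      rintro _ ⟨_, ⟨i, rfl⟩, rfl⟩
      refine Fin.cases ?_ (fun j => ?_) i
      · have : N.mkQ (s 0) = 0 := by
          rw [Submodule.mkQ_apply, Submodule.Quotient.mk_eq_zero]
          exact Submodule.mem_span_singleton_self u
        rw [this]
        exact Submodule.zero_mem _
      · exact Submodule.subset_span ⟨j, rfl⟩
    have hinj := ih (F ⧸ N) k hkQ _ hsQ
    have hx'0 : x' = 0 := by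
      apply hinj
      rw [map_zero]
      refine LinearMap.ext fun w => ?_
      obtain ⟨v, rfl⟩ := N.mkQ_surjective w
      rw [← Phi_natural n G hkQ hk N.mkQ x' v, hx', hx]
      rfl
    rw [← hx', hx'0, map_zero]

/-- injectivity for all finite modules -/
theorem Phi_injective' (hv : Van J n G) (F : Type u) [AddCommGroup F] [Module R F]
    [Module.Finite R F] (k : ℕ) (hk : ∀ a ∈ J ^ k, ∀ u : F, a • u = 0) :
    Function.Injective (Phi J n G k F hk) := by
  obtain ⟨b, s, hs⟩ := Module.Finite.exists_fin (R := R) (M := F)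
  exact Phi_injective hv b F k hk s hs

end Inj

end Groth.Agent.Helper8.ExtRep
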