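import Groth.Agent.Lib.Helper8.ExtRep2

/-!
# `Ext^n(-, G)` is represented by `H^n_J(G)` on modules supported in `V(J)` (helper8)
Part 3: surjectivity of the comparison map.
-/

set_option autoImplicit false
universe u

namespace Groth.Agent.Helper8.ExtRep

open CategoryTheory Abelian Groth.Agent.Helper8 Groth.Agent.Helper8.LC
  Groth.Agent.Helper8.Canon

variable {R : Type u} [CommRing R] {J : Ideal R} {n : ℕ} {G : Type u} [AddCommGroup G]
  [Module R G]

section Lemmas

variable {k : ℕ}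

theorem Phi_surjective_of_quotient {P F : Type u} [AddCommGroup P] [Module R P] [AddCommGroup F]
    [Module R F] (hkP : ∀ a ∈ J ^ k, ∀ u : P, a • u = 0) (hkF : ∀ a ∈ J ^ k, ∀ u : F, a • u = 0)
    (p : P →ₗ[R] F) (hp : Function.Surjective p)
    (hP : Function.Surjective (Phi J n G k P hkP))
    (hK : Function.Injective (Phi J n G k (LinearMap.ker p)
      (fun a ha u => Subtype.ext (hkP a ha u.1)))) :
    Function.Surjective (Phi J n G k F hkF) := by
  intro h
  obtain ⟨x, hx⟩ := hP (h ∘ₗ p)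
  have h0 : extPre (ModuleCat.ofHom (LinearMap.ker p).subtype) (ModuleCat.of R G) n x = 0 := by
    apply hK
    rw [map_zero]
    refine LinearMap.ext fun v => ?_
    rw [Phi_natural n G hkP _ (LinearMap.ker p).subtype x v, hx]
    change h (p v.1) = 0
    rw [LinearMap.mem_ker.mp v.2, map_zero]
  obtain ⟨x', hx'⟩ := exists_extPre_eq (isSES_of_surjective hp) (ModuleCat.of R G) n x h0
  refine ⟨x', LinearMap.ext fun w => ?_⟩
  obtain ⟨v, rfl⟩ := hp w
  rw [← Phi_natural n G hkF hkP p x' v, hx', hx]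
  rfl

theorem Phi_surjective_prod {F F' : Type u} [AddCommGroup F] [Module R F] [AddCommGroup F']
    [Module R F'] (hkF : ∀ a ∈ J ^ k, ∀ u : F, a • u = 0)
    (hkF' : ∀ a ∈ J ^ k, ∀ u : F', a • u = 0)
    (hF : Function.Surjective (Phi J n G k F hkF))
    (hF' : Function.Surjective (Phi J n G k F' hkF')) :
    Function.Surjective (Phi J n G k (F × F')
      (fun a ha u => Prod.ext (hkF a ha u.1) (hkF' a ha u.2))) := by
  intro h
  obtain ⟨x1, hx1⟩ := hF (h ∘ₗ LinearMap.inl R F F')
  obtain ⟨x2, hx2⟩ := hF' (h ∘ₗ LinearMap.inr R F F')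
  refine ⟨extPre (ModuleCat.ofHom (LinearMap.fst R F F')) (ModuleCat.of R G) n x1 +
    extPre (ModuleCat.ofHom (LinearMap.snd R F F')) (ModuleCat.of R G) n x2,
    LinearMap.ext fun w => ?_⟩
  rw [map_add, LinearMap.add_apply, Phi_natural n G hkF _ (LinearMap.fst R F F') x1 w,
    Phi_natural n G hkF' _ (LinearMap.snd R F F') x2 w, hx1, hx2]
  change h (w.1, 0) + h (0, w.2) = h w
  rw [← map_add]
  congr 1
  ext <;> simp

end Lemmas

section Surj

variable [IsNoetherianRing R]

theorem mk_eq_smul_one {k : ℕ} (b : R) :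
    (Ideal.Quotient.mk (J ^ k) b : R ⧸ J ^ k) = b • Ideal.Quotient.mk (J ^ k) 1 := by
  change _ = Ideal.Quotient.mk (J ^ k) (b * 1)
  rw [mul_one]

/-- surjectivity of `Phi` for `R/J^k` -/
theorem Phi_cyclic_surjective (hv : Van J n G) (k : ℕ) :
    Function.Surjective (Phi J n G k (R ⧸ J ^ k) (fun a ha c => quot_pow_smul a ha c)) := by
  intro h
  set h0 := h (Ideal.Quotient.mk (J ^ k) 1) with hh0
  obtain ⟨m0, y0, hy0⟩ := exists_rep J n (ModuleCat.of R G) h0
  have hm0 : m0 ≤ max m0 k := le_max_left m0 k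
  have hkm : k ≤ max m0 k := le_max_right m0 k
  generalize max m0 k = m at hm0 hkm
  let y : Ext (RmodPow J m) (ModuleCat.of R G) n := extPre (trans J hm0) (ModuleCat.of R G) n y0
  have hy : ι J n (ModuleCat.of R G) m y = h0 := by
    rw [← hy0]
    exact ι_trans J n (ModuleCat.of R G) hm0 y0
  let p : (R ⧸ J ^ m) →ₗ[R] (R ⧸ J ^ k) :=
    Submodule.mapQ _ _ LinearMap.id (Ideal.pow_le_pow_right hkm)
  have hp : Function.Surjective p := by
    intro c
    obtain ⟨a, rfl⟩ := Ideal.Quotient.mk_surjective c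
    exact ⟨Ideal.Quotient.mk (J ^ m) a, rfl⟩
  have hmm : ∀ a ∈ J ^ m, ∀ c : R ⧸ J ^ m, a • c = 0 := fun a ha c => quot_pow_smul a ha c
  have hmN : ∀ a ∈ J ^ m, ∀ v : LinearMap.ker p, a • v = 0 := fun a ha v =>
    Subtype.ext (hmm a ha v.1)
  have h1 : Phi J n G m (LinearMap.ker p) hmN
      (extPre (ModuleCat.ofHom (LinearMap.ker p).subtype) (ModuleCat.of R G) n y) = 0 := by
    refine LinearMap.ext fun v => ?_
    rw [Phi_apply, extPre_comp, ← ModuleCat.ofHom_comp, comp_cyc hmm hmN]
    obtain ⟨a, ha⟩ := Ideal.Quotient.mk_surjective v.1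
    have hak : Ideal.Quotient.mk (J ^ k) a = 0 := by
      have := LinearMap.mem_ker.mp v.2
      rw [← ha] at this
      exact this
    have h2 : cyc J m (R ⧸ J ^ m) hmm ((LinearMap.ker p).subtype v) =
        a • (LinearMap.id : (R ⧸ J ^ m) →ₗ[R] (R ⧸ J ^ m)) := by
      refine LinearMap.ext fun c => ?_
      obtain ⟨b, rfl⟩ := Ideal.Quotient.mk_surjective c
      rw [cyc_mk, Submodule.subtype_apply, ← ha, LinearMap.smul_apply, LinearMap.id_apply]
      change Ideal.Quotient.mk (J ^ m) (b * a) = Ideal.Quotient.mk (J ^ m) (a * b)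
      rw [mul_comm]
    have h3 : ModuleCat.ofHom (a • (LinearMap.id : (R ⧸ J ^ m) →ₗ[R] (R ⧸ J ^ m))) =
        a • 𝟙 (RmodPow J m) := rfl
    rw [h2, h3, extPre_smul, extPre_id, map_smul, hy, hh0, ← map_smul, ← mk_eq_smul_one, hak,
      map_zero]
    rfl
  have h2 := Phi_injective' hv (LinearMap.ker p) m hmN
  have h3 : extPre (ModuleCat.ofHom (LinearMap.ker p).subtype) (ModuleCat.of R G) n y = 0 := by
    apply h2
    rw [h1, map_zero]
  obtain ⟨x, hx⟩ := exists_extPre_eq (isSES_of_surjective hp) (ModuleCat.of R G) n y h3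
  refine ⟨x, LinearMap.ext fun c => ?_⟩
  obtain ⟨b, rfl⟩ := Ideal.Quotient.mk_surjective c
  rw [mk_eq_smul_one, map_smul, map_smul, Phi_apply]
  congr 1
  have h4 : cyc J k (R ⧸ J ^ k) (fun a ha c => quot_pow_smul a ha c)
      (Ideal.Quotient.mk (J ^ k) 1) = LinearMap.id := by
    refine LinearMap.ext fun c => ?_
    obtain ⟨b', rfl⟩ := Ideal.Quotient.mk_surjective c
    rw [cyc_mk, ← mk_eq_smul_one, LinearMap.id_apply]
  have h5 : ModuleCat.ofHom (LinearMap.id : (R ⧸ J ^ k) →ₗ[R] (R ⧸ J ^ k)) =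
      𝟙 (RmodPow J k) := rfl
  rw [h4, h5, extPre_id, ← ι_trans J n (ModuleCat.of R G) hkm x]
  exact (congrArg (ι J n (ModuleCat.of R G) m) hx).trans hy

theorem Phi_surjective (hv : Van J n G) : ∀ (b : ℕ) (F : Type u) [AddCommGroup F] [Module R F]
    [Module.Finite R F] (k : ℕ) (hk : ∀ a ∈ J ^ k, ∀ u : F, a • u = 0) (s : Fin b → F),
    Submodule.span R (Set.range s) = ⊤ → Function.Surjective (Phi J n G k F hk) := by
  intro b
  induction b with
  | zero =>
    intro F _ _ _ k hk s hs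
    have h1 : (⊥ : Submodule R F) = ⊤ := by
      rw [← hs, Set.range_eq_empty, Submodule.span_empty]
    haveI : Subsingleton F := by
      have := subsingleton_of_bot_eq_top h1
      exact (Submodule.subsingleton_iff R).mp this
    intro h
    exact ⟨0, LinearMap.ext fun w => by rw [Subsingleton.elim w 0, map_zero, map_zero]⟩
  | succ b ih =>
    intro F _ _ _ k hk s hs
    let F'' : Submodule R F := Submodule.span R (Set.range (fun i : Fin b => s i.succ))
    let s'' : Fin b → F'' := fun i => ⟨s i.succ, Submodule.subset_span ⟨i, rfl⟩⟩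
    have hs'' : Submodule.span R (Set.range s'') = ⊤ := by
      apply Submodule.map_injective_of_injective F''.injective_subtype
      rw [Submodule.map_span, Submodule.map_subtype_top, ← Set.range_comp]
      rfl
    have hkF'' : ∀ a ∈ J ^ k, ∀ v : F'', a • v = 0 := fun a ha v => Subtype.ext (hk a ha v.1)
    have hF'' := ih F'' k hkF'' s'' hs''
    have hcyc := Phi_cyclic_surjective (J := J) (n := n) (G := G) hv k
    have hprod := Phi_surjective_prod _ hkF'' hcyc hF''
    let p : ((R ⧸ J ^ k) × F'') →ₗ[R] F := (cyc J k F hk (s 0)).coprod F''.subtype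
    have hp : Function.Surjective p := by
      rw [← LinearMap.range_eq_top, eq_top_iff, ← hs, Submodule.span_le]
      rintro _ ⟨i, rfl⟩
      refine Fin.cases ?_ (fun j => ?_) i
      · refine ⟨(Ideal.Quotient.mk (J ^ k) 1, 0), ?_⟩
        change cyc J k F hk (s 0) (Ideal.Quotient.mk (J ^ k) 1) + F''.subtype 0 = s 0
        rw [cyc_mk, one_smul, map_zero, add_zero]
      · refine ⟨(0, s'' j), ?_⟩
        change cyc J k F hk (s 0) 0 + F''.subtype (s'' j) = s j.succ
        rw [map_zero, zero_add]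
        rfl
    exact Phi_surjective_of_quotient _ hk p hp hprod (Phi_injective' hv _ k _)

/-- the representability isomorphism -/
theorem nonempty_equiv (hv : Van J n G) (F : Type u) [AddCommGroup F] [Module R F]
    [Module.Finite R F] (k : ℕ) (hk : ∀ a ∈ J ^ k, ∀ u : F, a • u = 0) :
    Nonempty (Ext (ModuleCat.of R F) (ModuleCat.of R G) n ≃ₗ[R] (F →ₗ[R] H J n G)) := by
  obtain ⟨b, s, hs⟩ := Module.Finite.exists_fin (R := R) (M := F)
  exact ⟨LinearEquiv.ofBijective (Phi J n G k F hk)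
    ⟨Phi_injective' hv F k hk, Phi_surjective hv b F k hk s hs⟩⟩

end Surj

end Groth.Agent.Helper8.ExtRep
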