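import Groth.Agent.Lib.Helper8.LOC2
import Mathlib.Algebra.FiveLemma
import Mathlib.RingTheory.Flat.Basic

/-!
# Flat base change of `Hom` in the derived category, part 1 (helper8)

Abstract base change data `g : Y ⟶ Y'`, `ρ : B →ₗ[A] End(Y')`; the comparison map
`Lam d K : B ⊗[A] Hom(K, Y) → Hom(K, Y')`, `b ⊗ f ↦ f ≫ g ≫ ρ b`; four lemmas.
-/

set_option autoImplicit false

open CategoryTheory CategoryTheory.Limits Opposite Pretriangulated

universe u

namespace Groth.Agent.Helper8.FBC

open DerivedCategory TensorProduct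

attribute [local instance] HasDerivedCategory.standard

variable {A : Type u} [CommRing A] (B : Type u) [CommRing B] [Algebra A B]

/-- base change data -/
structure BCData (Y Y' : Dual.D A) where
  g : Y ⟶ Y'
  ρ : B →ₗ[A] (Y' ⟶ Y')

variable {B} {Y Y' : Dual.D A} (d : BCData B Y Y')

/-- the comparison map `B ⊗ Hom(K, Y) → Hom(K, Y')` -/
noncomputable def Lam (K : Dual.D A) : B ⊗[A] (K ⟶ Y) →ₗ[A] (K ⟶ Y') :=
  TensorProduct.lift (LinearMap.mk₂ A (fun (b : B) (f : K ⟶ Y) => f ≫ d.g ≫ d.ρ b)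
    (fun b b' f => by rw [map_add, Preadditive.comp_add, Preadditive.comp_add])
    (fun a b f => by rw [map_smul, Linear.comp_smul, Linear.comp_smul])
    (fun b f f' => by rw [Preadditive.add_comp])
    (fun a b f => by rw [Linear.smul_comp]))

theorem Lam_tmul (K : Dual.D A) (b : B) (f : K ⟶ Y) :
    Lam d K (b ⊗ₜ[A] f) = f ≫ d.g ≫ d.ρ b := by
  unfold Lam
  rw [TensorProduct.lift.tmul]
  rfl

/-- naturality in `K` -/
theorem Lam_natural {K K' : Dual.D A} (u : K' ⟶ K) :
    Lam d K' ∘ₗ LinearMap.lTensor B (Linear.leftComp A Y u) =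
      Linear.leftComp A Y' u ∘ₗ Lam d K := by
  apply TensorProduct.ext'
  intro b f
  rw [LinearMap.comp_apply, LinearMap.comp_apply, LinearMap.lTensor_tmul, Lam_tmul, Lam_tmul,
    Linear.leftComp_apply, Linear.leftComp_apply, Category.assoc]

/-- injectivity of the comparison map -/
def LI (K : Dual.D A) : Prop := Function.Injective (Lam d K)

/-- surjectivity of the comparison map -/
def LS (K : Dual.D A) : Prop := Function.Surjective (Lam d K)

variable {d}

theorem LI_of_iso {K K' : Dual.D A} (e : K ≅ K') (h : LI d K) : LI d K' := by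
  have hnat := Lam_natural d e.hom
  have hinj : Function.Injective (LinearMap.lTensor B (Linear.leftComp A Y e.hom)) := by
    have h1 : (LinearMap.lTensor B (Linear.leftComp A Y e.inv)) ∘ₗ
        (LinearMap.lTensor B (Linear.leftComp A Y e.hom)) = LinearMap.id := by
      rw [← LinearMap.lTensor_comp]
      have : Linear.leftComp A Y e.inv ∘ₗ Linear.leftComp A Y e.hom = LinearMap.id := by
        ext f
        simp
      rw [this, LinearMap.lTensor_id]
    exact Function.LeftInverse.injective (fun x => by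
      have := LinearMap.congr_fun h1 x
      simpa using this)
  have h2 : Function.Injective (Linear.leftComp A Y' e.hom ∘ₗ Lam d K') := by
    rw [← hnat]
    exact h.comp hinj
  rw [LinearMap.coe_comp] at h2
  exact Function.Injective.of_comp h2

theorem LS_of_iso {K K' : Dual.D A} (e : K ≅ K') (h : LS d K) : LS d K' := by
  have hnat := Lam_natural d e.inv
  have hsurj : Function.Surjective (Linear.leftComp A Y' e.inv) := by
    intro f
    exact ⟨e.hom ≫ f, by simp⟩
  have h2 : Function.Surjective (Lam d K' ∘ₗ LinearMap.lTensor B (Linear.leftComp A Y e.inv)) := by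
    rw [hnat]
    exact hsurj.comp h
  rw [LinearMap.coe_comp] at h2
  exact Function.Surjective.of_comp h2

theorem LI_of_isZero {K : Dual.D A} (hK : IsZero K) : LI d K := by
  intro x y _
  have : Subsingleton (K ⟶ Y) := ⟨fun f g => hK.eq_of_src f g⟩
  exact Subsingleton.elim x y

theorem LS_of_isZero {K : Dual.D A} (hK : IsZero K) : LS d K := by
  intro f
  exact ⟨0, by rw [map_zero]; exact hK.eq_of_src _ _⟩

section Exact

variable (T : Triangle (Dual.D A)) (hT : T ∈ distTriang (Dual.D A)) (Z : Dual.D A)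

include hT

theorem exact₂ : Function.Exact (Linear.leftComp A Z T.mor₂) (Linear.leftComp A Z T.mor₁) := by
  intro f
  constructor
  · intro hf
    obtain ⟨g, hg⟩ := Triangle.yoneda_exact₂ T hT f hf
    exact ⟨g, hg.symm⟩
  · rintro ⟨g, rfl⟩
    show T.mor₁ ≫ T.mor₂ ≫ g = 0
    rw [← Category.assoc, comp_distTriang_mor_zero₁₂ T hT, zero_comp]

theorem exact₃ : Function.Exact (Linear.leftComp A Z T.mor₃) (Linear.leftComp A Z T.mor₂) := by
  intro f
  constructor
  · intro hf
    obtain ⟨g, hg⟩ := Triangle.yoneda_exact₃ T hT f hf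
    exact ⟨g, hg.symm⟩
  · rintro ⟨g, rfl⟩
    show T.mor₂ ≫ T.mor₃ ≫ g = 0
    rw [← Category.assoc, comp_distTriang_mor_zero₂₃ T hT, zero_comp]

theorem exact₁ : Function.Exact (Linear.leftComp A Z (T.mor₁⟦(1 : ℤ)⟧'))
    (Linear.leftComp A Z T.mor₃) := by
  intro f
  constructor
  · intro hf
    obtain ⟨g, hg⟩ := Triangle.yoneda_exact₃ T.rotate (rot_of_distTriang T hT) f hf
    let g' : T.obj₂⟦(1 : ℤ)⟧ ⟶ Z := g
    have hg' : f = (-T.mor₁⟦(1 : ℤ)⟧') ≫ g' := hg
    refine ⟨-g', ?_⟩
    rw [hg']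
    show T.mor₁⟦(1 : ℤ)⟧' ≫ (-g') = _
    rw [Preadditive.comp_neg, Preadditive.neg_comp]
  · rintro ⟨g, rfl⟩
    show T.mor₃ ≫ T.mor₁⟦(1 : ℤ)⟧' ≫ g = 0
    rw [← Category.assoc, comp_distTriang_mor_zero₃₁ T hT, zero_comp]

end Exact

variable [Module.Flat A B]

/-- the four lemma: injectivity at the third vertex -/
theorem LI_obj₃ (T : Triangle (Dual.D A)) (hT : T ∈ distTriang (Dual.D A))
    (h2 : LI d T.obj₂) (h2s : LS d (T.obj₂⟦(1 : ℤ)⟧)) (h1s : LI d (T.obj₁⟦(1 : ℤ)⟧)) :
    LI d T.obj₃ :=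
  LinearMap.injective_of_surjective_of_injective_of_injective
    (LinearMap.lTensor B (Linear.leftComp A Y (T.mor₁⟦(1 : ℤ)⟧')))
    (LinearMap.lTensor B (Linear.leftComp A Y T.mor₃))
    (LinearMap.lTensor B (Linear.leftComp A Y T.mor₂))
    (Linear.leftComp A Y' (T.mor₁⟦(1 : ℤ)⟧')) (Linear.leftComp A Y' T.mor₃)
    (Linear.leftComp A Y' T.mor₂)
    (Lam d _) (Lam d _) (Lam d _) (Lam d _)
    (Lam_natural d _).symm (Lam_natural d _).symm (Lam_natural d _).symm
    (Module.Flat.lTensor_exact B (exact₁ T hT Y))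
    (Module.Flat.lTensor_exact B (exact₃ T hT Y))
    (exact₁ T hT Y') h2s h1s h2

/-- the four lemma: surjectivity at the third vertex -/
theorem LS_obj₃ (T : Triangle (Dual.D A)) (hT : T ∈ distTriang (Dual.D A))
    (h2 : LS d T.obj₂) (h1 : LI d T.obj₁) (h1s : LS d (T.obj₁⟦(1 : ℤ)⟧)) :
    LS d T.obj₃ :=
  LinearMap.surjective_of_surjective_of_surjective_of_injective
    (LinearMap.lTensor B (Linear.leftComp A Y T.mor₃))
    (LinearMap.lTensor B (Linear.leftComp A Y T.mor₂))
    (LinearMap.lTensor B (Linear.leftComp A Y T.mor₁))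
    (Linear.leftComp A Y' T.mor₃) (Linear.leftComp A Y' T.mor₂) (Linear.leftComp A Y' T.mor₁)
    (Lam d _) (Lam d _) (Lam d _) (Lam d _)
    (Lam_natural d _).symm (Lam_natural d _).symm (Lam_natural d _).symm
    (Module.Flat.lTensor_exact B (exact₂ T hT Y))
    (exact₃ T hT Y') (exact₂ T hT Y') h1s h2 h1

end Groth.Agent.Helper8.FBC
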