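import Groth.Agent.Lib.Helper8.FBC1

/-!
# Flat base change of `Hom` in the derived category, part 2 (helper8)

Good base change data (base change on all cohomology modules, bounded below); the dévissage:
for good data and `K` bounded with finite cohomology, `Lam d K` is bijective.
-/

set_option autoImplicit false

open CategoryTheory CategoryTheory.Limits Opposite Pretriangulated

universe u

namespace Groth.Agent.Helper8.FBC

open DerivedCategory TensorProduct

attribute [local instance] HasDerivedCategory.standard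

variable {A : Type u} [CommRing A] {B : Type u} [CommRing B] [Algebra A B]

theorem lTensor_bijective {M N : Type*} [AddCommGroup M] [Module A M] [AddCommGroup N]
    [Module A N] (f : M →ₗ[A] N) (hf : Function.Bijective f) :
    Function.Bijective (LinearMap.lTensor B f) :=
  (LinearEquiv.lTensor B (LinearEquiv.ofBijective f hf)).bijective

variable {Y Y' : Dual.D A} (d : BCData B Y Y')

/-- the comparison map on cohomology -/
noncomputable def LamH (j : ℤ) :
    B ⊗[A] ((homologyFunctor (ModuleCat.{u} A) j).obj Y) →ₗ[A]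
      ((homologyFunctor (ModuleCat.{u} A) j).obj Y') :=
  TensorProduct.lift (LinearMap.mk₂ A
    (fun (b : B) (x : (homologyFunctor (ModuleCat.{u} A) j).obj Y) =>
      ((homologyFunctor (ModuleCat.{u} A) j).map (d.ρ b)).hom
        (((homologyFunctor (ModuleCat.{u} A) j).map d.g).hom x))
    (fun b b' x => by rw [map_add, Functor.map_add]; rfl)
    (fun a b x => by rw [map_smul, Groth.Agent.Helper8.RFin.homology_map_smul]; rfl)
    (fun b x x' => by rw [map_add, map_add])
    (fun a b x => by rw [map_smul, map_smul]))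

theorem LamH_tmul (j : ℤ) (b : B) (x : (homologyFunctor (ModuleCat.{u} A) j).obj Y) :
    LamH d j (b ⊗ₜ[A] x) = ((homologyFunctor (ModuleCat.{u} A) j).map (d.ρ b)).hom
        (((homologyFunctor (ModuleCat.{u} A) j).map d.g).hom x) := by
  unfold LamH
  rw [TensorProduct.lift.tmul]
  rfl

/-- good base change data -/
structure Good (a : ℤ) (d : BCData B Y Y') : Prop where
  bij : ∀ j : ℤ, Function.Bijective (LamH d j)
  src : ∀ j : ℤ, j < a → IsZero ((homologyFunctor (ModuleCat.{u} A) j).obj Y)
  tgt : ∀ j : ℤ, j < a → IsZero ((homologyFunctor (ModuleCat.{u} A) j).obj Y')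

/-- shifted data -/
noncomputable def BCData.shift (n : ℤ) : BCData B (Y⟦n⟧) (Y'⟦n⟧) where
  g := d.g⟦n⟧'
  ρ := Functor.mapLinearMap A (shiftFunctor (Dual.D A) n) ∘ₗ d.ρ

theorem BCData.shift_g (n : ℤ) : (d.shift n).g = d.g⟦n⟧' := rfl

theorem BCData.shift_ρ (n : ℤ) (b : B) : (d.shift n).ρ b = (d.ρ b)⟦n⟧' := rfl

/-- the shift isomorphism on cohomology -/
noncomputable def eH (n j : ℤ) (Z : Dual.D A) :
    (homologyFunctor (ModuleCat.{u} A) j).obj (Z⟦n⟧) ≅
      (homologyFunctor (ModuleCat.{u} A) (n + j)).obj Z :=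
  ((homologyFunctor (ModuleCat.{u} A) 0).shiftIso n j (n + j) rfl).app Z

theorem eH_natural (n j : ℤ) {Z Z' : Dual.D A} (f : Z ⟶ Z') :
    (homologyFunctor (ModuleCat.{u} A) j).map (f⟦n⟧') ≫ (eH n j Z').hom =
      (eH n j Z).hom ≫ (homologyFunctor (ModuleCat.{u} A) (n + j)).map f :=
  ((homologyFunctor (ModuleCat.{u} A) 0).shiftIso n j (n + j) rfl).hom.naturality f

theorem eH_natural_apply (n j : ℤ) {Z Z' : Dual.D A} (f : Z ⟶ Z')
    (x : (homologyFunctor (ModuleCat.{u} A) j).obj (Z⟦n⟧)) :
    (eH n j Z').hom.hom (((homologyFunctor (ModuleCat.{u} A) j).map (f⟦n⟧')).hom x) =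
      ((homologyFunctor (ModuleCat.{u} A) (n + j)).map f).hom ((eH n j Z).hom.hom x) := by
  have h := congrArg (fun t => t.hom x) (eH_natural n j f)
  simpa only [ModuleCat.hom_comp, LinearMap.comp_apply] using h

theorem LamH_shift (n j : ℤ) :
    (eH n j Y').hom.hom ∘ₗ LamH (d.shift n) j =
      LamH d (n + j) ∘ₗ LinearMap.lTensor B (eH n j Y).hom.hom := by
  apply TensorProduct.ext'
  intro b x
  rw [LinearMap.comp_apply, LinearMap.comp_apply, LinearMap.lTensor_tmul, LamH_tmul, LamH_tmul,
    BCData.shift_g, BCData.shift_ρ, eH_natural_apply, eH_natural_apply]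

variable {d}

theorem Good.shift {a : ℤ} (hd : Good a d) (n : ℤ) : Good (a - n) (d.shift n) := by
  refine ⟨fun j => ?_, fun j hj => ?_, fun j hj => ?_⟩
  · have h := LamH_shift d n j
    have hb1 : Function.Bijective (eH n j Y').hom.hom :=
      ((eH n j Y').toLinearEquiv).bijective
    have hb2 : Function.Bijective (LinearMap.lTensor B (eH n j Y).hom.hom) :=
      lTensor_bijective _ ((eH n j Y).toLinearEquiv).bijective
    have h3 : Function.Bijective ((eH n j Y').hom.hom ∘ₗ LamH (d.shift n) j) := by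
      rw [h, LinearMap.coe_comp]
      exact (hd.bij (n + j)).comp hb2
    rw [LinearMap.coe_comp] at h3
    exact (Function.Bijective.of_comp_iff' hb1 _).mp h3
  · exact IsZero.of_iso (hd.src (n + j) (by omega)) (eH n j Y)
  · exact IsZero.of_iso (hd.tgt (n + j) (by omega)) (eH n j Y')

/-- the base case `K = A[0]` -/
theorem Lam_inD_self_bijective {a : ℤ} (hd : Good a d) :
    Function.Bijective (Lam d (Dual.inD A A)) := by
  have h : (Groth.Agent.Helper8.LD.evHom Y') ∘ₗ Lam d (Dual.inD A A) =
      LamH d 0 ∘ₗ LinearMap.lTensor B (Groth.Agent.Helper8.LD.evHom Y) := by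
    apply TensorProduct.ext'
    intro b f
    rw [LinearMap.comp_apply, LinearMap.comp_apply, LinearMap.lTensor_tmul, Lam_tmul, LamH_tmul,
      ← Category.assoc, Groth.Agent.Helper8.LD.evHom_comp, Groth.Agent.Helper8.LD.evHom_comp]
  have hb2 : Function.Bijective
      (LinearMap.lTensor B (Groth.Agent.Helper8.LD.evHom Y)) :=
    lTensor_bijective _ (Groth.Agent.Helper8.LD.evHom_bijective Y)
  have h3 : Function.Bijective ((Groth.Agent.Helper8.LD.evHom Y') ∘ₗ Lam d (Dual.inD A A)) := by
    rw [h, LinearMap.coe_comp]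
    exact (hd.bij 0).comp hb2
  rw [LinearMap.coe_comp] at h3
  exact (Function.Bijective.of_comp_iff' (Groth.Agent.Helper8.LD.evHom_bijective Y') _).mp h3

section ShiftK

variable (K : Dual.D A) (n : ℤ)

/-- `Hom(K⟦n⟧, Z) → Hom(K, Z⟦-n⟧)` -/
noncomputable def sig (Z : Dual.D A) : (K⟦n⟧ ⟶ Z) →ₗ[A] (K ⟶ Z⟦-n⟧) :=
  Linear.leftComp A _ ((shiftFunctorCompIsoId (Dual.D A) n (-n) (by omega)).app K).inv ∘ₗ
    Functor.mapLinearMap A (shiftFunctor (Dual.D A) (-n))

theorem sig_apply (Z : Dual.D A) (f : K⟦n⟧ ⟶ Z) :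
    sig K n Z f = ((shiftFunctorCompIsoId (Dual.D A) n (-n) (by omega)).app K).inv ≫ f⟦-n⟧' :=
  rfl

theorem sig_bijective (Z : Dual.D A) : Function.Bijective (sig K n Z) := by
  constructor
  · intro f f' h
    rw [sig_apply, sig_apply, cancel_epi] at h
    exact (shiftFunctor (Dual.D A) (-n)).map_injective h
  · intro f
    refine ⟨(shiftFunctor (Dual.D A) (-n)).preimage
      (((shiftFunctorCompIsoId (Dual.D A) n (-n) (by omega)).app K).hom ≫ f), ?_⟩
    rw [sig_apply, Functor.map_preimage, Iso.inv_hom_id_assoc]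

theorem Lam_sig :
    Lam (d.shift (-n)) K ∘ₗ LinearMap.lTensor B (sig K n Y) = sig K n Y' ∘ₗ Lam d (K⟦n⟧) := by
  apply TensorProduct.ext'
  intro b f
  rw [LinearMap.comp_apply, LinearMap.comp_apply, LinearMap.lTensor_tmul, Lam_tmul, Lam_tmul,
    sig_apply, sig_apply, BCData.shift_g, BCData.shift_ρ, Functor.map_comp, Functor.map_comp,
    Category.assoc]

variable {K n}

theorem LI_shift (h : LI (d.shift (-n)) K) : LI d (K⟦n⟧) := by
  have h1 : Function.Injective (sig K n Y' ∘ₗ Lam d (K⟦n⟧)) := by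
    rw [← Lam_sig, LinearMap.coe_comp]
    exact h.comp (lTensor_bijective _ (sig_bijective K n Y)).1
  rw [LinearMap.coe_comp] at h1
  exact Function.Injective.of_comp h1

theorem LS_shift (h : LS (d.shift (-n)) K) : LS d (K⟦n⟧) := by
  have h1 : Function.Surjective (sig K n Y' ∘ₗ Lam d (K⟦n⟧)) := by
    rw [← Lam_sig, LinearMap.coe_comp]
    exact h.comp (lTensor_bijective _ (sig_bijective K n Y)).2
  rw [LinearMap.coe_comp] at h1
  exact (Function.Surjective.of_comp_iff' (sig_bijective K n Y') _).mp h1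

end ShiftK

variable (B)

/-- the property proved by dévissage -/
def PP (K : Dual.D A) : Prop :=
  ∀ (a : ℤ) {Y Y' : Dual.D A} (d : BCData B Y Y'), Good a d → LI d K ∧ LS d K

variable {B}

theorem PP_shift {K : Dual.D A} (h : PP B K) (n : ℤ) : PP B (K⟦n⟧) := by
  intro a Y Y' d hd
  obtain ⟨h1, h2⟩ := h _ _ (hd.shift (-n))
  exact ⟨LI_shift h1, LS_shift h2⟩

variable [Module.Flat A B]

theorem PP_thickLike : Groth.Agent.Helper11.DC.ThickLike (PP B (A := A)) where
  iso e h := fun a _ _ d hd => ⟨LI_of_iso e (h a d hd).1, LS_of_iso e (h a d hd).2⟩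
  shift K n h := PP_shift h n
  ext T hT h1 h3 := by
    intro a Y Y' d hd
    have hT' := inv_rot_of_distTriang T hT
    have h1s := PP_shift h1 1
    have h3s := PP_shift (PP_shift h3 (-1)) 1
    exact ⟨LI_obj₃ T.invRotate hT' (h1 a d hd).1 (h1s a d hd).2 (h3s a d hd).1,
      LS_obj₃ T.invRotate hT' (h1 a d hd).2 (PP_shift h3 (-1) a d hd).1 (h3s a d hd).2⟩
  zero K hK := fun _ _ _ d _ => ⟨LI_of_isZero hK, LS_of_isZero hK⟩

omit [Module.Flat A B] in
theorem PP_inD_self : PP B (Dual.inD A A) :=
  fun _ _ _ _ hd => ⟨(Lam_inD_self_bijective hd).1, (Lam_inD_self_bijective hd).2⟩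

theorem PP_fin (n : ℕ) : PP B (Dual.inD A (Fin n → A)) := by
  induction n with
  | zero =>
    apply PP_thickLike.zero
    exact Functor.map_isZero _ (ModuleCat.isZero_of_subsingleton _)
  | succ n ih =>
    exact PP_thickLike.ext _
      (Groth.Agent.Helper8.LOC.isSES_fin n).shortExact.singleTriangle_distinguished PP_inD_self ih

section Noeth

variable [IsNoetherianRing A]

theorem PP_inD_aux (n : ℕ) : ∀ (a : ℤ) {Y Y' : Dual.D A} (d : BCData B Y Y'), Good a d →
    1 - (n : ℤ) ≤ a → ∀ (M : Type u) [AddCommGroup M] [Module A M] [Module.Finite A M],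
    LI d (Dual.inD A M) ∧ LS d (Dual.inD A M) := by
  induction n with
  | zero =>
    intro a Y Y' d hd ha M _ _ _
    constructor
    · intro x y _
      have : Subsingleton (Dual.inD A M ⟶ Y) := ⟨fun f g => by
        rw [Groth.Agent.Helper8.LOC.hom_inD_eq_zero M Y (fun j hj => hd.src j (by omega)) f,
          Groth.Agent.Helper8.LOC.hom_inD_eq_zero M Y (fun j hj => hd.src j (by omega)) g]⟩
      exact Subsingleton.elim x y
    · intro f'
      refine ⟨0, ?_⟩
      rw [map_zero]
      exact (Groth.Agent.Helper8.LOC.hom_inD_eq_zero M Y'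
        (fun j hj => hd.tgt j (by omega)) f').symm
  | succ n ih =>
    intro a Y Y' d hd ha
    have hd1 : Good (a - (-1)) (d.shift (-1)) := hd.shift (-1)
    have ih' := fun (M : Type u) [AddCommGroup M] [Module A M] [Module.Finite A M] =>
      ih _ _ hd1 (by push_cast at ha; omega) M
    have hLI : ∀ (M : Type u) [AddCommGroup M] [Module A M] [Module.Finite A M],
        LI d (Dual.inD A M) := by
      intro M _ _ _
      obtain ⟨m, π, hπ⟩ := Module.Finite.exists_fin' A M
      have : IsNoetherian A (Fin m → A) := isNoetherian_of_isNoetherianRing_of_finite A _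
      have hses : Groth.Agent.Helper8.LC.IsSES (LinearMap.ker π).subtype π :=
        ⟨Submodule.injective_subtype _, LinearMap.exact_subtype_ker_map π, hπ⟩
      have hT := hses.shortExact.singleTriangle_distinguished
      exact LI_obj₃ _ hT ((PP_fin m) a d hd).1 ((PP_shift (PP_fin m) 1) a d hd).2
        (LI_shift (ih' (LinearMap.ker π)).1)
    intro M _ _ _
    refine ⟨hLI M, ?_⟩
    obtain ⟨m, π, hπ⟩ := Module.Finite.exists_fin' A M
    have : IsNoetherian A (Fin m → A) := isNoetherian_of_isNoetherianRing_of_finite A _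
    have hses : Groth.Agent.Helper8.LC.IsSES (LinearMap.ker π).subtype π :=
      ⟨Submodule.injective_subtype _, LinearMap.exact_subtype_ker_map π, hπ⟩
    have hT := hses.shortExact.singleTriangle_distinguished
    have h2 : LS d (hses.shortExact.singleTriangle).obj₂ := ((PP_fin m) a d hd).2
    have h1 : LI d (hses.shortExact.singleTriangle).obj₁ := hLI (LinearMap.ker π)
    have h1s : LS d ((hses.shortExact.singleTriangle).obj₁⟦(1 : ℤ)⟧) :=
      LS_shift (ih' (LinearMap.ker π)).2
    exact LS_obj₃ (d := d) (hses.shortExact.singleTriangle) hT h2 h1 h1s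

theorem PP_inD (M : Type u) [AddCommGroup M] [Module A M] [Module.Finite A M] :
    PP B (Dual.inD A M) := by
  intro a Y Y' d hd
  exact PP_inD_aux (1 - a).toNat a d hd (by omega) M

/-- **flat base change of `Hom`**: for `K` bounded with finite cohomology -/
theorem PP_of_bounded (K : Dual.D A) (a b : ℤ)
    (hK : ∀ i : ℤ, (i < a ∨ b < i) → IsZero ((homologyFunctor (ModuleCat.{u} A) i).obj K))
    (hfin : ∀ i : ℤ, Module.Finite A (Dual.HD A K i)) : PP B K := by
  refine PP_thickLike.of_homology K a b hK (fun i => ?_)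
  have := hfin i
  exact PP_inD (Dual.HD A K i)

end Noeth

end Groth.Agent.Helper8.FBC
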