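import Groth.Agent.Lib.Helper8.LOC4

/-!
# Localization of `Hom` in the derived category, part 5: the unit is a localization (helper8)

For `B` a localization of `A` at `S`, the cohomology of the unit `Y ⟶ Rd (L Y)` of the
derived adjunction is a localization at `S`.
-/
set_option autoImplicit false
open CategoryTheory CategoryTheory.Limits Opposite Pretriangulated
universe u
namespace Groth.Agent.Helper8.LOC
open DerivedCategory ChangeOfRings
attribute [local instance] HasDerivedCategory.standard
variable {A : Type u} [CommRing A] (S : Submonoid A) (B : Type u) [CommRing B] [Algebra A B]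

/-- `B` with its module structure through `algebraMap` is `B` -/
def compHomEquiv :
    ((ModuleCat.restrictScalars (algebraMap A B)).obj (ModuleCat.of B B)) ≃ₗ[A] B where
  toFun x := x
  invFun x := x
  map_add' _ _ := rfl
  map_smul' a x := by
    show (algebraMap A B a) • (show B from x) = a • (show B from x)
    exact algebraMap_smul B a _
  left_inv _ := rfl
  right_inv _ := rfl

variable (M : ModuleCat.{u} A)

/-- the carrier of `R (E M)` -/
abbrev RE : Type u := ((Rfun (algebraMap A B)).obj ((Efun (algebraMap A B)).obj M))

theorem congr_smul (a : A)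
    (x : TensorProduct A ((ModuleCat.restrictScalars (algebraMap A B)).obj (ModuleCat.of B B)) M) :
    TensorProduct.congr (compHomEquiv B) (LinearEquiv.refl A M) (a • @id (RE B M) x : RE B M) =
      a • TensorProduct.congr (compHomEquiv B) (LinearEquiv.refl A M) x := by
  refine TensorProduct.induction_on
    (motive := fun x => TensorProduct.congr (compHomEquiv B) (LinearEquiv.refl A M)
      (a • @id (RE B M) x : RE B M) =
      a • TensorProduct.congr (compHomEquiv B) (LinearEquiv.refl A M) x) x ?_ ?_ ?_
  · have h1 : (a • @id (RE B M) 0 : RE B M) = @id (RE B M) 0 := smul_zero a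
    refine (congrArg _ h1).trans ?_
    rw [map_zero, smul_zero]
    exact map_zero _
  · intro b' m
    have h1 : (a • @id (RE B M) (b' ⊗ₜ[A] m) : RE B M) = @id (RE B M) ((a • b') ⊗ₜ[A] m) := by
      rfl
    refine (congrArg _ h1).trans ?_
    show TensorProduct.congr (compHomEquiv B) (LinearEquiv.refl A M) ((a • b') ⊗ₜ[A] m) = _
    rw [TensorProduct.congr_tmul, TensorProduct.congr_tmul, map_smul, TensorProduct.smul_tmul']
  · intro x y hx hy
    have h1 : (a • @id (RE B M) (x + y) : RE B M) =
        (a • @id (RE B M) x : RE B M) + (a • @id (RE B M) y : RE B M) := smul_add a _ _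
    refine (congrArg _ h1).trans ?_
    rw [map_add, smul_add]
    refine Eq.trans ?_ (congrArg₂ (· + ·) hx hy)
    exact map_add _ _ _

/-- comparison of `R (E M)` with the tensor product `B ⊗[A] M` -/
noncomputable def unitCompare : RE B M →ₗ[A] TensorProduct A B M where
  toFun x := TensorProduct.congr (compHomEquiv B) (LinearEquiv.refl A M) x
  map_add' _ _ := map_add _ _ _
  map_smul' a x := congr_smul B M a x

theorem unitCompare_bijective : Function.Bijective (unitCompare B M) :=
  (TensorProduct.congr (compHomEquiv B) (LinearEquiv.refl A M)).bijective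

theorem unitCompare_comp :
    unitCompare B M ∘ₗ ((ModuleCat.extendRestrictScalarsAdj (algebraMap A B)).unit.app M).hom =
      TensorProduct.mk A B M 1 := by
  ext m
  rfl

variable [IsLocalization S B]

theorem isLocalizedModule_unit :
    IsLocalizedModule S ((ModuleCat.extendRestrictScalarsAdj (algebraMap A B)).unit.app M).hom := by
  have h := IsLocalization.tensorProduct_isLocalizedModule S B (M := M)
  rw [← unitCompare_comp] at h
  exact (IsLocalizedModule.comp_iff_of_bijective_left S (unitCompare B M)
    (unitCompare_bijective B M)).mp h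

section Cx

theorem isLocalizedModule_comp_iso {M N P : ModuleCat.{u} A} (f : M ⟶ N) (g : N ⟶ P) [IsIso g]
    (hf : IsLocalizedModule S f.hom) : IsLocalizedModule S (f ≫ g).hom :=
  isLocalizedModule_of_conj S (f ≫ g) f (Iso.refl _) (asIso g).symm
    (by simp) hf

variable [PreservesFiniteLimits (Efun (algebraMap A B))]

theorem isLocalizedModule_homologyMap_unit (X : CochainComplex (ModuleCat.{u} A) ℤ) (j : ℤ) :
    IsLocalizedModule S (HomologicalComplex.homologyMap
      ((mapHCAdj (ModuleCat.extendRestrictScalarsAdj (algebraMap A B))
        (ComplexShape.up ℤ)).unit.app X) j).hom := by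
  have key : HomologicalComplex.homologyMap
      ((mapHCAdj (ModuleCat.extendRestrictScalarsAdj (algebraMap A B))
        (ComplexShape.up ℤ)).unit.app X) j =
      ShortComplex.homologyMap ((X.sc j).mapNatTrans
        (ModuleCat.extendRestrictScalarsAdj (algebraMap A B)).unit) := rfl
  have h := ShortComplex.homologyMap_mapNatTrans (X.sc j)
    (ModuleCat.extendRestrictScalarsAdj (algebraMap A B)).unit
  have h2 : IsLocalizedModule S (ShortComplex.homologyMap ((X.sc j).mapNatTrans
      (ModuleCat.extendRestrictScalarsAdj (algebraMap A B)).unit)).hom := by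
    refine isLocalizedModule_of_conj S _
      ((ModuleCat.extendRestrictScalarsAdj (algebraMap A B)).unit.app (X.sc j).homology)
      ((X.sc j).mapHomologyIso (𝟭 _))
      ((X.sc j).mapHomologyIso (Efun (algebraMap A B) ⋙ Rfun (algebraMap A B))) ?_
      (isLocalizedModule_unit S B _)
    rw [h, Category.assoc, Category.assoc, Iso.inv_hom_id, Category.comp_id]
  rw [key]
  exact h2

theorem isLocalizedModule_homology_unit_Q (X : CochainComplex (ModuleCat.{u} A) ℤ) (j : ℤ) :
    IsLocalizedModule S ((homologyFunctor (ModuleCat.{u} A) j).map
      ((adjD (algebraMap A B)).unit.app (Q.obj X))).hom := by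
  have h0 : (adjD (algebraMap A B)).unit.app (Q.obj X) = _ :=
    derivedAdj_unit_app (ModuleCat.extendRestrictScalarsAdj (algebraMap A B)) X
  rw [h0, Functor.map_comp]
  have h1 : IsLocalizedModule S ((homologyFunctor (ModuleCat.{u} A) j).map (Q.map
      ((mapHCAdj (ModuleCat.extendRestrictScalarsAdj (algebraMap A B))
        (ComplexShape.up ℤ)).unit.app X))).hom :=
    isLocalizedModule_of_conj S _ _ ((homologyFunctorFactors (ModuleCat.{u} A) j).app _)
      ((homologyFunctorFactors (ModuleCat.{u} A) j).app _)
      ((homologyFunctorFactors (ModuleCat.{u} A) j).hom.naturality _)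
      (isLocalizedModule_homologyMap_unit S B X j)
  exact isLocalizedModule_comp_iso S _ _ h1

/-- the cohomology of the unit of the derived adjunction is a localization -/
theorem isLocalizedModule_homology_unit (Y : Dual.D A) (j : ℤ) :
    IsLocalizedModule S ((homologyFunctor (ModuleCat.{u} A) j).map
      ((adjD (algebraMap A B)).unit.app Y)).hom := by
  let X := Q.objPreimage Y
  let e : Q.obj X ≅ Y := Q.objObjPreimageIso Y
  have hnat := (adjD (algebraMap A B)).unit.naturality e.inv
  refine isLocalizedModule_of_conj S _ _
    ((homologyFunctor (ModuleCat.{u} A) j).mapIso e.symm)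
    ((homologyFunctor (ModuleCat.{u} A) j).mapIso
      ((Ld (algebraMap A B) ⋙ Rd (algebraMap A B)).mapIso e.symm)) ?_
    (isLocalizedModule_homology_unit_Q S B X j)
  simp only [Functor.mapIso_hom, Iso.symm_hom, ← Functor.map_comp]
  congr 1
  exact hnat.symm

/-- the unit is a good morphism for bounded below objects -/
theorem goodMor_unit (Y : Dual.D A) (a : ℤ)
    (hY : ∀ j : ℤ, j < a → IsZero ((homologyFunctor (ModuleCat.{u} A) j).obj Y)) :
    GoodMor S a ((adjD (algebraMap A B)).unit.app Y) :=
  GoodMor.mk' a _ (isLocalizedModule_homology_unit S B Y) hY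

end Cx

end Groth.Agent.Helper8.LOC
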