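import Groth.Agent.Lib.Helper8.FBC2
import Groth.Agent.Lib.Helper8.LOC5

/-!
# Flat base change of `Hom` in the derived category, part 3 (helper8)

The concrete base change data attached to a flat ring map `A → B`: `Y' = Rd (Ld Y)`,
`g` the unit of the derived adjunction and `ρ b = Rd (b • 𝟙)`; it is good.
-/

set_option autoImplicit false

open CategoryTheory CategoryTheory.Limits Opposite Pretriangulated

universe u

namespace Groth.Agent.Helper8.FBC

open DerivedCategory TensorProduct ChangeOfRings Groth.Agent.Helper8.LOC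

attribute [local instance] HasDerivedCategory.standard

variable {A : Type u} [CommRing A] (B : Type u) [CommRing B] [Algebra A B]

section Fam

variable {B}

/-- a family of maps `τ b : M → N` exhibits `N` as `B ⊗ M` -/
def IsBCFam {M N : Type u} [AddCommGroup M] [Module A M] [AddCommGroup N] [Module A N]
    (τ : B → (M →ₗ[A] N)) : Prop :=
  ∃ L : B ⊗[A] M →ₗ[A] N, (∀ b m, L (b ⊗ₜ[A] m) = τ b m) ∧ Function.Bijective L

theorem IsBCFam.conj {M N M' N' : Type u} [AddCommGroup M] [Module A M] [AddCommGroup N]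
    [Module A N] [AddCommGroup M'] [Module A M'] [AddCommGroup N'] [Module A N']
    {τ : B → (M →ₗ[A] N)} (h : IsBCFam τ) (τ' : B → (M' →ₗ[A] N'))
    (e₁ : M ≃ₗ[A] M') (e₂ : N ≃ₗ[A] N') (hc : ∀ b m, τ' b (e₁ m) = e₂ (τ b m)) :
    IsBCFam τ' := by
  obtain ⟨L, hL, hbij⟩ := h
  refine ⟨e₂.toLinearMap ∘ₗ L ∘ₗ LinearMap.lTensor B e₁.symm.toLinearMap, fun b m => ?_, ?_⟩
  · rw [LinearMap.comp_apply, LinearMap.comp_apply, LinearMap.lTensor_tmul, hL]
    have := hc b (e₁.symm m)
    rw [e₁.apply_symm_apply] at this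
    exact this.symm
  · rw [LinearMap.coe_comp, LinearMap.coe_comp]
    exact e₂.bijective.comp (hbij.comp (lTensor_bijective _ e₁.symm.bijective))

theorem IsBCFam.bijective_of_tmul {M N : Type u} [AddCommGroup M] [Module A M] [AddCommGroup N]
    [Module A N] {τ : B → (M →ₗ[A] N)} (h : IsBCFam τ) (L' : B ⊗[A] M →ₗ[A] N)
    (hL' : ∀ b m, L' (b ⊗ₜ[A] m) = τ b m) : Function.Bijective L' := by
  obtain ⟨L, hL, hbij⟩ := h
  have : L' = L := by
    apply TensorProduct.ext'
    intro b m
    rw [hL, hL']
  rw [this]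
  exact hbij

end Fam

/-- multiplication by `b` on the extension of scalars functor -/
noncomputable def beta (b : B) : Efun (algebraMap A B) ⟶ Efun (algebraMap A B) where
  app M := b • 𝟙 _
  naturality M N f := by
    rw [Linear.comp_smul, Linear.smul_comp, Category.comp_id, Category.id_comp]

/-- the natural transformation `m ↦ b ⊗ m` -/
noncomputable def theta (b : B) :
    𝟭 (ModuleCat.{u} A) ⟶ Efun (algebraMap A B) ⋙ Rfun (algebraMap A B) :=
  (ModuleCat.extendRestrictScalarsAdj (algebraMap A B)).unit ≫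
    Functor.whiskerRight (beta B b) (Rfun (algebraMap A B))

theorem theta_app (b : B) (M : ModuleCat.{u} A) :
    (theta B b).app M = (ModuleCat.extendRestrictScalarsAdj (algebraMap A B)).unit.app M ≫
      (Rfun (algebraMap A B)).map (b • 𝟙 ((Efun (algebraMap A B)).obj M)) := rfl

theorem unitCompare_theta (b : B) (M : ModuleCat.{u} A) (m : M) :
    unitCompare B M (((theta B b).app M).hom m) = b ⊗ₜ[A] m := by
  have h1 : ((theta B b).app M).hom m = ((b * 1 : B) ⊗ₜ[A, algebraMap A B] m) := rfl
  rw [h1, mul_one]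
  rfl

/-- the module level statement: `b, m ↦ b ⊗ m` exhibits `R (E M)` as `B ⊗ M` -/
theorem isBCFam_theta (M : ModuleCat.{u} A) :
    IsBCFam (fun b : B => ((theta B b).app M).hom) := by
  let e : B ⊗[A] M ≃ₗ[A] RE B M :=
    (LinearEquiv.ofBijective (unitCompare B M) (unitCompare_bijective B M)).symm
  refine ⟨e.toLinearMap, fun b m => ?_, e.bijective⟩
  show e (b ⊗ₜ[A] m) = _
  rw [LinearEquiv.symm_apply_eq]
  exact (unitCompare_theta B b M m).symm

section Cx

variable [PreservesFiniteLimits (Efun (algebraMap A B))]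

/-- the complex-level map `x ↦ b ⊗ x` -/
noncomputable def Theta (b : B) (X : CochainComplex (ModuleCat.{u} A) ℤ) :
    X ⟶ ((Rfun (algebraMap A B)).mapHomologicalComplex (ComplexShape.up ℤ)).obj
      (((Efun (algebraMap A B)).mapHomologicalComplex (ComplexShape.up ℤ)).obj X) :=
  (mapHCAdj (ModuleCat.extendRestrictScalarsAdj (algebraMap A B))
    (ComplexShape.up ℤ)).unit.app X ≫
    ((Rfun (algebraMap A B)).mapHomologicalComplex (ComplexShape.up ℤ)).map (b • 𝟙 _)

theorem homologyMap_Theta (b : B) (X : CochainComplex (ModuleCat.{u} A) ℤ) (j : ℤ) :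
    HomologicalComplex.homologyMap (Theta B b X) j =
      ShortComplex.homologyMap ((X.sc j).mapNatTrans (theta B b)) := rfl

theorem isBCFam_homologyMap_mapNatTrans (S : ShortComplex (ModuleCat.{u} A)) :
    IsBCFam (fun b : B => (ShortComplex.homologyMap (S.mapNatTrans (theta B b))).hom) := by
  have h := isBCFam_theta B S.homology
  refine h.conj _ (S.mapHomologyIso (𝟭 _)).symm.toLinearEquiv
    (S.mapHomologyIso (Efun (algebraMap A B) ⋙ Rfun (algebraMap A B))).symm.toLinearEquiv ?_
  intro b m
  have h1 := ShortComplex.homologyMap_mapNatTrans S (theta B b)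
  have h2 : (S.mapHomologyIso (𝟭 _)).inv ≫ ShortComplex.homologyMap (S.mapNatTrans (theta B b)) =
      (theta B b).app S.homology ≫
        (S.mapHomologyIso (Efun (algebraMap A B) ⋙ Rfun (algebraMap A B))).inv := by
    rw [h1, Iso.inv_hom_id_assoc]
  exact congrArg (fun t => t.hom m) h2

theorem isBCFam_homologyMap_Theta (X : CochainComplex (ModuleCat.{u} A) ℤ) (j : ℤ) :
    IsBCFam (fun b : B => (HomologicalComplex.homologyMap (Theta B b X) j).hom) :=
  isBCFam_homologyMap_mapNatTrans B (X.sc j)

/-- the concrete base change data -/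
noncomputable def dat (Y : Dual.D A) :
    BCData B Y ((Rd (algebraMap A B)).obj ((Ld (algebraMap A B)).obj Y)) where
  g := (adjD (algebraMap A B)).unit.app Y
  ρ :=
    { toFun := fun b => (Rd (algebraMap A B)).map (b • 𝟙 ((Ld (algebraMap A B)).obj Y))
      map_add' := fun b b' => by rw [add_smul, Functor.map_add]
      map_smul' := fun a b => by
        rw [Algebra.smul_def, mul_smul, Rd_map_smul]
        rfl }

theorem dat_g (Y : Dual.D A) : (dat B Y).g = (adjD (algebraMap A B)).unit.app Y := rfl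

theorem dat_ρ (Y : Dual.D A) (b : B) :
    (dat B Y).ρ b = (Rd (algebraMap A B)).map (b • 𝟙 ((Ld (algebraMap A B)).obj Y)) := rfl

/-- the comparison isomorphism -/
noncomputable def iotaX (X : CochainComplex (ModuleCat.{u} A) ℤ) :
    Q.obj (((Rfun (algebraMap A B)).mapHomologicalComplex (ComplexShape.up ℤ)).obj
      (((Efun (algebraMap A B)).mapHomologicalComplex (ComplexShape.up ℤ)).obj X)) ≅
      (Rd (algebraMap A B)).obj ((Ld (algebraMap A B)).obj (Q.obj X)) :=
  (Rfun (algebraMap A B)).mapDerivedCategoryFactors.symm.app _ ≪≫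
    (Rd (algebraMap A B)).mapIso ((Efun (algebraMap A B)).mapDerivedCategoryFactors.symm.app X)

theorem dat_comp (b : B) (X : CochainComplex (ModuleCat.{u} A) ℤ) :
    (dat B (Q.obj X)).g ≫ (dat B (Q.obj X)).ρ b = Q.map (Theta B b X) ≫ (iotaX B X).hom := by
  rw [dat_g, dat_ρ]
  have h0 : (adjD (algebraMap A B)).unit.app (Q.obj X) = _ :=
    derivedAdj_unit_app (ModuleCat.extendRestrictScalarsAdj (algebraMap A B)) X
  rw [h0]
  unfold Theta iotaX
  simp only [Functor.map_comp, Category.assoc, Iso.trans_hom, Iso.app_hom, Iso.symm_hom,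
    Functor.mapIso_hom]
  congr 1
  have h1 : (Efun (algebraMap A B)).mapDerivedCategoryFactors.inv.app X ≫
      (b • 𝟙 ((Ld (algebraMap A B)).obj (Q.obj X))) =
      Q.map (b • 𝟙 (((Efun (algebraMap A B)).mapHomologicalComplex (ComplexShape.up ℤ)).obj X)) ≫
        (Efun (algebraMap A B)).mapDerivedCategoryFactors.inv.app X := by
    rw [Linear.comp_smul, Functor.map_smul, CategoryTheory.Functor.map_id, Linear.smul_comp]
    erw [Category.comp_id, Category.id_comp]
  have h2 := (Rfun (algebraMap A B)).mapDerivedCategoryFactors.inv.naturality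
    (b • 𝟙 (((Efun (algebraMap A B)).mapHomologicalComplex (ComplexShape.up ℤ)).obj X))
  have h3 : (Rd (algebraMap A B)).map
      ((Efun (algebraMap A B)).mapDerivedCategoryFactors.inv.app X) ≫
      (Rd (algebraMap A B)).map (b • 𝟙 ((Ld (algebraMap A B)).obj (Q.obj X))) =
      (Rd (algebraMap A B)).map (Q.map
        (b • 𝟙 (((Efun (algebraMap A B)).mapHomologicalComplex (ComplexShape.up ℤ)).obj X))) ≫
      (Rd (algebraMap A B)).map ((Efun (algebraMap A B)).mapDerivedCategoryFactors.inv.app X) := by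
    rw [← Functor.map_comp, ← Functor.map_comp]
    exact congrArg _ h1
  erw [h3]
  rw [← Category.assoc, ← Category.assoc]
  congr 1
  exact h2.symm

theorem isBCFam_dat_Q (X : CochainComplex (ModuleCat.{u} A) ℤ) (j : ℤ) :
    IsBCFam (fun b : B => ((homologyFunctor (ModuleCat.{u} A) j).map
      ((dat B (Q.obj X)).g ≫ (dat B (Q.obj X)).ρ b)).hom) := by
  have h := isBCFam_homologyMap_Theta B X j
  refine h.conj _ ((homologyFunctorFactors (ModuleCat.{u} A) j).app X).symm.toLinearEquiv
    (((homologyFunctorFactors (ModuleCat.{u} A) j).app _).symm ≪≫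
      (homologyFunctor (ModuleCat.{u} A) j).mapIso (iotaX B X)).toLinearEquiv ?_
  intro b m
  rw [dat_comp, Functor.map_comp]
  have h1 := (homologyFunctorFactors (ModuleCat.{u} A) j).inv.naturality (Theta B b X)
  have h2 := congrArg (fun t => (t ≫ (homologyFunctor (ModuleCat.{u} A) j).map
    (iotaX B X).hom).hom m) h1
  exact h2.symm

theorem dat_natural {Y Y' : Dual.D A} (f : Y ⟶ Y') (b : B) :
    f ≫ (dat B Y').g ≫ (dat B Y').ρ b =
      ((dat B Y).g ≫ (dat B Y).ρ b) ≫
        (Rd (algebraMap A B)).map ((Ld (algebraMap A B)).map f) := by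
  rw [dat_g, dat_ρ, dat_g, dat_ρ]
  have h1 := (adjD (algebraMap A B)).unit.naturality f
  have h2 : (Rd (algebraMap A B)).map ((Ld (algebraMap A B)).map f) ≫
      (Rd (algebraMap A B)).map (b • 𝟙 ((Ld (algebraMap A B)).obj Y')) =
      (Rd (algebraMap A B)).map (b • 𝟙 ((Ld (algebraMap A B)).obj Y)) ≫
        (Rd (algebraMap A B)).map ((Ld (algebraMap A B)).map f) := by
    rw [← Functor.map_comp, ← Functor.map_comp, Linear.comp_smul, Linear.smul_comp,
      Category.comp_id, Category.id_comp]
  rw [Category.assoc, ← h2, ← Category.assoc, ← Category.assoc]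
  congr 1

theorem isBCFam_dat (Y : Dual.D A) (j : ℤ) :
    IsBCFam (fun b : B => ((homologyFunctor (ModuleCat.{u} A) j).map
      ((dat B Y).g ≫ (dat B Y).ρ b)).hom) := by
  let X := Q.objPreimage Y
  let e : Q.obj X ≅ Y := Q.objObjPreimageIso Y
  refine (isBCFam_dat_Q B X j).conj _
    ((homologyFunctor (ModuleCat.{u} A) j).mapIso e).toLinearEquiv
    ((homologyFunctor (ModuleCat.{u} A) j).mapIso
      ((Ld (algebraMap A B) ⋙ Rd (algebraMap A B)).mapIso e)).toLinearEquiv ?_
  intro b m
  have h1 := congrArg (fun t => ((homologyFunctor (ModuleCat.{u} A) j).map t).hom m)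
    (dat_natural B e.hom b)
  simp only [Functor.map_comp (homologyFunctor (ModuleCat.{u} A) j) e.hom,
    Functor.map_comp (homologyFunctor (ModuleCat.{u} A) j) ((dat B (Q.obj X)).g ≫ (dat B (Q.obj X)).ρ b)] at h1
  exact h1

/-- the concrete data is good -/
theorem good_dat (Y : Dual.D A) (a : ℤ)
    (hY : ∀ j : ℤ, j < a → IsZero ((homologyFunctor (ModuleCat.{u} A) j).obj Y)) :
    Good a (dat B Y) := by
  have hbij : ∀ j : ℤ, Function.Bijective (LamH (dat B Y) j) := fun j =>
    (isBCFam_dat B Y j).bijective_of_tmul _ (fun b m => by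
      rw [LamH_tmul, Functor.map_comp]
      rfl)
  refine ⟨hbij, hY, fun j hj => ?_⟩
  have h1 : Subsingleton ((homologyFunctor (ModuleCat.{u} A) j).obj Y) :=
    ModuleCat.subsingleton_of_isZero (hY j hj)
  have h2 : Subsingleton (B ⊗[A] ((homologyFunctor (ModuleCat.{u} A) j).obj Y)) := by
    refine ⟨fun x y => ?_⟩
    have key : ∀ z : B ⊗[A] ((homologyFunctor (ModuleCat.{u} A) j).obj Y), z = 0 := by
      intro z
      induction z using TensorProduct.induction_on with
      | zero => rfl
      | tmul b m => rw [Subsingleton.elim m 0, TensorProduct.tmul_zero]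
      | add x y hx hy => rw [hx, hy, add_zero]
    rw [key x, key y]
  have h3 : Subsingleton ((homologyFunctor (ModuleCat.{u} A) j).obj
      ((Rd (algebraMap A B)).obj ((Ld (algebraMap A B)).obj Y))) :=
    (Equiv.ofBijective _ (hbij j)).symm.subsingleton
  exact ModuleCat.isZero_of_subsingleton _

end Cx

end Groth.Agent.Helper8.FBC
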