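import Groth.Agent.Lib.Helper8.FBC5

/-!
# Faithfully flat descent of dualizing complexes (helper8)
-/

set_option autoImplicit false

open CategoryTheory CategoryTheory.Limits Opposite Pretriangulated

universe u

namespace Groth.Agent.Helper8.FBC

open DerivedCategory TensorProduct ChangeOfRings Groth.Agent.Helper8.LOC

attribute [local instance] HasDerivedCategory.standard

variable {A : Type u} [CommRing A] (B : Type u) [CommRing B] [Algebra A B]
  [PreservesFiniteLimits (Efun (algebraMap A B))]

/-- `H^j(L Y) ≃ B ⊗ H^j(Y)` -/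
noncomputable def homologyLdEquiv (Y : Dual.D A) (j : ℤ) :
    (homologyFunctor (ModuleCat.{u} B) j).obj ((Ld (algebraMap A B)).obj Y) ≃ₗ[B]
      B ⊗[A] ((homologyFunctor (ModuleCat.{u} A) j).obj Y) :=
  (homologyLdIso (algebraMap A B) Y j).toLinearEquiv.trans
    (EfunEquiv B ((homologyFunctor (ModuleCat.{u} A) j).obj Y))

variable [IsNoetherianRing A] [Module.FaithfullyFlat A B]

/-- **faithfully flat descent of dualizing complexes** -/
theorem isDualizing_of_Ld (K : Dual.D A)
    (hK : Dual.IsDualizing B ((Ld (algebraMap A B)).obj K)) : Dual.IsDualizing A K := by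
  obtain ⟨a₀, b₀, hab⟩ := exists_isZero_homology _ hK
  obtain ⟨a, b, hinj⟩ := hK.finite_injective_dimension
  have habA : ∀ i : ℤ, (i < a₀ ∨ b₀ < i) →
      IsZero ((homologyFunctor (ModuleCat.{u} A) i).obj K) := by
    intro i hi
    have h1 : Subsingleton ((homologyFunctor (ModuleCat.{u} B) i).obj
        ((Ld (algebraMap A B)).obj K)) := ModuleCat.subsingleton_of_isZero (hab i hi)
    have h2 : Subsingleton (B ⊗[A] ((homologyFunctor (ModuleCat.{u} A) i).obj K)) :=
      (homologyLdEquiv B K i).symm.toEquiv.subsingleton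
    have h3 : Subsingleton ((homologyFunctor (ModuleCat.{u} A) i).obj K) :=
      (Module.FaithfullyFlat.subsingleton_tensorProduct_iff_right A B).mp h2
    exact ModuleCat.isZero_of_subsingleton _
  have hfinA : ∀ i : ℤ, Module.Finite A (Dual.HD A K i) := by
    intro i
    have h1 := hK.finite_cohomology i
    have h2 : Module.Finite B (B ⊗[A] (Dual.HD A K i)) :=
      Module.Finite.equiv (homologyLdEquiv B K i)
    exact Module.Finite.of_finite_tensorProduct_of_faithfullyFlat B
  have hlow : ∀ j : ℤ, j < a₀ → IsZero ((homologyFunctor (ModuleCat.{u} A) j).obj K) :=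
    fun j hj => habA j (Or.inl hj)
  have hamp : DRing.HasInjAmplitudeIn A a b K := by
    refine Groth.Agent.Helper11.DC.injAmp_of_hom_quotient_eq_zero K a b (fun I i hi g => ?_)
    have h1 := hinj (B ⊗[A] (A ⧸ I)) i hi
    have := subsingleton_hom_of_tensor B (A ⧸ I) K a₀ hlow i h1
    exact Subsingleton.elim _ _
  refine ⟨inferInstance, ⟨a, b, ?_⟩, hfinA, ?_, ?_⟩
  · intro N _ _ i hi
    refine ⟨fun x y => ?_⟩
    rw [Groth.Agent.Helper11.DC.hom_eq_zero_of_injAmp _ a b hamp (ModuleCat.of A N) i hi x,
      Groth.Agent.Helper11.DC.hom_eq_zero_of_injAmp _ a b hamp (ModuleCat.of A N) i hi y]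
  · exact toEnd_bijective_of_Ld B K a₀ b₀ habA hfinA hK.toEnd_bijective
  · intro i hi
    have h1 := hK.ext_self_subsingleton i hi
    have h2 := (Iso.homCongr (Iso.refl _)
      (((Ld (algebraMap A B)).commShiftIso i).app K)).subsingleton_congr.mpr h1
    exact subsingleton_of_Ld_hom B K a₀ b₀ habA hfinA (K⟦i⟧) (a₀ - i)
      (isZero_homology_shift K a₀ hlow i) h2

end Groth.Agent.Helper8.FBC
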