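import Groth.Agent.Lib.Helper8.FBC6

/-!
# Flat base change of dualizing complexes: special cases (helper8)
-/

set_option autoImplicit false

open CategoryTheory CategoryTheory.Limits Opposite Pretriangulated

universe u

namespace Groth.Agent.Helper8.FBC

open DerivedCategory TensorProduct ChangeOfRings Groth.Agent.Helper8.LOC IsLocalRing

attribute [local instance] HasDerivedCategory.standard

variable {A : Type u} [CommRing A] (B : Type u) [CommRing B] [Algebra A B]

/-- `B ⊗ A/I ≃ B/J` when `IB = J` -/
noncomputable def tensorQuotEquiv (I : Ideal A) (J : Ideal B)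
    (h : I.map (algebraMap A B) = J) : (B ⊗[A] (A ⧸ I)) ≃ₗ[B] (B ⧸ J) :=
  (Algebra.TensorProduct.quotIdealMapEquivTensorQuot B I).toLinearEquiv.symm.trans
    (Submodule.quotEquivOfEq _ _ h)

variable [PreservesFiniteLimits (Efun (algebraMap A B))]
  [IsNoetherianRing A] [IsNoetherianRing B] [Module.Flat A B]

section Local

variable [IsLocalRing A] [IsLocalRing B]

/-- the local case with `m_A B = m_B` -/
theorem isDualizing_Ld_local
    (hm : (maximalIdeal A).map (algebraMap A B) = maximalIdeal B)
    (ω : Dual.D A) (hω : Dual.IsDualizing A ω) :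
    Dual.IsDualizing B ((Ld (algebraMap A B)).obj ω) := by
  refine isDualizing_Ld_of_maximal B ω hω (fun n hn => ?_)
  have hn' : n = maximalIdeal B := IsLocalRing.eq_maximalIdeal hn
  exact ⟨A ⧸ maximalIdeal A, inferInstance, inferInstance, inferInstance,
    ⟨tensorQuotEquiv B (maximalIdeal A) n (hm.trans hn'.symm)⟩⟩

theorem isNormalized_Ld_local
    (hm : (maximalIdeal A).map (algebraMap A B) = maximalIdeal B)
    (ω : Dual.D A) (hω : Dual.IsDualizing A ω) (hn : Dual.IsNormalized A ω) :
    Dual.IsNormalized B ((Ld (algebraMap A B)).obj ω) := by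
  obtain ⟨a₀, b₀, hab⟩ := exists_isZero_homology ω hω
  have hlow : ∀ j : ℤ, j < a₀ → IsZero ((homologyFunctor (ModuleCat.{u} A) j).obj ω) :=
    fun j hj => hab j (Or.inl hj)
  intro i hi
  have h1 : Subsingleton (Dual.inD A (A ⧸ maximalIdeal A) ⟶ ω⟦i⟧) := hn i hi
  have h2 := subsingleton_hom_tensor B (A ⧸ maximalIdeal A) ω a₀ hlow i h1
  exact subsingleton_hom_of_equiv B (tensorQuotEquiv B (maximalIdeal A) (maximalIdeal B) hm) _ h2

end Local

end Groth.Agent.Helper8.FBC
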