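import Groth.Agent.Lib.Helper8.FBC7

/-!
# Flat base change of dualizing complexes: `A/I = B/IB`, `IB ⊆ rad(B)` (helper8)
-/

set_option autoImplicit false

open CategoryTheory CategoryTheory.Limits Opposite Pretriangulated

universe u

namespace Groth.Agent.Helper8.FBC

open DerivedCategory TensorProduct ChangeOfRings Groth.Agent.Helper8.LOC IsLocalRing

attribute [local instance] HasDerivedCategory.standard

variable {A : Type u} [CommRing A] (B : Type u) [CommRing B] [Algebra A B]

/-- maximal ideals of `B` are extended from `A` when `A → B/IB` is surjective and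
`IB ⊆ rad(B)` -/
theorem map_comap_eq_of_maximal (I : Ideal A)
    (hs : Function.Surjective ((Ideal.Quotient.mk (I.map (algebraMap A B))).comp (algebraMap A B)))
    (hJ : I.map (algebraMap A B) ≤ (⊥ : Ideal B).jacobson) (n : Ideal B) [hn : n.IsMaximal] :
    (n.comap (algebraMap A B)).map (algebraMap A B) = n := by
  have hIn : I.map (algebraMap A B) ≤ n := by
    refine hJ.trans ?_
    rw [Ideal.jacobson]
    exact sInf_le ⟨bot_le, hn⟩
  refine le_antisymm Ideal.map_comap_le (fun b hb => ?_)
  obtain ⟨a, ha⟩ := hs (Ideal.Quotient.mk _ b)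
  rw [RingHom.comp_apply, Ideal.Quotient.eq] at ha
  have ha' : algebraMap A B a - b ∈ n := hIn ha
  have han : algebraMap A B a ∈ n := by
    have := n.add_mem ha' hb
    rwa [sub_add_cancel] at this
  have hIm : I.map (algebraMap A B) ≤ (n.comap (algebraMap A B)).map (algebraMap A B) := by
    apply Ideal.map_mono
    intro x hx
    exact hIn (Ideal.mem_map_of_mem _ hx)
  have h1 : algebraMap A B a ∈ (n.comap (algebraMap A B)).map (algebraMap A B) :=
    Ideal.mem_map_of_mem _ han
  have h2 : b = algebraMap A B a - (algebraMap A B a - b) := by ring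
  rw [h2]
  exact Ideal.sub_mem _ h1 (hIm ha)

variable [PreservesFiniteLimits (Efun (algebraMap A B))]
  [IsNoetherianRing A] [IsNoetherianRing B] [Module.Flat A B]

theorem isDualizing_Ld_of_jacobson (I : Ideal A)
    (hs : Function.Surjective ((Ideal.Quotient.mk (I.map (algebraMap A B))).comp (algebraMap A B)))
    (hJ : I.map (algebraMap A B) ≤ (⊥ : Ideal B).jacobson)
    (ω : Dual.D A) (hω : Dual.IsDualizing A ω) :
    Dual.IsDualizing B ((Ld (algebraMap A B)).obj ω) := by
  refine isDualizing_Ld_of_maximal B ω hω (fun n hn => ?_)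
  exact ⟨A ⧸ n.comap (algebraMap A B), inferInstance, inferInstance, inferInstance,
    ⟨tensorQuotEquiv B (n.comap (algebraMap A B)) n (map_comap_eq_of_maximal B I hs hJ n)⟩⟩

end Groth.Agent.Helper8.FBC
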