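import Groth.Agent.Lib.Helper8.LDual4
import Groth.Agent.Lib.Helper5.HS2

/-!
# Local duality over homomorphic images of Gorenstein local rings (helper8)

Part 5: finite length of local cohomology.
-/

set_option autoImplicit false
universe u

namespace Groth.Agent.Helper8.LDual

open IsLocalRing CategoryTheory Abelian Groth.Agent.Helper8 Groth.Agent.Helper8.LC
  Groth.Agent.Helper8.Canon Groth.Agent.Helper8.Gor
open scoped Pointwise TensorProduct

section General

variable {A : Type*} [CommRing A] [IsLocalRing A]

/-- a module of finite length over a local ring is killed by a power of the maximal ideal -/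
theorem exists_pow_le_annihilator_of_isFiniteLength {X : Type*} [AddCommGroup X] [Module A X]
    (h : IsFiniteLength A X) : ∃ n : ℕ, maximalIdeal A ^ n ≤ Module.annihilator A X := by
  induction h with
  | of_subsingleton =>
    refine ⟨0, fun t _ => ?_⟩
    rw [Module.mem_annihilator]
    intro x
    exact Subsingleton.elim _ _
  | @of_simple_quotient M _ _ N hsimple _ ih =>
    obtain ⟨n, hn⟩ := ih
    refine ⟨n + 1, ?_⟩
    rw [pow_succ, Ideal.mul_le]
    intro t ht s hs
    rw [Module.mem_annihilator]
    intro x
    have hann : Module.annihilator A (M ⧸ N) = maximalIdeal A :=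
      IsLocalRing.eq_maximalIdeal IsSimpleModule.annihilator_isMaximal
    have h1 : s • (Submodule.Quotient.mk x : M ⧸ N) = 0 := by
      have : s ∈ Module.annihilator A (M ⧸ N) := by rw [hann]; exact hs
      exact Module.mem_annihilator.mp this _
    rw [← Submodule.Quotient.mk_smul, Submodule.Quotient.mk_eq_zero] at h1
    have h2 := Module.mem_annihilator.mp (hn ht) ⟨s • x, h1⟩
    have h3 : t • (s • x) = 0 := congrArg Subtype.val h2
    rw [mul_smul]
    exact h3

theorem maximalIdeal_le_radical_annihilator_of_isFiniteLength {X : Type*} [AddCommGroup X]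
    [Module A X] (h : IsFiniteLength A X) :
    maximalIdeal A ≤ (Module.annihilator A X).radical := by
  obtain ⟨n, hn⟩ := exists_pow_le_annihilator_of_isFiniteLength h
  intro a ha
  exact ⟨n, hn (Ideal.pow_mem_pow ha n)⟩

theorem isFiniteLength_of_maximalIdeal_le_radical_annihilator [IsNoetherianRing A] {D : Type*}
    [AddCommGroup D] [Module A D] [Module.Finite A D]
    (h : maximalIdeal A ≤ (Module.annihilator A D).radical) : IsFiniteLength A D := by
  apply Groth.Agent.Helper5.HS.isFiniteLength_of_support
  intro p hp
  have h1 : Module.annihilator A D ≤ p.asIdeal := Module.annihilator_le_of_mem_support hp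
  have h2 : maximalIdeal A ≤ p.asIdeal := by
    intro a ha
    obtain ⟨n, hn⟩ := h ha
    exact p.2.mem_of_pow_mem n (h1 hn)
  have := (IsLocalRing.maximalIdeal.isMaximal A).eq_of_le p.2.ne_top h2
  rw [← this]
  infer_instance

end General

variable {R' R : Type u} [CommRing R'] [hG : LocCoh.IsGorensteinLocalRing R'] [CommRing R]
  [IsNoetherianRing R] [IsLocalRing R] [Algebra R' R]

instance isScalarTower_HA (I : Ideal R') (i : ℕ) (X : BMod R' R) :
    IsScalarTower R' R (HA I i X) :=
  ⟨fun a b x => by
    have h2 : ∀ y : HA I i X, a • y = algebraMap R' R a • y := fun y => rfl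
    rw [h2, Algebra.smul_def, mul_smul]⟩

/-- `H^i_m(M)` has finite length iff it is killed by a power of `m`
(`R` a homomorphic image of a Gorenstein local ring) -/
theorem isFiniteLength_H_iff (hsurj : Function.Surjective (algebraMap R' R))
    (M : Type u) [AddCommGroup M] [Module R M] [Module.Finite R M]
    [Module R' M] [IsScalarTower R' R M] (i : ℕ) :
    IsFiniteLength R (H (maximalIdeal R) i M) ↔
      maximalIdeal R ≤ (Module.annihilator R (H (maximalIdeal R) i M)).radical := by
  refine ⟨maximalIdeal_le_radical_annihilator_of_isFiniteLength, fun h => ?_⟩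
  obtain ⟨s, hs⟩ := Groth.Agent.Lead.Depth.exists_nat_ringKrullDim (R := R')
  haveI : Module.Finite R' R := Module.Finite.of_surjective (Algebra.linearMap R' R) hsurj
  haveI : Module.Finite R' M := Module.Finite.trans R M
  by_cases his : i ≤ s
  · obtain ⟨k, hk⟩ : ∃ k, k + i = s := ⟨s - i, by omega⟩
    haveI := ExtFin.finite_ext (A := R') R' k M
    rw [le_radical_annihilator_H_iff hsurj hs M k i hk (maximalIdeal R)] at h
    have hm' : (maximalIdeal R).comap (algebraMap R' R) = maximalIdeal R' := by
      haveI : ((maximalIdeal R).comap (algebraMap R' R)).IsMaximal :=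
        Ideal.comap_isMaximal_of_surjective _ hsurj
      exact IsLocalRing.eq_maximalIdeal inferInstance
    rw [hm'] at h
    have hD := isFiniteLength_of_maximalIdeal_le_radical_annihilator h
    obtain ⟨E', _, _, f', hf'⟩ :=
      Groth.Agent.Helper1.exists_injectiveHull (R := R') (ResidueField R')
    obtain ⟨Θ₁⟩ := nonempty_gorenstein_duality hs hf' k i hk M
    obtain ⟨Θ₂⟩ := exists_equiv_base (maximalIdeal R') i ({ carrier := M } : BMod R' R)
    have hm : (maximalIdeal R').map (algebraMap R' R) = maximalIdeal R :=
      IsLocalRing.map_maximalIdeal_of_surjective _ hsurj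
    have Θ₃ := HcongrIdeal hm i M
    have h1 : Module.length R'
        (Ext (ModuleCat.of R' M) (ModuleCat.of R' R') k →ₗ[R'] E') ≠ ⊤ := by
      rw [Matlis.length_hom hf' _ hD]
      exact Module.length_ne_top_iff.mpr hD
    rw [← Θ₁.length_eq, ← Θ₂.length_eq,
      Module.length_eq_of_surjective (R := R) (S := R') hsurj] at h1
    have h2 : IsFiniteLength R (H ((maximalIdeal R').map (algebraMap R' R)) i M) :=
      Module.length_ne_top_iff.mp h1
    exact Θ₃.isFiniteLength h2
  · have hdimR : ringKrullDim R ≤ s := by
      rw [← hs]
      exact ringKrullDim_le_of_surjective (algebraMap R' R) hsurj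
    obtain ⟨n, hn⟩ := Groth.Agent.Lead.Depth.exists_nat_ringKrullDim (R := R)
    have hns : n ≤ s := by
      rw [hn] at hdimR
      exact_mod_cast hdimR
    haveI : Subsingleton (H (maximalIdeal R) i M) :=
      H_subsingleton_of_ringKrullDim_lt (maximalIdeal R) n hn M i (by omega)
    exact .of_subsingleton

end Groth.Agent.Helper8.LDual
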