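import Groth.Agent.Lib.Helper8.BiDual10
import Groth.Agent.Lib.Helper8.DArt3
import Groth.Agent.Lib.Helper8.LDual5
import Groth.Agent.Lib.Helper8.Matlis3
import Groth.Agent.Lib.Helper1.MatlisLib1

/-!
# Duality for finite length modules, part 1: exactness and lengths (helper8)

`F(N) := Hom_{D(A)}(N[0], ω)` for a normalized dualizing complex `ω` over a Noetherian local ring.
-/

set_option autoImplicit false

open CategoryTheory CategoryTheory.Limits Pretriangulated

universe u

namespace Groth.Agent.Helper8.FLD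

open DerivedCategory Groth.Agent.Helper8.BiDual

attribute [local instance] HasDerivedCategory.standard

variable {A : Type u} [CommRing A] (ω : Dual.D A)

section Fmap

variable {M N P : Type u} [AddCommGroup M] [Module A M] [AddCommGroup N] [Module A N]
  [AddCommGroup P] [Module A P]

/-- the map `N[0] ⟶ N'[0]` induced by a linear map -/
noncomputable abbrev inDMap (f : M →ₗ[A] N) : Dual.inD A M ⟶ Dual.inD A N :=
  (singleFunctor (ModuleCat.{u} A) 0).map (ModuleCat.ofHom f)

theorem inDMap_id : inDMap (LinearMap.id : M →ₗ[A] M) = 𝟙 _ := by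
  show (singleFunctor (ModuleCat.{u} A) 0).map (ModuleCat.ofHom LinearMap.id) = 𝟙 _
  rw [ModuleCat.ofHom_id, CategoryTheory.Functor.map_id]

theorem inDMap_comp (f : M →ₗ[A] N) (g : N →ₗ[A] P) :
    inDMap (g ∘ₗ f) = inDMap f ≫ inDMap g := by
  show (singleFunctor (ModuleCat.{u} A) 0).map (ModuleCat.ofHom (g ∘ₗ f)) = _
  rw [ModuleCat.ofHom_comp, Functor.map_comp]

theorem inDMap_add (f g : M →ₗ[A] N) : inDMap (f + g) = inDMap f + inDMap g := by
  show (singleFunctor (ModuleCat.{u} A) 0).map (ModuleCat.ofHom (f + g)) = _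
  rw [ModuleCat.ofHom_add, Functor.map_add]

theorem inDMap_zero : inDMap (0 : M →ₗ[A] N) = 0 := by
  show (singleFunctor (ModuleCat.{u} A) 0).map (ModuleCat.ofHom (0 : M →ₗ[A] N)) = _
  rw [ModuleCat.ofHom_zero, Functor.map_zero]

theorem inDMap_smul (a : A) (f : M →ₗ[A] N) : inDMap (a • f) = a • inDMap f := by
  show (singleFunctor (ModuleCat.{u} A) 0).map (ModuleCat.ofHom (a • f)) = _
  have : ModuleCat.ofHom (a • f) = a • ModuleCat.ofHom f := rfl
  rw [this, Functor.map_smul]

/-- the contravariant functor `F = Hom(-[0], ω)` on linear maps -/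
noncomputable def Fmap (f : M →ₗ[A] N) : (Dual.inD A N ⟶ ω) →ₗ[A] (Dual.inD A M ⟶ ω) :=
  Linear.leftComp A ω (inDMap f)

theorem Fmap_apply (f : M →ₗ[A] N) (t : Dual.inD A N ⟶ ω) : Fmap ω f t = inDMap f ≫ t := rfl

variable {f : M →ₗ[A] N} {g : N →ₗ[A] P}

theorem Fmap_exact (h : Groth.Agent.Helper8.LC.IsSES f g) :
    Function.Exact (Fmap ω g) (Fmap ω f) := by
  have hT := h.shortExact.singleTriangle_distinguished
  intro t
  constructor
  · intro ht
    obtain ⟨t', ht'⟩ := Triangle.yoneda_exact₂ _ hT t ht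
    exact ⟨t', ht'.symm⟩
  · rintro ⟨t', rfl⟩
    show inDMap f ≫ inDMap g ≫ t' = 0
    rw [← Category.assoc, ← inDMap_comp, h.exact.linearMap_comp_eq_zero, inDMap_zero, zero_comp]

theorem Fmap_injective (h : Groth.Agent.Helper8.LC.IsSES f g)
    (hM : ∀ t : Dual.inD A M ⟶ ω⟦(-1 : ℤ)⟧, t = 0) : Function.Injective (Fmap ω g) := by
  have hT := h.shortExact.singleTriangle_distinguished
  rw [← LinearMap.ker_eq_bot, LinearMap.ker_eq_bot']
  intro t ht
  refine inj_right _ _ _ hT ?_ t ht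
  intro s
  exact hom_shift_eq_zero ((shiftEquiv (Dual.D A) (1 : ℤ)).counitIso.app ω) hM s

theorem Fmap_surjective (h : Groth.Agent.Helper8.LC.IsSES f g)
    (hP : ∀ t : Dual.inD A P ⟶ ω⟦(1 : ℤ)⟧, t = 0) : Function.Surjective (Fmap ω f) := by
  have hT := h.shortExact.singleTriangle_distinguished
  intro s
  obtain ⟨t, ht⟩ := surj_left _ _ _ hT (Iso.refl (ω⟦(1 : ℤ)⟧)) (fun t' _ => hP t') s
  exact ⟨t, ht.symm⟩

theorem Fmap_id : Fmap ω (LinearMap.id : M →ₗ[A] M) = LinearMap.id := by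
  ext t
  show inDMap LinearMap.id ≫ t = t
  rw [inDMap_id, Category.id_comp]

theorem Fmap_comp (f : M →ₗ[A] N) (g : N →ₗ[A] P) :
    Fmap ω (g ∘ₗ f) = Fmap ω f ∘ₗ Fmap ω g := by
  ext t
  show inDMap (g ∘ₗ f) ≫ t = inDMap f ≫ inDMap g ≫ t
  rw [inDMap_comp, Category.assoc]

/-- `F` of a linear equivalence -/
noncomputable def Fequiv (e : M ≃ₗ[A] N) : (Dual.inD A N ⟶ ω) ≃ₗ[A] (Dual.inD A M ⟶ ω) :=
  LinearEquiv.ofLinearMap (Fmap ω e.toLinearMap) (Fmap ω e.symm.toLinearMap)
    (by rw [← Fmap_comp]; simp [Fmap_id]) (by rw [← Fmap_comp]; simp [Fmap_id])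

end Fmap

section Length

variable [IsLocalRing A] [IsNoetherianRing A]

/-- for a normalized dualizing complex, `Hom(κ[0], ω) ≃ κ` -/
theorem nonempty_hom_residue_equiv (hω : Dual.IsDualizing A ω) (hn : Dual.IsNormalized A ω) :
    Nonempty ((Dual.inD A (IsLocalRing.ResidueField A) ⟶ ω) ≃ₗ[A] IsLocalRing.ResidueField A) := by
  obtain ⟨n, h1, ⟨h2⟩⟩ := exists_unique_ext_residue ω hω (IsLocalRing.maximalIdeal A)
  have hn0 : n = 0 := by
    by_contra hne
    have hs : Subsingleton (Dual.inD A (IsLocalRing.ResidueField A) ⟶ ω⟦n⟧) := hn n hne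
    have hs' : Subsingleton (A ⧸ IsLocalRing.maximalIdeal A) :=
      @Equiv.subsingleton _ _ h2.symm.toEquiv hs
    exact not_subsingleton _ hs'
  subst hn0
  exact ⟨(shiftZeroEquiv _ _).symm.trans h2⟩

omit [IsNoetherianRing A] in
theorem hom_shift_eq_zero_of_isFiniteLength (hn : Dual.IsNormalized A ω) (i : ℤ) (hi : i ≠ 0)
    (N : Type u) [AddCommGroup N] [Module A N] (hN : IsFiniteLength A N)
    (t : Dual.inD A N ⟶ ω⟦i⟧) : t = 0 :=
  @Subsingleton.elim _
    (Groth.Agent.Helper8.DArt.subsingleton_hom_of_isFiniteLength (ω⟦i⟧) (hn i hi) N hN) _ _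

/-- `F` preserves lengths of finite length modules -/
theorem length_F (hω : Dual.IsDualizing A ω) (hn : Dual.IsNormalized A ω)
    (N : Type u) [AddCommGroup N] [Module A N] (hN : IsFiniteLength A N) :
    Module.length A (Dual.inD A N ⟶ ω) = Module.length A N := by
  induction hN with
  | of_subsingleton =>
    rename_i M _ _ _
    have hz : IsZero (Dual.inD A M) :=
      (singleFunctor (ModuleCat.{u} A) 0).map_isZero (ModuleCat.isZero_of_subsingleton _)
    have : Subsingleton (Dual.inD A M ⟶ ω) := ⟨fun φ ψ => hz.eq_of_src φ ψ⟩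
    rw [Module.length_eq_zero, Module.length_eq_zero]
  | @of_simple_quotient M _ _ N' hsimple hN' ih =>
    obtain ⟨I, hI, ⟨e⟩⟩ := isSimpleModule_iff_quot_maximal.mp hsimple
    have hIm : I = IsLocalRing.maximalIdeal A := IsLocalRing.eq_maximalIdeal hI
    subst hIm
    obtain ⟨eκ⟩ := nonempty_hom_residue_equiv ω hω hn
    have hses := Groth.Agent.Helper8.LC.isSES_subtype_mkQ N'
    have hQ : IsFiniteLength A (M ⧸ N') := by
      rw [← Module.length_ne_top_iff, Module.length_eq_one A (M ⧸ N')]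
      exact ENat.one_ne_top
    have hlenQ : Module.length A (Dual.inD A (M ⧸ N') ⟶ ω) = 1 := by
      rw [((Fequiv ω e.symm).trans eκ).length_eq]
      exact Module.length_eq_one A _
    rw [Module.length_eq_add_of_exact (Fmap ω N'.mkQ) (Fmap ω N'.subtype)
      (Fmap_injective ω hses (hom_shift_eq_zero_of_isFiniteLength ω hn (-1) (by norm_num) _ hN'))
      (Fmap_surjective ω hses (hom_shift_eq_zero_of_isFiniteLength ω hn 1 (by norm_num) _ hQ))
      (Fmap_exact ω hses), ih, hlenQ]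
    rw [Module.length_eq_add_of_exact N'.subtype N'.mkQ N'.injective_subtype
      (Submodule.mkQ_surjective N') (LinearMap.exact_subtype_mkQ N'),
      Module.length_eq_one A (M ⧸ N'), add_comm]

end Length

end Groth.Agent.Helper8.FLD
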