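import Groth.Agent.Lib.Helper8.FLD1

/-!
# Duality for finite length modules, part 2: `Hom(N[0], ω) ≃ Hom(N, Hom(A/I[0], ω))` (helper8)
-/

set_option autoImplicit false

open CategoryTheory CategoryTheory.Limits Pretriangulated

universe u

namespace Groth.Agent.Helper8.FLD

open DerivedCategory Groth.Agent.Helper8.BiDual

attribute [local instance] HasDerivedCategory.standard

variable {A : Type u} [CommRing A] (ω : Dual.D A) (I : Ideal A)

section Hat

variable (N : Type u) [AddCommGroup N] [Module A N] (hN : ∀ a ∈ I, ∀ x : N, a • x = 0)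

/-- the map `A/I → N`, `1 ↦ x`, for a module `N` killed by `I` -/
def hatI (x : N) : (A ⧸ I) →ₗ[A] N :=
  Submodule.liftQ I (LinearMap.toSpanSingleton A N x) (by
    intro a ha
    simp [hN a ha x])

@[simp] theorem hatI_mk (x : N) (a : A) : hatI I N hN x (Ideal.Quotient.mk I a) = a • x := rfl

@[simp] theorem hatI_one (x : N) : hatI I N hN x 1 = x := by
  show hatI I N hN x (Ideal.Quotient.mk I 1) = x
  rw [hatI_mk, one_smul]

theorem hatI_add (x y : N) : hatI I N hN (x + y) = hatI I N hN x + hatI I N hN y := by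
  ext
  simp

theorem hatI_smul (a : A) (x : N) : hatI I N hN (a • x) = a • hatI I N hN x := by
  ext
  simp

variable {N} in
theorem comp_hatI {N' : Type u} [AddCommGroup N'] [Module A N']
    (hN' : ∀ a ∈ I, ∀ x : N', a • x = 0) (g : N →ₗ[A] N') (x : N) :
    g ∘ₗ hatI I N hN x = hatI I N' hN' (g x) := by
  ext
  simp

/-- the comparison map `F(N) → Hom(N, F(A/I))` -/
noncomputable def Phi : (Dual.inD A N ⟶ ω) →ₗ[A] (N →ₗ[A] (Dual.inD A (A ⧸ I) ⟶ ω)) where
  toFun t :=
    { toFun := fun x => inDMap (hatI I N hN x) ≫ t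
      map_add' := fun x y => by rw [hatI_add, inDMap_add, Preadditive.add_comp]
      map_smul' := fun a x => by
        rw [hatI_smul, inDMap_smul, Linear.smul_comp]
        rfl }
  map_add' t t' := by
    ext x
    exact Preadditive.comp_add _ _ _ (inDMap (hatI I N hN x)) t t'
  map_smul' a t := by
    ext x
    exact Linear.comp_smul _ _ _ (inDMap (hatI I N hN x)) a t

theorem Phi_apply (t : Dual.inD A N ⟶ ω) (x : N) :
    Phi ω I N hN t x = inDMap (hatI I N hN x) ≫ t := rfl

variable {N} in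
theorem Phi_nat {N' : Type u} [AddCommGroup N'] [Module A N']
    (hN' : ∀ a ∈ I, ∀ x : N', a • x = 0) (g : N →ₗ[A] N') (t : Dual.inD A N' ⟶ ω) :
    Phi ω I N hN (Fmap ω g t) = Phi ω I N' hN' t ∘ₗ g := by
  ext x
  show inDMap (hatI I N hN x) ≫ inDMap g ≫ t = inDMap (hatI I N' hN' (g x)) ≫ t
  rw [← Category.assoc, ← inDMap_comp, comp_hatI I hN hN']

end Hat

theorem killed_quot : ∀ a ∈ I, ∀ x : A ⧸ I, a • x = 0 := by
  intro a ha x
  obtain ⟨b, rfl⟩ := Ideal.Quotient.mk_surjective x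
  rw [← Ideal.Quotient.mk_eq_mk, ← Submodule.Quotient.mk_smul, Ideal.Quotient.mk_eq_mk,
    Ideal.Quotient.eq_zero_iff_mem]
  exact I.mul_mem_right _ ha

theorem Phi_quot_bijective : Function.Bijective (Phi ω I (A ⧸ I) (killed_quot I)) := by
  have key : ∀ (t : Dual.inD A (A ⧸ I) ⟶ ω), Phi ω I (A ⧸ I) (killed_quot I) t 1 = t := by
    intro t
    rw [Phi_apply]
    have : hatI I (A ⧸ I) (killed_quot I) 1 = LinearMap.id := by
      ext
      simp
    rw [this, inDMap_id, Category.id_comp]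
  constructor
  · rw [← LinearMap.ker_eq_bot, LinearMap.ker_eq_bot']
    intro t ht
    rw [← key t, ht]
    rfl
  · intro φ
    refine ⟨φ 1, ?_⟩
    ext
    exact key (φ 1)

section Ext

variable {M N P : Type u} [AddCommGroup M] [Module A M] [AddCommGroup N] [Module A N]
  [AddCommGroup P] [Module A P] {f : M →ₗ[A] N} {g : N →ₗ[A] P}

omit ω I in
theorem exists_factor (h : Groth.Agent.Helper8.LC.IsSES f g) {X : Type*} [AddCommGroup X]
    [Module A X] (χ : N →ₗ[A] X) (hχ : χ ∘ₗ f = 0) : ∃ ψ : P →ₗ[A] X, ψ ∘ₗ g = χ := by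
  have hle : LinearMap.ker g ≤ LinearMap.ker χ := by
    intro x hx
    obtain ⟨y, rfl⟩ := (h.exact x).mp hx
    exact LinearMap.congr_fun hχ y
  refine ⟨(LinearMap.ker g).liftQ χ hle ∘ₗ (g.quotKerEquivOfSurjective h.surj).symm.toLinearMap, ?_⟩
  ext x
  have : (g.quotKerEquivOfSurjective h.surj).symm (g x) = Submodule.Quotient.mk x := by
    rw [LinearEquiv.symm_apply_eq]
    rfl
  show (LinearMap.ker g).liftQ χ hle ((g.quotKerEquivOfSurjective h.surj).symm (g x)) = χ x
  rw [this]
  rfl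

variable (hM : ∀ a ∈ I, ∀ x : M, a • x = 0) (hN : ∀ a ∈ I, ∀ x : N, a • x = 0)
  (hP : ∀ a ∈ I, ∀ x : P, a • x = 0)

include hM hP in
theorem Phi_injective_of_ses (h : Groth.Agent.Helper8.LC.IsSES f g)
    (hiM : Function.Injective (Phi ω I M hM)) (hiP : Function.Injective (Phi ω I P hP)) :
    Function.Injective (Phi ω I N hN) := by
  rw [← LinearMap.ker_eq_bot, LinearMap.ker_eq_bot']
  intro t ht
  have h1 : Fmap ω f t = 0 := by
    apply hiM
    rw [Phi_nat ω I hM hN f t, ht, map_zero]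
    rfl
  obtain ⟨t', rfl⟩ := (Fmap_exact ω h t).mp h1
  have h2 : t' = 0 := by
    apply hiP
    rw [map_zero]
    have h3 := Phi_nat ω I hN hP g t'
    rw [ht] at h3
    ext p
    obtain ⟨x, rfl⟩ := h.surj p
    exact (LinearMap.congr_fun h3 x).symm
  rw [h2, map_zero]

include hM hP in
theorem Phi_surjective_of_ses (h : Groth.Agent.Helper8.LC.IsSES f g)
    (hsurj : Function.Surjective (Fmap ω f))
    (hsM : Function.Surjective (Phi ω I M hM)) (hsP : Function.Surjective (Phi ω I P hP)) :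
    Function.Surjective (Phi ω I N hN) := by
  intro φ
  obtain ⟨s, hs⟩ := hsM (φ ∘ₗ f)
  obtain ⟨t₁, rfl⟩ := hsurj s
  rw [Phi_nat ω I hM hN f t₁] at hs
  have h0 : (φ - Phi ω I N hN t₁) ∘ₗ f = 0 := by
    rw [LinearMap.sub_comp, hs, sub_self]
  obtain ⟨ψ, hψ⟩ := exists_factor h _ h0
  obtain ⟨t₂, rfl⟩ := hsP ψ
  refine ⟨t₁ + Fmap ω g t₂, ?_⟩
  rw [map_add, Phi_nat ω I hN hP g t₂, hψ]
  abel

end Ext

section Main

theorem Phi_bijective_of_subsingleton (N : Type u) [AddCommGroup N] [Module A N]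
    [Subsingleton N] (hN : ∀ a ∈ I, ∀ x : N, a • x = 0) :
    Function.Bijective (Phi ω I N hN) := by
  have hz : IsZero (Dual.inD A N) :=
    (singleFunctor (ModuleCat.{u} A) 0).map_isZero (ModuleCat.isZero_of_subsingleton _)
  constructor
  · intro t t' _
    exact hz.eq_of_src t t'
  · intro φ
    refine ⟨0, ?_⟩
    ext x
    rw [Subsingleton.elim x 0, map_zero, map_zero]

theorem killed_pi (r : ℕ) : ∀ a ∈ I, ∀ x : Fin r → A ⧸ I, a • x = 0 := by
  intro a ha x
  funext j
  exact killed_quot I a ha (x j)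

theorem isFiniteLength_pi (hI : IsFiniteLength A (A ⧸ I)) (r : ℕ) :
    IsFiniteLength A (Fin r → A ⧸ I) := by
  rw [isFiniteLength_iff_isNoetherian_isArtinian] at hI ⊢
  obtain ⟨h1, h2⟩ := hI
  exact ⟨inferInstance, inferInstance⟩

variable (hV : ∀ (i : ℤ), i ≠ 0 → ∀ (N : Type u) [AddCommGroup N] [Module A N],
  IsFiniteLength A N → ∀ t : Dual.inD A N ⟶ ω⟦i⟧, t = 0)

include hV in
theorem Phi_pow_bijective (hI : IsFiniteLength A (A ⧸ I)) (r : ℕ) :
    Function.Bijective (Phi ω I (Fin r → A ⧸ I) (killed_pi I r)) := by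
  induction r with
  | zero => exact Phi_bijective_of_subsingleton ω I _ _
  | succ n ih =>
    have hses := isSES_pow (A := A) (A ⧸ I) n
    have hq := Phi_quot_bijective ω I
    constructor
    · exact Phi_injective_of_ses ω I (killed_quot I) (killed_pi I (n + 1)) (killed_pi I n) hses
        hq.1 ih.1
    · exact Phi_surjective_of_ses ω I (killed_quot I) (killed_pi I (n + 1)) (killed_pi I n) hses
        (Fmap_surjective ω hses (hV 1 (by norm_num) _ (isFiniteLength_pi I hI n))) hq.2 ih.2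

omit ω in
theorem exists_surjection_pow (N : Type u) [AddCommGroup N] [Module A N] [Module.Finite A N]
    (hN : ∀ a ∈ I, ∀ x : N, a • x = 0) :
    ∃ (r : ℕ) (π : (Fin r → A ⧸ I) →ₗ[A] N), Function.Surjective π := by
  obtain ⟨r, p, hp⟩ := Module.Finite.exists_fin' A N
  refine ⟨r, ∑ j : Fin r, hatI I N hN (p (Pi.single j 1)) ∘ₗ LinearMap.proj j, ?_⟩
  intro y
  obtain ⟨w, rfl⟩ := hp y
  refine ⟨fun j => Ideal.Quotient.mk I (w j), ?_⟩
  rw [LinearMap.sum_apply]
  have hw : w = ∑ j : Fin r, w j • (Pi.single j 1 : Fin r → A) := by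
    funext k
    simp [Finset.sum_apply, Pi.single_apply]
  conv_rhs => rw [hw, map_sum]
  refine Finset.sum_congr rfl fun j _ => ?_
  rw [map_smul]
  rfl

include hV in
theorem Phi_bijective (hI : IsFiniteLength A (A ⧸ I)) (N : Type u) [AddCommGroup N] [Module A N]
    (hfl : IsFiniteLength A N) (hN : ∀ a ∈ I, ∀ x : N, a • x = 0) :
    Function.Bijective (Phi ω I N hN) := by
  -- injectivity for all such `N`
  have hinj : ∀ (N : Type u) [AddCommGroup N] [Module A N] (_ : IsFiniteLength A N)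
      (hN : ∀ a ∈ I, ∀ x : N, a • x = 0), Function.Injective (Phi ω I N hN) := by
    intro N _ _ hfl hN
    have : Module.Finite A N := by
      rw [isFiniteLength_iff_isNoetherian_isArtinian] at hfl
      obtain ⟨h1, _⟩ := hfl
      infer_instance
    obtain ⟨r, π, hπ⟩ := exists_surjection_pow I N hN
    have hses : Groth.Agent.Helper8.LC.IsSES (LinearMap.ker π).subtype π :=
      ⟨Submodule.injective_subtype _, LinearMap.exact_subtype_ker_map π, hπ⟩
    have hK : IsFiniteLength A (LinearMap.ker π) := by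
      have := isFiniteLength_pi I hI r
      rw [isFiniteLength_iff_isNoetherian_isArtinian] at this ⊢
      obtain ⟨h1, h2⟩ := this
      exact ⟨inferInstance, inferInstance⟩
    rw [← LinearMap.ker_eq_bot, LinearMap.ker_eq_bot']
    intro t ht
    have h1 : Fmap ω π t = 0 := by
      apply (Phi_pow_bijective ω I hV hI r).1
      rw [Phi_nat ω I (killed_pi I r) hN π t, ht, map_zero]
      rfl
    exact (Fmap_injective ω hses (hV (-1) (by norm_num) _ hK)) (h1.trans (map_zero _).symm)
  refine ⟨hinj N hfl hN, ?_⟩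
  have : Module.Finite A N := by
    rw [isFiniteLength_iff_isNoetherian_isArtinian] at hfl
    obtain ⟨h1, _⟩ := hfl
    infer_instance
  obtain ⟨r, π, hπ⟩ := exists_surjection_pow I N hN
  have hses : Groth.Agent.Helper8.LC.IsSES (LinearMap.ker π).subtype π :=
    ⟨Submodule.injective_subtype _, LinearMap.exact_subtype_ker_map π, hπ⟩
  have hK : IsFiniteLength A (LinearMap.ker π) := by
    have := isFiniteLength_pi I hI r
    rw [isFiniteLength_iff_isNoetherian_isArtinian] at this ⊢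
    obtain ⟨h1, h2⟩ := this
    exact ⟨inferInstance, inferInstance⟩
  have hKk : ∀ a ∈ I, ∀ x : LinearMap.ker π, a • x = 0 := by
    intro a ha x
    apply Subtype.ext
    exact killed_pi I r a ha x.1
  intro φ
  obtain ⟨t₁, ht₁⟩ := (Phi_pow_bijective ω I hV hI r).2 (φ ∘ₗ π)
  have h1 : Fmap ω (LinearMap.ker π).subtype t₁ = 0 := by
    apply hinj _ hK hKk
    rw [Phi_nat ω I hKk (killed_pi I r) _ t₁, ht₁, map_zero]
    ext x
    show φ (π x.1) = 0
    rw [x.2, map_zero]
  obtain ⟨t, rfl⟩ := (Fmap_exact ω hses t₁).mp h1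
  refine ⟨t, ?_⟩
  rw [Phi_nat ω I (killed_pi I r) hN π t] at ht₁
  ext y
  obtain ⟨x, rfl⟩ := hπ y
  exact LinearMap.congr_fun ht₁ x

end Main

end Groth.Agent.Helper8.FLD
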