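import Groth.Agent.Lib.Helper8.FLD2

/-!
# Duality for finite length modules, part 3: comparison with the injective hull (helper8)
-/

set_option autoImplicit false

open CategoryTheory CategoryTheory.Limits Pretriangulated

universe u

namespace Groth.Agent.Helper8.FLD

open DerivedCategory Groth.Agent.Helper8.BiDual IsLocalRing

attribute [local instance] HasDerivedCategory.standard

section Socle

variable {A : Type u} [CommRing A] [IsLocalRing A]

/-- every nonzero submodule of a `m`-power torsion module contains a nonzero socle element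
(universe polymorphic version). -/
theorem exists_socle_mem' {X : Type*} [AddCommGroup X] [Module A X]
    (htors : ∀ e : X, ∃ n : ℕ, ∀ a ∈ maximalIdeal A ^ n, a • e = 0) (N : Submodule A X)
    (hN : N ≠ ⊥) : ∃ e' ∈ N, e' ≠ 0 ∧ ∀ b ∈ maximalIdeal A, b • e' = 0 := by
  classical
  obtain ⟨e, heN, he0⟩ := (Submodule.ne_bot_iff _).1 hN
  have hex := htors e
  let n := Nat.find hex
  have hn : ∀ a ∈ maximalIdeal A ^ n, a • e = 0 := Nat.find_spec hex
  have hn0 : n ≠ 0 := by
    intro h0
    have := hn 1 (by rw [h0, pow_zero, Ideal.one_eq_top]; trivial)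
    rw [one_smul] at this
    exact he0 this
  obtain ⟨n', hn'⟩ := Nat.exists_eq_succ_of_ne_zero hn0
  have hmin : ¬ ∀ a ∈ maximalIdeal A ^ n', a • e = 0 := Nat.find_min hex (by omega)
  push Not at hmin
  obtain ⟨a, ha, hae⟩ := hmin
  refine ⟨a • e, N.smul_mem a heN, hae, fun b hb => ?_⟩
  rw [smul_smul]
  apply hn
  rw [hn', pow_succ']
  exact Ideal.mul_mem_mul hb ha

/-- a linear map out of a power torsion module whose socle is the image of `κ` is injective as
soon as it is injective on the socle -/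
theorem injective_of_socle {X Y : Type*} [AddCommGroup X] [Module A X] [AddCommGroup Y]
    [Module A Y] (htors : ∀ e : X, ∃ n : ℕ, ∀ a ∈ maximalIdeal A ^ n, a • e = 0)
    (i₀ : ResidueField A →ₗ[A] X)
    (hsoc : ∀ y : X, (∀ b ∈ maximalIdeal A, b • y = 0) → y ∈ LinearMap.range i₀)
    (j : X →ₗ[A] Y) (hj : Function.Injective (j ∘ₗ i₀)) : Function.Injective j := by
  rw [← LinearMap.ker_eq_bot]
  by_contra hne
  obtain ⟨y, hy, hy0, hsy⟩ := exists_socle_mem' htors _ hne
  obtain ⟨c, rfl⟩ := hsoc y hsy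
  have : c = 0 := hj (by rw [map_zero]; exact hy)
  rw [this, map_zero] at hy0
  exact hy0 rfl

/-- the map `κ → X`, `1 ↦ y` for a socle element `y` -/
def ofSocle' {X : Type*} [AddCommGroup X] [Module A X] (y : X)
    (hy : ∀ b ∈ maximalIdeal A, b • y = 0) : ResidueField A →ₗ[A] X :=
  Submodule.liftQ (maximalIdeal A) (LinearMap.toSpanSingleton A X y) (by
    intro a ha
    simp [hy a ha])

theorem ofSocle'_one {X : Type*} [AddCommGroup X] [Module A X] (y : X)
    (hy : ∀ b ∈ maximalIdeal A, b • y = 0) : ofSocle' y hy 1 = y := by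
  change LinearMap.toSpanSingleton A X y (1 : A) = y
  rw [LinearMap.toSpanSingleton_apply, one_smul]

end Socle

section Main

variable {A : Type u} [CommRing A] [IsLocalRing A] [IsNoetherianRing A] (ω : Dual.D A)

omit [IsNoetherianRing A] in
theorem killed_residue (n : ℕ) :
    ∀ a ∈ maximalIdeal A ^ (n + 1), ∀ x : ResidueField A, a • x = 0 := by
  intro a ha x
  exact killed_quot (maximalIdeal A) a (Ideal.pow_le_self (Nat.succ_ne_zero n) ha) x

/-- post-composition as a linear map -/
def postcomp {X Y : Type*} [AddCommGroup X] [Module A X] [AddCommGroup Y] [Module A Y]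
    (N : Type*) [AddCommGroup N] [Module A N] (j : X →ₗ[A] Y) :
    (N →ₗ[A] X) →ₗ[A] (N →ₗ[A] Y) where
  toFun φ := j ∘ₗ φ
  map_add' φ ψ := LinearMap.comp_add _ _ _
  map_smul' a φ := LinearMap.comp_smul _ _ _

omit [IsLocalRing A] [IsNoetherianRing A] in
theorem postcomp_injective {X Y : Type*} [AddCommGroup X] [Module A X] [AddCommGroup Y]
    [Module A Y] (N : Type*) [AddCommGroup N] [Module A N] (j : X →ₗ[A] Y)
    (hj : Function.Injective j) : Function.Injective (postcomp N j) := by
  intro φ ψ h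
  ext x
  exact hj (LinearMap.congr_fun h x)

variable (hω : Dual.IsDualizing A ω) (hn : Dual.IsNormalized A ω)
  {E : Type u} [AddCommGroup E] [Module A E] {f : ResidueField A →ₗ[A] E}
  (hf : InjHull.IsInjectiveHull f)

include hω hn hf in
/-- `Hom(A/m^(n+1)[0], ω)` embeds into the injective hull of the residue field -/
theorem exists_embedding (n : ℕ) :
    ∃ j : (Dual.inD A (A ⧸ maximalIdeal A ^ (n + 1)) ⟶ ω) →ₗ[A] E, Function.Injective j := by
  have hV : ∀ (i : ℤ), i ≠ 0 → ∀ (N : Type u) [AddCommGroup N] [Module A N],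
      IsFiniteLength A N → ∀ t : Dual.inD A N ⟶ ω⟦i⟧, t = 0 :=
    fun i hi N _ _ hN t => hom_shift_eq_zero_of_isFiniteLength ω hn i hi N hN t
  have hI := Groth.Agent.Helper8.Matlis.isFiniteLength_quotient_pow (A := A) (n + 1)
  have hκfl : IsFiniteLength A (ResidueField A) := by
    rw [← Module.length_ne_top_iff, Module.length_eq_one A (ResidueField A)]
    exact ENat.one_ne_top
  have hΦ := Phi_bijective ω (maximalIdeal A ^ (n + 1)) hV hI (ResidueField A) hκfl
    (killed_residue n)
  obtain ⟨eκ⟩ := nonempty_hom_residue_equiv ω hω hn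
  let t₀ := eκ.symm 1
  let i₀ := Phi ω (maximalIdeal A ^ (n + 1)) (ResidueField A) (killed_residue n) t₀
  have hi₀ne : i₀ ≠ 0 := by
    intro h0
    have h1 : t₀ = 0 := hΦ.1 (h0.trans (map_zero _).symm)
    have h2 : (1 : ResidueField A) = 0 := by
      have := congrArg eκ h1
      rwa [LinearEquiv.apply_symm_apply, map_zero] at this
    exact one_ne_zero h2
  have hi₀ : Function.Injective i₀ := by
    rw [← LinearMap.ker_eq_bot]
    rcases eq_bot_or_eq_top (LinearMap.ker i₀) with h | h
    · exact h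
    · exact absurd (LinearMap.ker_eq_top.1 h) hi₀ne
  have hsoc : ∀ y : (Dual.inD A (A ⧸ maximalIdeal A ^ (n + 1)) ⟶ ω),
      (∀ b ∈ maximalIdeal A, b • y = 0) → y ∈ LinearMap.range i₀ := by
    intro y hy
    obtain ⟨t, ht⟩ := hΦ.2 (ofSocle' y hy)
    obtain ⟨c, hc⟩ := Ideal.Quotient.mk_surjective (eκ t)
    have h1 : t = c • t₀ := by
      apply eκ.injective
      rw [map_smul, LinearEquiv.apply_symm_apply, ← hc]
      show _ = c • (Ideal.Quotient.mk (maximalIdeal A) 1)
      rw [← Ideal.Quotient.mk_eq_mk, ← Ideal.Quotient.mk_eq_mk, ← Submodule.Quotient.mk_smul]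
      simp
    refine ⟨c • 1, ?_⟩
    rw [map_smul]
    have h2 : i₀ 1 = Phi ω (maximalIdeal A ^ (n + 1)) (ResidueField A) (killed_residue n) t₀ 1 :=
      rfl
    rw [h2, ← LinearMap.smul_apply, ← map_smul, ← h1, ht, ofSocle'_one]
  have htors : ∀ e : (Dual.inD A (A ⧸ maximalIdeal A ^ (n + 1)) ⟶ ω),
      ∃ k : ℕ, ∀ a ∈ maximalIdeal A ^ k, a • e = 0 := by
    intro e
    exact ⟨n + 1, fun a ha => smul_hom_single_eq_zero a (killed_quot _ a ha) e⟩
  have := hf.isInjective
  obtain ⟨j, hj⟩ := Module.Injective.extension_property A E (ResidueField A) _ i₀ hi₀ f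
  refine ⟨j, injective_of_socle htors i₀ hsoc j ?_⟩
  rw [hj]
  exact hf.injective

include hω hn hf in
/-- duality for finite length modules: `Hom(N[0], ω) ≃ Hom(N, E)` -/
theorem nonempty_F_equiv_hom (N : Type u) [AddCommGroup N] [Module A N]
    (hN : IsFiniteLength A N) : Nonempty ((Dual.inD A N ⟶ ω) ≃ₗ[A] (N →ₗ[A] E)) := by
  have hV : ∀ (i : ℤ), i ≠ 0 → ∀ (N : Type u) [AddCommGroup N] [Module A N],
      IsFiniteLength A N → ∀ t : Dual.inD A N ⟶ ω⟦i⟧, t = 0 :=
    fun i hi N _ _ hN t => hom_shift_eq_zero_of_isFiniteLength ω hn i hi N hN t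
  obtain ⟨n, hnN⟩ := Groth.Agent.Helper8.LDual.exists_pow_le_annihilator_of_isFiniteLength hN
  have hkill : ∀ a ∈ maximalIdeal A ^ (n + 1), ∀ x : N, a • x = 0 := by
    intro a ha x
    have h1 : a ∈ maximalIdeal A ^ n := Ideal.pow_le_pow_right (Nat.le_succ n) ha
    exact Module.mem_annihilator.mp (hnN h1) x
  have hI := Groth.Agent.Helper8.Matlis.isFiniteLength_quotient_pow (A := A) (n + 1)
  have hΦ := Phi_bijective ω (maximalIdeal A ^ (n + 1)) hV hI N hN hkill
  let e1 := LinearEquiv.ofBijective _ hΦ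
  obtain ⟨j, hj⟩ := exists_embedding ω hω hn hf n
  have hinj := postcomp_injective N j hj
  have hlen : Module.length A (N →ₗ[A] (Dual.inD A (A ⧸ maximalIdeal A ^ (n + 1)) ⟶ ω)) =
      Module.length A (N →ₗ[A] E) := by
    rw [← e1.length_eq, length_F ω hω hn N hN, Groth.Agent.Helper8.Matlis.length_hom hf N hN]
  have hfin : Module.length A (N →ₗ[A] (Dual.inD A (A ⧸ maximalIdeal A ^ (n + 1)) ⟶ ω)) ≠ ⊤ := by
    rw [← e1.length_eq, length_F ω hω hn N hN]
    exact Module.length_ne_top_iff.mpr hN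
  have hsurj := Groth.Agent.Helper1.surjective_of_injective_of_length_eq _ hinj hlen hfin
  exact ⟨e1.trans (LinearEquiv.ofBijective _ ⟨hinj, hsurj⟩)⟩

end Main

end Groth.Agent.Helper8.FLD
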