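import Mathlib

/-!
# Relative lengths of submodules and lattices in the fraction field (helper8)

`qlen I J = ℓ(J/I)`, additivity, invariance under injective maps; lattices (`IsLat`) in the
fraction field `K` of a domain `O`; scaling `sc c I = c·I`.
-/

namespace Groth.Agent.Helper8.FracDual

universe u

section QLen

variable {O : Type u} [CommRing O] {N : Type u} [AddCommGroup N] [Module O N]

/-- relative length `ℓ(J/I)` (meaningful for `I ≤ J`). -/
noncomputable def qlen (I J : Submodule O N) : ℕ∞ :=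
  Module.length O (↥J ⧸ I.submoduleOf J)

theorem qlen_add {I J L : Submodule O N} (h1 : I ≤ J) (h2 : J ≤ L) :
    qlen I L = qlen I J + qlen J L := by
  unfold qlen
  let f : (↥J ⧸ I.submoduleOf J) →ₗ[O] (↥L ⧸ I.submoduleOf L) :=
    Submodule.mapQ _ _ (Submodule.inclusion h2) (fun x hx => hx)
  let g : (↥L ⧸ I.submoduleOf L) →ₗ[O] (↥L ⧸ J.submoduleOf L) :=
    Submodule.mapQ _ _ LinearMap.id (fun x hx => h1 hx)
  have hf : Function.Injective f := by
    rw [← LinearMap.ker_eq_bot, LinearMap.ker_eq_bot']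
    intro y hy
    obtain ⟨b, rfl⟩ := Submodule.Quotient.mk_surjective _ y
    have e1 : f (Submodule.Quotient.mk b) = Submodule.Quotient.mk (Submodule.inclusion h2 b) := rfl
    rw [e1, Submodule.Quotient.mk_eq_zero] at hy
    rw [Submodule.Quotient.mk_eq_zero]
    exact hy
  have hg : Function.Surjective g := by
    intro y
    obtain ⟨n, rfl⟩ := Submodule.Quotient.mk_surjective _ y
    exact ⟨Submodule.Quotient.mk n, rfl⟩
  have H : Function.Exact f g := by
    intro y
    obtain ⟨n, rfl⟩ := Submodule.Quotient.mk_surjective _ y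
    have e1 : g (Submodule.Quotient.mk n) = Submodule.Quotient.mk n := rfl
    rw [e1, Submodule.Quotient.mk_eq_zero]
    constructor
    · intro hn
      exact ⟨Submodule.Quotient.mk ⟨(n : N), hn⟩, rfl⟩
    · rintro ⟨z, hz⟩
      obtain ⟨b, rfl⟩ := Submodule.Quotient.mk_surjective _ z
      have e2 : f (Submodule.Quotient.mk b) = Submodule.Quotient.mk (Submodule.inclusion h2 b) :=
        rfl
      rw [e2, Submodule.Quotient.eq] at hz
      have h3 : ((Submodule.inclusion h2 b : ↥L) : N) - (n : N) ∈ I := hz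
      have h4 : (n : N) = ((Submodule.inclusion h2 b : ↥L) : N) -
          (((Submodule.inclusion h2 b : ↥L) : N) - (n : N)) := by abel
      show (n : N) ∈ J
      rw [h4]
      exact J.sub_mem b.2 (h1 h3)
  exact Module.length_eq_add_of_exact f g hf hg H

theorem qlen_self (I : Submodule O N) : qlen I I = 0 := by
  unfold qlen
  rw [Module.length_eq_zero_iff, Submodule.Quotient.subsingleton_iff]
  exact Submodule.submoduleOf_self I

theorem qlen_eq_zero_iff {I J : Submodule O N} (h : I ≤ J) : qlen I J = 0 ↔ I = J := by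
  unfold qlen
  rw [Module.length_eq_zero_iff, Submodule.Quotient.subsingleton_iff]
  constructor
  · intro h1
    refine le_antisymm h ?_
    intro x hx
    have : (⟨x, hx⟩ : ↥J) ∈ I.submoduleOf J := by rw [h1]; exact Submodule.mem_top
    exact this
  · rintro rfl
    exact Submodule.submoduleOf_self I

theorem qlen_mono {I' I J J' : Submodule O N} (h1 : I' ≤ I) (h2 : I ≤ J) (h3 : J ≤ J') :
    qlen I J ≤ qlen I' J' := by
  rw [qlen_add (h1.trans h2) h3, qlen_add h1 h2]
  exact le_trans le_add_self le_self_add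

theorem qlen_map {N' : Type u} [AddCommGroup N'] [Module O N'] (φ : N →ₗ[O] N')
    (hφ : Function.Injective φ) (I J : Submodule O N) :
    qlen (I.map φ) (J.map φ) = qlen I J := by
  unfold qlen
  symm
  refine LinearEquiv.length_eq (Submodule.Quotient.equiv _ _
    (Submodule.equivMapOfInjective φ hφ J) ?_)
  ext ⟨y, hy⟩
  constructor
  · rintro ⟨x, hx, hxy⟩
    have h1 : φ (x : N) = y := congrArg Subtype.val hxy
    exact ⟨(x : N), hx, h1⟩
  · rintro ⟨x, hx, hxy⟩
    have hxy' : φ x = y := hxy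
    obtain ⟨x', hx', hx'y⟩ := hy
    have : x = x' := hφ (hxy'.trans hx'y.symm)
    subst this
    exact ⟨⟨x, hx'⟩, hx, Subtype.ext hxy'⟩

end QLen

section Lat

variable {O : Type u} [CommRing O] [IsDomain O] {K : Type u} [Field K] [Algebra O K]
  [IsFractionRing O K]

theorem algebraMap_ne_zero' {a : O} (ha : a ≠ 0) : algebraMap O K a ≠ 0 := by
  rw [Ne, map_eq_zero_iff _ (IsFractionRing.injective O K)]
  exact ha

/-- scaling a submodule of `K` by an element of `K`. -/
noncomputable def sc (c : K) (I : Submodule O K) : Submodule O K :=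
  I.map (LinearMap.mulLeft O c)

theorem mem_sc {c : K} {I : Submodule O K} {y : K} : y ∈ sc c I ↔ ∃ x ∈ I, c * x = y := by
  unfold sc
  rw [Submodule.mem_map]
  rfl

theorem mem_sc_iff {c : K} (hc : c ≠ 0) {I : Submodule O K} {y : K} :
    y ∈ sc c I ↔ c⁻¹ * y ∈ I := by
  rw [mem_sc]
  constructor
  · rintro ⟨x, hx, rfl⟩
    rwa [← mul_assoc, inv_mul_cancel₀ hc, one_mul]
  · intro h
    exact ⟨c⁻¹ * y, h, by rw [← mul_assoc, mul_inv_cancel₀ hc, one_mul]⟩

theorem sc_mono (c : K) {I J : Submodule O K} (h : I ≤ J) : sc c I ≤ sc c J :=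
  Submodule.map_mono h

theorem sc_sc (c d : K) (I : Submodule O K) : sc c (sc d I) = sc (c * d) I := by
  ext y
  simp only [mem_sc]
  constructor
  · rintro ⟨x, ⟨z, hz, rfl⟩, rfl⟩
    exact ⟨z, hz, by ring⟩
  · rintro ⟨z, hz, rfl⟩
    exact ⟨d * z, ⟨z, hz, rfl⟩, by ring⟩

theorem sc_one (I : Submodule O K) : sc (1 : K) I = I := by
  ext y
  simp [mem_sc]

theorem mulLeft_injective {c : K} (hc : c ≠ 0) :
    Function.Injective (LinearMap.mulLeft O c : K →ₗ[O] K) := by
  intro x y hxy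
  exact mul_left_cancel₀ hc hxy

theorem qlen_sc {c : K} (hc : c ≠ 0) (I J : Submodule O K) :
    qlen (sc c I) (sc c J) = qlen I J :=
  qlen_map _ (mulLeft_injective hc) I J

/-- `x ∈ 1` iff `x` comes from `O`. -/
theorem mem_one' {x : K} : x ∈ (1 : Submodule O K) ↔ ∃ y : O, algebraMap O K y = x :=
  Submodule.mem_one

/-- A lattice: a nonzero submodule of `K` contained in `d⁻¹O` for some `d ≠ 0`. -/
def IsLat (L : Submodule O K) : Prop :=
  (∃ a : O, a ≠ 0 ∧ algebraMap O K a ∈ L) ∧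
    (∃ d : O, d ≠ 0 ∧ ∀ x ∈ L, algebraMap O K d * x ∈ (1 : Submodule O K))

theorem isLat_one : IsLat (1 : Submodule O K) := by
  refine ⟨⟨1, one_ne_zero, ?_⟩, ⟨1, one_ne_zero, ?_⟩⟩
  · rw [map_one]; exact Submodule.one_le.mp le_rfl
  · intro x hx
    rwa [map_one, one_mul]

theorem IsLat.of_le_le {I L J : Submodule O K} (hI : IsLat I) (hJ : IsLat J) (h1 : I ≤ L)
    (h2 : L ≤ J) : IsLat L := by
  obtain ⟨⟨a, ha, haI⟩, -⟩ := hI
  obtain ⟨-, ⟨d, hd, hdJ⟩⟩ := hJ
  exact ⟨⟨a, ha, h1 haI⟩, ⟨d, hd, fun x hx => hdJ x (h2 hx)⟩⟩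

theorem exists_mem_of_ne_zero {L : Submodule O K} {x : K} (hx : x ∈ L) (hx0 : x ≠ 0) :
    ∃ a : O, a ≠ 0 ∧ algebraMap O K a ∈ L := by
  obtain ⟨p, q, hq, rfl⟩ := IsFractionRing.div_surjective (A := O) x
  have hq0 : algebraMap O K q ≠ 0 := IsFractionRing.to_map_ne_zero_of_mem_nonZeroDivisors hq
  refine ⟨p, ?_, ?_⟩
  · rintro rfl
    apply hx0
    rw [map_zero, zero_div]
  · have : algebraMap O K p = q • (algebraMap O K p / algebraMap O K q) := by
      rw [Algebra.smul_def, mul_div_cancel₀ _ hq0]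
    rw [this]
    exact L.smul_mem q hx

theorem IsLat.sc {c : K} (hc : c ≠ 0) {I : Submodule O K} (hI : IsLat I) : IsLat (sc c I) := by
  obtain ⟨⟨a, ha, haI⟩, ⟨d, hd, hdI⟩⟩ := hI
  obtain ⟨p, q, hq, rfl⟩ := IsFractionRing.div_surjective (A := O) c
  have hq0 : algebraMap O K q ≠ 0 := IsFractionRing.to_map_ne_zero_of_mem_nonZeroDivisors hq
  have hq0' : q ≠ 0 := nonZeroDivisors.ne_zero hq
  constructor
  · refine exists_mem_of_ne_zero (x := algebraMap O K p / algebraMap O K q * algebraMap O K a)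
      (mem_sc.mpr ⟨_, haI, rfl⟩) (mul_ne_zero hc (algebraMap_ne_zero' ha))
  · refine ⟨d * q, mul_ne_zero hd hq0', ?_⟩
    intro y hy
    obtain ⟨x, hx, rfl⟩ := mem_sc.mp hy
    obtain ⟨z, hz⟩ := mem_one'.mp (hdI x hx)
    rw [mem_one']
    refine ⟨p * z, ?_⟩
    rw [map_mul, map_mul, hz]
    field_simp

theorem le_div_div (ω I : Submodule O K) : I ≤ ω / (ω / I) := by
  intro x hx
  rw [Submodule.mem_div_iff_forall_mul_mem]
  intro y hy
  rw [Submodule.mem_div_iff_forall_mul_mem] at hy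
  rw [mul_comm]
  exact hy x hx

theorem div_anti (ω : Submodule O K) {I J : Submodule O K} (h : I ≤ J) : ω / J ≤ ω / I := by
  intro x hx
  rw [Submodule.mem_div_iff_forall_mul_mem] at hx ⊢
  intro y hy
  exact hx y (h hy)

theorem div_div_div (ω I : Submodule O K) : ω / (ω / (ω / I)) = ω / I :=
  le_antisymm (div_anti ω (le_div_div ω I)) (le_div_div ω (ω / I))

theorem div_one' (ω : Submodule O K) : ω / (1 : Submodule O K) = ω := by
  ext x
  rw [Submodule.mem_div_iff_forall_mul_mem]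
  constructor
  · intro h
    have := h 1 (Submodule.one_le.mp le_rfl)
    rwa [mul_one] at this
  · intro hx y hy
    obtain ⟨a, rfl⟩ := mem_one'.mp hy
    rw [mul_comm, ← Algebra.smul_def]
    exact ω.smul_mem a hx

theorem div_sc (ω : Submodule O K) {c : K} (hc : c ≠ 0) (I : Submodule O K) :
    ω / (sc c I) = sc c⁻¹ (ω / I) := by
  ext x
  rw [mem_sc_iff (inv_ne_zero hc), inv_inv, Submodule.mem_div_iff_forall_mul_mem,
    Submodule.mem_div_iff_forall_mul_mem]
  constructor
  · intro h y hy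
    have h1 := h (c * y) (mem_sc.mpr ⟨y, hy, rfl⟩)
    have h2 : c * x * y = x * (c * y) := by ring
    rw [h2]
    exact h1
  · intro h y hy
    obtain ⟨z, hz, rfl⟩ := mem_sc.mp hy
    have h1 := h z hz
    have h2 : x * (c * z) = c * x * z := by ring
    rw [h2]
    exact h1

theorem IsLat.div {ω I : Submodule O K} (hω : IsLat ω) (hI : IsLat I) : IsLat (ω / I) := by
  obtain ⟨⟨a, ha, haI⟩, ⟨d, hd, hdI⟩⟩ := hI
  obtain ⟨⟨w, hw, hwω⟩, ⟨d', hd', hdω⟩⟩ := hω
  constructor
  · refine ⟨d * w, mul_ne_zero hd hw, ?_⟩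
    rw [Submodule.mem_div_iff_forall_mul_mem]
    intro y hy
    obtain ⟨z, hz⟩ := mem_one'.mp (hdI y hy)
    have : algebraMap O K (d * w) * y = z • algebraMap O K w := by
      rw [Algebra.smul_def, hz, map_mul]; ring
    rw [this]
    exact ω.smul_mem z hwω
  · refine ⟨d' * a, mul_ne_zero hd' ha, ?_⟩
    intro x hx
    rw [Submodule.mem_div_iff_forall_mul_mem] at hx
    have h1 := hdω _ (hx _ haI)
    rw [map_mul]
    have : algebraMap O K d' * algebraMap O K a * x = algebraMap O K d' * (x * algebraMap O K a) := by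
      ring
    rw [this]
    exact h1

/-- Finite length hypothesis in `K`-terms: `ℓ(O/xO) < ∞` for all nonzero `x`. -/
def FL (O : Type u) [CommRing O] [IsDomain O] (K : Type u) [Field K] [Algebra O K]
    [IsFractionRing O K] : Prop :=
  ∀ x : O, x ≠ 0 → qlen (sc (algebraMap O K x) (1 : Submodule O K)) (1 : Submodule O K) ≠ ⊤

theorem sc_one_le_of_mem {L : Submodule O K} {a : O} (ha : algebraMap O K a ∈ L) :
    sc (algebraMap O K a) (1 : Submodule O K) ≤ L := by
  intro y hy
  obtain ⟨x, hx, rfl⟩ := mem_sc.mp hy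
  obtain ⟨z, rfl⟩ := mem_one'.mp hx
  rw [mul_comm, ← Algebra.smul_def]
  exact L.smul_mem z ha

theorem qlen_ne_top (hFL : FL O K) {I J : Submodule O K} (hI : IsLat I) (hJ : IsLat J)
    (hIJ : I ≤ J) : qlen I J ≠ ⊤ := by
  obtain ⟨⟨a, ha, haI⟩, -⟩ := hI
  obtain ⟨-, ⟨d, hd, hdJ⟩⟩ := hJ
  have hd0 : algebraMap O K d ≠ 0 := algebraMap_ne_zero' hd
  rw [← qlen_sc hd0 I J]
  have h1 : sc (algebraMap O K d) J ≤ 1 := by
    intro y hy
    obtain ⟨x, hx, rfl⟩ := mem_sc.mp hy
    exact hdJ x hx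
  have h2 : sc (algebraMap O K (d * a)) (1 : Submodule O K) ≤ sc (algebraMap O K d) I := by
    rw [map_mul, ← sc_sc]
    exact sc_mono _ (sc_one_le_of_mem haI)
  have h3 := qlen_mono h2 (sc_mono (algebraMap O K d) hIJ) h1
  exact ne_top_of_le_ne_top (hFL (d * a) (mul_ne_zero hd ha)) h3

/-- Herbrand-type equality for lattices: `ℓ(L/xL) = ℓ(O/xO)`. -/
theorem qlen_sc_self (hFL : FL O K) {L : Submodule O K} (hL : IsLat L) {x : O} (hx : x ≠ 0) :
    qlen (sc (algebraMap O K x) L) L =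
      qlen (sc (algebraMap O K x) (1 : Submodule O K)) (1 : Submodule O K) := by
  have hx0 : algebraMap O K x ≠ 0 := algebraMap_ne_zero' hx
  obtain ⟨a, ha, haL⟩ := hL.1
  have ha0 : algebraMap O K a ≠ 0 := algebraMap_ne_zero' ha
  set A : Submodule O K := sc (algebraMap O K a) 1 with hA
  have hAL : A ≤ L := sc_one_le_of_mem haL
  have hxLL : sc (algebraMap O K x) L ≤ L := by
    intro y hy
    obtain ⟨z, hz, rfl⟩ := mem_sc.mp hy
    rw [← Algebra.smul_def]
    exact L.smul_mem x hz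
  have hxAA : sc (algebraMap O K x) A ≤ A := by
    intro y hy
    obtain ⟨z, hz, rfl⟩ := mem_sc.mp hy
    rw [← Algebra.smul_def]
    exact A.smul_mem x hz
  have e1 := qlen_add (sc_mono (algebraMap O K x) hAL) hxLL
  have e2 := qlen_add hxAA hAL
  have e3 : qlen (sc (algebraMap O K x) A) (sc (algebraMap O K x) L) = qlen A L := qlen_sc hx0 A L
  have e4 : qlen (sc (algebraMap O K x) A) A =
      qlen (sc (algebraMap O K x) (1 : Submodule O K)) (1 : Submodule O K) := by
    rw [hA, sc_sc, mul_comm, ← sc_sc]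
    exact qlen_sc ha0 _ _
  have hAlat : IsLat A := (isLat_one (O := O) (K := K)).sc ha0
  have hfin : qlen A L ≠ ⊤ := qlen_ne_top hFL hAlat hL hAL
  rw [e3] at e1
  rw [e1, e4] at e2
  have e5 : qlen (sc (algebraMap O K x) L) L + qlen A L =
      qlen (sc (algebraMap O K x) (1 : Submodule O K)) (1 : Submodule O K) + qlen A L := by
    rw [add_comm, e2]
  exact ENat.add_left_injective_of_ne_top hfin e5

end Lat

end Groth.Agent.Helper8.FracDual
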