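import Mathlib

/-!
# Two `Ext¹` computations from long exact sequences (helper8)
-/

namespace Groth.Agent.Helper8.FracDual

universe u

open CategoryTheory Abelian

section

variable {O : Type u} [CommRing O]

/-- `Hom(T,Q) ≃+ Ext⁰(T,Q)`. -/
noncomputable def hom0 (T Q : Type u) [AddCommGroup T] [Module O T] [AddCommGroup Q] [Module O Q] :
    (T →ₗ[O] Q) ≃+ Ext (ModuleCat.of O T) (ModuleCat.of O Q) 0 :=
  (ModuleCat.homAddEquiv (M := ModuleCat.of O T) (N := ModuleCat.of O Q)).symm.trans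
    Ext.addEquiv₀.symm

theorem hom0_apply (T Q : Type u) [AddCommGroup T] [Module O T] [AddCommGroup Q] [Module O Q]
    (φ : T →ₗ[O] Q) : hom0 T Q φ = Ext.mk₀ (ModuleCat.ofHom φ) := rfl

/-- For `0 → N → I → Q → 0` with `I` injective and `Hom(T,I) = 0`: `Ext¹(T,N) ≃ Hom(T,Q)`. -/
theorem ext_one_equiv_hom {N I Q T : Type u} [AddCommGroup N] [Module O N] [AddCommGroup I]
    [Module O I] [AddCommGroup Q] [Module O Q] [AddCommGroup T] [Module O T]
    (f : N →ₗ[O] I) (g : I →ₗ[O] Q) (hf : Function.Injective f) (hg : Function.Surjective g)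
    (hfg : Function.Exact f g) (hI : Module.Baer O I) (hT : ∀ φ : T →ₗ[O] I, φ = 0) :
    Nonempty (Ext (ModuleCat.of O T) (ModuleCat.of O N) 1 ≃+ (T →ₗ[O] Q)) := by
  let S : ShortComplex (ModuleCat.{u} O) :=
    ModuleCat.shortComplexOfCompEqZero f g hfg.linearMap_comp_eq_zero
  have hS : S.ShortExact := ModuleCat.shortComplex_shortExact _ hfg hf hg
  haveI : Module.Injective O I := hI.injective
  haveI : Injective (ModuleCat.of O I) := Module.injective_object_of_injective_module O I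
  let δ : (T →ₗ[O] Q) →+ Ext (ModuleCat.of O T) (ModuleCat.of O N) 1 :=
    (hS.extClass.postcomp (ModuleCat.of O T) (zero_add 1)).comp (hom0 T Q).toAddMonoidHom
  have hδ : ∀ ψ : T →ₗ[O] Q, δ ψ = (Ext.mk₀ (ModuleCat.ofHom ψ)).comp hS.extClass (zero_add 1) :=
    fun ψ => rfl
  refine ⟨(AddEquiv.ofBijective δ ⟨?_, ?_⟩).symm⟩
  · rw [injective_iff_map_eq_zero]
    intro ψ hψ
    rw [hδ] at hψ
    obtain ⟨x₂, hx₂⟩ := Ext.covariant_sequence_exact₃ (ModuleCat.of O T) hS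
      (Ext.mk₀ (ModuleCat.ofHom ψ)) (zero_add 1) hψ
    obtain ⟨φ, rfl⟩ := (Ext.mk₀_bijective _ _).2 x₂
    have hφ : φ = 0 := by
      apply ModuleCat.hom_ext
      exact hT φ.hom
    rw [hφ, Ext.mk₀_zero, Ext.zero_comp] at hx₂
    have h3 : ModuleCat.ofHom ψ = 0 := by
      apply (Ext.mk₀_bijective _ _).1
      rw [← hx₂, Ext.mk₀_zero]
    have h4 := congrArg ModuleCat.Hom.hom h3
    exact h4
  · intro x₁
    have hx : x₁.comp (Ext.mk₀ S.f) (add_zero 1) = 0 := Ext.eq_zero_of_injective _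
    obtain ⟨x₃, hx₃⟩ := Ext.covariant_sequence_exact₁ (ModuleCat.of O T) hS x₁ hx (zero_add 1)
    obtain ⟨ψ, rfl⟩ := (Ext.mk₀_bijective _ _).2 x₃
    exact ⟨ψ.hom, hx₃⟩

/-- For `0 → P → M → T → 0` with `P` projective and `Hom(M,Y) → Hom(P,Y)` surjective:
`Ext¹(T,Y) ≃ Ext¹(M,Y)`. -/
theorem ext_one_equiv_of_sub {P M T Y : Type u} [AddCommGroup P] [Module O P] [AddCommGroup M]
    [Module O M] [AddCommGroup T] [Module O T] [AddCommGroup Y] [Module O Y]
    (f : P →ₗ[O] M) (g : M →ₗ[O] T) (hf : Function.Injective f) (hg : Function.Surjective g)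
    (hfg : Function.Exact f g) [Module.Projective O P]
    (hext : ∀ φ : P →ₗ[O] Y, ∃ ψ : M →ₗ[O] Y, ψ ∘ₗ f = φ) :
    Nonempty (Ext (ModuleCat.of O T) (ModuleCat.of O Y) 1 ≃+
      Ext (ModuleCat.of O M) (ModuleCat.of O Y) 1) := by
  let S : ShortComplex (ModuleCat.{u} O) :=
    ModuleCat.shortComplexOfCompEqZero f g hfg.linearMap_comp_eq_zero
  have hS : S.ShortExact := ModuleCat.shortComplex_shortExact _ hfg hf hg
  haveI : Projective (ModuleCat.of O P) :=
    (IsProjective.iff_projective (R := O) (P := P)).mp inferInstance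
  let γ : Ext (ModuleCat.of O T) (ModuleCat.of O Y) 1 →+
      Ext (ModuleCat.of O M) (ModuleCat.of O Y) 1 :=
    (Ext.mk₀ S.g).precomp (ModuleCat.of O Y) (zero_add 1)
  have hγ : ∀ x, γ x = (Ext.mk₀ S.g).comp x (zero_add 1) := fun x => rfl
  refine ⟨AddEquiv.ofBijective γ ⟨?_, ?_⟩⟩
  · rw [injective_iff_map_eq_zero]
    intro x hx
    rw [hγ] at hx
    obtain ⟨x₁, hx₁⟩ := Ext.contravariant_sequence_exact₃ hS (ModuleCat.of O Y) x hx
      (add_zero 1)
    obtain ⟨φ, rfl⟩ := (Ext.mk₀_bijective _ _).2 x₁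
    obtain ⟨ψ, hψ⟩ := hext φ.hom
    have h1 : φ = S.f ≫ ModuleCat.ofHom ψ := by
      apply ModuleCat.hom_ext
      exact hψ.symm
    rw [← hx₁, h1, ← Ext.mk₀_comp_mk₀]
    exact hS.extClass_comp_assoc _
  · intro x₂
    have h : (Ext.mk₀ S.f).comp x₂ (zero_add 1) = 0 :=
      Ext.eq_zero_of_projective (P := ModuleCat.of O P) _
    obtain ⟨x₁, hx₁⟩ := Ext.contravariant_sequence_exact₂ hS (ModuleCat.of O Y) x₂ h
    exact ⟨x₁, hx₁⟩

end

end Groth.Agent.Helper8.FracDual
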