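import Mathlib
import Groth.Agent.Lib.Helper8.FracDual7

/-!
# Dimension shifting for `Ext` of modules (helper8)
-/

namespace Groth.Agent.Helper8.FracDual

universe u

open CategoryTheory Abelian

section

variable {O : Type u} [CommRing O]
  {A B C : Type u} [AddCommGroup A] [Module O A] [AddCommGroup B] [Module O B]
  [AddCommGroup C] [Module O C]

/-- vanishing of `Ext^j(X,N)`, `j ≥ 1`, for a submodule `X` of a projective module when `N` has
injective dimension `≤ 1`. -/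
theorem ext_subsingleton_of_sub {X F N : Type u} [AddCommGroup X] [Module O X] [AddCommGroup F]
    [Module O F] [AddCommGroup N] [Module O N] [Module.Projective O F]
    (ι : X →ₗ[O] F) (hι : Function.Injective ι)
    (hN : HasInjectiveDimensionLT (ModuleCat.of O N) 2) (j : ℕ) (hj : 1 ≤ j) :
    Subsingleton (Ext (ModuleCat.of O X) (ModuleCat.of O N) j) := by
  let g : F →ₗ[O] (F ⧸ LinearMap.range ι) := (LinearMap.range ι).mkQ
  have hfg : Function.Exact ι g := by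
    intro y
    rw [Submodule.mkQ_apply, Submodule.Quotient.mk_eq_zero]
    rfl
  let S : ShortComplex (ModuleCat.{u} O) :=
    ModuleCat.shortComplexOfCompEqZero ι g hfg.linearMap_comp_eq_zero
  have hS : S.ShortExact :=
    ModuleCat.shortComplex_shortExact _ hfg hι (Submodule.mkQ_surjective _)
  haveI : Projective (ModuleCat.of O F) :=
    (IsProjective.iff_projective (R := O) (P := F)).mp inferInstance
  refine ⟨fun a b => ?_⟩
  suffices h : ∀ x : Ext (ModuleCat.of O X) (ModuleCat.of O N) j, x = 0 by rw [h a, h b]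
  intro x
  have h1 : hS.extClass.comp x (add_comm 1 j) = 0 :=
    Ext.eq_zero_of_hasInjectiveDimensionLT _ 2 (by omega)
  obtain ⟨x₂, hx₂⟩ := Ext.contravariant_sequence_exact₁ hS (ModuleCat.of O N) x (add_comm 1 j) h1
  obtain ⟨j', rfl⟩ : ∃ j', j = j' + 1 := ⟨j - 1, by omega⟩
  have h0 : x₂ = 0 := Ext.eq_zero_of_projective (P := ModuleCat.of O F) _
  rw [← hx₂, h0, Ext.comp_zero]

variable (f : A →ₗ[O] B) (g : B →ₗ[O] C) (hf : Function.Injective f)
  (hg : Function.Surjective g) (hfg : Function.Exact f g)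

include hf hg hfg in
/-- covariant shift: `Ext^i(X,C) ≃ Ext^{i+1}(X,A)` for `i ≥ 1` when `Ext^j(X,B) = 0`, `j ≥ 1`. -/
theorem ext_shift_right (X : Type u) [AddCommGroup X] [Module O X]
    (hB : ∀ j, 1 ≤ j → Subsingleton (Ext (ModuleCat.of O X) (ModuleCat.of O B) j))
    (i : ℕ) (hi : 1 ≤ i) :
    Nonempty (Ext (ModuleCat.of O X) (ModuleCat.of O C) i ≃+
      Ext (ModuleCat.of O X) (ModuleCat.of O A) (i + 1)) := by
  let S : ShortComplex (ModuleCat.{u} O) :=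
    ModuleCat.shortComplexOfCompEqZero f g hfg.linearMap_comp_eq_zero
  have hS : S.ShortExact := ModuleCat.shortComplex_shortExact _ hfg hf hg
  let δ : Ext (ModuleCat.of O X) (ModuleCat.of O C) i →+
      Ext (ModuleCat.of O X) (ModuleCat.of O A) (i + 1) :=
    hS.extClass.postcomp (ModuleCat.of O X) (rfl : i + 1 = i + 1)
  have hδ : ∀ x, δ x = x.comp hS.extClass (rfl : i + 1 = i + 1) := fun x => rfl
  refine ⟨AddEquiv.ofBijective δ ⟨?_, ?_⟩⟩
  · rw [injective_iff_map_eq_zero]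
    intro a ha
    rw [hδ] at ha
    obtain ⟨x₂, hx₂⟩ := Ext.covariant_sequence_exact₃ (ModuleCat.of O X) hS a rfl ha
    have : x₂ = 0 := (hB i hi).elim _ _
    rw [← hx₂, this, Ext.zero_comp]
  · intro b
    have hb : b.comp (Ext.mk₀ S.f) (add_zero (i + 1)) = 0 := (hB (i + 1) (by omega)).elim _ _
    obtain ⟨x₃, hx₃⟩ := Ext.covariant_sequence_exact₁ (ModuleCat.of O X) hS b hb rfl
    exact ⟨x₃, hx₃⟩

include hf hg hfg in
/-- covariant connecting map in degree `0`: `Hom(X,C) → Ext¹(X,A)` is onto with kernel the maps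
lifting to `B`, when `Ext¹(X,B) = 0`. -/
theorem ext_one_right (X : Type u) [AddCommGroup X] [Module O X]
    (hB : Subsingleton (Ext (ModuleCat.of O X) (ModuleCat.of O B) 1)) :
    ∃ δ : (X →ₗ[O] C) →+ Ext (ModuleCat.of O X) (ModuleCat.of O A) 1,
      Function.Surjective δ ∧ ∀ ψ : X →ₗ[O] C, δ ψ = 0 ↔ ∃ φ : X →ₗ[O] B, g ∘ₗ φ = ψ := by
  let S : ShortComplex (ModuleCat.{u} O) :=
    ModuleCat.shortComplexOfCompEqZero f g hfg.linearMap_comp_eq_zero
  have hS : S.ShortExact := ModuleCat.shortComplex_shortExact _ hfg hf hg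
  let δ : (X →ₗ[O] C) →+ Ext (ModuleCat.of O X) (ModuleCat.of O A) 1 :=
    (hS.extClass.postcomp (ModuleCat.of O X) (zero_add 1)).comp (hom0 X C).toAddMonoidHom
  have hδ : ∀ ψ : X →ₗ[O] C, δ ψ = (Ext.mk₀ (ModuleCat.ofHom ψ)).comp hS.extClass (zero_add 1) :=
    fun ψ => rfl
  refine ⟨δ, ?_, ?_⟩
  · intro x₁
    have hx : x₁.comp (Ext.mk₀ S.f) (add_zero 1) = 0 := hB.elim _ _
    obtain ⟨x₃, hx₃⟩ := Ext.covariant_sequence_exact₁ (ModuleCat.of O X) hS x₁ hx (zero_add 1)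
    obtain ⟨ψ, rfl⟩ := (Ext.mk₀_bijective _ _).2 x₃
    exact ⟨ψ.hom, hx₃⟩
  · intro ψ
    rw [hδ]
    constructor
    · intro h
      obtain ⟨x₂, hx₂⟩ := Ext.covariant_sequence_exact₃ (ModuleCat.of O X) hS
        (Ext.mk₀ (ModuleCat.ofHom ψ)) (zero_add 1) h
      obtain ⟨φ, rfl⟩ := (Ext.mk₀_bijective _ _).2 x₂
      rw [Ext.mk₀_comp_mk₀] at hx₂
      have h3 := (Ext.mk₀_bijective _ _).1 hx₂
      refine ⟨φ.hom, ?_⟩
      have h4 := congrArg ModuleCat.Hom.hom h3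
      exact h4
    · rintro ⟨φ, rfl⟩
      have h1 : Ext.mk₀ (ModuleCat.ofHom (g ∘ₗ φ)) =
          (Ext.mk₀ (ModuleCat.ofHom φ)).comp (Ext.mk₀ S.g) (add_zero 0) := by
        rw [Ext.mk₀_comp_mk₀]
        rfl
      rw [h1, Ext.comp_assoc_of_second_deg_zero, hS.comp_extClass, Ext.comp_zero]

include hf hg hfg in
/-- contravariant shift: `Ext^i(A,Y) ≃ Ext^{i+1}(C,Y)` for `i ≥ 1` when `Ext^j(B,Y) = 0`,
`j ≥ 1`. -/
theorem ext_shift_left (Y : Type u) [AddCommGroup Y] [Module O Y]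
    (hB : ∀ j, 1 ≤ j → Subsingleton (Ext (ModuleCat.of O B) (ModuleCat.of O Y) j))
    (i : ℕ) (hi : 1 ≤ i) :
    Nonempty (Ext (ModuleCat.of O A) (ModuleCat.of O Y) i ≃+
      Ext (ModuleCat.of O C) (ModuleCat.of O Y) (i + 1)) := by
  let S : ShortComplex (ModuleCat.{u} O) :=
    ModuleCat.shortComplexOfCompEqZero f g hfg.linearMap_comp_eq_zero
  have hS : S.ShortExact := ModuleCat.shortComplex_shortExact _ hfg hf hg
  let δ : Ext (ModuleCat.of O A) (ModuleCat.of O Y) i →+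
      Ext (ModuleCat.of O C) (ModuleCat.of O Y) (i + 1) :=
    hS.extClass.precomp (ModuleCat.of O Y) (add_comm 1 i)
  have hδ : ∀ x, δ x = hS.extClass.comp x (add_comm 1 i) := fun x => rfl
  refine ⟨AddEquiv.ofBijective δ ⟨?_, ?_⟩⟩
  · rw [injective_iff_map_eq_zero]
    intro a ha
    rw [hδ] at ha
    obtain ⟨x₂, hx₂⟩ := Ext.contravariant_sequence_exact₁ hS (ModuleCat.of O Y) a
      (add_comm 1 i) ha
    have : x₂ = 0 := (hB i hi).elim _ _
    rw [← hx₂, this, Ext.comp_zero]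
  · intro b
    have hb : (Ext.mk₀ S.g).comp b (zero_add (i + 1)) = 0 := (hB (i + 1) (by omega)).elim _ _
    obtain ⟨x₁, hx₁⟩ := Ext.contravariant_sequence_exact₃ hS (ModuleCat.of O Y) b hb
      (add_comm 1 i)
    exact ⟨x₁, hx₁⟩

include hf hg hfg in
/-- contravariant connecting map in degree `0`: `Hom(A,Y) → Ext¹(C,Y)` is onto with kernel the
maps extending to `B`, when `Ext¹(B,Y) = 0`. -/
theorem ext_one_left (Y : Type u) [AddCommGroup Y] [Module O Y]
    (hB : Subsingleton (Ext (ModuleCat.of O B) (ModuleCat.of O Y) 1)) :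
    ∃ δ : (A →ₗ[O] Y) →+ Ext (ModuleCat.of O C) (ModuleCat.of O Y) 1,
      Function.Surjective δ ∧ ∀ ψ : A →ₗ[O] Y, δ ψ = 0 ↔ ∃ φ : B →ₗ[O] Y, φ ∘ₗ f = ψ := by
  let S : ShortComplex (ModuleCat.{u} O) :=
    ModuleCat.shortComplexOfCompEqZero f g hfg.linearMap_comp_eq_zero
  have hS : S.ShortExact := ModuleCat.shortComplex_shortExact _ hfg hf hg
  let δ : (A →ₗ[O] Y) →+ Ext (ModuleCat.of O C) (ModuleCat.of O Y) 1 :=
    (hS.extClass.precomp (ModuleCat.of O Y) (add_zero 1)).comp (hom0 A Y).toAddMonoidHom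
  have hδ : ∀ ψ : A →ₗ[O] Y, δ ψ = hS.extClass.comp (Ext.mk₀ (ModuleCat.ofHom ψ)) (add_zero 1) :=
    fun ψ => rfl
  refine ⟨δ, ?_, ?_⟩
  · intro b
    have hb : (Ext.mk₀ S.g).comp b (zero_add 1) = 0 := hB.elim _ _
    obtain ⟨x₁, hx₁⟩ := Ext.contravariant_sequence_exact₃ hS (ModuleCat.of O Y) b hb (add_zero 1)
    obtain ⟨ψ, rfl⟩ := (Ext.mk₀_bijective _ _).2 x₁
    exact ⟨ψ.hom, hx₁⟩
  · intro ψ
    rw [hδ]
    constructor
    · intro h
      obtain ⟨x₂, hx₂⟩ := Ext.contravariant_sequence_exact₁ hS (ModuleCat.of O Y)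
        (Ext.mk₀ (ModuleCat.ofHom ψ)) (add_zero 1) h
      obtain ⟨φ, rfl⟩ := (Ext.mk₀_bijective _ _).2 x₂
      rw [Ext.mk₀_comp_mk₀] at hx₂
      have h3 := (Ext.mk₀_bijective _ _).1 hx₂
      refine ⟨φ.hom, ?_⟩
      have h4 := congrArg ModuleCat.Hom.hom h3
      exact h4
    · rintro ⟨φ, rfl⟩
      have h1 : Ext.mk₀ (ModuleCat.ofHom (φ ∘ₗ f)) =
          (Ext.mk₀ S.f).comp (Ext.mk₀ (ModuleCat.ofHom φ)) (zero_add 0) := by
        rw [Ext.mk₀_comp_mk₀]
        rfl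
      rw [h1]
      exact hS.extClass_comp_assoc _

end

end Groth.Agent.Helper8.FracDual
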