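import Mathlib
import Groth.Agent.Lib.Helper8.FracDual9

/-!
# Swapping `Ext` through a duality `D = Hom(-, W)` (helper8)

For a module `W` of injective dimension `≤ 1` (as well as its finite powers) and modules `X`, `Y`
embedded in finite free modules: `Ext^i(X, Hom(Y,W)) ≃ Ext^i(Y, Hom(X,W))`.
-/

namespace Groth.Agent.Helper8.FracDual

universe u

open CategoryTheory Abelian

/-- comparison of two cokernels. -/
theorem addEquiv_of_surjective {A₁ A₂ E₁ E₂ : Type*} [AddCommGroup A₁] [AddCommGroup A₂]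
    [AddCommGroup E₁] [AddCommGroup E₂] (δ₁ : A₁ →+ E₁) (δ₂ : A₂ →+ E₂)
    (h₁ : Function.Surjective δ₁) (h₂ : Function.Surjective δ₂) (e : A₁ ≃+ A₂)
    (h : ∀ a, δ₁ a = 0 ↔ δ₂ (e a) = 0) : Nonempty (E₁ ≃+ E₂) := by
  have he : δ₁.ker.map (e : A₁ →+ A₂) = δ₂.ker := by
    ext b
    constructor
    · rintro ⟨a, ha, rfl⟩
      have ha' : δ₁ a = 0 := AddMonoidHom.mem_ker.mp ha
      exact AddMonoidHom.mem_ker.mpr ((h a).mp ha')
    · intro hb
      have hb' : δ₂ b = 0 := AddMonoidHom.mem_ker.mp hb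
      refine ⟨e.symm b, ?_, ?_⟩
      · show δ₁ (e.symm b) = 0
        rw [h, AddEquiv.apply_symm_apply]
        exact hb'
      · show e (e.symm b) = b
        exact AddEquiv.apply_symm_apply e b
  exact ⟨(QuotientAddGroup.quotientKerEquivOfSurjective δ₁ h₁).symm.trans
    ((QuotientAddGroup.congr δ₁.ker δ₂.ker e he).trans
      (QuotientAddGroup.quotientKerEquivOfSurjective δ₂ h₂))⟩

/-- `X` embeds in a finite free module. -/
def SubFree (O : Type u) [CommRing O] (X : Type u) [AddCommGroup X] [Module O X] : Prop :=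
  ∃ (n : ℕ) (ι : X →ₗ[O] (Fin n → O)), Function.Injective ι

section

variable {O : Type u} [CommRing O] (W : Type u) [AddCommGroup W] [Module O W]

/-- the restriction map `Hom(B,W) → Hom(A,W)` is onto when `Ext¹(C,W) = 0`. -/
theorem dual_surjective_of_ext {A B C : Type u} [AddCommGroup A] [Module O A] [AddCommGroup B]
    [Module O B] [AddCommGroup C] [Module O C] (f : A →ₗ[O] B) (g : B →ₗ[O] C)
    (hf : Function.Injective f) (hg : Function.Surjective g) (hfg : Function.Exact f g)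
    (hB : Subsingleton (Ext (ModuleCat.of O B) (ModuleCat.of O W) 1))
    (hC : Subsingleton (Ext (ModuleCat.of O C) (ModuleCat.of O W) 1)) :
    Function.Surjective (LinearMap.lcomp O W f) := by
  obtain ⟨δ, -, hδ⟩ := ext_one_left f g hf hg hfg W hB
  intro ψ
  obtain ⟨φ, hφ⟩ := (hδ ψ).mp (hC.elim _ _)
  exact ⟨φ, hφ⟩

theorem ext_free_subsingleton (m : ℕ) (Z : Type u) [AddCommGroup Z] [Module O Z] (j : ℕ)
    (hj : 1 ≤ j) : Subsingleton (Ext (ModuleCat.of O (Fin m → O)) (ModuleCat.of O Z) j) := by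
  haveI : Projective (ModuleCat.of O (Fin m → O)) :=
    (IsProjective.iff_projective (R := O) (P := (Fin m → O))).mp inferInstance
  obtain ⟨j', rfl⟩ : ∃ j', j = j' + 1 := ⟨j - 1, by omega⟩
  refine ⟨fun a b => ?_⟩
  rw [Ext.eq_zero_of_projective a, Ext.eq_zero_of_projective b]

variable [IsNoetherianRing O]

/-- **Swap.** -/
theorem swap (hW : ∀ n : ℕ, HasInjectiveDimensionLT (ModuleCat.of O ((Fin n → O) →ₗ[O] W)) 2)
    (hW1 : HasInjectiveDimensionLT (ModuleCat.of O W) 2)
    (X : Type u) [AddCommGroup X] [Module O X] (hX : SubFree O X) (i : ℕ) :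
    ∀ (Y : Type u) [AddCommGroup Y] [Module O Y] [Module.Finite O Y], SubFree O Y →
      Nonempty (Ext (ModuleCat.of O X) (ModuleCat.of O (Y →ₗ[O] W)) i ≃+
        Ext (ModuleCat.of O Y) (ModuleCat.of O (X →ₗ[O] W)) i) := by
  obtain ⟨nX, ιX, hιX⟩ := hX
  have vanX : ∀ (n : ℕ) (j : ℕ), 1 ≤ j →
      Subsingleton (Ext (ModuleCat.of O X) (ModuleCat.of O ((Fin n → O) →ₗ[O] W)) j) :=
    fun n j hj => ext_subsingleton_of_sub ιX hιX (hW n) j hj
  induction i with
  | zero =>
    intro Y _ _ _ _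
    exact ⟨(hom0 X (Y →ₗ[O] W)).symm.trans
      ((LinearMap.lflip (R₀ := O)).toAddEquiv.trans (hom0 Y (X →ₗ[O] W)))⟩
  | succ i ih =>
    intro Y _ _ _ hY
    obtain ⟨nY, ιY, hιY⟩ := hY
    obtain ⟨m, π, hπ⟩ := Module.Finite.exists_fin' O Y
    let Y' : Submodule O (Fin m → O) := LinearMap.ker π
    have hex : Function.Exact Y'.subtype π := LinearMap.exact_subtype_ker_map π
    have hinj : Function.Injective Y'.subtype := Submodule.injective_subtype Y'
    have hY' : SubFree O Y' := ⟨m, Y'.subtype, hinj⟩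
    have hYW : Subsingleton (Ext (ModuleCat.of O Y) (ModuleCat.of O W) 1) :=
      ext_subsingleton_of_sub ιY hιY hW1 1 le_rfl
    let Dπ : (Y →ₗ[O] W) →ₗ[O] ((Fin m → O) →ₗ[O] W) := LinearMap.lcomp O W π
    let Dι : ((Fin m → O) →ₗ[O] W) →ₗ[O] (Y' →ₗ[O] W) := LinearMap.lcomp O W Y'.subtype
    have hDπ : Function.Injective Dπ := LinearMap.lcomp_injective_of_surjective π hπ
    have hDex : Function.Exact Dπ Dι := LinearMap.exact_lcomp_of_exact_of_surjective W hex hπ
    have hDι : Function.Surjective Dι :=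
      dual_surjective_of_ext W Y'.subtype π hinj hπ hex (ext_free_subsingleton m W 1 le_rfl) hYW
    rcases Nat.eq_zero_or_pos i with rfl | hi
    · obtain ⟨δ₁, hs₁, hk₁⟩ := ext_one_right Dπ Dι hDπ hDι hDex X (vanX m 1 le_rfl)
      obtain ⟨δ₂, hs₂, hk₂⟩ := ext_one_left Y'.subtype π hinj hπ hex (X →ₗ[O] W)
        (ext_free_subsingleton m _ 1 le_rfl)
      refine addEquiv_of_surjective δ₁ δ₂ hs₁ hs₂ (LinearMap.lflip (R₀ := O)).toAddEquiv ?_
      intro ψ
      rw [hk₁, hk₂]
      constructor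
      · rintro ⟨φ, rfl⟩
        refine ⟨LinearMap.flip φ, ?_⟩
        ext y x
        rfl
      · rintro ⟨φ, hφ⟩
        refine ⟨LinearMap.flip φ, ?_⟩
        ext x y
        have h1 := congrArg (fun t => t y x) hφ
        exact h1
    · obtain ⟨e1⟩ := ih Y' hY'
      obtain ⟨e2⟩ := ext_shift_right Dπ Dι hDπ hDι hDex X (vanX m) i hi
      obtain ⟨e3⟩ := ext_shift_left Y'.subtype π hinj hπ hex (X →ₗ[O] W)
        (ext_free_subsingleton m _) i hi
      exact ⟨e2.symm.trans (e1.trans e3)⟩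

end

end Groth.Agent.Helper8.FracDual
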