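import Mathlib
import Groth.Agent.Lib.Helper8.FracDual1

/-!
# Duality on lattices with respect to a canonical ideal (helper8)

`ω ⊆ K` a lattice with `K/ω` an injective (Baer) `O`-module, `O` a local domain with
`ℓ(O/xO) < ∞` for `x ≠ 0`. Then `ℓ((ω:I)/(ω:J)) = ℓ(J/I)` and `ω:(ω:I) = I` for lattices.
-/

namespace Groth.Agent.Helper8.FracDual

universe u

section Matlis

variable {O : Type u} [CommRing O] [IsLocalRing O]

/-- For a Baer-injective module `E` over a local ring, `ℓ(Hom(T,E)) = r·ℓ(T)` for `T` of finite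
length, `r = ℓ(Hom(k,E))`. -/
theorem length_hom_eq (E : Type u) [AddCommGroup E] [Module O E] (hE : Module.Baer O E)
    (T : Type u) [AddCommGroup T] [Module O T] (hT : IsFiniteLength O T) :
    Module.length O (T →ₗ[O] E) =
      Module.length O ((O ⧸ IsLocalRing.maximalIdeal O) →ₗ[O] E) * Module.length O T := by
  induction hT with
  | @of_subsingleton M _ _ hsub =>
    have hsub' : Subsingleton (M →ₗ[O] E) :=
      ⟨fun a b => LinearMap.ext fun x => by rw [Subsingleton.elim x 0, map_zero, map_zero]⟩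
    rw [Module.length_eq_zero_iff.mpr hsub', Module.length_eq_zero_iff.mpr hsub, mul_zero]
  | @of_simple_quotient M _ _ N hs hN ih =>
    obtain ⟨m, hm, ⟨e⟩⟩ := isSimpleModule_iff_quot_maximal.mp hs
    have hmm : m = IsLocalRing.maximalIdeal O := IsLocalRing.eq_maximalIdeal hm
    subst hmm
    let f : ((M ⧸ N) →ₗ[O] E) →ₗ[O] (M →ₗ[O] E) := LinearMap.lcomp O E N.mkQ
    let g : (M →ₗ[O] E) →ₗ[O] (↥N →ₗ[O] E) := LinearMap.lcomp O E N.subtype
    have hf : Function.Injective f := by
      intro a b hab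
      apply Submodule.linearMap_qext
      exact hab
    have hg : Function.Surjective g := by
      intro ψ
      obtain ⟨h, hh⟩ := hE.extension_property N.subtype (Submodule.injective_subtype N) ψ
      exact ⟨h, hh⟩
    have H : Function.Exact f g := by
      intro ψ
      constructor
      · intro hψ
        have hker : N ≤ LinearMap.ker ψ := by
          intro n hn
          rw [LinearMap.mem_ker]
          exact LinearMap.congr_fun hψ ⟨n, hn⟩
        refine ⟨N.liftQ ψ hker, ?_⟩
        exact N.liftQ_mkQ ψ hker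
      · rintro ⟨φ, rfl⟩
        ext n
        show φ (N.mkQ (n : M)) = 0
        rw [Submodule.mkQ_apply, (Submodule.Quotient.mk_eq_zero N).mpr n.2, map_zero]
    have e1 := Module.length_eq_add_of_exact f g hf hg H
    have e2 := Module.length_eq_add_of_exact N.subtype N.mkQ (Submodule.injective_subtype N)
      (Submodule.mkQ_surjective N) (LinearMap.exact_subtype_mkQ N)
    have e3 : Module.length O ((M ⧸ N) →ₗ[O] E) =
        Module.length O ((O ⧸ IsLocalRing.maximalIdeal O) →ₗ[O] E) :=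
      (LinearEquiv.congrLeft E O e).length_eq
    have e4 : Module.length O (M ⧸ N) = 1 := by
      rw [Module.length_eq_one_iff]
      exact hs
    rw [e1, e2, e3, ih, e4, mul_add, mul_one, add_comm]

end Matlis

section Dual

variable {O : Type u} [CommRing O] [IsDomain O] {K : Type u} [Field K] [Algebra O K]
  [IsFractionRing O K]

/-- `x ↦ (j ↦ [x j]) : K → Hom(J, K/ω)`. -/
noncomputable def Phi (ω J : Submodule O K) : K →ₗ[O] (↥J →ₗ[O] K ⧸ ω) where
  toFun x := ω.mkQ ∘ₗ (LinearMap.mulLeft O x) ∘ₗ J.subtype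
  map_add' x y := by
    ext j
    simp [add_mul]
  map_smul' a x := by
    ext j
    simp

theorem Phi_apply (ω J : Submodule O K) (x : K) (j : ↥J) :
    Phi ω J x j = Submodule.Quotient.mk (x * (j : K)) := rfl

theorem Phi_eq_zero_iff (ω J : Submodule O K) (x : K) : Phi ω J x = 0 ↔ x ∈ ω / J := by
  rw [Submodule.mem_div_iff_forall_mul_mem]
  constructor
  · intro h y hy
    have := LinearMap.congr_fun h ⟨y, hy⟩
    rw [Phi_apply, LinearMap.zero_apply, Submodule.Quotient.mk_eq_zero] at this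
    exact this
  · intro h
    ext j
    rw [Phi_apply, LinearMap.zero_apply, Submodule.Quotient.mk_eq_zero]
    exact h j j.2

theorem Phi_surjective (ω : Submodule O K) (hE : Module.Baer O (K ⧸ ω)) {J : Submodule O K}
    (hJ : ∃ d : O, d ≠ 0 ∧ ∀ x ∈ J, algebraMap O K d * x ∈ (1 : Submodule O K)) :
    Function.Surjective (Phi ω J) := by
  intro ψ
  obtain ⟨d, hd, hdJ⟩ := hJ
  have hd0 : algebraMap O K d ≠ 0 := algebraMap_ne_zero' hd
  obtain ⟨Ψ, hΨ⟩ := hE.extension_property J.subtype (Submodule.injective_subtype J) ψ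
  obtain ⟨y, hy⟩ := Submodule.Quotient.mk_surjective ω (Ψ (algebraMap O K d)⁻¹)
  refine ⟨y * algebraMap O K d, ?_⟩
  ext j
  rw [Phi_apply]
  obtain ⟨a, ha⟩ := mem_one'.mp (hdJ j j.2)
  have h1 : ((j : K)) = a • (algebraMap O K d)⁻¹ := by
    rw [Algebra.smul_def, ha]
    field_simp
  have h2 : ψ j = Ψ (j : K) := by
    rw [← hΨ]; rfl
  rw [h2, h1, map_smul, ← hy, ← Submodule.Quotient.mk_smul]
  congr 1
  rw [Algebra.smul_def, Algebra.smul_def]
  field_simp

/-- The comparison map `(ω:I) → Hom(J/I, K/ω)`. -/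
noncomputable def Psi (ω : Submodule O K) {I J : Submodule O K} :
    ↥(ω / I) →ₗ[O] ((↥J ⧸ I.submoduleOf J) →ₗ[O] K ⧸ ω) where
  toFun x := (I.submoduleOf J).liftQ (Phi ω J (x : K)) (by
    intro j hj
    rw [LinearMap.mem_ker, Phi_apply, Submodule.Quotient.mk_eq_zero]
    exact (Submodule.mem_div_iff_forall_mul_mem.mp x.2) _ hj)
  map_add' x y := by
    apply Submodule.linearMap_qext
    ext j
    simp [Phi_apply]
  map_smul' a x := by
    apply Submodule.linearMap_qext
    ext j
    simp [Phi_apply]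

theorem Psi_apply (ω : Submodule O K) {I J : Submodule O K} (x : ↥(ω / I)) (j : ↥J) :
    Psi ω (I := I) (J := J) x (Submodule.Quotient.mk j) = Submodule.Quotient.mk ((x : K) * (j : K)) :=
  rfl

theorem ker_Psi (ω : Submodule O K) {I J : Submodule O K} :
    LinearMap.ker (Psi ω (I := I) (J := J)) = (ω / J).submoduleOf (ω / I) := by
  ext x
  rw [LinearMap.mem_ker]
  show _ ↔ (x : K) ∈ ω / J
  rw [← Phi_eq_zero_iff]
  constructor
  · intro h
    ext j
    have := LinearMap.congr_fun h (Submodule.Quotient.mk j)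
    rw [Psi_apply] at this
    rw [Phi_apply]
    exact this
  · intro h
    apply Submodule.linearMap_qext
    ext j
    show Psi ω (I := I) (J := J) x (Submodule.Quotient.mk j) = 0
    rw [Psi_apply]
    have := LinearMap.congr_fun h j
    rw [Phi_apply] at this
    exact this

theorem Psi_surjective (ω : Submodule O K) (hE : Module.Baer O (K ⧸ ω)) {I J : Submodule O K}
    (hIJ : I ≤ J)
    (hJ : ∃ d : O, d ≠ 0 ∧ ∀ x ∈ J, algebraMap O K d * x ∈ (1 : Submodule O K)) :
    Function.Surjective (Psi ω (I := I) (J := J)) := by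
  intro ψ
  obtain ⟨x, hx⟩ := Phi_surjective ω hE hJ (ψ ∘ₗ (I.submoduleOf J).mkQ)
  have hxI : x ∈ ω / I := by
    rw [Submodule.mem_div_iff_forall_mul_mem]
    intro i hi
    have := LinearMap.congr_fun hx ⟨i, hIJ hi⟩
    rw [Phi_apply, LinearMap.comp_apply, Submodule.mkQ_apply,
      (Submodule.Quotient.mk_eq_zero _).mpr (show (⟨i, hIJ hi⟩ : ↥J) ∈ I.submoduleOf J from hi),
      map_zero, Submodule.Quotient.mk_eq_zero] at this
    exact this
  refine ⟨⟨x, hxI⟩, ?_⟩
  apply Submodule.linearMap_qext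
  ext j
  show Psi ω (I := I) (J := J) ⟨x, hxI⟩ (Submodule.Quotient.mk j) = _
  rw [Psi_apply]
  have := LinearMap.congr_fun hx j
  rw [Phi_apply] at this
  exact this

variable [IsLocalRing O]

/-- the type of `ω`: `ℓ(Hom(k, K/ω))`. -/
noncomputable def typ (ω : Submodule O K) : ℕ∞ :=
  Module.length O ((O ⧸ IsLocalRing.maximalIdeal O) →ₗ[O] K ⧸ ω)

theorem qlen_div_eq_typ_mul (ω : Submodule O K) (hE : Module.Baer O (K ⧸ ω))
    {I J : Submodule O K} (hIJ : I ≤ J)
    (hJ : ∃ d : O, d ≠ 0 ∧ ∀ x ∈ J, algebraMap O K d * x ∈ (1 : Submodule O K))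
    (hfin : qlen I J ≠ ⊤) :
    qlen (ω / J) (ω / I) = typ ω * qlen I J := by
  have e := LinearMap.quotKerEquivOfSurjective _ (Psi_surjective ω hE hIJ hJ)
  have e' := (Submodule.quotEquivOfEq _ _ (ker_Psi ω (I := I) (J := J))).symm.trans e
  unfold qlen typ
  rw [e'.length_eq]
  exact length_hom_eq (K ⧸ ω) hE _ (Module.length_ne_top_iff.mp hfin)

theorem typ_eq_one (hFL : FL O K) (hnf : ∃ x : O, x ≠ 0 ∧ x ∈ IsLocalRing.maximalIdeal O)
    {ω : Submodule O K} (hω : IsLat ω) (hE : Module.Baer O (K ⧸ ω)) : typ ω = 1 := by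
  obtain ⟨x, hx, hxm⟩ := hnf
  have hx0 : algebraMap O K x ≠ 0 := algebraMap_ne_zero' hx
  set e : ℕ∞ := qlen (sc (algebraMap O K x) (1 : Submodule O K)) (1 : Submodule O K) with he
  have hle : sc (algebraMap O K x) (1 : Submodule O K) ≤ 1 := by
    intro y hy
    obtain ⟨z, hz, rfl⟩ := mem_sc.mp hy
    rw [← Algebra.smul_def]
    exact Submodule.smul_mem _ x hz
  have hfin : e ≠ ⊤ := hFL x hx
  have h1 := qlen_div_eq_typ_mul ω hE hle (isLat_one (O := O) (K := K)).2 hfin
  rw [div_one', div_sc ω hx0, div_one'] at h1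
  have h2 : qlen ω (sc (algebraMap O K x)⁻¹ ω) = e := by
    rw [← qlen_sc hx0, sc_sc, mul_inv_cancel₀ hx0, sc_one]
    exact qlen_sc_self hFL hω hx
  rw [h2, ← he] at h1
  have hne : e ≠ 0 := by
    rw [he, Ne, qlen_eq_zero_iff hle]
    intro h
    have h3 : (1 : K) ∈ sc (algebraMap O K x) (1 : Submodule O K) := by
      rw [h]; exact Submodule.one_le.mp le_rfl
    obtain ⟨z, hz, hz1⟩ := mem_sc.mp h3
    obtain ⟨a, rfl⟩ := mem_one'.mp hz
    rw [← map_mul, ← map_one (algebraMap O K)] at hz1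
    have h4 : x * a = 1 := IsFractionRing.injective O K hz1
    exact (IsLocalRing.mem_maximalIdeal x).mp hxm (IsUnit.of_mul_eq_one a h4)
  -- typ * e = e with e finite nonzero
  by_contra hne1
  rcases lt_or_gt_of_ne hne1 with hlt | hgt
  · have : typ ω = 0 := by
      have := ENat.lt_one_iff_eq_zero.mp hlt
      exact this
    rw [this, zero_mul] at h1
    exact hne h1
  · have h6 : (1 + 1) * e ≤ typ ω * e := mul_le_mul' (Order.add_one_le_of_lt hgt) le_rfl
    rw [add_mul, one_mul, ← h1] at h6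
    obtain ⟨n, hn⟩ := ENat.ne_top_iff_exists.mp hfin
    rw [← hn] at h6 hne
    norm_cast at h6 hne
    omega

/-- **Duality preserves lengths.** -/
theorem qlen_div (hFL : FL O K) (hnf : ∃ x : O, x ≠ 0 ∧ x ∈ IsLocalRing.maximalIdeal O)
    {ω : Submodule O K} (hω : IsLat ω) (hE : Module.Baer O (K ⧸ ω))
    {I J : Submodule O K} (hI : IsLat I) (hJ : IsLat J) (hIJ : I ≤ J) :
    qlen (ω / J) (ω / I) = qlen I J := by
  rw [qlen_div_eq_typ_mul ω hE hIJ hJ.2 (qlen_ne_top hFL hI hJ hIJ), typ_eq_one hFL hnf hω hE,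
    one_mul]

/-- **Biduality.** -/
theorem div_div_eq (hFL : FL O K) (hnf : ∃ x : O, x ≠ 0 ∧ x ∈ IsLocalRing.maximalIdeal O)
    {ω : Submodule O K} (hω : IsLat ω) (hE : Module.Baer O (K ⧸ ω))
    {I : Submodule O K} (hI : IsLat I) : ω / (ω / I) = I := by
  have hD : IsLat (ω / I) := hω.div hI
  have hDD : IsLat (ω / (ω / I)) := hω.div hD
  obtain ⟨a, ha, haD⟩ := hD.1
  have ha0 : algebraMap O K a ≠ 0 := algebraMap_ne_zero' ha
  set L : Submodule O K := sc (algebraMap O K a) 1 with hL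
  have hLlat : IsLat L := (isLat_one (O := O) (K := K)).sc ha0
  have hLD : L ≤ ω / I := sc_one_le_of_mem haD
  set J : Submodule O K := ω / L with hJ
  have hJlat : IsLat J := hω.div hLlat
  have h1 : I ≤ ω / (ω / I) := le_div_div ω I
  have h2 : ω / (ω / I) ≤ J := div_anti ω hLD
  have e1 := qlen_div hFL hnf hω hE hDD hJlat h2
  rw [div_div_div] at e1
  have e2 := qlen_div hFL hnf hω hE hI hJlat (h1.trans h2)
  have e3 := qlen_add h1 h2
  rw [← e1, ← e2] at e3
  have hfin : qlen (ω / J) (ω / I) ≠ ⊤ :=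
    qlen_ne_top hFL (hω.div hJlat) hD (div_anti ω (h1.trans h2))
  have e4 : qlen I (ω / (ω / I)) = 0 := by
    have : 0 + qlen (ω / J) (ω / I) = qlen I (ω / (ω / I)) + qlen (ω / J) (ω / I) := by
      rw [zero_add]; exact e3
    exact (ENat.add_left_injective_of_ne_top hfin this).symm
  exact ((qlen_eq_zero_iff h1).mp e4).symm

end Dual

end Groth.Agent.Helper8.FracDual
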