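import Mathlib
import Groth.Agent.Lib.Helper8.FracDual2

/-!
# From injective dimension `≤ 1` to injectivity of `K/ω` (helper8)
-/

namespace Groth.Agent.Helper8.FracDual

universe u

open CategoryTheory

section

variable {O : Type u} [CommRing O] [IsDomain O] {K : Type u} [Field K] [Algebra O K]
  [IsFractionRing O K]

/-- The fraction field of a domain is a Baer-injective module. -/
theorem baer_fractionField : Module.Baer O K := by
  intro I g
  by_cases hI : I = ⊥
  · refine ⟨0, ?_⟩
    intro x hx
    have hx0 : x = 0 := by rw [hI] at hx; exact hx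
    subst hx0
    have : (⟨0, hx⟩ : ↥I) = 0 := rfl
    rw [this, map_zero, map_zero]
  · obtain ⟨a, haI, ha0⟩ := Submodule.exists_mem_ne_zero_of_ne_bot hI
    have ha0' : algebraMap O K a ≠ 0 := algebraMap_ne_zero' ha0
    refine ⟨(g ⟨a, haI⟩ / algebraMap O K a) • Algebra.linearMap O K, ?_⟩
    intro x hx
    have h1 : a • g ⟨x, hx⟩ = x • g ⟨a, haI⟩ := by
      rw [← map_smul, ← map_smul]
      congr 1
      apply Subtype.ext
      show a • x = x • a
      rw [smul_eq_mul, smul_eq_mul, mul_comm]
    rw [Algebra.smul_def, Algebra.smul_def] at h1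
    rw [LinearMap.smul_apply, Algebra.linearMap_apply, smul_eq_mul]
    field_simp
    rw [mul_comm, h1, mul_comm]

theorem injective_fractionField : Module.Injective O K :=
  baer_fractionField.injective

/-- If `ω ⊆ K` has injective dimension `≤ 1`, then `K/ω` is Baer-injective. -/
theorem baer_quot_of_hasInjectiveDimensionLT (ω : Submodule O K)
    (h : HasInjectiveDimensionLT (ModuleCat.of O ↥ω) 2) : Module.Baer O (K ⧸ ω) := by
  have hex : Function.Exact ω.subtype ω.mkQ := LinearMap.exact_subtype_mkQ ω
  let S : ShortComplex (ModuleCat.{u} O) :=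
    ModuleCat.shortComplexOfCompEqZero ω.subtype ω.mkQ hex.linearMap_comp_eq_zero
  have hS : S.ShortExact :=
    ModuleCat.shortComplex_shortExact _ hex (Submodule.injective_subtype ω)
      (Submodule.mkQ_surjective ω)
  haveI : Module.Injective O K := injective_fractionField
  haveI : Injective (ModuleCat.of O K) := Module.injective_object_of_injective_module O K
  have h2 : HasInjectiveDimensionLT S.X₂ 1 := by
    show HasInjectiveDimensionLT (ModuleCat.of O K) 1
    infer_instance
  have h3 : HasInjectiveDimensionLT S.X₃ 1 := hS.hasInjectiveDimensionLT_X₃ 1 h2 h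
  have h4 : Injective (ModuleCat.of O (K ⧸ ω)) := by
    have : HasInjectiveDimensionLT (ModuleCat.of O (K ⧸ ω)) 1 := h3
    infer_instance
  have h5 : Module.Injective O (K ⧸ ω) := Module.injective_module_of_injective_object O (K ⧸ ω)
  exact Module.Baer.of_injective h5

end

end Groth.Agent.Helper8.FracDual
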