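import Mathlib
import Groth.Agent.Lib.Helper8.FracDual3
import Groth.Agent.Lib.Helper19.TFCurv.Lattice
import Groth.Agent.Lib.Helper19.TFCurv.Normalization

/-!
# Canonical ideal between `O` and its normalisation: `ℓ(ω/O) + ℓ(O~/C) = 2ℓ(O~/O)` (helper8)
-/

namespace Groth.Agent.Helper8.FracDual

universe u

open Groth.Agent.Helper19.TFCurv CategoryTheory

section

variable {O : Type u} [CommRing O] [IsDomain O] [IsNoetherianRing O] [IsLocalRing O]
  {K : Type u} [Field K] [Algebra O K] [IsFractionRing O K]

theorem fl_of_dim (hdim : ringKrullDim O = 1) : FL O K := by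
  intro x hx
  haveI : Ring.KrullDimLE 1 O := Ring.krullDimLE_iff.mpr (by rw [hdim]; rfl)
  have hfg : (1 : Submodule O K).FG := by
    rw [Submodule.one_eq_span]
    exact Submodule.fg_span_singleton 1
  haveI : Module.Finite O ↥(1 : Submodule O K) := Module.Finite.iff_fg.mpr hfg
  unfold qlen
  refine length_ne_top_of_smul_eq_zero x (mem_nonZeroDivisors_of_ne_zero hx) _ ?_
  intro q
  obtain ⟨⟨y, hy⟩, rfl⟩ := Submodule.Quotient.mk_surjective _ q
  rw [← Submodule.Quotient.mk_smul, Submodule.Quotient.mk_eq_zero]
  show x • y ∈ sc (algebraMap O K x) 1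
  rw [Algebra.smul_def]
  exact mem_sc.mpr ⟨y, hy, rfl⟩

theorem exists_nf (hdim : ringKrullDim O = 1) :
    ∃ x : O, x ≠ 0 ∧ x ∈ IsLocalRing.maximalIdeal O := by
  have h := maximalIdeal_ne_bot_of_dim O hdim
  obtain ⟨x, hxm, hx0⟩ := Submodule.exists_mem_ne_zero_of_ne_bot h
  exact ⟨x, hx0, hxm⟩

theorem isLat_of_fg {L : Submodule O K} (hfg : L.FG) (hne : L ≠ ⊥) : IsLat L := by
  constructor
  · obtain ⟨x, hx, hx0⟩ := Submodule.exists_mem_ne_zero_of_ne_bot hne
    exact exists_mem_of_ne_zero hx hx0
  · have hspan : Submodule.span K (((1 : Submodule O K) : Set K)) = ⊤ := by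
      rw [eq_top_iff]
      intro z _
      have h1 : (1 : K) ∈ Submodule.span K (((1 : Submodule O K) : Set K)) :=
        Submodule.subset_span (Submodule.one_le.mp le_rfl)
      have := Submodule.smul_mem _ z h1
      rwa [smul_eq_mul, mul_one] at this
    obtain ⟨d, hd, hdv⟩ := exists_smul_le_of_fg (1 : Submodule O K) L hspan hfg
    refine ⟨d, nonZeroDivisors.ne_zero hd, ?_⟩
    intro x hx
    rw [← Algebra.smul_def]
    exact hdv x hx

/-- The main computation. -/
theorem main_length (hdim : ringKrullDim O = 1) (hfin : Module.Finite O ↥(integralClosure O K))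
    (ω : Submodule O K) (hω1 : (1 : Submodule O K) ≤ ω)
    (hω2 : ω ≤ (Subalgebra.toSubmodule (integralClosure O K)))
    (hωinj : HasInjectiveDimensionLT (ModuleCat.of O ↥ω) 2) :
    Module.length O (↥ω ⧸ Submodule.comap ω.subtype (1 : Submodule O K)) +
      Module.length O (↥(integralClosure O K) ⧸
        ((1 : Submodule O K).colon (Subalgebra.toSubmodule (integralClosure O K))) •
          (⊤ : Submodule O ↥(integralClosure O K))) =
      2 * Module.length O (↥(integralClosure O K) ⧸
        Submodule.comap (Subalgebra.toSubmodule (integralClosure O K)).subtype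
          (1 : Submodule O K)) := by
  have hFL : FL O K := fl_of_dim hdim
  have hnf := exists_nf (O := O) hdim
  have hE : Module.Baer O (K ⧸ ω) := baer_quot_of_hasInjectiveDimensionLT ω hωinj
  set B : Submodule O K := Subalgebra.toSubmodule (integralClosure O K) with hB
  have h1B : (1 : Submodule O K) ≤ B := hω1.trans hω2
  have hBfg : B.FG := by
    have h0 : Module.Finite O ↥B := hfin
    exact Module.Finite.iff_fg.mp h0
  have hBne : B ≠ ⊥ := by
    intro h
    have : (1 : K) ∈ B := h1B (Submodule.one_le.mp le_rfl)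
    rw [h] at this
    exact one_ne_zero ((Submodule.mem_bot O).mp this)
  have hBlat : IsLat B := isLat_of_fg hBfg hBne
  have hωlat : IsLat ω := IsLat.of_le_le isLat_one hBlat hω1 hω2
  -- ω / ω = 1
  have hωω : ω / ω = 1 := by
    have := div_div_eq hFL hnf hωlat hE (isLat_one (O := O) (K := K))
    rwa [div_one'] at this
  -- ω / B = 1 / B
  have hBmul : ∀ x ∈ B, ∀ y ∈ B, x * y ∈ B := by
    intro x hx y hy
    exact (integralClosure O K).mul_mem hx hy
  have hCK : ω / B = (1 : Submodule O K) / B := by
    ext x
    rw [Submodule.mem_div_iff_forall_mul_mem, Submodule.mem_div_iff_forall_mul_mem]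
    constructor
    · intro h y hy
      rw [← hωω, Submodule.mem_div_iff_forall_mul_mem]
      intro w hw
      rw [mul_assoc]
      exact h _ (hBmul y hy w (hω2 hw))
    · intro h y hy
      exact hω1 (h y hy)
  have e1 := qlen_div hFL hnf hωlat hE hωlat hBlat hω2
  rw [hωω, hCK] at e1
  set CK : Submodule O K := (1 : Submodule O K) / B with hCKdef
  have hCK1 : CK ≤ 1 := by
    intro x hx
    have := (Submodule.mem_div_iff_forall_mul_mem.mp hx) 1 (h1B (Submodule.one_le.mp le_rfl))
    rwa [mul_one] at this
  have e2 := qlen_add hω1 hω2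
  have e3 := qlen_add hCK1 h1B
  -- identify the three terms
  have t1 : Module.length O (↥ω ⧸ Submodule.comap ω.subtype (1 : Submodule O K)) = qlen 1 ω := rfl
  have t3 : Module.length O (↥(integralClosure O K) ⧸
        Submodule.comap (Subalgebra.toSubmodule (integralClosure O K)).subtype
          (1 : Submodule O K)) = qlen 1 B := rfl
  have hsub : ((1 : Submodule O K).colon (Subalgebra.toSubmodule (integralClosure O K))) •
          (⊤ : Submodule O ↥(integralClosure O K)) = CK.submoduleOf B := by
    apply le_antisymm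
    · rw [Submodule.smul_le]
      intro c hc y _
      show ((c • y : ↥(integralClosure O K)) : K) ∈ CK
      rw [hCKdef, Submodule.mem_div_iff_forall_mul_mem]
      intro y' hy'
      have h3 : ((c • y : ↥(integralClosure O K)) : K) * y' = c • ((y : K) * y') := by
        show (c • (y : K)) * y' = _
        rw [smul_mul_assoc]
      rw [h3]
      exact Submodule.mem_colon.mp hc _ (hBmul _ y.2 _ hy')
    · rintro ⟨z, hz⟩ hzC
      have hzC' : z ∈ CK := hzC
      obtain ⟨c, hc⟩ := mem_one'.mp (hCK1 hzC')
      have hcC : c ∈ (1 : Submodule O K).colon (Subalgebra.toSubmodule (integralClosure O K)) := by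
        rw [Submodule.mem_colon]
        intro p hp
        rw [Algebra.smul_def, hc]
        exact (Submodule.mem_div_iff_forall_mul_mem.mp hzC') p hp
      have h4 : (⟨z, hz⟩ : ↥(integralClosure O K)) = c • (1 : ↥(integralClosure O K)) := by
        apply Subtype.ext
        show z = c • (1 : K)
        rw [Algebra.smul_def, mul_one, hc]
      rw [h4]
      exact Submodule.smul_mem_smul hcC Submodule.mem_top
  have t2 : Module.length O (↥(integralClosure O K) ⧸
        ((1 : Submodule O K).colon (Subalgebra.toSubmodule (integralClosure O K))) •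
          (⊤ : Submodule O ↥(integralClosure O K))) = qlen CK B := by
    rw [hsub]
    rfl
  rw [t1, t2, t3, e3, e2, ← e1, two_mul]
  ring

end

end Groth.Agent.Helper8.FracDual
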