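import Mathlib
import Groth.Agent.Lib.Helper8.FracDual4
import Groth.Agent.Lib.Helper8.FracDual10
import Groth.Agent.Lib.Helper12.TFEmbed

/-!
# Biduality for torsion-free modules over a one-dimensional local domain with canonical ideal,
and `Ext^i(M,M) ≃ Ext^i(M*,M*)` (helper8)
-/

namespace Groth.Agent.Helper8.FracDual

universe u

open CategoryTheory Abelian

section

variable {O : Type u} [CommRing O] [IsDomain O] {K : Type u} [Field K] [Algebra O K]
  [IsFractionRing O K]

/-- every endomorphism of a nonzero submodule of `K` is multiplication by an element of `K`. -/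
theorem exists_mul_of_end (ω : Submodule O K) (hω0 : ω ≠ ⊥) (θ : ↥ω →ₗ[O] ↥ω) :
    ∃ c : K, c ∈ ω / ω ∧ ∀ w : ↥ω, ((θ w : ↥ω) : K) = c * (w : K) := by
  obtain ⟨w₀, hw₀, hw₀0⟩ := Submodule.exists_mem_ne_zero_of_ne_bot hω0
  set c : K := ((θ ⟨w₀, hw₀⟩ : ↥ω) : K) / w₀ with hc
  have key : ∀ w : ↥ω, ((θ w : ↥ω) : K) = c * (w : K) := by
    intro w
    obtain ⟨p, q, hq, hpq⟩ := IsFractionRing.div_surjective (A := O) ((w : K) / w₀)
    have hq0 : algebraMap O K q ≠ 0 := IsFractionRing.to_map_ne_zero_of_mem_nonZeroDivisors hq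
    have e1 : (w : K) = algebraMap O K p / algebraMap O K q * w₀ := by
      rw [hpq]
      field_simp
    have h1 : q • w = p • (⟨w₀, hw₀⟩ : ↥ω) := by
      apply Subtype.ext
      show q • (w : K) = p • w₀
      rw [Algebra.smul_def, Algebra.smul_def, e1]
      field_simp
    have h2 : q • θ w = p • θ ⟨w₀, hw₀⟩ := by rw [← map_smul, ← map_smul, h1]
    have h3 : algebraMap O K q * ((θ w : ↥ω) : K) =
        algebraMap O K p * ((θ ⟨w₀, hw₀⟩ : ↥ω) : K) := by
      have h := congrArg Subtype.val h2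
      rw [← Algebra.smul_def, ← Algebra.smul_def]
      exact h
    have e2 : ((θ w : ↥ω) : K) =
        algebraMap O K p / algebraMap O K q * ((θ ⟨w₀, hw₀⟩ : ↥ω) : K) := by
      field_simp
      rw [mul_comm]
      exact h3
    rw [e2, hc]
    conv_rhs => rw [e1]
    field_simp
  refine ⟨c, ?_, key⟩
  rw [Submodule.mem_div_iff_forall_mul_mem]
  intro y hy
  rw [← key ⟨y, hy⟩]
  exact (θ ⟨y, hy⟩).2

/-- a lattice embeds in `O`. -/
theorem exists_embedding_of_isLat {ω : Submodule O K} (hω : IsLat ω) :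
    ∃ j : ↥ω →ₗ[O] O, Function.Injective j := by
  obtain ⟨-, ⟨d, hd, hdω⟩⟩ := hω
  have hinj : Function.Injective (Algebra.linearMap O K) := IsFractionRing.injective O K
  let g : ↥ω →ₗ[O] K := d • ω.subtype
  have hgx : ∀ x : ↥ω, g x = algebraMap O K d * (x : K) := by
    intro x
    show d • (x : K) = _
    rw [Algebra.smul_def]
  have hg : ∀ x, g x ∈ LinearMap.range (Algebra.linearMap O K) := by
    intro x
    obtain ⟨y, hy⟩ := mem_one'.mp (hdω x x.2)
    exact ⟨y, by rw [Algebra.linearMap_apply, hy, hgx]⟩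
  let e := LinearEquiv.ofInjective (Algebra.linearMap O K) hinj
  refine ⟨e.symm.toLinearMap ∘ₗ LinearMap.codRestrict _ g hg, ?_⟩
  refine e.symm.injective.comp ?_
  intro x y hxy
  have h1 : g x = g y := congrArg Subtype.val hxy
  rw [hgx, hgx] at h1
  exact Subtype.ext (mul_left_cancel₀ (algebraMap_ne_zero' hd) h1)

/-- the dual of a finite module embeds in a finite free module. -/
theorem dual_subFree [IsNoetherianRing O] {W : Type u} [AddCommGroup W] [Module O W]
    (j : W →ₗ[O] O) (hj : Function.Injective j) (X : Type u) [AddCommGroup X] [Module O X]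
    [Module.Finite O X] : SubFree O (X →ₗ[O] W) ∧ Module.Finite O (X →ₗ[O] W) := by
  obtain ⟨m, π, hπ⟩ := Module.Finite.exists_fin' O X
  let ι : (X →ₗ[O] W) →ₗ[O] (Fin m → O) :=
    { toFun := fun φ i => j (φ (π (Pi.single i 1)))
      map_add' := fun φ ψ => by
        ext i
        simp
      map_smul' := fun a φ => by
        ext i
        simp }
  have hι : Function.Injective ι := by
    rw [injective_iff_map_eq_zero]
    intro φ hφ
    have h1 : φ ∘ₗ π = 0 := by
      apply (Pi.basisFun O (Fin m)).ext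
      intro i
      have h : j (φ (π (Pi.single i 1))) = 0 := congrFun hφ i
      rw [Pi.basisFun_apply, LinearMap.zero_apply]
      apply hj
      rw [map_zero]
      exact h
    ext x
    obtain ⟨y, rfl⟩ := hπ x
    exact LinearMap.congr_fun h1 y
  exact ⟨⟨m, ι, hι⟩, Module.Finite.of_injective ι hι⟩

/-- the evaluation map `M → Hom(Hom(M,W),W)`. -/
noncomputable def ev (O : Type u) [CommRing O] (M W : Type u) [AddCommGroup M] [Module O M]
    [AddCommGroup W] [Module O W] :
    M →ₗ[O] ((M →ₗ[O] W) →ₗ[O] W) := LinearMap.flip LinearMap.id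

theorem ev_apply {O : Type u} [CommRing O] {M W : Type u} [AddCommGroup M] [Module O M]
    [AddCommGroup W] [Module O W]
    (m : M) (φ : M →ₗ[O] W) : ev O M W m φ = φ m := rfl

theorem ev_injective (ω : Submodule O K) (hω0 : ω ≠ ⊥) (M : Type u) [AddCommGroup M]
    [Module O M] (hM : SubFree O M) : Function.Injective (ev O M ↥ω) := by
  obtain ⟨n, ι, hι⟩ := hM
  obtain ⟨w₀, hw₀, hw₀0⟩ := Submodule.exists_mem_ne_zero_of_ne_bot hω0
  rw [injective_iff_map_eq_zero]
  intro m hm
  apply hι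
  rw [map_zero]
  ext i
  let φ : M →ₗ[O] ↥ω :=
    (LinearMap.toSpanSingleton O ↥ω ⟨w₀, hw₀⟩) ∘ₗ (LinearMap.proj i) ∘ₗ ι
  have h1 : φ m = 0 := LinearMap.congr_fun hm φ
  have h2 : (ι m i) • (⟨w₀, hw₀⟩ : ↥ω) = 0 := h1
  have h3 : (ι m i) • w₀ = 0 := congrArg Subtype.val h2
  rw [Algebra.smul_def, mul_eq_zero] at h3
  rcases h3 with h3 | h3
  · apply IsFractionRing.injective O K
    rw [h3, Pi.zero_apply, map_zero]
  · exact absurd h3 hw₀0

theorem ev_free_surjective (ω : Submodule O K)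
    (hend : ∀ θ : ↥ω →ₗ[O] ↥ω, ∃ a : O, ∀ w, θ w = a • w) (n : ℕ) :
    Function.Surjective (ev O (Fin n → O) ↥ω) := by
  intro θ
  let S : Fin n → (↥ω →ₗ[O] ((Fin n → O) →ₗ[O] ↥ω)) := fun i =>
    { toFun := fun w => (LinearMap.toSpanSingleton O ↥ω w) ∘ₗ (LinearMap.proj i)
      map_add' := fun w w' => by
        apply LinearMap.ext
        intro f
        show f i • (w + w') = f i • w + f i • w'
        exact smul_add _ _ _
      map_smul' := fun a w => by
        apply LinearMap.ext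
        intro f
        show f i • (a • w) = a • (f i • w)
        exact smul_comm _ _ _ }
  have hS : ∀ i w (f : Fin n → O), S i w f = f i • w := fun i w f => rfl
  choose a ha using fun i => hend (θ ∘ₗ S i)
  refine ⟨a, ?_⟩
  apply LinearMap.ext
  intro φ
  have hsum : ∀ f : Fin n → O, φ f = ∑ i, f i • φ (Pi.single i 1) := by
    intro f
    have hf : f = ∑ i, f i • (Pi.single i (1 : O) : Fin n → O) := by
      ext k
      simp [Finset.sum_apply, Pi.single_apply]
    conv_lhs => rw [hf]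
    rw [map_sum]
    exact Finset.sum_congr rfl fun i _ => map_smul _ _ _
  have hφ : φ = ∑ i, S i (φ (Pi.single i 1)) := by
    apply LinearMap.ext
    intro f
    rw [LinearMap.sum_apply, hsum f]
    exact Finset.sum_congr rfl fun i _ => (hS i _ f).symm
  have h1 : θ φ = ∑ i, a i • φ (Pi.single i 1) := by
    conv_lhs => rw [hφ]
    rw [map_sum]
    exact Finset.sum_congr rfl fun i _ => ha i _
  rw [ev_apply, h1, hsum a]

variable [IsNoetherianRing O]

theorem ev_surjective (ω : Submodule O K)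
    (hωinj : HasInjectiveDimensionLT (ModuleCat.of O ↥ω) 2)
    (hend : ∀ θ : ↥ω →ₗ[O] ↥ω, ∃ a : O, ∀ w, θ w = a • w)
    (j : ↥ω →ₗ[O] O) (hj : Function.Injective j)
    (M : Type u) [AddCommGroup M] [Module O M] [Module.Finite O M] (hM : SubFree O M) :
    Function.Surjective (ev O M ↥ω) := by
  obtain ⟨m, π, hπ⟩ := Module.Finite.exists_fin' O M
  let M' : Submodule O (Fin m → O) := LinearMap.ker π
  have hex : Function.Exact M'.subtype π := LinearMap.exact_subtype_ker_map π
  have hinj : Function.Injective M'.subtype := Submodule.injective_subtype M'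
  obtain ⟨nM, ιM, hιM⟩ := hM
  have hMW : Subsingleton (Ext (ModuleCat.of O M) (ModuleCat.of O ↥ω) 1) :=
    ext_subsingleton_of_sub ιM hιM hωinj 1 le_rfl
  let Dπ : (M →ₗ[O] ↥ω) →ₗ[O] ((Fin m → O) →ₗ[O] ↥ω) := LinearMap.lcomp O ↥ω π
  let Dι : ((Fin m → O) →ₗ[O] ↥ω) →ₗ[O] (M' →ₗ[O] ↥ω) := LinearMap.lcomp O ↥ω M'.subtype
  have hDπ : Function.Injective Dπ := LinearMap.lcomp_injective_of_surjective π hπ
  have hDex : Function.Exact Dπ Dι := LinearMap.exact_lcomp_of_exact_of_surjective ↥ω hex hπ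
  have hDι : Function.Surjective Dι :=
    dual_surjective_of_ext ↥ω M'.subtype π hinj hπ hex (ext_free_subsingleton m ↥ω 1 le_rfl) hMW
  obtain ⟨⟨n1, ι1, hι1⟩, -⟩ := dual_subFree j hj (Fin m → O)
  obtain ⟨⟨n2, ι2, hι2⟩, -⟩ := dual_subFree j hj M'
  have hB : Subsingleton (Ext (ModuleCat.of O ((Fin m → O) →ₗ[O] ↥ω)) (ModuleCat.of O ↥ω) 1) :=
    ext_subsingleton_of_sub ι1 hι1 hωinj 1 le_rfl
  have hC : Subsingleton (Ext (ModuleCat.of O (M' →ₗ[O] ↥ω)) (ModuleCat.of O ↥ω) 1) :=
    ext_subsingleton_of_sub ι2 hι2 hωinj 1 le_rfl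
  have hDDπ := dual_surjective_of_ext (A := M →ₗ[O] ↥ω) (B := (Fin m → O) →ₗ[O] ↥ω)
    (C := M' →ₗ[O] ↥ω) ↥ω Dπ Dι hDπ hDι hDex hB hC
  intro θ
  obtain ⟨θ', hθ'⟩ := hDDπ θ
  obtain ⟨f, hf⟩ := ev_free_surjective ω hend m θ'
  refine ⟨π f, ?_⟩
  apply LinearMap.ext
  intro φ
  rw [ev_apply, ← hθ', ← hf]
  rfl

/-- the dual of a finite free module has injective dimension `≤ 1`. -/
theorem injdim_dual_free (ω : Submodule O K)
    (hωinj : HasInjectiveDimensionLT (ModuleCat.of O ↥ω) 2) (n : ℕ) :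
    HasInjectiveDimensionLT (ModuleCat.of O ((Fin n → O) →ₗ[O] ↥ω)) 2 := by
  haveI hK : Module.Injective O K := injective_fractionField
  haveI hQ : Module.Injective O (K ⧸ ω) :=
    (baer_quot_of_hasInjectiveDimensionLT ω hωinj).injective
  let f : (Fin n → ↥ω) →ₗ[O] (Fin n → K) := ω.subtype.compLeft (Fin n)
  let g : (Fin n → K) →ₗ[O] (Fin n → K ⧸ ω) := ω.mkQ.compLeft (Fin n)
  have hf : Function.Injective f := fun x y h => funext fun i => Subtype.ext (congrFun h i)
  have hg : Function.Surjective g := fun y =>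
    ⟨fun i => (Submodule.Quotient.mk_surjective ω (y i)).choose,
      funext fun i => (Submodule.Quotient.mk_surjective ω (y i)).choose_spec⟩
  have hfg : Function.Exact f g := by
    intro y
    constructor
    · intro h
      have h' : ∀ i, y i ∈ ω := fun i => by
        have h2 := congrFun h i
        exact (Submodule.Quotient.mk_eq_zero ω).mp h2
      exact ⟨fun i => ⟨y i, h' i⟩, rfl⟩
    · rintro ⟨x, rfl⟩
      funext i
      exact (Submodule.Quotient.mk_eq_zero ω).mpr (x i).2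
  let S : ShortComplex (ModuleCat.{u} O) :=
    ModuleCat.shortComplexOfCompEqZero f g hfg.linearMap_comp_eq_zero
  have hS : S.ShortExact := ModuleCat.shortComplex_shortExact _ hfg hf hg
  haveI : Injective (ModuleCat.of O (Fin n → K)) :=
    Module.injective_object_of_injective_module O (Fin n → K)
  haveI : Injective (ModuleCat.of O (Fin n → K ⧸ ω)) :=
    Module.injective_object_of_injective_module O (Fin n → K ⧸ ω)
  have h2 : HasInjectiveDimensionLT S.X₂ 2 := by
    show HasInjectiveDimensionLT (ModuleCat.of O (Fin n → K)) 2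
    infer_instance
  have h3 : HasInjectiveDimensionLT S.X₃ 1 := by
    show HasInjectiveDimensionLT (ModuleCat.of O (Fin n → K ⧸ ω)) 1
    infer_instance
  haveI h1 : HasInjectiveDimensionLT (ModuleCat.of O (Fin n → ↥ω)) 2 :=
    hS.hasInjectiveDimensionLT_X₁ 1 h3 h2
  let e : (Fin n → ↥ω) ≃ₗ[O] ((Fin n → O) →ₗ[O] ↥ω) := (Pi.basisFun O (Fin n)).constr O
  exact hasInjectiveDimensionLT_of_iso e.toModuleIso 2

/-- `Ext` is invariant under isomorphisms in the second variable. -/
theorem ext_congr_right {X Y Y' : ModuleCat.{u} O} (e : Y ≅ Y') (i : ℕ) :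
    Nonempty (Ext X Y i ≃+ Ext X Y' i) := by
  refine ⟨{ toFun := fun x => x.comp (Ext.mk₀ e.hom) (add_zero i)
            invFun := fun y => y.comp (Ext.mk₀ e.inv) (add_zero i)
            left_inv := fun x => ?_
            right_inv := fun y => ?_
            map_add' := fun x y => Ext.add_comp _ _ _ _ }⟩
  · show (x.comp (Ext.mk₀ e.hom) (add_zero i)).comp (Ext.mk₀ e.inv) (add_zero i) = x
    rw [Ext.comp_assoc_of_third_deg_zero, Ext.mk₀_comp_mk₀, e.hom_inv_id, Ext.comp_mk₀_id]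
  · show (y.comp (Ext.mk₀ e.inv) (add_zero i)).comp (Ext.mk₀ e.hom) (add_zero i) = y
    rw [Ext.comp_assoc_of_third_deg_zero, Ext.mk₀_comp_mk₀, e.inv_hom_id, Ext.comp_mk₀_id]

variable [IsLocalRing O]

/-- **Self-`Ext` is invariant under the canonical duality.** -/
theorem ext_self_dual (hdim : ringKrullDim O = 1) (ω : Submodule O K) (hω0 : ω ≠ ⊥)
    (hωfg : ω.FG) (hωinj : HasInjectiveDimensionLT (ModuleCat.of O ↥ω) 2)
    (M : Type u) [AddCommGroup M] [Module O M] [Module.Finite O M] [NoZeroSMulDivisors O M]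
    (i : ℕ) :
    Nonempty (Ext (ModuleCat.of O M) (ModuleCat.of O M) i ≃+
      Ext (ModuleCat.of O (M →ₗ[O] ↥ω)) (ModuleCat.of O (M →ₗ[O] ↥ω)) i) := by
  have hFL : FL O K := fl_of_dim (K := K) hdim
  have hnf := exists_nf hdim
  have hlat : IsLat ω := isLat_of_fg hωfg hω0
  have hE := baer_quot_of_hasInjectiveDimensionLT ω hωinj
  have h1 : ω / ω = 1 := by
    have h := div_div_eq hFL hnf hlat hE (isLat_one (O := O) (K := K))
    rwa [div_one'] at h
  have hend : ∀ θ : ↥ω →ₗ[O] ↥ω, ∃ a : O, ∀ w, θ w = a • w := by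
    intro θ
    obtain ⟨c, hc, hcw⟩ := exists_mul_of_end ω hω0 θ
    rw [h1] at hc
    obtain ⟨a, rfl⟩ := mem_one'.mp hc
    refine ⟨a, fun w => Subtype.ext ?_⟩
    rw [hcw w]
    show _ = a • (w : K)
    rw [Algebra.smul_def]
  obtain ⟨j, hj⟩ := exists_embedding_of_isLat hlat
  obtain ⟨n, ι, hι⟩ := Groth.Agent.Helper12.TFEmbed.exists_embedding_of_torsionFree O K M
  have hM : SubFree O M := ⟨n, ι, hι⟩
  obtain ⟨hDM, hDMfin⟩ := dual_subFree j hj M
  haveI := hDMfin
  have hbij : Function.Bijective (ev O M ↥ω) :=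
    ⟨ev_injective ω hω0 M hM, ev_surjective ω hωinj hend j hj M hM⟩
  let e : M ≃ₗ[O] ((M →ₗ[O] ↥ω) →ₗ[O] ↥ω) := LinearEquiv.ofBijective (ev O M ↥ω) hbij
  obtain ⟨e1⟩ := ext_congr_right (X := ModuleCat.of O M)
    (LinearEquiv.toModuleIso (X₁ := M) (X₂ := (M →ₗ[O] ↥ω) →ₗ[O] ↥ω) (g₁ := inferInstance)
      (g₂ := inferInstance) (m₁ := inferInstance) (m₂ := inferInstance) e) i
  obtain ⟨e2⟩ := swap ↥ω (injdim_dual_free ω hωinj) hωinj M hM i (M →ₗ[O] ↥ω) hDM
  exact ⟨e1.trans e2⟩

end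

end Groth.Agent.Helper8.FracDual
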