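import Mathlib
import Groth.Agent.Lib.Helper8.FracDual3
import Groth.Agent.Lib.Helper19.TFCurv.RankOne

/-!
# Canonical ideals of subalgebras of `k[[t]]`: transfer of the duality to power series (helper8)
-/

namespace Groth.Agent.Helper8.FracDual

universe u

open CategoryTheory

section Bridge

variable {O : Type u} [CommRing O] [IsDomain O] {K : Type u} [Field K] [Algebra O K]
  [IsFractionRing O K]

/-- `FL` from finite length of `O/xO`. -/
theorem fl_of_length (h : ∀ x : O, x ≠ 0 → Module.length O (O ⧸ Ideal.span {x}) ≠ ⊤) :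
    FL O K := by
  intro x hx
  have hinj : Function.Injective (Algebra.linearMap O K) := IsFractionRing.injective O K
  let e0 : O ≃ₗ[O] ↥(LinearMap.range (Algebra.linearMap O K)) := LinearEquiv.ofInjective _ hinj
  let e : O ≃ₗ[O] ↥(1 : Submodule O K) :=
    e0.trans (LinearEquiv.ofEq _ _ Submodule.one_eq_range.symm)
  have he : ∀ a : O, ((e a : ↥(1 : Submodule O K)) : K) = algebraMap O K a := fun a => rfl
  unfold qlen
  have hmap : Submodule.map (e : O →ₗ[O] ↥(1 : Submodule O K)) (Ideal.span {x}) =
      (sc (algebraMap O K x) 1).submoduleOf 1 := by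
    ext ⟨y, hy⟩
    constructor
    · rintro ⟨a, ha, hay⟩
      obtain ⟨b, rfl⟩ := Ideal.mem_span_singleton'.mp ha
      have h1 : y = algebraMap O K (b * x) := by
        rw [← he]; exact (congrArg Subtype.val hay).symm
      show y ∈ sc _ 1
      rw [h1, map_mul, mul_comm]
      exact mem_sc.mpr ⟨algebraMap O K b, mem_one'.mpr ⟨b, rfl⟩, rfl⟩
    · intro hy'
      obtain ⟨z, hz, hzy⟩ := mem_sc.mp (show y ∈ sc _ 1 from hy')
      obtain ⟨b, rfl⟩ := mem_one'.mp hz
      refine ⟨b * x, Ideal.mem_span_singleton'.mpr ⟨b, rfl⟩, ?_⟩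
      apply Subtype.ext
      show ((e (b * x) : ↥(1 : Submodule O K)) : K) = y
      rw [he, map_mul, mul_comm]; exact hzy
  rw [← (Submodule.Quotient.equiv _ _ e hmap).length_eq]
  exact h x hx

end Bridge

section PS

variable {k : Type u} [Field k] (A : Subalgebra k (PowerSeries k))

theorem algebraMap_eq (a : ↥A) :
    algebraMap ↥A (FractionRing (PowerSeries k)) a =
      algebraMap (PowerSeries k) (FractionRing (PowerSeries k)) (a : PowerSeries k) := by
  rw [IsScalarTower.algebraMap_apply ↥A (PowerSeries k) (FractionRing (PowerSeries k))]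
  rfl

variable (c : ℕ) (hcond : ∀ f : PowerSeries k, (c : ℕ∞) ≤ PowerSeries.order f → f ∈ A)

include hcond in
theorem X_pow_mul_mem (f : PowerSeries k) : PowerSeries.X ^ c * f ∈ A := by
  apply hcond
  rw [PowerSeries.order_mul, PowerSeries.order_X_pow]
  exact le_self_add

include hcond in
theorem isFractionRing_sub : IsFractionRing ↥A (FractionRing (PowerSeries k)) := by
  have hinjP : Function.Injective (algebraMap (PowerSeries k) (FractionRing (PowerSeries k))) :=
    IsFractionRing.injective (PowerSeries k) (FractionRing (PowerSeries k))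
  show IsLocalization (nonZeroDivisors ↥A) (FractionRing (PowerSeries k))
  rw [isLocalization_iff]
  refine ⟨?_, ?_, ?_⟩
  · intro y
    apply IsUnit.mk0
    rw [algebraMap_eq]
    intro h
    have h1 := (map_eq_zero_iff _ hinjP).mp h
    exact nonZeroDivisors.ne_zero y.2 (Subtype.ext h1)
  · intro z
    obtain ⟨f, g, hg, rfl⟩ := IsFractionRing.div_surjective (A := PowerSeries k) z
    have hg0 : g ≠ 0 := nonZeroDivisors.ne_zero hg
    have hX : (PowerSeries.X : PowerSeries k) ^ c ≠ 0 := pow_ne_zero _ PowerSeries.X_ne_zero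
    have hg0' : algebraMap (PowerSeries k) (FractionRing (PowerSeries k)) g ≠ 0 := by
      rw [Ne, map_eq_zero_iff _ hinjP]; exact hg0
    refine ⟨(⟨PowerSeries.X ^ c * f, X_pow_mul_mem A c hcond f⟩,
      ⟨⟨PowerSeries.X ^ c * g, X_pow_mul_mem A c hcond g⟩, ?_⟩), ?_⟩
    · apply mem_nonZeroDivisors_of_ne_zero
      intro h
      exact mul_ne_zero hX hg0 (congrArg Subtype.val h)
    · rw [algebraMap_eq, algebraMap_eq]
      simp only [map_mul]
      field_simp
  · intro x y h
    refine ⟨1, ?_⟩
    rw [algebraMap_eq, algebraMap_eq] at h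
    rw [Subtype.ext (hinjP h)]

theorem isLocalRing_sub [Module.Finite ↥A (PowerSeries k)] : IsLocalRing ↥A :=
  RingHom.domain_isLocalRing (algebraMap ↥A (PowerSeries k))

include hcond in
theorem exists_nf_sub [Module.Finite ↥A (PowerSeries k)] (hc0 : c ≠ 0) :
    letI := isLocalRing_sub A
    ∃ x : ↥A, x ≠ 0 ∧ x ∈ IsLocalRing.maximalIdeal ↥A := by
  letI := isLocalRing_sub A
  have hX : (PowerSeries.X : PowerSeries k) ^ c ≠ 0 := pow_ne_zero _ PowerSeries.X_ne_zero
  have hmem : (PowerSeries.X : PowerSeries k) ^ c ∈ A := by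
    have := X_pow_mul_mem A c hcond 1
    rwa [mul_one] at this
  refine ⟨⟨PowerSeries.X ^ c, hmem⟩, ?_, ?_⟩
  · intro h
    exact hX (congrArg Subtype.val h)
  · rw [IsLocalRing.mem_maximalIdeal, mem_nonunits_iff]
    intro hu
    have hu' : IsUnit ((PowerSeries.X : PowerSeries k) ^ c) := by
      have := hu.map (algebraMap ↥A (PowerSeries k))
      exact this
    rw [PowerSeries.isUnit_iff_constantCoeff, map_pow, PowerSeries.constantCoeff_X,
      zero_pow hc0] at hu'
    exact not_isUnit_zero hu'

include hcond in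
theorem length_quot_ne_top_sub (x : ↥A) (hx : x ≠ 0) :
    Module.length ↥A (↥A ⧸ Ideal.span {x}) ≠ ⊤ := by
  have hx' : (x : PowerSeries k) ≠ 0 := fun h => hx (Subtype.ext h)
  obtain ⟨n, hn⟩ : ∃ n : ℕ, (n : ℕ∞) = (x : PowerSeries k).order :=
    ⟨_, PowerSeries.coe_toNat_order hx'⟩
  set N : ℕ := c + n with hN
  let ψ : ↥A →ₗ[k] Polynomial k := (PowerSeries.trunc N) ∘ₗ A.val.toLinearMap
  let q : ↥A →ₗ[k] (↥A ⧸ Ideal.span {x}) := (Ideal.Quotient.mkₐ k (Ideal.span {x})).toLinearMap
  have hker : LinearMap.ker ψ ≤ LinearMap.ker q := by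
    intro a ha
    rw [LinearMap.mem_ker] at ha ⊢
    have ha' : PowerSeries.trunc N (a : PowerSeries k) = 0 := ha
    have hord : (N : ℕ∞) ≤ (a : PowerSeries k).order := by
      apply PowerSeries.nat_le_order
      intro i hi
      have := congrArg (fun p => Polynomial.coeff p i) ha'
      simp only [PowerSeries.coeff_trunc, if_pos hi, Polynomial.coeff_zero] at this
      exact this
    have hle : (x : PowerSeries k).order ≤ (a : PowerSeries k).order := by
      refine le_trans ?_ hord
      rw [← hn, hN]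
      exact_mod_cast Nat.le_add_left n c
    obtain ⟨h, hh⟩ := Groth.Agent.Helper19.TFCurv.exists_mul_eq_of_order_le hx' hle
    have hhord : (c : ℕ∞) ≤ h.order := by
      rw [← hh, PowerSeries.order_mul, ← hn, hN] at hord
      rcases eq_or_ne h.order ⊤ with htop | hfin
      · rw [htop]; exact le_top
      · obtain ⟨m, hm⟩ := ENat.ne_top_iff_exists.mp hfin
        rw [← hm] at hord ⊢
        norm_cast at hord ⊢
        omega
    have hhA : h ∈ A := hcond h hhord
    show (Ideal.Quotient.mk (Ideal.span {x})) a = 0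
    rw [Ideal.Quotient.eq_zero_iff_mem, Ideal.mem_span_singleton']
    exact ⟨⟨h, hhA⟩, Subtype.ext (by rw [mul_comm]; exact hh)⟩
  have hfinR : Module.Finite k ↥(LinearMap.range ψ) := by
    have hle : LinearMap.range ψ ≤ Polynomial.degreeLT k N := by
      rintro p ⟨a, rfl⟩
      rw [Polynomial.mem_degreeLT]
      exact PowerSeries.degree_trunc_lt _ N
    haveI : Module.Finite k ↥(Polynomial.degreeLT k N) :=
      Module.Finite.equiv (Polynomial.degreeLTEquiv k N).symm
    exact Module.Finite.of_injective (Submodule.inclusion hle) (Submodule.inclusion_injective hle)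
  haveI : Module.Finite k (↥A ⧸ LinearMap.ker ψ) :=
    Module.Finite.equiv (LinearMap.quotKerEquivRange ψ).symm
  have hsurj : Function.Surjective ((LinearMap.ker ψ).liftQ q hker) := by
    intro y
    obtain ⟨a, rfl⟩ := Ideal.Quotient.mk_surjective y
    exact ⟨Submodule.Quotient.mk a, rfl⟩
  haveI : Module.Finite k (↥A ⧸ Ideal.span {x}) := Module.Finite.of_surjective _ hsurj
  have hN1 : IsNoetherian ↥A (↥A ⧸ Ideal.span {x}) := isNoetherian_of_tower k inferInstance
  have hA1 : IsArtinian ↥A (↥A ⧸ Ideal.span {x}) := isArtinian_of_tower k inferInstance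
  rw [Module.length_ne_top_iff, isFiniteLength_iff_isNoetherian_isArtinian]
  exact ⟨hN1, hA1⟩

/-- the embedding `P → Frac P` as an `A`-linear map -/
noncomputable def iota : PowerSeries k →ₗ[↥A] FractionRing (PowerSeries k) :=
  (IsScalarTower.toAlgHom ↥A (PowerSeries k) (FractionRing (PowerSeries k))).toLinearMap

theorem iota_apply (f : PowerSeries k) :
    iota A f = algebraMap (PowerSeries k) (FractionRing (PowerSeries k)) f := rfl

theorem iota_injective : Function.Injective (iota A) :=
  IsFractionRing.injective (PowerSeries k) (FractionRing (PowerSeries k))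

theorem iota_mul (f g : PowerSeries k) : iota A (f * g) = iota A f * iota A g := by
  rw [iota_apply, iota_apply, iota_apply, map_mul]

theorem iota_algebraMap (a : ↥A) :
    iota A (a : PowerSeries k) = algebraMap ↥A (FractionRing (PowerSeries k)) a :=
  (algebraMap_eq A a).symm

/-- `P`-level dual. -/
def dualP (ω W : Submodule ↥A (PowerSeries k)) : Submodule ↥A (PowerSeries k) where
  carrier := {u | ∀ w ∈ W, u * w ∈ ω}
  add_mem' := by
    intro a b ha hb w hw
    rw [add_mul]
    exact ω.add_mem (ha w hw) (hb w hw)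
  zero_mem' := by
    intro w _
    rw [zero_mul]
    exact ω.zero_mem
  smul_mem' := by
    intro r u hu w hw
    rw [smul_mul_assoc]
    exact ω.smul_mem r (hu w hw)

theorem mem_dualP {ω W : Submodule ↥A (PowerSeries k)} {u : PowerSeries k} :
    u ∈ dualP A ω W ↔ ∀ w ∈ W, u * w ∈ ω := Iff.rfl

end PS

end Groth.Agent.Helper8.FracDual
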