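import Mathlib
import Groth.Agent.Lib.Helper8.FracDual5

/-!
# Value sets of duals with respect to a canonical ideal of `A ⊆ k[[t]]` (helper8)
-/

namespace Groth.Agent.Helper8.FracDual

universe u

open CategoryTheory

section PS

variable {k : Type u} [Field k] (A : Subalgebra k (PowerSeries k))
  [Module.Finite ↥A (PowerSeries k)]
  (c : ℕ) (hcond : ∀ f : PowerSeries k, (c : ℕ∞) ≤ PowerSeries.order f → f ∈ A) (hc0 : c ≠ 0)
  (ω : Submodule ↥A (PowerSeries k)) (hω1 : (1 : PowerSeries k) ∈ ω)
  (hωinj : HasInjectiveDimensionLT (ModuleCat.of ↥A ↥ω) 2)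

include hcond hc0 hω1 hωinj in
/-- Transfer of biduality to power series. -/
theorem ps_duality :
    (∀ W₁ W₂ : Submodule ↥A (PowerSeries k), (1 : PowerSeries k) ∈ W₁ → W₁ ≤ W₂ →
      dualP A ω W₁ = dualP A ω W₂ → W₁ = W₂) ∧
    (∀ u : PowerSeries k, (∀ f : PowerSeries k, u * f ∈ ω) → ∀ g : PowerSeries k, g * u ∈ A) := by
  haveI := isFractionRing_sub A c hcond
  letI := isLocalRing_sub A
  have hFL : FL ↥A (FractionRing (PowerSeries k)) := fl_of_length (length_quot_ne_top_sub A c hcond)
  have hnf := exists_nf_sub A c hcond hc0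
  have hι := iota_injective A
  have hι1 : iota A 1 = 1 := by rw [iota_apply, map_one]
  have hXmem : (PowerSeries.X : PowerSeries k) ^ c ∈ A := by
    have := X_pow_mul_mem A c hcond 1
    rwa [mul_one] at this
  have hX : (PowerSeries.X : PowerSeries k) ^ c ≠ 0 := pow_ne_zero _ PowerSeries.X_ne_zero
  -- lattices
  have hlat : ∀ W : Submodule ↥A (PowerSeries k), (1 : PowerSeries k) ∈ W →
      IsLat (W.map (iota A)) := by
    intro W hW
    constructor
    · refine exists_mem_of_ne_zero (x := iota A 1) (Submodule.mem_map_of_mem hW) ?_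
      rw [hι1]; exact one_ne_zero
    · refine ⟨⟨PowerSeries.X ^ c, hXmem⟩, fun h => hX (congrArg Subtype.val h), ?_⟩
      rintro x ⟨f, _, rfl⟩
      rw [mem_one']
      refine ⟨⟨PowerSeries.X ^ c * f, X_pow_mul_mem A c hcond f⟩, ?_⟩
      rw [← iota_algebraMap, ← iota_algebraMap]
      exact iota_mul A _ _
  have hdiv : ∀ W : Submodule ↥A (PowerSeries k), (1 : PowerSeries k) ∈ W →
      (ω.map (iota A)) / (W.map (iota A)) = (dualP A ω W).map (iota A) := by
    intro W hW
    ext x
    constructor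
    · intro hx
      rw [Submodule.mem_div_iff_forall_mul_mem] at hx
      have h1 := hx (iota A 1) (Submodule.mem_map_of_mem hW)
      rw [hι1, mul_one] at h1
      obtain ⟨u, hu, rfl⟩ := h1
      refine ⟨u, ?_, rfl⟩
      intro w hw
      have h2 := hx (iota A w) (Submodule.mem_map_of_mem hw)
      rw [← iota_mul] at h2
      obtain ⟨v, hv, hvw⟩ := h2
      rw [← hι hvw]
      exact hv
    · rintro ⟨u, hu, rfl⟩
      rw [Submodule.mem_div_iff_forall_mul_mem]
      rintro y ⟨w, hw, rfl⟩
      rw [← iota_mul]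
      exact Submodule.mem_map_of_mem (hu w hw)
  have hωlat : IsLat (ω.map (iota A)) := hlat ω hω1
  have e0 : ↥ω ≃ₗ[↥A] ↥(Submodule.map (iota A) ω) :=
    Submodule.equivMapOfInjective (iota A) hι ω
  have hinj' : HasInjectiveDimensionLT (ModuleCat.of ↥A ↥(ω.map (iota A))) 2 :=
    hasInjectiveDimensionLT_of_iso (LinearEquiv.toModuleIso (R := ↥A) (X₁ := ↥ω)
      (X₂ := ↥(Submodule.map (iota A) ω)) (g₁ := inferInstance) (g₂ := inferInstance)
      (m₁ := inferInstance) (m₂ := inferInstance) e0) 2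
  have hE : Module.Baer ↥A (FractionRing (PowerSeries k) ⧸ ω.map (iota A)) :=
    baer_quot_of_hasInjectiveDimensionLT _ hinj'
  constructor
  · intro W₁ W₂ h1 hle heq
    have e1 := div_div_eq hFL hnf hωlat hE (hlat W₁ h1)
    have e2 := div_div_eq hFL hnf hωlat hE (hlat W₂ (hle h1))
    rw [hdiv W₁ h1, heq, ← hdiv W₂ (hle h1), e2] at e1
    exact (Submodule.map_injective_of_injective hι e1).symm
  · intro u hu g
    have hωω : (ω.map (iota A)) / (ω.map (iota A)) = 1 := by
      have := div_div_eq hFL hnf hωlat hE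
        (isLat_one (O := ↥A) (K := FractionRing (PowerSeries k)))
      rwa [div_one'] at this
    have h2 : iota A (g * u) ∈ (ω.map (iota A)) / (ω.map (iota A)) := by
      rw [Submodule.mem_div_iff_forall_mul_mem]
      rintro y ⟨w, hw, rfl⟩
      rw [← iota_mul]
      apply Submodule.mem_map_of_mem
      have : g * u * w = u * (g * w) := by ring
      rw [this]
      exact hu _
    rw [hωω] at h2
    obtain ⟨a, ha⟩ := mem_one'.mp h2
    rw [← iota_algebraMap] at ha
    rw [← hι ha]
    exact a.2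

/-- the submodule `t^j k[[t]]`. -/
def Pj (j : ℕ) : Submodule ↥A (PowerSeries k) where
  carrier := {f | (j : ℕ∞) ≤ PowerSeries.order f}
  add_mem' := by
    intro a b ha hb
    exact le_trans (le_min ha hb) (PowerSeries.min_order_le_order_add a b)
  zero_mem' := by
    show (j : ℕ∞) ≤ PowerSeries.order 0
    rw [PowerSeries.order_zero]; exact le_top
  smul_mem' := by
    intro r f hf
    show (j : ℕ∞) ≤ PowerSeries.order (r • f)
    rw [Algebra.smul_def, PowerSeries.order_mul]
    exact le_trans hf le_add_self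

theorem mem_Pj {j : ℕ} {f : PowerSeries k} : f ∈ Pj A j ↔ (j : ℕ∞) ≤ PowerSeries.order f :=
  Iff.rfl

theorem Pj_anti {i j : ℕ} (h : i ≤ j) : Pj A j ≤ Pj A i := by
  intro f hf
  rw [mem_Pj] at hf ⊢
  exact le_trans (by exact_mod_cast h) hf

theorem dualP_sup (ω M N : Submodule ↥A (PowerSeries k)) :
    dualP A ω (M ⊔ N) = dualP A ω M ⊓ dualP A ω N := by
  ext u
  rw [Submodule.mem_inf, mem_dualP, mem_dualP, mem_dualP]
  constructor
  · intro h
    exact ⟨fun w hw => h w (Submodule.mem_sup_left hw), fun w hw => h w (Submodule.mem_sup_right hw)⟩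
  · rintro ⟨h1, h2⟩ w hw
    obtain ⟨m, hm, p, hp, rfl⟩ := Submodule.mem_sup.mp hw
    rw [mul_add]
    exact ω.add_mem (h1 m hm) (h2 p hp)

theorem smul_k_mem (M : Submodule ↥A (PowerSeries k)) (a : k) {m : PowerSeries k} (hm : m ∈ M) :
    a • m ∈ M := by
  have : a • m = (algebraMap k ↥A a) • m := by
    rw [algebraMap_smul]
  rw [this]
  exact M.smul_mem _ hm

/-- `M + t^{j+1}P = M + t^j P` iff `j` is a value of `M`. -/
theorem sup_Pj_eq_iff (M : Submodule ↥A (PowerSeries k)) (j : ℕ) :
    M ⊔ Pj A (j + 1) = M ⊔ Pj A j ↔ ∃ m ∈ M, PowerSeries.order m = (j : ℕ∞) := by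
  constructor
  · intro h
    have hX : (PowerSeries.X : PowerSeries k) ^ j ∈ M ⊔ Pj A (j + 1) := by
      rw [h]
      apply Submodule.mem_sup_right
      rw [mem_Pj, PowerSeries.order_X_pow]
    obtain ⟨m, hm, p, hp, hmp⟩ := Submodule.mem_sup.mp hX
    refine ⟨m, hm, ?_⟩
    rw [mem_Pj] at hp
    have hm' : m = PowerSeries.X ^ j - p := by rw [← hmp]; ring
    rw [PowerSeries.order_eq_nat]
    constructor
    · rw [hm', map_sub, PowerSeries.coeff_X_pow_self,
        PowerSeries.coeff_of_lt_order j (lt_of_lt_of_le (by exact_mod_cast Nat.lt_succ_self j) hp),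
        sub_zero]
      exact one_ne_zero
    · intro i hi
      rw [hm', map_sub, PowerSeries.coeff_X_pow, if_neg (ne_of_lt hi),
        PowerSeries.coeff_of_lt_order i
          (lt_of_lt_of_le (by exact_mod_cast (Nat.lt_succ_of_lt hi)) hp), sub_zero]
  · rintro ⟨m, hm, hmj⟩
    apply le_antisymm
    · exact sup_le_sup_left (Pj_anti A (Nat.le_succ j)) M
    · refine sup_le le_sup_left ?_
      intro f hf
      rw [mem_Pj] at hf
      obtain ⟨hmj0, hmlt⟩ := PowerSeries.order_eq_nat.mp hmj
      set a : k := PowerSeries.coeff j f / PowerSeries.coeff j m with ha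
      have hdec : f = a • m + (f - a • m) := by ring
      rw [hdec]
      refine Submodule.add_mem _ (Submodule.mem_sup_left (smul_k_mem A M a hm))
        (Submodule.mem_sup_right ?_)
      rw [mem_Pj]
      apply PowerSeries.nat_le_order
      intro i hi
      rw [map_sub, map_smul, smul_eq_mul]
      rcases Nat.lt_succ_iff_lt_or_eq.mp hi with hlt | heq
      · rw [PowerSeries.coeff_of_lt_order i (lt_of_lt_of_le (by exact_mod_cast hlt) hf),
          hmlt i hlt, mul_zero, sub_zero]
      · rw [heq, ha, div_mul_cancel₀ _ hmj0, sub_self]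

/-- `D ∩ t^n P = D ∩ t^{n+1} P` iff `n` is not a value of `D`. -/
theorem inf_Pj_eq_iff (D : Submodule ↥A (PowerSeries k)) (n : ℕ) :
    D ⊓ Pj A n = D ⊓ Pj A (n + 1) ↔ ¬ ∃ u ∈ D, PowerSeries.order u = (n : ℕ∞) := by
  constructor
  · rintro h ⟨u, hu, hun⟩
    have h1 : u ∈ D ⊓ Pj A n := Submodule.mem_inf.mpr ⟨hu, by rw [mem_Pj, hun]⟩
    rw [h] at h1
    have h2 := (Submodule.mem_inf.mp h1).2
    rw [mem_Pj, hun] at h2
    exact absurd h2 (by exact_mod_cast Nat.not_succ_le_self n)
  · intro h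
    apply le_antisymm
    · intro u hu'
      obtain ⟨hu, hun⟩ := Submodule.mem_inf.mp hu'
      refine Submodule.mem_inf.mpr ⟨hu, ?_⟩
      rw [mem_Pj] at hun ⊢
      have hne : (n : ℕ∞) ≠ PowerSeries.order u := fun e => h ⟨u, hu, e.symm⟩
      have := Order.add_one_le_of_lt (lt_of_le_of_ne hun hne)
      exact_mod_cast this
    · exact inf_le_inf_left D (Pj_anti A (Nat.le_succ n))

include hcond hc0 hω1 hωinj in
/-- **Main theorem on value sets.** -/
theorem ps_main (hconv : ∀ f : PowerSeries k, (∀ g : PowerSeries k, g * f ∈ A) →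
      (c : ℕ∞) ≤ PowerSeries.order f)
    (M : Submodule ↥A (PowerSeries k)) (hM1 : (1 : PowerSeries k) ∈ M) (n : ℕ) :
    (∃ u : PowerSeries k, PowerSeries.order u = n ∧ ∀ m ∈ M, u * m ∈ ω) ↔
      (c ≤ n ∨ ¬ ∃ m ∈ M, PowerSeries.order m = ((c - 1 - n : ℕ) : ℕ∞)) := by
  obtain ⟨T1, T2⟩ := ps_duality A c hcond hc0 ω hω1 hωinj
  have hAω : ∀ a : PowerSeries k, a ∈ A → a ∈ ω := by
    intro a ha
    have : a = (⟨a, ha⟩ : ↥A) • (1 : PowerSeries k) := by
      rw [Algebra.smul_def, mul_one]; rfl
    rw [this]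
    exact ω.smul_mem _ hω1
  -- dual of `t^j P`
  have L1 : ∀ j : ℕ, j ≤ c → dualP A ω (Pj A j) = Pj A (c - j) := by
    intro j hj
    ext u
    rw [mem_dualP, mem_Pj]
    constructor
    · intro hu
      have h1 : ∀ f : PowerSeries k, (u * PowerSeries.X ^ j) * f ∈ ω := by
        intro f
        rw [mul_assoc]
        apply hu
        rw [mem_Pj, PowerSeries.order_mul, PowerSeries.order_X_pow]
        exact le_self_add
      have h2 := hconv _ (T2 _ h1)
      rw [PowerSeries.order_mul, PowerSeries.order_X_pow] at h2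
      rcases eq_or_ne u.order ⊤ with htop | hfin
      · rw [htop]; exact le_top
      · obtain ⟨m, hm⟩ := ENat.ne_top_iff_exists.mp hfin
        rw [← hm] at h2 ⊢
        norm_cast at h2 ⊢
        omega
    · intro hu w hw
      rw [mem_Pj] at hw
      apply hAω
      apply hcond
      rw [PowerSeries.order_mul]
      have h3 : ((c - j : ℕ) : ℕ∞) + (j : ℕ∞) ≤ u.order + w.order := add_le_add hu hw
      refine le_trans ?_ h3
      have : c = (c - j) + j := by omega
      exact_mod_cast this.le
  by_cases hn : c ≤ n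
  · simp only [hn, true_or, iff_true]
    refine ⟨PowerSeries.X ^ n, PowerSeries.order_X_pow n, ?_⟩
    intro m _
    apply hAω
    apply hcond
    rw [PowerSeries.order_mul, PowerSeries.order_X_pow]
    exact le_trans (by exact_mod_cast hn) le_self_add
  · push Not at hn
    simp only [not_le.mpr hn, false_or]
    set j : ℕ := c - 1 - n with hj
    have hj1 : c - (j + 1) = n := by omega
    have hj2 : c - j = n + 1 := by omega
    have hjc : j + 1 ≤ c := by omega
    rw [← sup_Pj_eq_iff A M j]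
    have key : M ⊔ Pj A (j + 1) = M ⊔ Pj A j ↔
        dualP A ω M ⊓ Pj A n = dualP A ω M ⊓ Pj A (n + 1) := by
      constructor
      · intro h
        have := congrArg (dualP A ω) h
        rw [dualP_sup, dualP_sup, L1 (j + 1) hjc, L1 j (by omega), hj1, hj2] at this
        exact this
      · intro h
        apply T1 _ _ (Submodule.mem_sup_left hM1)
          (sup_le_sup_left (Pj_anti A (Nat.le_succ j)) M)
        rw [dualP_sup, dualP_sup, L1 (j + 1) hjc, L1 j (by omega), hj1, hj2]
        exact h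
    rw [key, inf_Pj_eq_iff, not_not]
    constructor
    · rintro ⟨u, hun, hu⟩
      exact ⟨u, hu, hun⟩
    · rintro ⟨u, hu, hun⟩
      exact ⟨u, hun, hu⟩

end PS

end Groth.Agent.Helper8.FracDual
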