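import Mathlib
import Groth.Agent.Lib.Helper8.FracDual4
import Groth.Agent.Lib.Helper8.FracDual7
import Groth.Agent.Lib.Lead.Bass5
import Groth.Agent.Lib.Lead.Depth11

/-!
# `Ext¹(M,M)` for an overring `M` of a one-dimensional Gorenstein local domain (helper8)
-/

namespace Groth.Agent.Helper8.FracDual

universe u

open CategoryTheory Abelian

section

variable {O : Type u} [CommRing O] [IsDomain O] {K : Type u} [Field K] [Algebra O K]
  [IsFractionRing O K]

/-- `O ≃ₗ 1`. -/
noncomputable def oneEquiv : O ≃ₗ[O] ↥(1 : Submodule O K) :=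
  (LinearEquiv.ofInjective (Algebra.linearMap O K) (IsFractionRing.injective O K)).trans
    (LinearEquiv.ofEq _ _ Submodule.one_eq_range.symm)

theorem oneEquiv_apply (a : O) :
    ((oneEquiv (K := K) a : ↥(1 : Submodule O K)) : K) = algebraMap O K a := rfl

theorem baer_one [LocCoh.IsGorensteinLocalRing O] (hdim : ringKrullDim O = 1) :
    Module.Baer O (K ⧸ (1 : Submodule O K)) := by
  apply baer_quot_of_hasInjectiveDimensionLT
  have h1 : HasInjectiveDimensionLT (ModuleCat.of O O) (1 + 1) :=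
    Groth.Agent.Lead.Depth.hasInjectiveDimensionLT_of_ext_residueField O 1
      (fun i hi => Groth.Agent.Lead.Depth.gorenstein_ext_residueField_subsingleton 1
        (by rw [hdim]; rfl) i hi)
  exact hasInjectiveDimensionLT_of_iso ((oneEquiv (O := O) (K := K)).toModuleIso) 2

theorem ext_overring [LocCoh.IsGorensteinLocalRing O] (hdim : ringKrullDim O = 1)
    (hfin : Module.Finite O ↥(integralClosure O K))
    (M : Subalgebra O K) (hM : M ≤ integralClosure O K) :
    Nonempty (Ext (ModuleCat.of O ↥(Subalgebra.toSubmodule M))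
        (ModuleCat.of O ↥(Subalgebra.toSubmodule M)) 1 ≃+
      (↥((1 : Submodule O K) / Subalgebra.toSubmodule M) →ₗ[O]
        (O ⧸ Submodule.comap (Algebra.linearMap O K)
          ((1 : Submodule O K) / Subalgebra.toSubmodule M)))) := by
  have hFL : FL O K := fl_of_dim hdim
  have hnf := exists_nf (O := O) hdim
  have hE := baer_one (O := O) (K := K) hdim
  set B : Submodule O K := Subalgebra.toSubmodule M with hB
  have h1B : (1 : Submodule O K) ≤ B := by
    rw [Submodule.one_le]; exact M.one_mem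
  have hBfg : B.FG := by
    have h0 : Module.Finite O ↥(Subalgebra.toSubmodule (integralClosure O K)) := hfin
    haveI : IsNoetherian O ↥(Subalgebra.toSubmodule (integralClosure O K)) :=
      isNoetherian_of_isNoetherianRing_of_finite O _
    have hle : B ≤ Subalgebra.toSubmodule (integralClosure O K) := fun x hx => hM hx
    exact (isNoetherian_submodule (N := Subalgebra.toSubmodule (integralClosure O K))).mp
      inferInstance B hle
  have hBne : B ≠ ⊥ := by
    intro h
    have : (1 : K) ∈ B := h1B (Submodule.one_le.mp le_rfl)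
    rw [h] at this
    exact one_ne_zero ((Submodule.mem_bot O).mp this)
  have hBlat : IsLat B := isLat_of_fg hBfg hBne
  set D : Submodule O K := (1 : Submodule O K) / B with hD
  have hDlat : IsLat D := (isLat_one (O := O) (K := K)).div hBlat
  have hbid : (1 : Submodule O K) / D = B :=
    div_div_eq hFL hnf (isLat_one (O := O) (K := K)) hE hBlat
  have hBmul : ∀ x ∈ B, ∀ y ∈ B, x * y ∈ B := fun x hx y hy => M.mul_mem hx hy
  -- Step 1
  let P : Submodule O ↥B := (1 : Submodule O K).submoduleOf B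
  haveI : Module.Projective O ↥(1 : Submodule O K) :=
    Module.Projective.of_equiv (oneEquiv (O := O) (K := K))
  haveI : Module.Projective O ↥P :=
    Module.Projective.of_equiv (Submodule.submoduleOfEquivOfLe h1B).symm
  have hext : ∀ φ : ↥P →ₗ[O] ↥B, ∃ ψ : ↥B →ₗ[O] ↥B, ψ ∘ₗ P.subtype = φ := by
    intro φ
    let oneP : ↥P := ⟨⟨1, h1B (Submodule.one_le.mp le_rfl)⟩, Submodule.one_le.mp le_rfl⟩
    set y : ↥B := φ oneP with hy
    refine ⟨(LinearMap.mulRight O (y : K)).restrict (fun x hx => hBmul x hx _ y.2), ?_⟩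
    ext p
    obtain ⟨a, ha⟩ := mem_one'.mp (show ((p : ↥B) : K) ∈ (1 : Submodule O K) from p.2)
    have hp : p = a • oneP := by
      apply Subtype.ext
      apply Subtype.ext
      show ((p : ↥B) : K) = a • (1 : K)
      rw [Algebra.smul_def, mul_one, ha]
    rw [LinearMap.comp_apply, LinearMap.restrict_apply]
    show ((p : ↥B) : K) * (y : K) = ((φ p : ↥B) : K)
    rw [hp, map_smul, ← hy]
    show (a • (1 : K)) * (y : K) = a • (y : K)
    rw [smul_mul_assoc, one_mul]
  obtain ⟨e1⟩ := ext_one_equiv_of_sub (P := ↥P) (M := ↥B) (T := ↥B ⧸ P) (Y := ↥B) P.subtype P.mkQ (Submodule.injective_subtype P)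
    (Submodule.mkQ_surjective P) (LinearMap.exact_subtype_mkQ P) hext
  -- Step 2
  have hT : ∀ φ : (↥B ⧸ P) →ₗ[O] K, φ = 0 := by
    intro φ
    apply Submodule.linearMap_qext
    ext m
    obtain ⟨d, hd, hdB⟩ := hBlat.2
    have hd0 : algebraMap O K d ≠ 0 := algebraMap_ne_zero' hd
    have h1 : d • (Submodule.Quotient.mk m : ↥B ⧸ P) = 0 := by
      rw [← Submodule.Quotient.mk_smul, Submodule.Quotient.mk_eq_zero]
      show ((d • m : ↥B) : K) ∈ (1 : Submodule O K)
      have := hdB m m.2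
      rwa [← Algebra.smul_def] at this
    have h2 : d • φ (Submodule.Quotient.mk m) = 0 := by
      rw [← map_smul, h1, map_zero]
    rw [Algebra.smul_def] at h2
    rcases mul_eq_zero.mp h2 with h3 | h3
    · exact absurd h3 hd0
    · exact h3
  obtain ⟨e2⟩ := ext_one_equiv_hom (N := ↥B) (I := K) (Q := K ⧸ B) (T := ↥B ⧸ P) B.subtype B.mkQ (Submodule.injective_subtype B)
    (Submodule.mkQ_surjective B) (LinearMap.exact_subtype_mkQ B)
    (baer_fractionField (O := O) (K := K)) hT
  -- Step 3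
  have hker : LinearMap.ker (Phi (1 : Submodule O K) D) = B := by
    ext x
    rw [LinearMap.mem_ker, Phi_eq_zero_iff, hbid]
  let e3 : (K ⧸ B) ≃ₗ[O] (↥D →ₗ[O] K ⧸ (1 : Submodule O K)) :=
    (Submodule.quotEquivOfEq _ _ hker.symm).trans
      (LinearMap.quotKerEquivOfSurjective _ (Phi_surjective (1 : Submodule O K) hE hDlat.2))
  -- Step 5
  let e5 : (↥((1 : Submodule O K) / 1) ⧸ (D).submoduleOf ((1 : Submodule O K) / 1)) ≃ₗ[O]
      ((↥B ⧸ P) →ₗ[O] K ⧸ (1 : Submodule O K)) :=
    (Submodule.quotEquivOfEq _ _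
      (ker_Psi (1 : Submodule O K) (I := (1 : Submodule O K)) (J := B))).symm.trans
      (LinearMap.quotKerEquivOfSurjective _
        (Psi_surjective (1 : Submodule O K) hE h1B hBlat.2))
  -- Step 6
  let θ0 : O →ₗ[O] ↥((1 : Submodule O K) / 1) :=
    LinearMap.codRestrict _ (Algebra.linearMap O K) (fun a => by
      rw [div_one']; exact mem_one'.mpr ⟨a, rfl⟩)
  let θ : O →ₗ[O] (↥((1 : Submodule O K) / 1) ⧸ (D).submoduleOf ((1 : Submodule O K) / 1)) :=
    (Submodule.mkQ _) ∘ₗ θ0
  have hθsurj : Function.Surjective θ := by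
    intro y
    obtain ⟨⟨z, hz⟩, rfl⟩ := Submodule.Quotient.mk_surjective _ y
    have hz' : z ∈ (1 : Submodule O K) := by rwa [div_one'] at hz
    obtain ⟨a, ha⟩ := mem_one'.mp hz'
    refine ⟨a, ?_⟩
    show Submodule.Quotient.mk (θ0 a) = _
    congr 1
    exact Subtype.ext ha
  have hθker : LinearMap.ker θ = Submodule.comap (Algebra.linearMap O K) D := by
    ext a
    rw [LinearMap.mem_ker]
    show Submodule.Quotient.mk (θ0 a) = 0 ↔ _
    rw [Submodule.Quotient.mk_eq_zero]
    rfl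
  let e6 : (O ⧸ Submodule.comap (Algebra.linearMap O K) D) ≃ₗ[O]
      (↥((1 : Submodule O K) / 1) ⧸ (D).submoduleOf ((1 : Submodule O K) / 1)) :=
    (Submodule.quotEquivOfEq _ _ hθker.symm).trans (LinearMap.quotKerEquivOfSurjective θ hθsurj)
  -- assemble
  let c1 : ((↥B ⧸ P) →ₗ[O] K ⧸ B) ≃ₗ[O] ((↥B ⧸ P) →ₗ[O] (↥D →ₗ[O] K ⧸ (1 : Submodule O K))) :=
    LinearEquiv.congrRight e3
  let c2 : ((↥B ⧸ P) →ₗ[O] (↥D →ₗ[O] K ⧸ (1 : Submodule O K))) ≃ₗ[O]
      (↥D →ₗ[O] ((↥B ⧸ P) →ₗ[O] K ⧸ (1 : Submodule O K))) := LinearMap.lflip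
  let c3 : (↥D →ₗ[O] ((↥B ⧸ P) →ₗ[O] K ⧸ (1 : Submodule O K))) ≃ₗ[O]
      (↥D →ₗ[O] (O ⧸ Submodule.comap (Algebra.linearMap O K) D)) :=
    LinearEquiv.congrRight (e6.trans e5).symm
  exact ⟨(e1.symm.trans e2).trans ((c1.trans c2).trans c3).toAddEquiv⟩

end

end Groth.Agent.Helper8.FracDual
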