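import Groth.Agent.Lib.Helper11.LocalPerf6
import Groth.Agent.Lib.Helper11.Dev4
import Groth.Agent.Lib.Helper11.Tel7
import Groth.Agent.Lib.Helper11.LDer3

/-!
# Derived base change: composition and shifts, objectwise (helper8)
-/

set_option autoImplicit false

open CategoryTheory CategoryTheory.Limits

universe u

namespace Groth.Agent.Helper8.GF

open DerivedCategory Groth.Agent.Helper11.TA Groth.Agent.Helper11.LDer

attribute [local instance] HasDerivedCategory.standard

variable {A B C : Type u} [CommRing A] [CommRing B] [CommRing C]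

/-- derived base change along a composition, objectwise -/
theorem nonempty_LBaseChange_comp (f : A →+* B) (g : B →+* C) (h : A →+* C) (hh : h = g.comp f)
    [DRing.HasLBaseChange f] [DRing.HasLBaseChange g] [DRing.HasLBaseChange h] (K : Dual.D A) :
    Nonempty ((DRing.LBaseChange h).obj K ≅
      (DRing.LBaseChange g).obj ((DRing.LBaseChange f).obj K)) := by
  subst hh
  obtain ⟨T, hT, -, ⟨e⟩⟩ := Groth.Agent.Helper11.Tel.exists_kprojective_rep K
  haveI := hT
  haveI := Groth.Agent.Helper11.Dev.isKProjective_esC f T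
  exact ⟨(DRing.LBaseChange (g.comp f)).mapIso e.symm ≪≫ LBaseChangeIso (g.comp f) T ≪≫
    Q.mapIso (Groth.Agent.Helper11.LocalPerf.esCCompIso f g T) ≪≫
    (LBaseChangeIso g ((esC f).obj T)).symm ≪≫
    (DRing.LBaseChange g).mapIso ((LBaseChangeIso f T).symm ≪≫ (DRing.LBaseChange f).mapIso e)⟩

/-- derived base change commutes with shifts, objectwise -/
theorem nonempty_LBaseChange_shift (f : A →+* B) [DRing.HasLBaseChange f] (K : Dual.D A) (m : ℤ) :
    Nonempty ((DRing.LBaseChange f).obj (K⟦m⟧) ≅ ((DRing.LBaseChange f).obj K)⟦m⟧) := by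
  obtain ⟨T, hT, -, ⟨e⟩⟩ := Groth.Agent.Helper11.Tel.exists_kprojective_rep K
  haveI := hT
  haveI : (T⟦m⟧).IsKProjective := inferInstance
  let e1 : K⟦m⟧ ≅ Q.obj (T⟦m⟧) :=
    (shiftFunctor (Dual.D A) m).mapIso e.symm ≪≫ ((Q.commShiftIso m).app T).symm
  let e2 : (esC f).obj (T⟦m⟧) ≅ ((esC f).obj T)⟦m⟧ := ((esC f).commShiftIso m).app T
  exact ⟨(DRing.LBaseChange f).mapIso e1 ≪≫ LBaseChangeIso f (T⟦m⟧) ≪≫ Q.mapIso e2 ≪≫
    (Q.commShiftIso m).app ((esC f).obj T) ≪≫
    (shiftFunctor (Dual.D B) m).mapIso ((LBaseChangeIso f T).symm ≪≫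
      (DRing.LBaseChange f).mapIso e)⟩

end Groth.Agent.Helper8.GF
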