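import Mathlib.RingTheory.LocalRing.ResidueField.Ideal
import Mathlib.RingTheory.TensorProduct.Maps
import Mathlib.RingTheory.Localization.AtPrime.Basic

/-!
# The point of the fibre ring `κ(p) ⊗_R A` above a prime `q` of `A` (helper8)
-/

set_option autoImplicit false

open scoped TensorProduct

universe u

namespace Groth.Agent.Helper8.GF

variable (R : Type u) {A : Type u} [CommRing R] [CommRing A] [Algebra R A] (q : Ideal A)
  [q.IsPrime]

/-- the residue field at `q`, as a quotient of the local ring -/
abbrev kq : Type u := Localization.AtPrime q ⧸ IsLocalRing.maximalIdeal (Localization.AtPrime q)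

/-- the prime of `R` below `q` -/
abbrev pbelow : Ideal R := q.comap (algebraMap R A)

/-- `A → κ(q)` -/
noncomputable def toKq : A →ₐ[R] kq q :=
  (Ideal.Quotient.mkₐ R (IsLocalRing.maximalIdeal (Localization.AtPrime q))).comp
    (IsScalarTower.toAlgHom R A (Localization.AtPrime q))

theorem toKq_apply (a : A) : toKq R q a =
    Ideal.Quotient.mk (IsLocalRing.maximalIdeal (Localization.AtPrime q))
      (algebraMap A (Localization.AtPrime q) a) := rfl

theorem toKq_eq_zero_iff (a : A) : toKq R q a = 0 ↔ a ∈ q := by
  rw [toKq_apply, Ideal.Quotient.eq_zero_iff_mem, IsLocalization.AtPrime.to_map_mem_maximal_iff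
    (Localization.AtPrime q) q]

theorem algebraMap_kq (r : R) : algebraMap R (kq q) r = toKq R q (algebraMap R A r) := by
  rw [AlgHom.commutes]

/-- `κ(p) → κ(q)` -/
noncomputable def kpToKq : (pbelow R q).ResidueField →ₐ[R] kq q :=
  Ideal.ResidueField.liftₐ (pbelow R q) (Algebra.ofId R (kq q))
    (fun r hr => by
      rw [RingHom.mem_ker]
      show algebraMap R (kq q) r = 0
      rw [algebraMap_kq, toKq_eq_zero_iff]
      exact hr)
    (fun r hr => by
      show IsUnit (algebraMap R (kq q) r)
      rw [algebraMap_kq, toKq_apply]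
      apply IsUnit.map
      exact IsLocalization.map_units (Localization.AtPrime q) (⟨algebraMap R A r, hr⟩ : q.primeCompl))

/-- the canonical map from the fibre ring to `κ(q)` -/
noncomputable def sigma : (pbelow R q).ResidueField ⊗[R] A →ₐ[R] kq q :=
  Algebra.TensorProduct.lift (kpToKq R q) (toKq R q) (fun _ _ => Commute.all _ _)

theorem sigma_includeRight (a : A) :
    sigma R q ((Algebra.TensorProduct.includeRight :
      A →ₐ[R] (pbelow R q).ResidueField ⊗[R] A) a) = toKq R q a := by
  show sigma R q (1 ⊗ₜ[R] a) = _
  rw [sigma, Algebra.TensorProduct.lift_tmul, map_one, one_mul]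

/-- the point of the fibre above `q` -/
noncomputable def qfib : Ideal ((pbelow R q).ResidueField ⊗[R] A) :=
  RingHom.ker (sigma R q).toRingHom

instance : (qfib R q).IsPrime := RingHom.ker_isPrime (sigma R q).toRingHom

theorem comap_qfib : (qfib R q).comap (Algebra.TensorProduct.includeRight :
    A →ₐ[R] (pbelow R q).ResidueField ⊗[R] A).toRingHom = q := by
  ext a
  rw [Ideal.mem_comap, qfib, RingHom.mem_ker]
  show sigma R q ((Algebra.TensorProduct.includeRight :
      A →ₐ[R] (pbelow R q).ResidueField ⊗[R] A) a) = 0 ↔ _
  rw [sigma_includeRight, toKq_eq_zero_iff]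

theorem isUnit_sigma (y : (qfib R q).primeCompl) : IsUnit ((sigma R q).toRingHom y) := by
  letI := Ideal.Quotient.field (IsLocalRing.maximalIdeal (Localization.AtPrime q))
  rw [isUnit_iff_ne_zero]
  exact fun h => y.2 ((RingHom.mem_ker).mpr h)

/-- the local ring of the fibre at the point above `q` maps to `κ(q)` -/
noncomputable def rho : Localization.AtPrime (qfib R q) →+* kq q :=
  IsLocalization.lift (M := (qfib R q).primeCompl) (g := (sigma R q).toRingHom) (isUnit_sigma R q)

theorem rho_comp : ((rho R q).comp (algebraMap ((pbelow R q).ResidueField ⊗[R] A)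
    (Localization.AtPrime (qfib R q)))).comp
      (Algebra.TensorProduct.includeRight : A →ₐ[R] (pbelow R q).ResidueField ⊗[R] A).toRingHom =
    (Ideal.Quotient.mk (IsLocalRing.maximalIdeal (Localization.AtPrime q))).comp
      (algebraMap A (Localization.AtPrime q)) := by
  rw [rho, IsLocalization.lift_comp]
  ext a
  exact sigma_includeRight R q a

end Groth.Agent.Helper8.GF
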