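import Mathlib

/-!
# Spreading out: vanishing and freeness of rank one near a prime (helper8)
-/

set_option autoImplicit false
universe u

namespace Groth.Agent.Helper8.ShE

variable {A : Type u} [CommRing A]

theorem subsingleton_away_of_forall_prime (M : Type u) [AddCommGroup M] [Module A M] (g f : A)
    (hgf : g ∣ f)
    (h : ∀ (𝔮 : Ideal A) [𝔮.IsPrime], g ∉ 𝔮 → Subsingleton (LocalizedModule 𝔮.primeCompl M)) :
    Subsingleton (LocalizedModule (Submonoid.powers f) M) := by
  rw [LocalizedModule.subsingleton_iff_support_subset]
  intro p hp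
  rw [Module.mem_support_iff] at hp
  rw [PrimeSpectrum.mem_zeroLocus, Set.singleton_subset_iff]
  show f ∈ p.asIdeal
  by_contra hf
  have hg : g ∉ p.asIdeal := fun hg => hf (Ideal.mem_of_dvd _ hgf hg)
  have := h p.asIdeal hg
  exact not_subsingleton_iff_nontrivial.mpr hp this

theorem exists_away_equiv [IsNoetherianRing A] (M : Type u) [AddCommGroup M] [Module A M]
    [Module.Finite A M] (q : Ideal A) [q.IsPrime]
    (e : LocalizedModule q.primeCompl M ≃ₗ[Localization.AtPrime q] Localization.AtPrime q) :
    ∃ r₁ : A, r₁ ∉ q ∧ ∀ t : A, r₁ ∣ t →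
      Nonempty (LocalizedModule (Submonoid.powers t) M ≃ₗ[Localization.Away t]
        Localization.Away t) := by
  classical
  haveI : Module.FinitePresentation A M := Module.finitePresentation_of_finite A M
  let fN := LocalizedModule.mkLinearMap q.primeCompl M
  let fA : A →ₗ[A] Localization.AtPrime q := Algebra.linearMap A (Localization.AtPrime q)
  obtain ⟨⟨y, s⟩, hys⟩ := IsLocalizedModule.surj q.primeCompl fN (e.symm 1)
  let l : A →ₗ[A] M := LinearMap.toSpanSingleton A M y
  let φ := IsLocalizedModule.map q.primeCompl fA fN l
  have hφ1 : φ 1 = fN y := by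
    have h1 := IsLocalizedModule.map_apply q.primeCompl fA fN l 1
    have h2 : fA 1 = 1 := by simp [fA]
    rw [h2] at h1
    rw [h1]
    show fN (LinearMap.toSpanSingleton A M y 1) = fN y
    rw [LinearMap.toSpanSingleton_apply, one_smul]
  have hey : e (fN y) = algebraMap A (Localization.AtPrime q) s.1 := by
    have h1 : fN y = s • e.symm 1 := hys.symm
    rw [h1]
    have h2 : (s • e.symm 1 : LocalizedModule q.primeCompl M) =
        (algebraMap A (Localization.AtPrime q) s.1) • e.symm 1 := by
      rw [algebraMap_smul]
      rfl
    rw [h2, map_smul, LinearEquiv.apply_symm_apply, smul_eq_mul, mul_one]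
  let h : Localization.AtPrime q →ₗ[A] Localization.AtPrime q :=
    (e.toLinearMap.restrictScalars A) ∘ₗ φ
  let h' : Localization.AtPrime q →ₗ[Localization.AtPrime q] Localization.AtPrime q :=
    h.extendScalarsOfIsLocalization q.primeCompl (Localization.AtPrime q)
  have hh : ∀ c, h c = c * algebraMap A (Localization.AtPrime q) s.1 := by
    intro c
    have h1 : h' c = c • h' 1 := by
      rw [← map_smul, smul_eq_mul, mul_one]
    have h2 : h' 1 = algebraMap A (Localization.AtPrime q) s.1 := by
      show e (φ 1) = _
      rw [hφ1, hey]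
    rw [h2] at h1
    exact h1
  have hu : IsUnit (algebraMap A (Localization.AtPrime q) s.1) :=
    IsLocalization.map_units (Localization.AtPrime q) s
  have hbij : Function.Bijective h := by
    have : (h : Localization.AtPrime q → Localization.AtPrime q) =
        fun c => c * algebraMap A (Localization.AtPrime q) s.1 := funext hh
    rw [this]
    exact ⟨hu.mul_left_injective, fun c => ⟨c * hu.unit⁻¹.1, by
      show c * hu.unit⁻¹.1 * algebraMap A (Localization.AtPrime q) s.1 = c
      rw [mul_assoc, IsUnit.val_inv_mul, mul_one]⟩⟩
  have hφ : Function.Bijective φ := by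
    have h1 : (h : Localization.AtPrime q → Localization.AtPrime q) = e ∘ φ := rfl
    rw [h1] at hbij
    exact (Function.Bijective.of_comp_iff' e.bijective φ).mp hbij
  obtain ⟨r₁, hr₁, H⟩ := exists_bijective_map_powers q.primeCompl fA fN l hφ
  refine ⟨r₁, hr₁, fun t ht => ?_⟩
  have hb := H t ht
  let e1 : LocalizedModule (Submonoid.powers t) A ≃ₗ[Localization (Submonoid.powers t)]
      LocalizedModule (Submonoid.powers t) M :=
    LinearEquiv.ofBijective (LocalizedModule.map (Submonoid.powers t) l) hb
  let e2 : LocalizedModule (Submonoid.powers t) A ≃ₗ[Localization (Submonoid.powers t)]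
      Localization (Submonoid.powers t) :=
    (IsLocalizedModule.iso (Submonoid.powers t)
      (Algebra.linearMap A (Localization (Submonoid.powers t)))).extendScalarsOfIsLocalization
        (Submonoid.powers t) (Localization (Submonoid.powers t))
  exact ⟨e1.symm ≪≫ₗ e2⟩

end Groth.Agent.Helper8.ShE
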