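import Groth.Agent.Lib.Helper8.LOC17
import Groth.Agent.Lib.Helper8.RMod7
import Groth.Agent.Lib.Helper8.RFin3

/-!
# An object of `D(A)` whose localized cohomology is `A_f` in one degree becomes a shift of `A_f`
after base change to `A_f` (helper8)
-/

set_option autoImplicit false
universe u

namespace Groth.Agent.Helper8.ShE

open CategoryTheory Abelian DerivedCategory Pretriangulated Limits Groth.Agent.Helper8.RFin
  Groth.Agent.Helper8.LOC

attribute [local instance] HasDerivedCategory.standard

variable {A : Type u} [CommRing A]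

theorem nonempty_Ld_iso_shift (f : A)
    [PreservesFiniteLimits (Efun (algebraMap A (Localization (Submonoid.powers f))))]
    (Y : Dual.D A) (s : ℤ)
    (hvan : ∀ j : ℤ, j ≠ s → Subsingleton (LocalizedModule (Submonoid.powers f)
      ((homologyFunctor (ModuleCat.{u} A) j).obj Y)))
    (e : LocalizedModule (Submonoid.powers f) ((homologyFunctor (ModuleCat.{u} A) s).obj Y)
      ≃ₗ[Localization (Submonoid.powers f)] Localization (Submonoid.powers f)) :
    Nonempty ((Ld (algebraMap A (Localization (Submonoid.powers f)))).obj Y ≅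
      (Dual.inD (Localization (Submonoid.powers f)) (Localization (Submonoid.powers f)))⟦-s⟧) := by
  set B := Localization (Submonoid.powers f) with hB
  set X := (Ld (algebraMap A B)).obj Y with hX
  have h1 : ∀ i : ℤ, i ≠ 0 → IsZero ((homologyFunctor (ModuleCat.{u} B) i).obj (X⟦s⟧)) := by
    intro i hi
    have hne : s + i ≠ s := by omega
    haveI := hvan (s + i) hne
    have h2 : IsZero (ModuleCat.of B (LocalizedModule (Submonoid.powers f)
        ((homologyFunctor (ModuleCat.{u} A) (s + i)).obj Y))) :=
      ModuleCat.isZero_of_subsingleton _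
    exact h2.of_iso (sigma' X s i (s + i) rfl ≪≫ homologyLdLocIso (Submonoid.powers f) Y (s + i))
  let e0 : (homologyFunctor (ModuleCat.{u} B) 0).obj (X⟦s⟧) ≃ₗ[B] B :=
    (sigma' X s 0 s (add_zero s) ≪≫ homologyLdLocIso (Submonoid.powers f) Y s).toLinearEquiv ≪≫ₗ e
  obtain ⟨i1⟩ := Groth.Agent.Helper8.RMod.nonempty_iso_inD_of_homology (X⟦s⟧) B h1 e0
  exact ⟨((shiftFunctorCompIsoId (Dual.D B) s (-s) (by omega)).app X).symm ≪≫
    (shiftFunctor (Dual.D B) (-s)).mapIso i1⟩

end Groth.Agent.Helper8.ShE
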