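import Groth.Agent.Lib.Helper8.GF3
import Groth.Agent.Lib.Helper8.ShE7
import Groth.Agent.Lib.Helper8.ShE9

/-!
# Spreading out an isomorphism `ω_q ≅ A_q[m]` to a principal open neighbourhood (helper8)
-/

set_option autoImplicit false

open CategoryTheory CategoryTheory.Limits

universe u

namespace Groth.Agent.Helper8.GF

open DerivedCategory Groth.Agent.Helper8.LOC

attribute [local instance] HasDerivedCategory.standard

section Alg

variable {A : Type u} [CommRing A]

/-- a finite module vanishing at a prime is killed by an element outside the prime -/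
theorem exists_annihilator_of_subsingleton_localized (M : Type u) [AddCommGroup M] [Module A M]
    [Module.Finite A M] (q : Ideal A) [q.IsPrime]
    (h : Subsingleton (LocalizedModule q.primeCompl M)) :
    ∃ f : A, f ∉ q ∧ ∀ x : M, f • x = 0 := by
  have h1 : (⟨q, inferInstance⟩ : PrimeSpectrum A) ∉ Module.support A M := by
    rw [Module.mem_support_iff]
    exact not_nontrivial_iff_subsingleton.mpr h
  rw [Module.support_eq_zeroLocus, PrimeSpectrum.mem_zeroLocus, Set.not_subset] at h1
  obtain ⟨f, hf, hfq⟩ := h1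
  exact ⟨f, hfq, fun x => Module.mem_annihilator.mp hf x⟩

theorem subsingleton_away_of_annihilator (M : Type u) [AddCommGroup M] [Module A M]
    (f t : A) (hft : f ∣ t) (h : ∀ x : M, f • x = 0) :
    Subsingleton (LocalizedModule (Submonoid.powers t) M) := by
  rw [LocalizedModule.subsingleton_iff]
  intro x
  refine ⟨t, Submonoid.mem_powers t, ?_⟩
  obtain ⟨c, rfl⟩ := hft
  rw [mul_comm, mul_smul, h, smul_zero]

end Alg

variable {A : Type u} [CommRing A] [IsNoetherianRing A]

/-- **spreading out** -/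
theorem exists_away_iso_shift (ω : Dual.D A)
    (hfin : ∀ i : ℤ, Module.Finite A (Dual.HD A ω i))
    (hbdd : ∃ a b : ℤ, ∀ i : ℤ, (i < a ∨ b < i) → Subsingleton (Dual.HD A ω i))
    (q : Ideal A) [q.IsPrime] [DRing.HasLBaseChange (algebraMap A (Localization.AtPrime q))]
    (m : ℤ)
    (e : (DRing.LBaseChange (algebraMap A (Localization.AtPrime q))).obj ω ≅
      (Dual.inD (Localization.AtPrime q) (Localization.AtPrime q))⟦m⟧)
    [hL : ∀ f : A, DRing.HasLBaseChange (algebraMap A (Localization.Away f))] :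
    ∃ f : A, f ∉ q ∧ Nonempty ((DRing.LBaseChange (algebraMap A (Localization.Away f))).obj ω ≅
      (Dual.inD (Localization.Away f) (Localization.Away f))⟦m⟧) := by
  classical
  obtain ⟨a, b, hab⟩ := hbdd
  haveI := Groth.Agent.Helper8.FBC.preservesFiniteLimits_Efun_of_flat (A := A)
    (Localization.AtPrime q)
  obtain ⟨eq⟩ := nonempty_LBaseChange_iso_Ld (A := A) (Localization.AtPrime q)
  -- the localized cohomology
  have hloc : ∀ j : ℤ, (homologyFunctor (ModuleCat.{u} (Localization.AtPrime q)) j).obj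
      ((Dual.inD (Localization.AtPrime q) (Localization.AtPrime q))⟦m⟧) ≅
      ModuleCat.of (Localization.AtPrime q) (LocalizedModule q.primeCompl (Dual.HD A ω j)) :=
    fun j => (homologyFunctor (ModuleCat.{u} (Localization.AtPrime q)) j).mapIso
      (e.symm ≪≫ eq.app ω) ≪≫ homologyLdLocIso q.primeCompl ω j
  have hvanq : ∀ j : ℤ, j ≠ -m → Subsingleton (LocalizedModule q.primeCompl (Dual.HD A ω j)) := by
    intro j hj
    haveI := subsingleton_HD_shift_inD (B := Localization.AtPrime q) (Localization.AtPrime q) m j (by omega)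
    exact (hloc j).toLinearEquiv.symm.toEquiv.subsingleton
  let e1 : LocalizedModule q.primeCompl (Dual.HD A ω (-m)) ≃ₗ[Localization.AtPrime q]
      Localization.AtPrime q :=
    (hloc (-m)).toLinearEquiv.symm ≪≫ₗ
      HDShiftInDEquiv (B := Localization.AtPrime q) (Localization.AtPrime q) m (-m) (by omega)
  haveI := hfin (-m)
  obtain ⟨r₁, hr₁, H⟩ := Groth.Agent.Helper8.ShE.exists_away_equiv (Dual.HD A ω (-m)) q e1
  have hann : ∀ j : ℤ, j ≠ -m → ∃ f : A, f ∉ q ∧ ∀ x : Dual.HD A ω j, f • x = 0 := by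
    intro j hj
    haveI := hfin j
    exact exists_annihilator_of_subsingleton_localized _ q (hvanq j hj)
  choose! g hg1 hg2 using hann
  let S : Finset ℤ := (Finset.Icc a b).filter (fun j => j ≠ -m)
  let f : A := r₁ * ∏ j ∈ S, g j
  have hfq : f ∉ q := by
    intro hf
    rcases (Ideal.IsPrime.mem_or_mem inferInstance hf) with h | h
    · exact hr₁ h
    · rw [Ideal.IsPrime.prod_mem_iff] at h
      obtain ⟨j, hjS, hj⟩ := h
      exact hg1 j (Finset.mem_filter.mp hjS).2 hj
  refine ⟨f, hfq, ?_⟩
  haveI := Groth.Agent.Helper8.FBC.preservesFiniteLimits_Efun_of_flat (A := A)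
    (Localization.Away f)
  obtain ⟨ef⟩ := nonempty_LBaseChange_iso_Ld (A := A) (Localization.Away f)
  have hvan : ∀ j : ℤ, j ≠ -m → Subsingleton (LocalizedModule (Submonoid.powers f)
      ((homologyFunctor (ModuleCat.{u} A) j).obj ω)) := by
    intro j hj
    by_cases hjab : j < a ∨ b < j
    · haveI : Subsingleton (Dual.HD A ω j) := hab j hjab
      have : ∀ x : Dual.HD A ω j, (1 : A) • x = 0 := fun x => Subsingleton.elim _ _
      exact subsingleton_away_of_annihilator _ 1 f (one_dvd f) this
    · have hjS : j ∈ S := by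
        rw [Finset.mem_filter, Finset.mem_Icc]
        refine ⟨⟨?_, ?_⟩, hj⟩ <;> omega
      refine subsingleton_away_of_annihilator _ (g j) f ?_ (hg2 j hj)
      exact Dvd.dvd.mul_left (Finset.dvd_prod_of_mem g hjS) r₁
  obtain ⟨e2⟩ := H f (Dvd.intro _ rfl)
  obtain ⟨e3⟩ := Groth.Agent.Helper8.ShE.nonempty_Ld_iso_shift f ω (-m) hvan e2
  rw [neg_neg] at e3
  exact ⟨ef.app ω ≪≫ e3⟩

end Groth.Agent.Helper8.GF
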