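import Groth.Agent.Lib.Helper8.GF3
import Groth.Agent.Lib.Helper8.CoR7

/-!
# If `ω` is locally a shift of the ring and its derived fibre is dualizing then the fibre is
Gorenstein (helper8)
-/

set_option autoImplicit false

open CategoryTheory CategoryTheory.Limits

universe u

namespace Groth.Agent.Helper8.GF

open DerivedCategory Groth.Agent.Helper8.LOC

attribute [local instance] HasDerivedCategory.standard

variable {A : Type u} [CommRing A]

/-- the local rings of a ring over which the base change of a locally trivial complex is
dualizing are Gorenstein -/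
theorem isGorensteinLocalRing_of_invertible (ω : Dual.D A)
    {B' : Type u} [CommRing B'] (ι : A →+* B') [DRing.HasLBaseChange ι]
    (hdual : Dual.IsDualizing B' ((DRing.LBaseChange ι).obj ω))
    (q' : Ideal B') [q'.IsPrime] (f : A) (hf : ι f ∉ q')
    [DRing.HasLBaseChange (algebraMap A (Localization.Away f))] (m : ℤ)
    (e : (DRing.LBaseChange (algebraMap A (Localization.Away f))).obj ω ≅
      (Dual.inD (Localization.Away f) (Localization.Away f))⟦m⟧) :
    LocCoh.IsGorensteinLocalRing (Localization.AtPrime q') := by
  haveI : IsNoetherianRing B' := hdual.isNoetherianRing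
  haveI : IsNoetherianRing (Localization.AtPrime q') :=
    IsLocalization.isNoetherianRing q'.primeCompl _ inferInstance
  have hu : IsUnit (((algebraMap B' (Localization.AtPrime q')).comp ι) f) :=
    IsLocalization.map_units (Localization.AtPrime q') (⟨ι f, hf⟩ : q'.primeCompl)
  let θ : Localization.Away f →+* Localization.AtPrime q' :=
    IsLocalization.Away.lift f hu
  have hθ : θ.comp (algebraMap A (Localization.Away f)) =
      (algebraMap B' (Localization.AtPrime q')).comp ι := IsLocalization.Away.lift_comp f hu
  haveI h1 : DRing.HasLBaseChange (algebraMap B' (Localization.AtPrime q')) :=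
    Groth.Agent.Helper3.KP.hasLeftDerivedFunctor _
  haveI h2 : DRing.HasLBaseChange θ := Groth.Agent.Helper3.KP.hasLeftDerivedFunctor _
  haveI h3 : DRing.HasLBaseChange ((algebraMap B' (Localization.AtPrime q')).comp ι) :=
    Groth.Agent.Helper3.KP.hasLeftDerivedFunctor _
  haveI := Groth.Agent.Helper8.FBC.preservesFiniteLimits_Efun_of_flat (A := B')
    (Localization.AtPrime q')
  obtain ⟨e2⟩ := nonempty_LBaseChange_iso_Ld (A := B') (Localization.AtPrime q')
  have hd : Dual.IsDualizing (Localization.AtPrime q')
      ((DRing.LBaseChange (algebraMap B' (Localization.AtPrime q'))).obj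
        ((DRing.LBaseChange ι).obj ω)) :=
    Groth.Agent.Helper8.FLD.isDualizing_of_iso (e2.app _).symm
      (isDualizing_Ld q'.primeCompl (Localization.AtPrime q') _ hdual)
  obtain ⟨e3⟩ := nonempty_LBaseChange_comp ι (algebraMap B' (Localization.AtPrime q'))
    ((algebraMap B' (Localization.AtPrime q')).comp ι) rfl ω
  obtain ⟨e4⟩ := nonempty_LBaseChange_comp (algebraMap A (Localization.Away f)) θ
    ((algebraMap B' (Localization.AtPrime q')).comp ι) hθ.symm ω
  obtain ⟨e5⟩ := nonempty_LBaseChange_shift θ
    (Dual.inD (Localization.Away f) (Localization.Away f)) m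
  letI : Algebra (Localization.Away f) (Localization.AtPrime q') := θ.toAlgebra
  obtain ⟨e6⟩ := Groth.Agent.Helper8.ShG.nonempty_LBaseChange_unit_iso (Localization.Away f)
    (Localization.AtPrime q')
  have e7 : (DRing.LBaseChange (algebraMap B' (Localization.AtPrime q'))).obj
        ((DRing.LBaseChange ι).obj ω) ≅
      (Dual.inD (Localization.AtPrime q') (Localization.AtPrime q'))⟦m⟧ :=
    e3.symm ≪≫ e4 ≪≫ (DRing.LBaseChange θ).mapIso e ≪≫ e5 ≪≫ (shiftFunctor _ m).mapIso e6
  exact Groth.Agent.Helper8.CoR.isGorensteinLocalRing_of_isDualizing_shift _ m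
    (Groth.Agent.Helper8.FLD.isDualizing_of_iso e7 hd)

end Groth.Agent.Helper8.GF
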