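import Mathlib
import Groth.Agent.S4578
import Groth.Agent.Lib.Helper17.KR2
import Groth.Prelude.Def_Found

/-!
# A geometrically regular local essentially finite type algebra over a field is formally smooth
(helper8, glue of `S4578` and helper17's `KR2`; requested by helper2 for `S6503`)
-/

set_option autoImplicit false
universe u

namespace Groth.Agent.Helper8.GSGlue

open TensorProduct

theorem formallySmooth_of_isGeometricallyRegular (k F : Type u) [Field k] [CommRing F] [Algebra k F]
    [IsLocalRing F] [Algebra.EssFiniteType k F] (h : CAlg.IsGeometricallyRegular k F) :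
    Algebra.FormallySmooth k F := by
  obtain ⟨S, hS, q, hq, hloc⟩ := Groth.Agent.Helper17.KR.exists_finiteType_localization k F
  let e : Localization.AtPrime q ≃ₐ[S] F := IsLocalization.algEquiv q.primeCompl _ _
  have hreg : CAlg.IsGeometricallyRegular k (Localization.AtPrime q) := by
    intro k' _ _ hfin
    haveI := h k' hfin
    exact IsRegularRing.of_ringEquiv
      (Algebra.TensorProduct.congr (AlgEquiv.refl : k' ≃ₐ[k] k')
        (e.symm.restrictScalars k)).toRingEquiv
  have htfae := Groth.Agent.S4578.result (k₀ := k) (k := k) (C := S) q
  have hfs : Algebra.FormallySmooth k (Localization.AtPrime q) := (htfae.out 3 0).mp hreg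
  exact Algebra.FormallySmooth.of_equiv (e.restrictScalars k)

end Groth.Agent.Helper8.GSGlue
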