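import Groth.Agent.Lib.Helper8.LOC21
import Groth.Agent.Lib.Helper9.Depth8

/-!
# `(S_k)` via a dualizing complex normalized at every maximal ideal (global form) (helper8)

`A` Noetherian with a dualizing complex `ω` whose codimension function `degAt` vanishes at every
maximal ideal.  Then `-degAt p = dim A/p` and the local statements of `LOC13`, `LOC21` globalize.
-/

set_option autoImplicit false

open CategoryTheory CategoryTheory.Limits Opposite Pretriangulated

universe u

namespace Groth.Agent.Helper8.GSk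

open DerivedCategory ChangeOfRings IsLocalRing Groth.Agent.Helper8.LOC

attribute [local instance] HasDerivedCategory.standard

section Global

variable {A : Type u} [CommRing A] [IsNoetherianRing A] (ω : Dual.D A)
  (hω : Dual.IsDualizing A ω)
  (h0 : ∀ m : PrimeSpectrum A, m.asIdeal.IsMaximal → degAt ω hω m.asIdeal = 0)

/-- from the vanishing of `Hom(A/m, ω⟦i⟧)`, `i ≠ 0` -/
theorem degAt_eq_zero_of_normalized
    (hnorm : ∀ (m : Ideal A) (_ : m.IsMaximal) (i : ℤ), i ≠ 0 →
      Subsingleton (Dual.inD A (A ⧸ m) ⟶ ω⟦i⟧))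
    (m : PrimeSpectrum A) (hm : m.asIdeal.IsMaximal) : degAt ω hω m.asIdeal = 0 := by
  by_contra hne
  have h1 : Nontrivial (LocalizedModule m.asIdeal.primeCompl
      (Dual.inD A (A ⧸ m.asIdeal) ⟶ ω⟦degAt ω hω m.asIdeal⟧)) :=
    (nontrivial_locHom_quot_iff ω hω _ _).mpr rfl
  have h2 : Subsingleton (Dual.inD A (A ⧸ m.asIdeal) ⟶ ω⟦degAt ω hω m.asIdeal⟧) :=
    hnorm _ hm _ hne
  rw [← not_subsingleton_iff_nontrivial] at h1
  exact h1 inferInstance

theorem exists_maximal_ge (q : PrimeSpectrum A) :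
    ∃ m : PrimeSpectrum A, m.asIdeal.IsMaximal ∧ q ≤ m := by
  obtain ⟨m, hm, hqm⟩ := Ideal.exists_le_maximal q.asIdeal q.isPrime.ne_top
  exact ⟨⟨m, hm.isPrime⟩, hm, hqm⟩

include h0 in
theorem degAt_nonpos (q : PrimeSpectrum A) : degAt ω hω q.asIdeal ≤ 0 := by
  obtain ⟨m, hm, hle⟩ := exists_maximal_ge q
  rcases hle.eq_or_lt with rfl | hlt
  · exact (h0 q hm).le
  · have h1 := degAt_lt_of_lt ω hω q m hlt
    have h2 := h0 m hm
    omega

include h0 in
theorem coheight_le_neg_degAt (q : PrimeSpectrum A) :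
    Order.coheight q ≤ ((-degAt ω hω q.asIdeal).toNat : ℕ∞) := by
  apply Order.coheight_le
  intro s hs
  have h1 := degAt_series ω hω s (Fin.last _)
  have h2 := degAt_nonpos ω hω h0 (s (Fin.last _))
  have h3 : s 0 = q := hs
  rw [h3] at h1
  have h4 : s.length ≤ (-degAt ω hω q.asIdeal).toNat := by
    simp only [Fin.val_last] at h1
    omega
  exact_mod_cast h4

include h0 in
theorem le_coheight_of_degAt (k : ℕ) : ∀ q : PrimeSpectrum A, -degAt ω hω q.asIdeal = k →
    (k : ℕ∞) ≤ Order.coheight q := by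
  induction k with
  | zero =>
    intro q _
    simp
  | succ k ih =>
    intro q hq
    haveI := wellFoundedLT_primeSpectrum (A := A)
    obtain ⟨m, hm, hle⟩ := exists_maximal_ge q
    have hne : q ≠ m := by
      rintro rfl
      have h2 := h0 q hm
      push_cast at hq
      omega
    have hlt : q < m := lt_of_le_of_ne hle hne
    obtain ⟨x, hqx, -⟩ := exists_covBy_le_of_lt hlt
    have h1 := degAt_eq_of_covBy ω hω q x hqx
    have h2 := ih x (by push_cast at hq; omega)
    have h3 := Order.coheight_add_one_le hqx.lt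
    calc ((k + 1 : ℕ) : ℕ∞) = (k : ℕ∞) + 1 := by push_cast; rfl
      _ ≤ Order.coheight x + 1 := by gcongr
      _ ≤ Order.coheight q := h3

include h0 in
/-- **`δ(q) = dim A/q`** -/
theorem ringKrullDim_quotient_eq_neg_degAt (q : PrimeSpectrum A) :
    ringKrullDim (A ⧸ q.asIdeal) = (((-degAt ω hω q.asIdeal).toNat : ℕ) : WithBot ℕ∞) := by
  rw [ringKrullDim_quotient]
  have hset : PrimeSpectrum.zeroLocus (q.asIdeal : Set A) = Set.Ici q := by
    ext x
    rw [PrimeSpectrum.mem_zeroLocus, Set.mem_Ici, SetLike.coe_subset_coe]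
    exact PrimeSpectrum.asIdeal_le_asIdeal q x
  rw [hset, ← Order.coheight_eq_krullDim_Ici]
  have h := le_antisymm (coheight_le_neg_degAt ω hω h0 q)
    (le_coheight_of_degAt ω hω h0 _ q (Int.toNat_of_nonneg (by
      have := degAt_nonpos ω hω h0 q
      omega)).symm)
  rw [h]
  rfl

variable (M : Type u) [AddCommGroup M] [Module A M] [Module.Finite A M]

include h0 in
/-- `Ext^j(M, ω)_p ≠ 0` only for `-dim M ≤ j ≤ 0` -/
theorem range_of_mem_support_hom (δ : ℕ) (hδ : Module.supportDim A M = δ) (j : ℤ)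
    (p : PrimeSpectrum A) (hp : p ∈ Module.support A (Dual.inD A M ⟶ ω⟦j⟧)) :
    -(δ : ℤ) ≤ j ∧ j ≤ 0 := by
  obtain ⟨m, hm, hle⟩ := exists_maximal_ge p
  have hmS : m ∈ Module.support A (Dual.inD A M ⟶ ω⟦j⟧) := Module.mem_support_mono hle hp
  have hmM : m ∈ Module.support A M := mem_support_of_mem_support_hom ω hω M j m hmS
  have hB : IsNoetherianRing (Localization.AtPrime m.asIdeal) :=
    IsLocalization.isNoetherianRing m.asIdeal.primeCompl _ inferInstance
  have h1 := (mem_support_hom_iff_loc ω hω M m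
    (LocalizedModule.mkLinearMap m.asIdeal.primeCompl M) j j
    (by rw [h0 m hm]; simp)).mp hmS
  have hd : Module.supportDim (Localization.AtPrime m.asIdeal)
      (LocalizedModule m.asIdeal.primeCompl M) ≤ (δ : WithBot ℕ∞) := by
    have h2 := Groth.Agent.Helper9.Depth.supportDim_localizedModule_add_le (M := M) m hmM
    rw [hδ] at h2
    haveI : Nontrivial (A ⧸ m.asIdeal) := Ideal.Quotient.nontrivial_iff.mpr m.isPrime.ne_top
    have h3 : (0 : WithBot ℕ∞) ≤ ringKrullDim (A ⧸ m.asIdeal) := ringKrullDim_nonneg_of_nontrivial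
    calc Module.supportDim (Localization.AtPrime m.asIdeal)
          (LocalizedModule m.asIdeal.primeCompl M)
        = Module.supportDim (Localization.AtPrime m.asIdeal)
          (LocalizedModule m.asIdeal.primeCompl M) + 0 := (add_zero _).symm
      _ ≤ _ + ringKrullDim (A ⧸ m.asIdeal) := by gcongr
      _ ≤ _ := h2
  exact range_of_nontrivial_hom (nuAt ω hω m.asIdeal) (isDualizing_nuAt ω hω m.asIdeal)
    (isNormalized_nuAt ω hω m.asIdeal) (LocalizedModule m.asIdeal.primeCompl M) δ hd j h1

end Global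

end Groth.Agent.Helper8.GSk
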