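import Groth.Agent.Lib.Helper8.GSk1

/-!
# `(S_k)` for equidimensional modules over a ring with a dualizing complex normalized at every
maximal ideal (helper8)
-/

set_option autoImplicit false

open CategoryTheory CategoryTheory.Limits Opposite Pretriangulated

universe u

namespace Groth.Agent.Helper8.GSk

open DerivedCategory ChangeOfRings IsLocalRing Groth.Agent.Helper8.LOC

attribute [local instance] HasDerivedCategory.standard

section Global

variable {A : Type u} [CommRing A] [IsNoetherianRing A] (ω : Dual.D A)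
  (hω : Dual.IsDualizing A ω)
  (h0 : ∀ m : PrimeSpectrum A, m.asIdeal.IsMaximal → degAt ω hω m.asIdeal = 0)
  (M : Type u) [AddCommGroup M] [Module A M] [Module.Finite A M]

include h0 in
/-- for equidimensional `M`, `Supp Ext^{-δ}(M, ω) = Supp M` -/
theorem mem_support_hom_neg_of_equidim (hM : EGA4.IsEquidimModule A M) (δ : ℕ)
    (hδ : Module.supportDim A M = δ) (p : PrimeSpectrum A) (hp : p ∈ Module.support A M) :
    p ∈ Module.support A (Dual.inD A M ⟶ ω⟦-(δ : ℤ)⟧) := by
  have hp' := Module.mem_support_iff_of_finite.mp hp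
  obtain ⟨q, hq, hqp⟩ := Ideal.exists_minimalPrimes_le hp'
  have hqprime : q.IsPrime := hq.1.1
  let q' : PrimeSpectrum A := ⟨q, hqprime⟩
  have hB : IsNoetherianRing (Localization.AtPrime q'.asIdeal) :=
    IsLocalization.isNoetherianRing q'.asIdeal.primeCompl _ inferInstance
  have h1 : ringKrullDim (A ⧸ q) = δ := (hM q hq).trans hδ
  have h2 := ringKrullDim_quotient_eq_neg_degAt ω hω h0 q'
  have h3 := degAt_nonpos ω hω h0 q'
  have h4 : degAt ω hω q'.asIdeal = -(δ : ℤ) := by
    have h5 : (((-degAt ω hω q'.asIdeal).toNat : ℕ) : WithBot ℕ∞) = ((δ : ℕ) : WithBot ℕ∞) :=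
      h2.symm.trans h1
    have h6 : (-degAt ω hω q'.asIdeal).toNat = δ := by exact_mod_cast h5
    omega
  have hd := Groth.Agent.Helper8.LDual.supportDim_localized_of_mem_minimalPrimes M q hq
  have hqsupp : q' ∈ Module.support A M := Module.mem_support_iff_of_finite.mpr hq.1.2
  haveI : Nontrivial (LocalizedModule q'.asIdeal.primeCompl M) := Module.mem_support_iff.mp hqsupp
  have hnt := Groth.Agent.Helper8.LD.nontrivial_hom_supportDim (nuAt ω hω q'.asIdeal)
    (isDualizing_nuAt ω hω q'.asIdeal) (isNormalized_nuAt ω hω q'.asIdeal)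
    (LocalizedModule q'.asIdeal.primeCompl M) 0 (by exact_mod_cast hd)
  have h7 : q' ∈ Module.support A (Dual.inD A M ⟶ ω⟦-(δ : ℤ)⟧) :=
    (mem_support_hom_iff_loc ω hω M q' (LocalizedModule.mkLinearMap q'.asIdeal.primeCompl M)
      (-(δ : ℤ)) (-((0 : ℕ) : ℤ)) (by rw [h4]; simp)).mpr hnt
  exact Module.mem_support_mono hqp h7

include h0 in
/-- for equidimensional `M`, `dim M_p = δ - dim A/p` -/
theorem supportDim_loc_of_equidim (hM : EGA4.IsEquidimModule A M) (δ : ℕ)
    (hδ : Module.supportDim A M = δ) (p : PrimeSpectrum A) (hp : p ∈ Module.support A M) :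
    Module.supportDim (Localization.AtPrime p.asIdeal) (LocalizedModule p.asIdeal.primeCompl M) =
      (((δ : ℤ) + degAt ω hω p.asIdeal).toNat : WithBot ℕ∞) ∧
      0 ≤ (δ : ℤ) + degAt ω hω p.asIdeal := by
  have hB : IsNoetherianRing (Localization.AtPrime p.asIdeal) :=
    IsLocalization.isNoetherianRing p.asIdeal.primeCompl _ inferInstance
  haveI : Nontrivial (LocalizedModule p.asIdeal.primeCompl M) := Module.mem_support_iff.mp hp
  obtain ⟨d, hd⟩ := Groth.Agent.Helper8.LC.exists_nat_supportDim_eq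
    (R := Localization.AtPrime p.asIdeal) (LocalizedModule p.asIdeal.primeCompl M)
  have hν := isDualizing_nuAt ω hω p.asIdeal
  have hnn := isNormalized_nuAt ω hω p.asIdeal
  have hdn := Groth.Agent.Helper8.LD.nontrivial_hom_supportDim (nuAt ω hω p.asIdeal) hν hnn
    (LocalizedModule p.asIdeal.primeCompl M) d hd
  have h1 : p ∈ Module.support A (Dual.inD A M ⟶ ω⟦degAt ω hω p.asIdeal - d⟧) :=
    (mem_support_hom_iff_loc ω hω M p (LocalizedModule.mkLinearMap p.asIdeal.primeCompl M)
      _ (-(d : ℤ)) (by omega)).mpr hdn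
  have h2 := (range_of_mem_support_hom ω hω h0 M δ hδ _ p h1).1
  have h3 := mem_support_hom_neg_of_equidim ω hω h0 M hM δ hδ p hp
  rw [mem_support_hom_iff_loc ω hω M p (LocalizedModule.mkLinearMap p.asIdeal.primeCompl M)
    (-(δ : ℤ)) (-(δ : ℤ) - degAt ω hω p.asIdeal) (by omega)] at h3
  have h4 := (range_of_nontrivial_hom (nuAt ω hω p.asIdeal) hν hnn
    (LocalizedModule p.asIdeal.primeCompl M) d (le_of_eq hd) _ h3).1
  have h5 : (δ : ℤ) + degAt ω hω p.asIdeal = d := by omega
  rw [hd, h5]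
  exact ⟨by simp, by omega⟩

include h0 in
/-- **`(S_k)` for equidimensional modules**: pointwise form -/
theorem hasSk_iff_of_equidim_aux (hM : EGA4.IsEquidimModule A M) (δ : ℕ)
    (hδ : Module.supportDim A M = δ) (k : ℕ) :
    LocCoh.HasSk k A M ↔
      ∀ j : ℤ, j ≠ -(δ : ℤ) → ∀ p : PrimeSpectrum A,
        p ∈ Module.support A (Dual.inD A M ⟶ ω⟦j⟧) → (k : ℤ) + j ≤ degAt ω hω p.asIdeal := by
  rw [hasSk_iff ω hω M k]
  constructor
  · intro h j hj p hp
    have hpM := mem_support_of_mem_support_hom ω hω M j p hp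
    have h1 := mem_support_hom_neg_of_equidim ω hω h0 M hM δ hδ p hpM
    have h2 := (range_of_mem_support_hom ω hω h0 M δ hδ j p hp).1
    have h3 := h j (-(δ : ℤ)) (lt_of_le_of_ne h2 (Ne.symm hj)) p hp h1
    obtain ⟨h4, h5⟩ := supportDim_loc_of_equidim ω hω h0 M hM δ hδ p hpM
    rw [h4] at h3
    have h6 : ((k : ℤ) + j - -(δ : ℤ)).toNat ≤ ((δ : ℤ) + degAt ω hω p.asIdeal).toNat := by
      exact_mod_cast h3
    omega
  · intro h i j hji p hi hj
    have hpM := mem_support_of_mem_support_hom ω hω M j p hj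
    have h2 := (range_of_mem_support_hom ω hω h0 M δ hδ j p hj).1
    have h3 := h i (by omega) p hi
    obtain ⟨h4, h5⟩ := supportDim_loc_of_equidim ω hω h0 M hM δ hδ p hpM
    rw [h4]
    have h6 : ((k : ℤ) + i - j).toNat ≤ ((δ : ℤ) + degAt ω hω p.asIdeal).toNat := by omega
    exact_mod_cast h6

include h0 in
/-- `dim A/p ≤ dim Supp N` for `p ∈ Supp N` -/
theorem neg_degAt_le_of_supportDim_le (N : Type*) [AddCommGroup N] [Module A N] (c : ℕ)
    (hN : Module.supportDim A N ≤ (c : WithBot ℕ∞)) (p : PrimeSpectrum A)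
    (hp : p ∈ Module.support A N) : -degAt ω hω p.asIdeal ≤ c := by
  have h1 : ringKrullDim (A ⧸ p.asIdeal) ≤ Module.supportDim A N := by
    rw [← Module.supportDim_quotient_eq_ringKrullDim]
    apply Order.krullDim_le_of_strictMono
      (fun x : Module.support A (A ⧸ p.asIdeal) => (⟨x.1, ?_⟩ : Module.support A N))
      (fun x y h => h)
    have hx : x.1 ∈ Module.support A (A ⧸ p.asIdeal) := x.2
    have hx' : p.asIdeal ≤ x.1.asIdeal := by
      have := Module.mem_support_iff_of_finite.mp hx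
      rwa [Ideal.annihilator_quotient] at this
    exact Module.mem_support_mono hx' hp
  rw [ringKrullDim_quotient_eq_neg_degAt ω hω h0 p] at h1
  have h2 : (((-degAt ω hω p.asIdeal).toNat : ℕ) : WithBot ℕ∞) ≤ ((c : ℕ) : WithBot ℕ∞) :=
    le_trans h1 hN
  have h3 : (-degAt ω hω p.asIdeal).toNat ≤ c := by exact_mod_cast h2
  omega

include h0 in
/-- **`(S_k)` for equidimensional modules** in terms of `dim Supp Ext^j(M, ω)` -/
theorem hasSk_iff_of_equidim (hM : EGA4.IsEquidimModule A M) (δ : ℕ)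
    (hδ : Module.supportDim A M = δ) (k : ℕ) :
    LocCoh.HasSk k A M ↔
      ∀ j : ℤ, j ≠ -(δ : ℤ) →
        (-j - (k : ℤ) < 0 → Subsingleton (Dual.inD A M ⟶ ω⟦j⟧)) ∧
        (0 ≤ -j - (k : ℤ) → Module.supportDim A (Dual.inD A M ⟶ ω⟦j⟧) ≤
          ((-j - (k : ℤ)).toNat : WithBot ℕ∞)) := by
  rw [hasSk_iff_of_equidim_aux ω hω h0 M hM δ hδ k]
  constructor
  · intro h j hj
    constructor
    · intro hjk
      rw [← Module.support_eq_empty_iff (R := A), Set.eq_empty_iff_forall_notMem]
      intro p hp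
      have h1 := h j hj p hp
      have h2 := degAt_nonpos ω hω h0 p
      omega
    · intro hjk
      rw [Module.supportDim, Order.krullDim_eq_iSup_coheight]
      apply iSup_le
      rintro ⟨p, hp⟩
      have h1 := Order.coheight_le_coheight_apply_of_strictMono
        (Subtype.val : Module.support A (Dual.inD A M ⟶ ω⟦j⟧) → PrimeSpectrum A)
        (fun _ _ h => h) ⟨p, hp⟩
      have h2 := coheight_le_neg_degAt ω hω h0 p
      have h3 := h j hj p hp
      have h4 : (-degAt ω hω p.asIdeal).toNat ≤ (-j - (k : ℤ)).toNat := by omega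
      have h5 : ((-degAt ω hω p.asIdeal).toNat : ℕ∞) ≤ ((-j - (k : ℤ)).toNat : ℕ∞) := by
        exact_mod_cast h4
      exact_mod_cast (h1.trans h2).trans h5
  · intro h j hj p hp
    obtain ⟨h1, h2⟩ := h j hj
    by_cases hjk : -j - (k : ℤ) < 0
    · exfalso
      haveI := h1 hjk
      rw [Module.support_eq_empty] at hp
      exact hp
    · have h3 := neg_degAt_le_of_supportDim_le ω hω h0 _ _ (h2 (by omega)) p hp
      omega

end Global

end Groth.Agent.Helper8.GSk
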