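import Mathlib.CategoryTheory.Galois.Prorepresentability
import Mathlib.CategoryTheory.Galois.Decomposition

/-! Helpers on Galois categories (helper8): fixed points of `Aut F` and morphisms from the terminal
object, objects that are finite sums of copies of the terminal object. -/

set_option autoImplicit false
universe u v w

open CategoryTheory PreGaloisCategory CategoryTheory.Limits

namespace Groth.Agent.Helper8.GaloisCat

variable {C' : Type u} [Category.{v} C'] [GaloisCategory C']
  (F' : C' ⥤ FintypeCat.{w}) [FiberFunctor F']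

/-- The fibre of the terminal object is a one-point set. -/
@[instance_reducible]
noncomputable def uniqueFiberTerminal : Unique (F'.obj (⊤_ C')) :=
  (Types.isTerminalEquivUnique _)
    ((IsTerminal.isTerminalIffObj (F' ⋙ FintypeCat.incl) _) terminalIsTerminal)

/-- Points coming from the terminal object are fixed by `Aut F'`. -/
theorem smul_map_terminal {Z : C'} (s : ⊤_ C' ⟶ Z) (t : F'.obj (⊤_ C')) (σ : Aut F') :
    σ.hom.app Z (F'.map s t) = F'.map s t := by
  have : Unique (F'.obj (⊤_ C')) := uniqueFiberTerminal F'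
  have h := mulAction_naturality F' σ s t
  rw [mulAction_def, mulAction_def] at h
  rw [h]
  congr 1
  exact Subsingleton.elim _ _

/-- A connected object with a fixed point in its fibre is terminal. -/
theorem isIso_terminal_from_of_fixed (Y : C') [IsConnected Y] (y : F'.obj Y)
    (hfix : ∀ σ : Aut F', σ.hom.app Y y = y) : IsIso (terminal.from Y) := by
  have hsub : ∀ y' : F'.obj Y, y' = y := by
    intro y'
    obtain ⟨σ, hσ⟩ := MulAction.exists_smul_eq (Aut F') y y'
    rw [← hσ, mulAction_def, hfix σ]
  have : Unique (F'.obj (⊤_ C')) := uniqueFiberTerminal F'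
  have : IsIso (F'.map (terminal.from Y)) := by
    apply (ConcreteCategory.isIso_iff_bijective (F'.map (terminal.from Y))).mpr
    refine ⟨fun y₁ y₂ _ => (hsub y₁).trans (hsub y₂).symm, fun t => ⟨y, Subsingleton.elim _ _⟩⟩
  exact isIso_of_reflects_iso (terminal.from Y) F'

/-- A point of the fibre of `Z` fixed by all automorphisms of the fibre functor comes from a morphism
out of the terminal object. -/
theorem exists_section_of_fixed (Z : C') (a : F'.obj Z)
    (hfix : ∀ σ : Aut F', σ.hom.app Z a = a) :
    ∃ s : ⊤_ C' ⟶ Z, ∀ t : F'.obj (⊤_ C'), F'.map s t = a := by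
  obtain ⟨Y, i, y, hy, hYc, hmono⟩ := fiber_in_connected_component F' Z a
  have hinj : Function.Injective (F'.map i) :=
    ConcreteCategory.injective_of_mono_of_preservesPullback (F'.map i)
  have hfixy : ∀ σ : Aut F', σ.hom.app Y y = y := by
    intro σ
    apply hinj
    have h := mulAction_naturality F' σ i y
    rw [mulAction_def, mulAction_def] at h
    rw [← h, hy, hfix σ]
  have hiso : IsIso (terminal.from Y) := isIso_terminal_from_of_fixed F' Y y hfixy
  have hsub : ∀ y' : F'.obj Y, y' = y := by
    intro y'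
    obtain ⟨σ, hσ⟩ := MulAction.exists_smul_eq (Aut F') y y'
    rw [← hσ, mulAction_def, hfixy σ]
  refine ⟨inv (terminal.from Y) ≫ i, fun t => ?_⟩
  rw [F'.map_comp, FintypeCat.comp_apply, hsub (F'.map (inv (terminal.from Y)) t), hy]

/-- If `Aut F'` fixes every point of the fibre of `Z`, then `Z` is a finite sum of copies of the
terminal object. -/
theorem exists_iso_sigma_terminal_of_fixed (Z : C')
    (hfix : ∀ (b : F'.obj Z) (σ : Aut F'), σ.hom.app Z b = b) :
    ∃ n : ℕ, Nonempty (Z ≅ ∐ fun _ : Fin n => ⊤_ C') := by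
  obtain ⟨ι, f, g, hl, hc, hfin⟩ := has_decomp_connected_components Z
  have hmono : ∀ i, Mono (g i) := fun i => MonoCoprod.mono_inj _ (Cofan.mk Z g) hl i
  have hiso : ∀ i, IsIso (terminal.from (f i)) := by
    intro i
    have := hc i
    obtain ⟨y⟩ := nonempty_fiber_of_isConnected F' (f i)
    refine isIso_terminal_from_of_fixed F' (f i) y fun σ => ?_
    have hinj : Function.Injective (F'.map (g i)) :=
      ConcreteCategory.injective_of_mono_of_preservesPullback (F'.map (g i))
    apply hinj
    have h := mulAction_naturality F' σ (g i) y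
    rw [mulAction_def, mulAction_def] at h
    rw [← h, hfix]
  let e : ι ≃ Fin (Nat.card ι) := Finite.equivFin ι
  refine ⟨Nat.card ι, ⟨?_⟩⟩
  have e1 : Z ≅ ∐ f := (colimit.isoColimitCocone ⟨Cofan.mk Z g, hl⟩).symm
  have e2 : (∐ f) ≅ ∐ fun _ : Fin (Nat.card ι) => ⊤_ C' :=
    (Sigma.whiskerEquiv e.symm (fun j => asIso (terminal.from (f (e.symm j))))).symm
  exact e1 ≪≫ e2

/-- In a finite sum of copies of the terminal object every point of the fibre is fixed by
`Aut F'`. -/
theorem fixed_of_iso_sigma_terminal (Z : C') (n : ℕ) (e : Z ≅ ∐ fun _ : Fin n => ⊤_ C')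
    (b : F'.obj Z) (σ : Aut F') : σ.hom.app Z b = b := by
  let c : Cofan (fun _ : Fin n => ⊤_ C') := Cofan.mk Z (fun j => Sigma.ι (fun _ : Fin n => ⊤_ C') j ≫ e.inv)
  have hc : IsColimit c := by
    refine IsColimit.ofIsoColimit (coproductIsCoproduct (fun _ : Fin n => ⊤_ C')) ?_
    exact Cofan.ext e.symm (fun j => rfl)
  have hc' : IsColimit (F'.mapCocone c) := isColimitOfPreserves F' hc
  obtain ⟨⟨j⟩, t, ht⟩ := Concrete.isColimit_exists_rep _ hc' b
  have ht' : F'.map (Sigma.ι (fun _ : Fin n => ⊤_ C') j ≫ e.inv) t = b := ht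
  rw [← ht']
  exact smul_map_terminal F' _ t σ

end Groth.Agent.Helper8.GaloisCat
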