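import Groth.Agent.Lib.Helper8.GaloisCat
import Mathlib.CategoryTheory.Galois.Topology
import Mathlib.CategoryTheory.Galois.Full

/-! More helpers on Galois categories (helper8): morphisms from stabilizer inclusions, and a
compactness argument for kernels of maps of fundamental groups. -/

set_option autoImplicit false
universe u v w

open CategoryTheory PreGaloisCategory CategoryTheory.Limits

namespace Groth.Agent.Helper8.GaloisCat

variable {C' : Type u} [Category.{v} C'] [GaloisCategory C']
  (F' : C' ⥤ FintypeCat.{w}) [FiberFunctor F']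

/-- The stabilizer of a point of a fibre is closed in `Aut F'`. -/
theorem isClosed_stabilizer (Z : C') (b : F'.obj Z) :
    IsClosed {σ : Aut F' | σ.hom.app Z b = b} := by
  have hc : Continuous (fun σ : Aut F' => σ • b) := continuous_id.smul continuous_const
  have : {σ : Aut F' | σ.hom.app Z b = b} = (fun σ : Aut F' => σ • b) ⁻¹' {b} := rfl
  rw [this]
  exact (isClosed_discrete _).preimage hc

/-- The stabilizer of a point of a fibre is open in `Aut F'`. -/
theorem isOpen_stabilizer (Z : C') (b : F'.obj Z) :
    IsOpen {σ : Aut F' | σ.hom.app Z b = b} := by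
  have hc : Continuous (fun σ : Aut F' => σ • b) := continuous_id.smul continuous_const
  have : {σ : Aut F' | σ.hom.app Z b = b} = (fun σ : Aut F' => σ • b) ⁻¹' {b} := rfl
  rw [this]
  exact (isOpen_discrete _).preimage hc

/-- A morphism out of a connected object is determined by a stabilizer inclusion. -/
theorem exists_hom_of_stabilizer_le (Y X' : C') [IsConnected Y] (y : F'.obj Y) (a' : F'.obj X')
    (h : MulAction.stabilizer (Aut F') y ≤ MulAction.stabilizer (Aut F') a') :
    ∃ q : Y ⟶ X', F'.map q y = a' := by
  have hex : ∀ z : F'.obj Y, ∃ σ : Aut F', σ • y = z := fun z => MulAction.exists_smul_eq _ y z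
  choose s hs using hex
  let φ : F'.obj Y → F'.obj X' := fun z => s z • a'
  have hφ : ∀ (τ : Aut F') (z : F'.obj Y), φ (τ • z) = τ • φ z := by
    intro τ z
    have h1 : (s (τ • z))⁻¹ * (τ * s z) ∈ MulAction.stabilizer (Aut F') y := by
      rw [MulAction.mem_stabilizer_iff, mul_smul, mul_smul, hs z, inv_smul_eq_iff, hs (τ • z)]
    have h2 := h h1
    rw [MulAction.mem_stabilizer_iff, mul_smul, mul_smul, inv_smul_eq_iff] at h2
    exact h2.symm
  let Φ : (functorToAction F').obj Y ⟶ (functorToAction F').obj X' :=
    { hom := FintypeCat.homMk φ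
      comm := fun g => by
        ext z
        exact hφ g z }
  obtain ⟨q, hq⟩ := (functorToAction F').map_surjective Φ
  refine ⟨q, ?_⟩
  have h3 : F'.map q = FintypeCat.homMk φ := congrArg Action.Hom.hom hq
  rw [h3]
  change φ y = a'
  have h4 : s y ∈ MulAction.stabilizer (Aut F') y := hs y
  exact h h4

end Groth.Agent.Helper8.GaloisCat
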