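import Groth.Agent.Lib.Helper8.GaloisCat2

/-! Compactness argument for kernels of maps of fundamental groups (helper8). -/

set_option autoImplicit false
universe u v w

open CategoryTheory PreGaloisCategory CategoryTheory.Limits

namespace Groth.Agent.Helper8.GaloisCat

variable {C C' : Type u} [Category.{v} C] [Category.{v} C'] [GaloisCategory C] [GaloisCategory C']
  (H : C ⥤ C') (F' : C' ⥤ FintypeCat.{w}) [FiberFunctor F'] [FiberFunctor (H ⋙ F')]

/-- If every `σ : Aut F'` acting trivially on all `F'(H X)` lies in the open set `U`, then some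
single stabilizer of a point of some `F'(H X)` is contained in `U`. -/
theorem exists_stabilizer_subset (U : Set (Aut F')) (hU : IsOpen U)
    (hker : ∀ σ : Aut F', (∀ (X : C) (b : F'.obj (H.obj X)), σ.hom.app (H.obj X) b = b) → σ ∈ U) :
    ∃ (X : C) (b : F'.obj (H.obj X)), ∀ σ : Aut F', σ.hom.app (H.obj X) b = b → σ ∈ U := by
  by_contra hcon
  push Not at hcon
  let ι := Σ X : C, F'.obj (H.obj X)
  let K : ι → Set (Aut F') := fun p => {σ | σ.hom.app (H.obj p.1) p.2 = p.2} ∩ Uᶜ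
  have hne : ∀ p, (K p).Nonempty := fun p => by
    obtain ⟨σ, h1, h2⟩ := hcon p.1 p.2
    exact ⟨σ, h1, h2⟩
  have hcl : ∀ p, IsClosed (K p) := fun p =>
    (isClosed_stabilizer F' (H.obj p.1) p.2).inter hU.isClosed_compl
  have hcomp : ∀ p, IsCompact (K p) := fun p => (hcl p).isCompact
  have hdir : Directed (· ⊇ ·) K := by
    intro p q
    let d : (H ⋙ F').obj (p.1 ⨯ q.1) :=
      (fiberBinaryProductEquiv (H ⋙ F') p.1 q.1).symm (p.2, q.2)
    have hd1 : (H ⋙ F').map prod.fst d = p.2 :=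
      fiberBinaryProductEquiv_symm_fst_apply (H ⋙ F') p.2 q.2
    have hd2 : (H ⋙ F').map prod.snd d = q.2 :=
      fiberBinaryProductEquiv_symm_snd_apply (H ⋙ F') p.2 q.2
    refine ⟨⟨p.1 ⨯ q.1, d⟩, ?_, ?_⟩
    · rintro σ ⟨hσ, hσU⟩
      refine ⟨?_, hσU⟩
      have hσ' : σ.hom.app (H.obj (p.1 ⨯ q.1)) d = d := hσ
      have h := mulAction_naturality F' σ (H.map (prod.fst : p.1 ⨯ q.1 ⟶ p.1)) d
      rw [mulAction_def, mulAction_def, hσ'] at h
      have hd1' : F'.map (H.map (prod.fst : p.1 ⨯ q.1 ⟶ p.1)) d = p.2 := hd1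
      rw [hd1'] at h
      exact h
    · rintro σ ⟨hσ, hσU⟩
      refine ⟨?_, hσU⟩
      have hσ' : σ.hom.app (H.obj (p.1 ⨯ q.1)) d = d := hσ
      have h := mulAction_naturality F' σ (H.map (prod.snd : p.1 ⨯ q.1 ⟶ q.1)) d
      rw [mulAction_def, mulAction_def, hσ'] at h
      have hd2' : F'.map (H.map (prod.snd : p.1 ⨯ q.1 ⟶ q.1)) d = q.2 := hd2
      rw [hd2'] at h
      exact h
  have : Unique ((H ⋙ F').obj (⊤_ C)) := uniqueFiberTerminal (H ⋙ F')
  have : Nonempty ι := ⟨⟨⊤_ C, (default : (H ⋙ F').obj (⊤_ C))⟩⟩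
  obtain ⟨σ, hσ⟩ :=
    IsCompact.nonempty_iInter_of_directed_nonempty_isCompact_isClosed K hdir hne hcomp hcl
  rw [Set.mem_iInter] at hσ
  have h1 : σ ∈ U := hker σ fun X b => (hσ ⟨X, b⟩).1
  exact (hσ ⟨⊤_ C, (default : (H ⋙ F').obj (⊤_ C))⟩).2 h1

end Groth.Agent.Helper8.GaloisCat
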