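import Groth.Agent.Lib.Helper8.GaloisCat3
import Groth.Prelude.Def_Pi1X
import Mathlib.CategoryTheory.Galois.Equivalence
import Mathlib.Topology.Algebra.ClopenNhdofOne

/-! Open subgroups of the fundamental group as stabilizers; continuity of the map of fundamental
groups induced by a functor (helper8). -/

set_option autoImplicit false
universe u v w

open CategoryTheory PreGaloisCategory CategoryTheory.Limits

namespace Groth.Agent.Helper8.GaloisCat

variable {C' : Type u} [Category.{v} C'] [GaloisCategory C']
  (F' : C' ⥤ FintypeCat.{w}) [FiberFunctor F']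

/-- A finite type with `n` elements in an arbitrary universe, without extra structure. -/
def Qw (n : ℕ) : Type w := ULift.{w} (Fin n)

instance (n : ℕ) : Finite (Qw.{w} n) := inferInstanceAs (Finite (ULift.{w} (Fin n)))

/-- The defining equivalence of `Qw`. -/
def Qw.equiv (n : ℕ) : Qw.{w} n ≃ Fin n := Equiv.ulift

open scoped FintypeCatDiscrete in
/-- Every open subgroup of the fundamental group is the stabilizer of a point of a connected
object. -/
theorem exists_connected_stabilizer_eq (V : Subgroup (Aut F')) (hV : IsOpen (V : Set (Aut F'))) :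
    ∃ (X' : C') (a' : F'.obj X'), IsConnected X' ∧ MulAction.stabilizer (Aut F') a' = V := by
  have hfin : Finite (Aut F' ⧸ V) := V.quotient_finite_of_isOpen hV
  let n := Nat.card (Aut F' ⧸ V)
  let Q : Type w := Qw.{w} n
  let ε : Q ≃ Aut F' ⧸ V := (Qw.equiv n).trans (Finite.equivFin (Aut F' ⧸ V)).symm
  let _ : MulAction (Aut F') Q := ε.mulAction (Aut F')
  have hsmul : ∀ (g : Aut F') (q : Q), ε (g • q) = g • ε q := fun g q => ε.apply_symm_apply _
  let T₀ : Action FintypeCat.{w} (Aut F') := Action.FintypeCat.ofMulAction (Aut F') (FintypeCat.of Q)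
  have hT₀ : T₀.IsContinuous := by
    let tQ : TopologicalSpace Q := ⊥
    have : DiscreteTopology Q := ⟨rfl⟩
    have := QuotientGroup.discreteTopology hV
    refine @ContinuousSMul.mk (Aut F') Q _ _ tQ ?_
    have h1 : Continuous (fun p : Aut F' × Q => (p.1, ε p.2)) :=
      continuous_fst.prodMk (continuous_of_discreteTopology.comp continuous_snd)
    have h2 : Continuous (fun p : Aut F' × (Aut F' ⧸ V) => p.1 • p.2) := continuous_smul
    have h3 : Continuous (ε.symm : Aut F' ⧸ V → Q) := continuous_of_discreteTopology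
    exact h3.comp (h2.comp h1)
  let T : ContAction FintypeCat.{w} (Aut F') := ⟨T₀, hT₀⟩
  let X₀ : C' := (functorToContAction F').objPreimage T
  let e : (functorToContAction F').obj X₀ ≅ T := (functorToContAction F').objObjPreimageIso T
  let e₀ : (functorToAction F').obj X₀ ≅ T₀ := (ObjectProperty.ι _).mapIso e
  let φ : F'.obj X₀ → Q := fun x => e₀.hom.hom x
  let ψ : Q → F'.obj X₀ := fun x => e₀.inv.hom x
  have hφψ : ∀ x, φ (ψ x) = x := fun x => by
    have := congrArg (fun f : T₀ ⟶ T₀ => f.hom x) e₀.inv_hom_id
    exact this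
  have hψφ : ∀ x, ψ (φ x) = x := fun x => by
    have := congrArg (fun f : (functorToAction F').obj X₀ ⟶ (functorToAction F').obj X₀ => f.hom x)
      e₀.hom_inv_id
    exact this
  have hequiv : ∀ (g : Aut F') (x : F'.obj X₀), φ (g • x) = g • φ x := fun g x => by
    have := congrArg (fun f : ((functorToAction F').obj X₀).V ⟶ T₀.V => f x) (e₀.hom.comm g)
    exact this
  let q₀ : Q := ε.symm (QuotientGroup.mk 1)
  have hq₀ : ∀ τ : Aut F', τ • q₀ = q₀ ↔ τ ∈ V := by
    intro τ
    rw [← ε.apply_eq_iff_eq, hsmul, ε.apply_symm_apply]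
    change (QuotientGroup.mk (τ * 1) : Aut F' ⧸ V) = QuotientGroup.mk 1 ↔ _
    rw [mul_one, QuotientGroup.eq, mul_one, inv_mem_iff]
  let a₀ : F'.obj X₀ := ψ q₀
  have hst₀ : ∀ τ : Aut F', τ • a₀ = a₀ ↔ τ ∈ V := by
    intro τ
    rw [← hq₀ τ]
    constructor
    · intro h
      have h1 := congrArg φ h
      rwa [hequiv, hφψ] at h1
    · intro h
      have h1 : φ (τ • a₀) = φ a₀ := by
        rw [hequiv, hφψ, h]
      have h2 := congrArg ψ h1
      rwa [hψφ, hψφ] at h2
  obtain ⟨Y, i, y, hy, hYc, hmono⟩ := fiber_in_connected_component F' X₀ a₀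
  have hinj : Function.Injective (F'.map i) :=
    ConcreteCategory.injective_of_mono_of_preservesPullback (F'.map i)
  refine ⟨Y, y, hYc, ?_⟩
  ext τ
  rw [MulAction.mem_stabilizer_iff, ← hst₀ τ, ← hy, mulAction_naturality]
  exact ⟨fun h => congrArg _ h, fun h => hinj h⟩

omit [GaloisCategory C'] [FiberFunctor F'] in
/-- The map of fundamental groups induced by a functor is continuous. -/
theorem continuous_autWhisker {C : Type u} [Category.{v} C] (H : C ⥤ C') :
    Continuous (Pi1X.autWhisker H F') := by
  rw [continuous_induced_rng]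
  have : (autEmbedding (H ⋙ F')) ∘ (Pi1X.autWhisker H F') =
      (fun p X => p (H.obj X)) ∘ (autEmbedding F') := rfl
  rw [this]
  exact (continuous_pi fun X => continuous_apply (H.obj X)).comp continuous_induced_dom

omit [GaloisCategory C'] [FiberFunctor F'] in
/-- The image of the map of fundamental groups induced by a functor is closed. -/
theorem isClosed_range_autWhisker {C : Type u} [Category.{v} C] (H : C ⥤ C') :
    IsClosed ((Pi1X.autWhisker H F').range : Set (Aut (H ⋙ F'))) := by
  have : ((Pi1X.autWhisker H F').range : Set (Aut (H ⋙ F'))) = Set.range (Pi1X.autWhisker H F') :=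
    MonoidHom.coe_range _
  rw [this]
  exact (isCompact_range (continuous_autWhisker F' H)).isClosed

end Groth.Agent.Helper8.GaloisCat
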