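import Groth.Agent.Lib.Helper8.GaloisCat4
import Groth.Agent.S1187
import Groth.Agent.S1189

/-! Exact sequences of fundamental groups: the kernel is topologically normally generated by the
image (helper8). -/

set_option autoImplicit false
universe u v w

open CategoryTheory PreGaloisCategory CategoryTheory.Limits

namespace Groth.Agent.Helper8.GaloisCat

section Sep

variable {G : Type*} [Group G] [TopologicalSpace G] [IsTopologicalGroup G] [CompactSpace G]
  [TotallyDisconnectedSpace G]

/-- A closed normal subgroup of a profinite group is separated from outside points by open normal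
subgroups. -/
theorem exists_open_normal_sep (N : Subgroup G) [hNn : N.Normal] (hN : IsClosed (N : Set G)) (τ : G)
    (hτ : τ ∉ N) :
    ∃ V : Subgroup G, V.Normal ∧ IsOpen (V : Set G) ∧ N ≤ V ∧ τ ∉ V := by
  have hW : IsOpen {x : G | τ * x ∉ N} :=
    hN.isOpen_compl.preimage (continuous_const.mul continuous_id)
  have h1 : (1 : G) ∈ {x : G | τ * x ∉ N} := by
    show τ * 1 ∉ N
    rwa [mul_one]
  obtain ⟨U₀, hU₀⟩ := ProfiniteGrp.exist_openNormalSubgroup_sub_open_nhds_of_one hW h1
  haveI : U₀.toSubgroup.Normal := U₀.isNormal'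
  refine ⟨U₀.toSubgroup ⊔ N, inferInstance, ?_, le_sup_right, ?_⟩
  · exact Subgroup.isOpen_mono (le_sup_left : U₀.toSubgroup ≤ U₀.toSubgroup ⊔ N) U₀.isOpen'
  · intro hmem
    have h2 : τ ∈ ((U₀.toSubgroup ⊔ N : Subgroup G) : Set G) := hmem
    rw [Subgroup.mul_normal] at h2
    obtain ⟨u, hu, n, hn, hun⟩ := Set.mem_mul.mp h2
    -- n = τ * (τ⁻¹ u⁻¹ τ)
    have h3 : τ⁻¹ * u⁻¹ * τ⁻¹⁻¹ ∈ U₀.toSubgroup :=
      (U₀.isNormal').conj_mem _ (U₀.toSubgroup.inv_mem hu) τ⁻¹
    have h4 : τ * (τ⁻¹ * u⁻¹ * τ⁻¹⁻¹) ∉ N := hU₀ h3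
    apply h4
    have : τ * (τ⁻¹ * u⁻¹ * τ⁻¹⁻¹) = n := by
      rw [← hun]; group
    rw [this]
    exact hn

end Sep

section Triv

variable {C' C'' : Type u} [Category.{v} C'] [Category.{v} C''] [GaloisCategory C']
  [GaloisCategory C'']
  (H' : C' ⥤ C'') (F'' : C'' ⥤ FintypeCat.{w}) [FiberFunctor F''] [FiberFunctor (H' ⋙ F'')]

/-- `H' X'` is a finite sum of final objects iff the image of `π₁(C'')` fixes every point of the
fibre of `X'`. -/
theorem trivialized_iff_fixed (X' : C') :
    (∃ n : ℕ, Nonempty (H'.obj X' ≅ ∐ fun _ : Fin n => ⊤_ C'')) ↔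
      ∀ (b : (H' ⋙ F'').obj X') (σ : Aut F''),
        (Pi1X.autWhisker H' F'' σ).hom.app X' b = b := by
  constructor
  · rintro ⟨n, ⟨e⟩⟩ b σ
    exact fixed_of_iso_sigma_terminal F'' (H'.obj X') n e b σ
  · intro h
    exact exists_iso_sigma_terminal_of_fixed F'' (H'.obj X') (fun b σ => h b σ)

end Triv

section FixAll

variable {C' : Type u} [Category.{v} C'] [GaloisCategory C']
  (F' : C' ⥤ FintypeCat.{w}) [FiberFunctor F']

/-- the kernel of the action on a fibre -/
noncomputable def fixAll (X' : C') : Subgroup (Aut F') :=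
  (MulAction.toPermHom (Aut F') (F'.obj X')).ker

instance (X' : C') : (fixAll F' X').Normal := by
  unfold fixAll; infer_instance

theorem mem_fixAll {X' : C'} {τ : Aut F'} :
    τ ∈ fixAll F' X' ↔ ∀ b : F'.obj X', τ.hom.app X' b = b := by
  unfold fixAll
  rw [MonoidHom.mem_ker]
  constructor
  · intro h b
    exact congrArg (fun p : Equiv.Perm (F'.obj X') => p b) h
  · intro h
    ext b
    exact h b

theorem isClosed_fixAll (X' : C') : IsClosed ((fixAll F' X' : Subgroup (Aut F')) : Set (Aut F')) := by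
  have : ((fixAll F' X' : Subgroup (Aut F')) : Set (Aut F')) =
      ⋂ b : F'.obj X', {σ : Aut F' | σ.hom.app X' b = b} := by
    ext τ
    rw [Set.mem_iInter]
    exact mem_fixAll F'
  rw [this]
  exact isClosed_iInter (fun b => isClosed_stabilizer F' X' b)

/-- If a subset fixes all points then so does the closure of its normal closure. -/
theorem closure_normalClosure_le_fixAll (X' : C') (S : Set (Aut F'))
    (hS : ∀ τ ∈ S, ∀ b : F'.obj X', τ.hom.app X' b = b) :
    (Subgroup.normalClosure S).topologicalClosure ≤ fixAll F' X' := by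
  apply Subgroup.topologicalClosure_minimal _ _ (isClosed_fixAll F' X')
  apply Subgroup.normalClosure_le_normal
  intro τ hτ
  exact (mem_fixAll F').mpr (hS τ hτ)

end FixAll

end Groth.Agent.Helper8.GaloisCat
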