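import Groth.Agent.Lib.Helper8.GaloisCat5

/-! Descent of objects along a surjection of fundamental groups (helper8). -/

set_option autoImplicit false
universe u v w

open CategoryTheory PreGaloisCategory CategoryTheory.Limits

namespace Groth.Agent.Helper8.GaloisCat

section Desc

variable {C C' : Type u} [Category.{v} C] [Category.{v} C'] [GaloisCategory C] [GaloisCategory C']
  (H : C ⥤ C') (F' : C' ⥤ FintypeCat.{w}) [FiberFunctor F'] [FiberFunctor (H ⋙ F')]

/-- a copy of the fibre, to carry the descended action -/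
def DS (X' : C') : Type w := F'.obj X'

instance (X' : C') : Finite (DS F' X') := inferInstanceAs (Finite (F'.obj X'))

open scoped FintypeCatDiscrete in
/-- If `π₁(C') → π₁(C)` is onto and its kernel acts trivially on the fibre of `X'`, then `X'` comes
from `C`. -/
theorem exists_preimage_of_ker_le (hs : Function.Surjective (Pi1X.autWhisker H F')) (X' : C')
    (hker : (Pi1X.autWhisker H F').ker ≤ fixAll F' X') : ∃ X : C, Nonempty (H.obj X ≅ X') := by
  classical
  let S : Type w := DS F' X'
  let toS : F'.obj X' → S := fun b => b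
  let ofS : S → F'.obj X' := fun b => b
  choose s hs' using hs
  have key : ∀ (τ : Aut F') (b : F'.obj X'), (s (Pi1X.autWhisker H F' τ)) • b = τ • b := by
    intro τ b
    have h1 : (s (Pi1X.autWhisker H F' τ))⁻¹ * τ ∈ (Pi1X.autWhisker H F').ker := by
      rw [MonoidHom.mem_ker, map_mul, map_inv, hs', inv_mul_cancel]
    have h2 := (mem_fixAll F').mp (hker h1) b
    have h3 : ((s (Pi1X.autWhisker H F' τ))⁻¹ * τ) • b = b := h2
    rw [mul_smul, inv_smul_eq_iff] at h3
    exact h3.symm
  have key2 : ∀ (g : Aut (H ⋙ F')) (τ : Aut F') (b : F'.obj X'), Pi1X.autWhisker H F' τ = g →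
      s g • b = τ • b := by
    rintro _ τ b rfl
    exact key τ b
  let act : MulAction (Aut (H ⋙ F')) S :=
    { smul := fun g b => toS (s g • ofS b)
      one_smul := fun b => by
        show toS (s 1 • ofS b) = b
        rw [key2 1 1 (ofS b) (map_one _), one_smul]
      mul_smul := fun g₁ g₂ b => by
        show toS (s (g₁ * g₂) • ofS b) = toS (s g₁ • ofS (toS (s g₂ • ofS b)))
        rw [key2 (g₁ * g₂) (s g₁ * s g₂) (ofS b) (by rw [map_mul, hs', hs']), mul_smul] }
  have hact : ∀ (g : Aut (H ⋙ F')) (b : S), g • b = toS (s g • ofS b) := fun _ _ => rfl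
  let T₀ : Action FintypeCat.{w} (Aut (H ⋙ F')) :=
    Action.FintypeCat.ofMulAction (Aut (H ⋙ F')) (FintypeCat.of S)
  have hT₀ : T₀.IsContinuous := by
    let tS : TopologicalSpace S := ⊥
    have : DiscreteTopology S := ⟨rfl⟩
    refine @ContinuousSMul.mk (Aut (H ⋙ F')) S _ _ tS ?_
    rw [continuous_prod_of_discrete_right]
    intro b
    rw [continuous_discrete_rng]
    intro c
    -- the set {g | g • b = c} is open
    have hcompl : ((fun g : Aut (H ⋙ F') => g • b) ⁻¹' {c})ᶜ =
        (Pi1X.autWhisker H F') '' {τ : Aut F' | τ • ofS b ≠ ofS c} := by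
      ext g
      constructor
      · intro hg
        refine ⟨s g, ?_, hs' g⟩
        intro h
        apply hg
        show g • b = c
        rw [hact]
        exact h
      · rintro ⟨τ, hτ, rfl⟩ hg
        apply hτ
        have h5 : (Pi1X.autWhisker H F' τ) • b = c := hg
        rw [hact, key] at h5
        exact h5
    have hclosed : IsClosed {τ : Aut F' | τ • ofS b ≠ ofS c} := by
      have hopen : IsOpen {τ : Aut F' | τ • ofS b = ofS c} := by
        have hc : Continuous (fun τ : Aut F' => τ • ofS b) := continuous_id.smul continuous_const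
        exact (isOpen_discrete {ofS c}).preimage hc
      exact hopen.isClosed_compl
    have hcomp : IsCompact ((Pi1X.autWhisker H F') '' {τ : Aut F' | τ • ofS b ≠ ofS c}) :=
      hclosed.isCompact.image (continuous_autWhisker F' H)
    rw [← isClosed_compl_iff, hcompl]
    exact hcomp.isClosed
  let T : ContAction FintypeCat.{w} (Aut (H ⋙ F')) := ⟨T₀, hT₀⟩
  let X₀ : C := (functorToContAction (H ⋙ F')).objPreimage T
  let e : (functorToContAction (H ⋙ F')).obj X₀ ≅ T :=
    (functorToContAction (H ⋙ F')).objObjPreimageIso T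
  let e₀ : (functorToAction (H ⋙ F')).obj X₀ ≅ T₀ := (ObjectProperty.ι _).mapIso e
  let φ : F'.obj (H.obj X₀) → S := fun x => e₀.hom.hom x
  let ψ : S → F'.obj (H.obj X₀) := fun x => e₀.inv.hom x
  have hφψ : ∀ x, φ (ψ x) = x := fun x => by
    have := congrArg (fun f : T₀ ⟶ T₀ => f.hom x) e₀.inv_hom_id
    exact this
  have hψφ : ∀ x, ψ (φ x) = x := fun x => by
    have := congrArg (fun f : (functorToAction (H ⋙ F')).obj X₀ ⟶
      (functorToAction (H ⋙ F')).obj X₀ => f.hom x) e₀.hom_inv_id
    exact this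
  have hequiv : ∀ (g : Aut (H ⋙ F')) (x : F'.obj (H.obj X₀)), φ (g.hom.app X₀ x) = g • φ x :=
    fun g x => by
      have := congrArg (fun f : ((functorToAction (H ⋙ F')).obj X₀).V ⟶ T₀.V => f x) (e₀.hom.comm g)
      exact this
  -- equivariance for Aut F'
  have hφ' : ∀ (τ : Aut F') (x : F'.obj (H.obj X₀)),
      ofS (φ (τ.hom.app (H.obj X₀) x)) = τ.hom.app X' (ofS (φ x)) := by
    intro τ x
    have h1 := hequiv (Pi1X.autWhisker H F' τ) x
    have h2 : (Pi1X.autWhisker H F' τ).hom.app X₀ x = τ.hom.app (H.obj X₀) x := rfl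
    rw [h2, hact, key] at h1
    rw [h1]
    rfl
  have hψ' : ∀ (τ : Aut F') (b : F'.obj X'),
      ψ (toS (τ.hom.app X' b)) = τ.hom.app (H.obj X₀) (ψ (toS b)) := by
    intro τ b
    have h1 := hφ' τ (ψ (toS b))
    rw [hφψ] at h1
    have h2 : toS (τ.hom.app X' b) = φ (τ.hom.app (H.obj X₀) (ψ (toS b))) := h1.symm
    rw [h2, hψφ]
  let Φ : (functorToAction F').obj (H.obj X₀) ⟶ (functorToAction F').obj X' :=
    { hom := FintypeCat.homMk (fun x => ofS (φ x))
      comm := fun τ => by
        ext x
        exact hφ' τ x }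
  let Ψ : (functorToAction F').obj X' ⟶ (functorToAction F').obj (H.obj X₀) :=
    { hom := FintypeCat.homMk (fun b => ψ (toS b))
      comm := fun τ => by
        ext b
        exact hψ' τ b }
  obtain ⟨f, hf⟩ := (functorToAction F').map_surjective Φ
  obtain ⟨g, hg⟩ := (functorToAction F').map_surjective Ψ
  have hf' : ∀ x, F'.map f x = ofS (φ x) := fun x =>
    ConcreteCategory.congr_hom (congrArg Action.Hom.hom hf) x
  have hg' : ∀ b, F'.map g b = ψ (toS b) := fun b =>
    ConcreteCategory.congr_hom (congrArg Action.Hom.hom hg) b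
  refine ⟨X₀, ⟨⟨f, g, ?_, ?_⟩⟩⟩
  · apply F'.map_injective
    ext x
    rw [F'.map_comp, FintypeCat.comp_apply, hf', hg', CategoryTheory.Functor.map_id]
    exact hψφ x
  · apply F'.map_injective
    ext b
    rw [F'.map_comp, FintypeCat.comp_apply, hg', hf', CategoryTheory.Functor.map_id]
    exact hφψ (toS b)

end Desc

end Groth.Agent.Helper8.GaloisCat
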