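import Groth.Agent.Lib.Helper8.Canon15

/-!
# Torsion of top local cohomology along a regular sequence (helper8)
-/

set_option autoImplicit false
universe u

namespace Groth.Agent.Helper8.Gor

open IsLocalRing CategoryTheory Groth.Agent.Helper8 Groth.Agent.Helper8.LC
  Groth.Agent.Helper8.Canon
open scoped Pointwise

section Torsion

variable {R : Type u} [CommRing R]

/-- torsion by the empty set -/
noncomputable def torsionNilEquiv (T : Type u) [AddCommGroup T] [Module R T] :
    Submodule.torsionBySet R T {y | y ∈ ([] : List R)} ≃ₗ[R] T :=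
  LinearEquiv.ofBijective (Submodule.subtype _) ⟨Subtype.val_injective, fun t =>
    ⟨⟨t, by
      rw [Submodule.mem_torsionBySet_iff]
      rintro ⟨a, ha⟩
      exact absurd ha (by simp)⟩, rfl⟩⟩

/-- torsion by `x :: rs` is the `rs`-torsion of the kernel of `x` -/
noncomputable def torsionConsEquiv (T : Type u) [AddCommGroup T] [Module R T] (x : R) (rs : List R) :
    Submodule.torsionBySet R T {y | y ∈ x :: rs} ≃ₗ[R]
      Submodule.torsionBySet R (LinearMap.ker (x • (LinearMap.id : T →ₗ[R] T))) {y | y ∈ rs} where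
  toFun t := ⟨⟨t.1, by
    rw [LinearMap.mem_ker]
    exact (Submodule.mem_torsionBySet_iff _ _).mp t.2 ⟨x, List.mem_cons_self⟩⟩, by
    rw [Submodule.mem_torsionBySet_iff]
    rintro ⟨a, ha⟩
    apply Subtype.ext
    exact (Submodule.mem_torsionBySet_iff _ _).mp t.2 ⟨a, List.mem_cons_of_mem _ ha⟩⟩
  map_add' _ _ := rfl
  map_smul' _ _ := rfl
  invFun t := ⟨t.1.1, by
    rw [Submodule.mem_torsionBySet_iff]
    rintro ⟨a, ha⟩
    rcases List.mem_cons.mp ha with rfl | ha'
    · exact LinearMap.mem_ker.mp t.1.2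
    · exact congrArg Subtype.val ((Submodule.mem_torsionBySet_iff _ _).mp t.2 ⟨a, ha'⟩)⟩
  left_inv _ := rfl
  right_inv _ := rfl

end Torsion

section LC

variable {R : Type u} [CommRing R] (I : Ideal R)

/-- `ker(x : H^{d+1}(M) → H^{d+1}(M)) ≃ H^d(M/xM)` when `H^d(M) = 0` -/
noncomputable def kerSMulEquivH (M : Type u) [AddCommGroup M] [Module R M] (x : R)
    (hx : IsSMulRegular M x) (d : ℕ) (h0 : Subsingleton (H I d M)) :
    LinearMap.ker (x • (LinearMap.id : H I (d + 1) M →ₗ[R] H I (d + 1) M)) ≃ₗ[R]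
      H I d (M ⧸ x • (⊤ : Submodule R M)) :=
  (LinearEquiv.ofBijective
    ((Hδ I d (isSES_smul M hx)).codRestrict
      (LinearMap.ker (x • (LinearMap.id : H I (d + 1) M →ₗ[R] H I (d + 1) M))) (by
      intro z
      rw [LinearMap.mem_ker, LinearMap.smul_apply, LinearMap.id_apply, ← Hmap_smul_id]
      exact ((isSES_smul M hx).exact_δ_Hmap I d _).mpr ⟨z, rfl⟩))
    ⟨by
      intro a b hab
      exact (isSES_smul M hx).δ_injective I d (congrArg Subtype.val hab),
     by
      rintro ⟨t, ht⟩
      rw [LinearMap.mem_ker, LinearMap.smul_apply, LinearMap.id_apply, ← Hmap_smul_id] at ht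
      obtain ⟨z, hz⟩ := ((isSES_smul M hx).exact_δ_Hmap I d t).mp ht
      exact ⟨z, Subtype.ext hz⟩⟩).symm

/-- **torsion of local cohomology along a regular sequence** -/
theorem nonempty_torsion_H_equiv : ∀ (rs : List R) (M : Type u) [AddCommGroup M] [Module R M]
    (d D : ℕ), D = rs.length + d → (∀ l < D, Subsingleton (H I l M)) →
    RingTheory.Sequence.IsWeaklyRegular M rs →
    Nonempty (Submodule.torsionBySet R (H I D M) {y | y ∈ rs} ≃ₗ[R]
      H I d (M ⧸ (Ideal.ofList rs • ⊤ : Submodule R M))) := by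
  intro rs
  induction rs with
  | nil =>
    intro M _ _ d D hD _ _
    have hD' : D = d := by simpa using hD
    subst hD'
    have h0 : (Ideal.ofList ([] : List R) • ⊤ : Submodule R M) = ⊥ := by
      rw [Ideal.ofList_nil, Submodule.bot_smul]
    exact ⟨torsionNilEquiv _ ≪≫ₗ Hcongr I D (Submodule.quotEquivOfEqBot _ h0).symm⟩
  | cons x rs ih =>
    intro M _ _ d D hD hvan hreg
    rw [RingTheory.Sequence.isWeaklyRegular_cons_iff] at hreg
    obtain ⟨D', rfl⟩ : ∃ D', D = D' + 1 := ⟨rs.length + d, by rw [hD, List.length_cons]; omega⟩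
    have hD' : D' = rs.length + d := by rw [List.length_cons] at hD; omega
    have h0 : Subsingleton (H I D' M) := hvan D' (by omega)
    have e1 := kerSMulEquivH I M x hreg.1 D' h0
    have hvan' : ∀ l < D', Subsingleton (H I l (M ⧸ x • (⊤ : Submodule R M))) := by
      intro l hl
      have hS := isSES_smul M hreg.1
      have h1 : Subsingleton (H I l M) := hvan l (by omega)
      have h2 : Subsingleton (H I (l + 1) M) := hvan (l + 1) (by omega)
      exact (hS.δ_injective I l).subsingleton
    obtain ⟨e2⟩ := ih (QuotSMulTop x M) d D' hD' hvan' hreg.2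
    exact ⟨torsionConsEquiv _ x rs ≪≫ₗ Uniq.torsionBySetCongr e1 _ ≪≫ₗ e2 ≪≫ₗ
      Hcongr I d (Submodule.quotOfListConsSMulTopEquivQuotSMulTopInner M x rs).symm⟩

end LC

end Groth.Agent.Helper8.Gor
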