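import Groth.Agent.Lib.Helper8.Gor1

/-!
# Over a Gorenstein local ring, `H^n_m(R)` is an injective hull of the residue field (helper8)
-/

set_option autoImplicit false
universe u

namespace Groth.Agent.Helper8.Gor

open IsLocalRing CategoryTheory Abelian Groth.Agent.Helper8 Groth.Agent.Helper8.LC
  Groth.Agent.Helper8.Canon
open scoped Pointwise

section Embed

variable {R : Type u} [CommRing R] [IsLocalRing R]
  {E : Type u} [AddCommGroup E] [Module R E] {f : ResidueField R →ₗ[R] E}

/-- a power torsion module with simple socle embeds in the injective hull of the residue field -/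
theorem exists_injective_of_simple_socle (hf : InjHull.IsInjectiveHull f) (T : Type u)
    [AddCommGroup T] [Module R T] (htors : LocCoh.IsPowerTorsion (maximalIdeal R) T)
    (hsoc : IsSimpleModule R (Submodule.torsionBySet R T (maximalIdeal R : Set R))) :
    ∃ φ : T →ₗ[R] E, Function.Injective φ := by
  obtain ⟨I, hI, ⟨e⟩⟩ := isSimpleModule_iff_quot_maximal.1 hsoc
  obtain rfl : I = maximalIdeal R := IsLocalRing.eq_maximalIdeal hI
  let e' : Submodule.torsionBySet R T (maximalIdeal R : Set R) →ₗ[R] ResidueField R := e.toLinearMap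
  let ψ : Submodule.torsionBySet R T (maximalIdeal R : Set R) →ₗ[R] E := f ∘ₗ e'
  have := hf.isInjective
  obtain ⟨φ, hφ⟩ := Module.Injective.out (R := R) (Q := E)
    (Submodule.torsionBySet R T (maximalIdeal R : Set R)).subtype
    (Submodule.injective_subtype _) ψ
  refine ⟨φ, ?_⟩
  rw [← LinearMap.ker_eq_bot]
  by_contra hne
  obtain ⟨t, htN, ht0, ht⟩ := Matlis.exists_socle_mem htors (LinearMap.ker φ) hne
  have htS : t ∈ Submodule.torsionBySet R T (maximalIdeal R : Set R) := by
    rw [Submodule.mem_torsionBySet_iff]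
    rintro ⟨a, ha⟩
    exact ht a ha
  have h1 := hφ ⟨t, htS⟩
  rw [Submodule.subtype_apply, LinearMap.mem_ker.mp htN] at h1
  have h2 : e' ⟨t, htS⟩ = 0 := (injective_iff_map_eq_zero f).mp hf.injective _ h1.symm
  have h3 : (⟨t, htS⟩ : Submodule.torsionBySet R T (maximalIdeal R : Set R)) = 0 :=
    (injective_iff_map_eq_zero e).mp e.injective _ h2
  exact ht0 (congrArg Subtype.val h3)

omit [IsLocalRing R] in
/-- comparison of torsion parts of equal finite length -/
theorem torsion_le_range {T : Type u} [AddCommGroup T] [Module R T] (φ : T →ₗ[R] E)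
    (hφ : Function.Injective φ) (s : Set R)
    (hlen : Module.length R (Submodule.torsionBySet R E s) =
      Module.length R (Submodule.torsionBySet R T s))
    (hfin : Module.length R (Submodule.torsionBySet R T s) ≠ ⊤) :
    Submodule.torsionBySet R E s ≤ LinearMap.range φ := by
  let φs : Submodule.torsionBySet R T s →ₗ[R] Submodule.torsionBySet R E s :=
    (φ ∘ₗ (Submodule.torsionBySet R T s).subtype).codRestrict _ (by
      intro t
      rw [Submodule.mem_torsionBySet_iff]
      intro a
      rw [LinearMap.comp_apply, Submodule.subtype_apply, ← map_smul,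
        (Submodule.mem_torsionBySet_iff _ _).mp t.2 a, map_zero])
  have hinj : Function.Injective φs := by
    intro a b hab
    apply Subtype.ext
    apply hφ
    exact congrArg Subtype.val hab
  have hbij := Matlis.bijective_of_injective_of_length_eq φs hinj hlen hfin
  intro y hy
  obtain ⟨t, ht⟩ := hbij.2 ⟨y, hy⟩
  exact ⟨t.1, congrArg Subtype.val ht⟩

omit [IsLocalRing R] in
/-- torsion inside torsion -/
noncomputable def torsionTorsionEquiv (T : Type u) [AddCommGroup T] [Module R T] (s s' : Set R)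
    (hss' : s ⊆ s') :
    Submodule.torsionBySet R T s' ≃ₗ[R]
      Submodule.torsionBySet R (Submodule.torsionBySet R T s) s' where
  toFun t := ⟨⟨t.1, by
    rw [Submodule.mem_torsionBySet_iff]
    rintro ⟨a, ha⟩
    exact (Submodule.mem_torsionBySet_iff _ _).mp t.2 ⟨a, hss' ha⟩⟩, by
    rw [Submodule.mem_torsionBySet_iff]
    rintro ⟨a, ha⟩
    apply Subtype.ext
    exact (Submodule.mem_torsionBySet_iff _ _).mp t.2 ⟨a, ha⟩⟩
  map_add' _ _ := rfl
  map_smul' _ _ := rfl
  invFun t := ⟨t.1.1, by
    rw [Submodule.mem_torsionBySet_iff]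
    rintro ⟨a, ha⟩
    exact congrArg Subtype.val ((Submodule.mem_torsionBySet_iff _ _).mp t.2 ⟨a, ha⟩)⟩
  left_inv _ := rfl
  right_inv _ := rfl

end Embed

section Main

theorem withBot_enat_le_zero_of_add_eq {a : WithBot ℕ∞} {n : ℕ}
    (h : a + (n : WithBot ℕ∞) = (n : WithBot ℕ∞)) : a ≤ ((0 : ℕ) : WithBot ℕ∞) := by
  induction a with
  | bot => exact bot_le
  | coe a =>
    induction a using ENat.recTopCoe with
    | top =>
      exfalso
      have h1 : ((⊤ + (n : ℕ∞) : ℕ∞) : WithBot ℕ∞) = ((n : ℕ∞) : WithBot ℕ∞) := by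
        exact_mod_cast h
      have h2 : (⊤ + (n : ℕ∞) : ℕ∞) = (n : ℕ∞) := WithBot.coe_injective h1
      rw [top_add] at h2
      exact ENat.top_ne_coe n h2
    | coe k =>
      have h1 : (((k + n : ℕ) : ℕ∞) : WithBot ℕ∞) = (((n : ℕ) : ℕ∞) : WithBot ℕ∞) := by
        exact_mod_cast h
      have h2 : ((k + n : ℕ) : ℕ∞) = ((n : ℕ) : ℕ∞) := WithBot.coe_injective h1
      have h3 : k + n = n := by exact_mod_cast h2
      have h4 : k = 0 := by omega
      rw [h4]
      exact le_rfl

variable {R : Type u} [CommRing R] [hCM : LocCoh.IsCohenMacaulayLocalRing R] {n : ℕ}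
  {E : Type u} [AddCommGroup E] [Module R E] {f : ResidueField R →ₗ[R] E}

/-- facts about the quotient by a maximal regular sequence -/
theorem quotient_facts (hn : ringKrullDim R = n) (hf : InjHull.IsInjectiveHull f)
    (rs : List R) (hlen : rs.length = n) (hreg : RingTheory.Sequence.IsWeaklyRegular R rs)
    (hmem : ∀ r ∈ rs, r ∈ maximalIdeal R) :
    IsFiniteLength R (R ⧸ (Ideal.ofList rs • ⊤ : Submodule R R)) ∧
    Nontrivial (R ⧸ (Ideal.ofList rs • ⊤ : Submodule R R)) ∧
    Nonempty (Submodule.torsionBySet R (H (maximalIdeal R) n R) {y | y ∈ rs} ≃ₗ[R]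
      (R ⧸ (Ideal.ofList rs • ⊤ : Submodule R R))) ∧
    Module.length R (Submodule.torsionBySet R E {y | y ∈ rs}) =
      Module.length R (R ⧸ (Ideal.ofList rs • ⊤ : Submodule R R)) := by
  have hle : Ideal.ofList rs ≤ maximalIdeal R := by
    rw [Ideal.ofList, Ideal.span_le]
    exact fun x hx => hmem x hx
  have hnt : Nontrivial (R ⧸ (Ideal.ofList rs • ⊤ : Submodule R R)) := by
    rw [Submodule.Quotient.nontrivial_iff, ← lt_top_iff_ne_top]
    refine lt_of_le_of_lt (b := (maximalIdeal R : Submodule R R)) ?_ ?_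
    · refine Submodule.smul_le.mpr fun r hr x _ => ?_
      rw [smul_eq_mul]
      exact Ideal.mul_mem_right _ _ (hle hr)
    · exact lt_top_iff_ne_top.mpr (Ideal.IsMaximal.ne_top inferInstance)
  have hreg' : RingTheory.Sequence.IsRegular R rs :=
    RingTheory.Sequence.IsRegular.of_isWeaklyRegular_of_mem_maximalIdeal R hmem hreg
  have hdim : Module.supportDim R (R ⧸ (Ideal.ofList rs • ⊤ : Submodule R R)) ≤
      ((0 : ℕ) : WithBot ℕ∞) := by
    have h1 := Module.supportDim_add_length_eq_supportDim_of_isRegular rs hreg'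
    rw [Module.supportDim_self_eq_ringKrullDim, hn, hlen] at h1
    exact withBot_enat_le_zero_of_add_eq h1
  have htors : IsTors (maximalIdeal R) (R ⧸ (Ideal.ofList rs • ⊤ : Submodule R R)) := by
    have hg := gam_eq_top_of_supportDim_le_zero (R ⧸ (Ideal.ofList rs • ⊤ : Submodule R R)) hdim
    intro m
    have : m ∈ gam (maximalIdeal R) (R ⧸ (Ideal.ofList rs • ⊤ : Submodule R R)) := by
      rw [hg]; trivial
    exact this
  obtain ⟨j, hj⟩ := htors.exists_pow_of_fg (maximalIdeal R) Module.Finite.fg_top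
  have hfl : IsFiniteLength R (R ⧸ (Ideal.ofList rs • ⊤ : Submodule R R)) :=
    isFiniteLength_of_pow_le_annihilator _ j (fun a ha => Module.mem_annihilator.mpr (hj a ha))
  refine ⟨hfl, hnt, ?_, ?_⟩
  · obtain ⟨e⟩ := nonempty_torsion_H_equiv (maximalIdeal R) rs R 0 n (by rw [hlen]; rfl)
      (fun l hl => H_subsingleton_of_lt_depth R n (depth_eq_of_CM hn) l hl) hreg
    exact ⟨e ≪≫ₗ htors.H0Equiv (maximalIdeal R)⟩
  · have hspan : Ideal.span {y | y ∈ rs} = (Ideal.ofList rs • ⊤ : Submodule R R) := by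
      change Ideal.ofList rs = Ideal.ofList rs • (⊤ : Ideal R)
      rw [smul_eq_mul, Ideal.mul_top]
    rw [Submodule.torsionBySet_eq_torsionBySet_span, hspan,
      ← (homQuotEquivTorsion (Ideal.ofList rs • ⊤ : Submodule R R) E).length_eq]
    exact Matlis.length_hom hf _ hfl

/-- vanishing of `Ext^i(k, R)` below the dimension -/
theorem ext_residueField_subsingleton_of_lt (hn : ringKrullDim R = n) (i : ℕ) (hi : i < n) :
    Subsingleton (Ext (ModuleCat.of R (ResidueField R)) (ModuleCat.of R R) i) :=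
  (Groth.Agent.Lead.Depth.le_idealDepth_iff_ext (maximalIdeal R) R
    (maximalIdeal_smul_top_ne_top (R := R) (M := R)) n).mp (depth_eq_of_CM hn).ge i hi

/-- regular sequences of maximal length deep inside the maximal ideal -/
theorem exists_regular_in_pow (hn : ringKrullDim R = n) (j : ℕ) :
    ∃ rs : List R, rs.length = n ∧ RingTheory.Sequence.IsWeaklyRegular R rs ∧
      ∀ r ∈ rs, r ∈ maximalIdeal R ^ (j + 1) := by
  have hle : maximalIdeal R ^ (j + 1) ≤ maximalIdeal R := Ideal.pow_le_self (Nat.succ_ne_zero j)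
  have htop : maximalIdeal R ^ (j + 1) • (⊤ : Submodule R R) ≠ ⊤ := by
    intro h
    apply maximalIdeal_smul_top_ne_top (R := R) (M := R)
    apply eq_top_iff.mpr
    calc (⊤ : Submodule R R) = maximalIdeal R ^ (j + 1) • (⊤ : Submodule R R) := h.symm
      _ ≤ maximalIdeal R • (⊤ : Submodule R R) := Submodule.smul_mono hle le_rfl
  have h1 : (n : ℕ∞) ≤ LocCoh.idealDepth (maximalIdeal R ^ (j + 1)) R := by
    rw [Groth.Agent.Lead.Depth.le_idealDepth_iff_ext _ R htop n]
    intro i hi
    exact ext_subsingleton_of_isFiniteLength _ i (ext_residueField_subsingleton_of_lt hn i hi)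
      (R ⧸ maximalIdeal R ^ (j + 1)) (Matlis.isFiniteLength_quotient_pow (j + 1))
  exact Groth.Agent.Lead.Depth.exists_of_le_idealDepth _ R htop n h1

/-- if `Ext^{n+1}(k, R) = 0` then `H^n_m(R)` is isomorphic to the injective hull of `k` -/
theorem nonempty_H_equiv_hull (hn : ringKrullDim R = n) (hf : InjHull.IsInjectiveHull f)
    (hhi : Subsingleton (Ext (ModuleCat.of R (ResidueField R)) (ModuleCat.of R R) (n + 1))) :
    Nonempty (H (maximalIdeal R) n R ≃ₗ[R] E) := by
  have htorsT : LocCoh.IsPowerTorsion (maximalIdeal R) (H (maximalIdeal R) n R) := fun x =>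
    H_exists_pow_smul_eq_zero (maximalIdeal R) n R x
  -- the socle is simple
  obtain ⟨rs, hlen, hreg, hmem'⟩ := exists_regular_in_pow hn 0
  have hmem : ∀ r ∈ rs, r ∈ maximalIdeal R := fun r hr => by
    have := hmem' r hr
    rwa [zero_add, pow_one] at this
  obtain ⟨hfl, hnt, ⟨e⟩, -⟩ := quotient_facts hn hf rs hlen hreg hmem
  have hsoc1 := length_torsion_quotient_eq_one hn hhi rs hlen hreg hmem hfl hnt
  have hsoc : IsSimpleModule R
      (Submodule.torsionBySet R (H (maximalIdeal R) n R) (maximalIdeal R : Set R)) := by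
    rw [← Module.length_eq_one_iff,
      (torsionTorsionEquiv (H (maximalIdeal R) n R) {y | y ∈ rs} (maximalIdeal R : Set R)
        (fun y hy => hmem y hy) ≪≫ₗ Uniq.torsionBySetCongr e _).length_eq]
    exact hsoc1
  obtain ⟨φ, hφ⟩ := exists_injective_of_simple_socle hf _ htorsT hsoc
  refine ⟨LinearEquiv.ofBijective φ ⟨hφ, ?_⟩⟩
  rw [← LinearMap.range_eq_top, eq_top_iff]
  intro y _
  obtain ⟨j, hj⟩ := Matlis.isPowerTorsion hf.toIsEssentialInj y
  obtain ⟨rs', hlen', hreg', hmem''⟩ := exists_regular_in_pow hn j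
  have hmemj : ∀ r ∈ rs', r ∈ maximalIdeal R := fun r hr => by
    have hle : maximalIdeal R ^ (j + 1) ≤ maximalIdeal R :=
      Ideal.pow_le_self (Nat.succ_ne_zero j)
    exact hle (hmem'' r hr)
  obtain ⟨hfl', -, ⟨e'⟩, hlenE⟩ := quotient_facts hn hf rs' hlen' hreg' hmemj
  have hy : y ∈ Submodule.torsionBySet R E {y | y ∈ rs'} := by
    rw [Submodule.mem_torsionBySet_iff]
    rintro ⟨a, ha⟩
    apply hj
    exact Ideal.pow_le_pow_right (Nat.le_succ j) (hmem'' a ha)
  refine torsion_le_range φ hφ {y | y ∈ rs'} ?_ ?_ hy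
  · rw [hlenE, e'.length_eq]
  · rw [e'.length_eq]
    exact Module.length_ne_top_iff.mpr hfl'

end Main

end Groth.Agent.Helper8.Gor
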