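import Groth.Agent.Lib.Helper8.Gor3

/-!
# Gorenstein local rings via the socle of top local cohomology (helper8)
-/

set_option autoImplicit false
universe u

namespace Groth.Agent.Helper8.Gor

open IsLocalRing CategoryTheory Abelian Groth.Agent.Helper8 Groth.Agent.Helper8.LC
  Groth.Agent.Helper8.Canon
open scoped Pointwise

section Count

variable {R : Type u} [CommRing R] [IsLocalRing R]

/-- `Hom(-, T)` into an injective module multiplies lengths of finite length modules by the
length of `Hom(k, T)` -/
theorem length_hom_eq_mul_of_injective (T : Type u) [AddCommGroup T] [Module R T]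
    [Module.Injective R T] (N : Type u) [AddCommGroup N] [Module R N] (hN : IsFiniteLength R N) :
    Module.length R (N →ₗ[R] T) =
      Module.length R N * Module.length R (ResidueField R →ₗ[R] T) := by
  induction hN with
  | of_subsingleton =>
    rw [Module.length_eq_zero, Module.length_eq_zero, zero_mul]
  | @of_simple_quotient M _ _ N' _ hN' ih =>
    obtain ⟨I, hI, ⟨e⟩⟩ := isSimpleModule_iff_quot_maximal.1
      (inferInstance : IsSimpleModule R (M ⧸ N'))
    obtain rfl : I = maximalIdeal R := IsLocalRing.eq_maximalIdeal hI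
    have e' : ((M ⧸ N') →ₗ[R] T) ≃ₗ[R] (ResidueField R →ₗ[R] T) :=
      LinearEquiv.arrowCongr e (LinearEquiv.refl R T)
    rw [Matlis.length_hom_eq_add N', ih, e'.length_eq,
      Module.length_eq_add_of_exact N'.subtype N'.mkQ N'.injective_subtype
        (Submodule.mkQ_surjective N') (LinearMap.exact_subtype_mkQ N'),
      Module.length_eq_one R (M ⧸ N'), add_mul, one_mul, add_comm]

end Count

section Main

variable {R : Type u} [CommRing R] [hCM : LocCoh.IsCohenMacaulayLocalRing R] {n : ℕ}
  {E : Type u} [AddCommGroup E] [Module R E] {f : ResidueField R →ₗ[R] E}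

/-- variant of `nonempty_H_equiv_hull` assuming the socle of `H^n_m(R)` is simple -/
theorem nonempty_H_equiv_hull_of_socle (hn : ringKrullDim R = n) (hf : InjHull.IsInjectiveHull f)
    (hsoc : IsSimpleModule R
      (Submodule.torsionBySet R (H (maximalIdeal R) n R) (maximalIdeal R : Set R))) :
    Nonempty (H (maximalIdeal R) n R ≃ₗ[R] E) := by
  have htorsT : LocCoh.IsPowerTorsion (maximalIdeal R) (H (maximalIdeal R) n R) := fun x =>
    H_exists_pow_smul_eq_zero (maximalIdeal R) n R x
  obtain ⟨φ, hφ⟩ := exists_injective_of_simple_socle hf _ htorsT hsoc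
  refine ⟨LinearEquiv.ofBijective φ ⟨hφ, ?_⟩⟩
  rw [← LinearMap.range_eq_top, eq_top_iff]
  intro y _
  obtain ⟨j, hj⟩ := Matlis.isPowerTorsion hf.toIsEssentialInj y
  obtain ⟨rs', hlen', hreg', hmem''⟩ := exists_regular_in_pow hn j
  have hmemj : ∀ r ∈ rs', r ∈ maximalIdeal R := fun r hr => by
    have hle : maximalIdeal R ^ (j + 1) ≤ maximalIdeal R :=
      Ideal.pow_le_self (Nat.succ_ne_zero j)
    exact hle (hmem'' r hr)
  obtain ⟨hfl', -, ⟨e'⟩, hlenE⟩ := quotient_facts hn hf rs' hlen' hreg' hmemj
  have hy : y ∈ Submodule.torsionBySet R E {y | y ∈ rs'} := by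
    rw [Submodule.mem_torsionBySet_iff]
    rintro ⟨a, ha⟩
    apply hj
    exact Ideal.pow_le_pow_right (Nat.le_succ j) (hmem'' a ha)
  refine torsion_le_range φ hφ {y | y ∈ rs'} ?_ ?_ hy
  · rw [hlenE, e'.length_eq]
  · rw [e'.length_eq]
    exact Module.length_ne_top_iff.mpr hfl'

/-- a Cohen–Macaulay local ring whose top local cohomology has simple socle is Gorenstein -/
theorem isGorenstein_of_socle (hn : ringKrullDim R = n)
    (hsoc : IsSimpleModule R
      (Submodule.torsionBySet R (H (maximalIdeal R) n R) (maximalIdeal R : Set R))) :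
    LocCoh.IsGorensteinLocalRing R := by
  obtain ⟨E, _, _, f, hf⟩ := Groth.Agent.Helper1.exists_injectiveHull (R := R) (ResidueField R)
  obtain ⟨e⟩ := nonempty_H_equiv_hull_of_socle hn hf hsoc
  have eK : (R →ₗ[R] E) ≃ₗ[R] H (maximalIdeal R) n R :=
    LinearMap.ringLmapEquivSelf R R E ≪≫ₗ e.symm
  exact { exists_hasInjectiveDimensionLT := ⟨n + 1, hasInjectiveDimensionLT_canon hn hf eK⟩ }

/-- if `H^n_m(R)` is injective then its socle is simple -/
theorem isSimpleModule_socle_of_injective (hn : ringKrullDim R = n)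
    (hinj : Module.Injective R (H (maximalIdeal R) n R)) :
    IsSimpleModule R
      (Submodule.torsionBySet R (H (maximalIdeal R) n R) (maximalIdeal R : Set R)) := by
  obtain ⟨E, _, _, f, hf⟩ := Groth.Agent.Helper1.exists_injectiveHull (R := R) (ResidueField R)
  obtain ⟨rs, hlen, hreg, hmem'⟩ := exists_regular_in_pow hn 0
  have hmem : ∀ r ∈ rs, r ∈ maximalIdeal R := fun r hr => by
    have := hmem' r hr
    rwa [zero_add, pow_one] at this
  obtain ⟨hfl, hnt, ⟨e⟩, -⟩ := quotient_facts hn hf rs hlen hreg hmem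
  have h1 := length_hom_eq_mul_of_injective (H (maximalIdeal R) n R)
    (R ⧸ (Ideal.ofList rs • ⊤ : Submodule R R)) hfl
  have hspan : Ideal.span {y | y ∈ rs} = (Ideal.ofList rs • ⊤ : Submodule R R) := by
    change Ideal.ofList rs = Ideal.ofList rs • (⊤ : Ideal R)
    rw [smul_eq_mul, Ideal.mul_top]
  have h2 : Module.length R ((R ⧸ (Ideal.ofList rs • ⊤ : Submodule R R)) →ₗ[R]
      H (maximalIdeal R) n R) = Module.length R (R ⧸ (Ideal.ofList rs • ⊤ : Submodule R R)) := by
    have htorsEq : Submodule.torsionBySet R (H (maximalIdeal R) n R)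
        ((Ideal.ofList rs • ⊤ : Submodule R R) : Set R) =
        Submodule.torsionBySet R (H (maximalIdeal R) n R) {y | y ∈ rs} := by
      rw [Submodule.torsionBySet_eq_torsionBySet_span {y | y ∈ rs}, hspan]
    rw [(homQuotEquivTorsion (Ideal.ofList rs • ⊤ : Submodule R R) _).length_eq, htorsEq,
      e.length_eq]
  rw [h2] at h1
  obtain ⟨a, ha⟩ := ENat.ne_top_iff_exists.mp (Module.length_ne_top_iff.mpr hfl)
  have ha0 : a ≠ 0 := by
    intro h0
    rw [h0] at ha
    have : Module.length R (R ⧸ (Ideal.ofList rs • ⊤ : Submodule R R)) = 0 := ha.symm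
    rw [Module.length_eq_zero_iff] at this
    exact not_subsingleton _ this
  rw [← ha] at h1
  have h3 := enat_eq_one_of_eq_mul ha0 h1
  rw [← Module.length_eq_one_iff, ← (homQuotEquivTorsion (maximalIdeal R) _).length_eq]
  exact h3

end Main

end Groth.Agent.Helper8.Gor
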