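import Groth.Agent.Lib.Helper8.FLD3

/-!
# Element-level API for `Dual2.HDI` (local cohomology of a complex as a filtered colimit) (helper8)
-/

set_option autoImplicit false

open CategoryTheory CategoryTheory.Limits Opposite

universe u

namespace Groth.Agent.Helper8.HDI

open DerivedCategory Groth.Agent.Helper8.FLD

attribute [local instance] HasDerivedCategory.standard

variable {A : Type u} [CommRing A]

noncomputable instance forgetPreservesSmallFiltered :
    PreservesFilteredColimitsOfSize.{0, 0} (forget (ModuleCat.{u + 1} A)) := by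
  have h1 : PreservesFilteredColimitsOfSize.{0, 0} (forget AddCommGrpCat.{u + 1}) :=
    preservesSmallestFilteredColimits_of_preservesFilteredColimits _
  have h2 : PreservesFilteredColimitsOfSize.{0, 0}
      (forget₂ (ModuleCat.{u + 1} A) AddCommGrpCat.{u + 1}) := by
    constructor
    intro J _ _
    infer_instance
  exact Limits.comp_preservesFilteredColimits
    (forget₂ (ModuleCat.{u + 1} A) AddCommGrpCat.{u + 1}) (forget AddCommGrpCat.{u + 1})

variable (I : Ideal A) (K : Dual.D A) (i : ℤ)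

/-- the diagram whose colimit is `HDI` -/
noncomputable abbrev diag : (ℕᵒᵖ)ᵒᵖ ⥤ ModuleCat.{u + 1} A :=
  (localCohomology.ringModIdeals (localCohomology.idealPowersDiagram I) ⋙
      DerivedCategory.singleFunctor (ModuleCat.{u} A) 0).op ⋙
    (linearYoneda A (Dual.D A)).obj (K⟦i⟧)

/-- the transition map `A/I^m → A/I^n` for `n ≤ m` -/
def tr {n m : ℕ} (h : n ≤ m) : (A ⧸ I ^ m) →ₗ[A] (A ⧸ I ^ n) :=
  Submodule.mapQ _ _ LinearMap.id (Ideal.pow_le_pow_right h)

@[simp] theorem tr_mk {n m : ℕ} (h : n ≤ m) (a : A) :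
    tr I h (Ideal.Quotient.mk (I ^ m) a) = Ideal.Quotient.mk (I ^ n) a := rfl

theorem tr_surjective {n m : ℕ} (h : n ≤ m) : Function.Surjective (tr I h) := by
  intro x
  obtain ⟨a, rfl⟩ := Ideal.Quotient.mk_surjective x
  exact ⟨Ideal.Quotient.mk (I ^ m) a, rfl⟩

/-- the legs of the colimit cocone -/
noncomputable def leg (n : ℕ) : (Dual.inD A (A ⧸ I ^ n) ⟶ K⟦i⟧) →ₗ[A] Dual2.HDI A I K i :=
  (colimit.ι (diag I K i) (op (op n))).hom

theorem leg_tr {n m : ℕ} (h : n ≤ m) (t : Dual.inD A (A ⧸ I ^ n) ⟶ K⟦i⟧) :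
    leg I K i m (inDMap (tr I h) ≫ t) = leg I K i n t := by
  have hw := colimit.w (diag I K i) ((homOfLE h).op.op)
  exact congrArg (fun φ => φ.hom t) hw

theorem exists_rep (y : Dual2.HDI A I K i) :
    ∃ (n : ℕ) (t : Dual.inD A (A ⧸ I ^ n) ⟶ K⟦i⟧), leg I K i n t = y := by
  obtain ⟨⟨⟨n⟩⟩, t, ht⟩ := Concrete.isColimit_exists_rep _ (colimit.isColimit (diag I K i)) y
  exact ⟨n, t, ht⟩

theorem leg_eq_zero (n : ℕ) (t : Dual.inD A (A ⧸ I ^ n) ⟶ K⟦i⟧) (ht : leg I K i n t = 0) :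
    ∃ (m : ℕ) (h : n ≤ m), inDMap (tr I h) ≫ t = 0 := by
  have h0 : (colimit.ι (diag I K i) (op (op n))) t =
      (colimit.ι (diag I K i) (op (op n))) (0 : Dual.inD A (A ⧸ I ^ n) ⟶ K⟦i⟧) :=
    ht.trans (map_zero (leg I K i n)).symm
  obtain ⟨⟨⟨m⟩⟩, f, g, hfg⟩ :=
    Concrete.isColimit_exists_of_rep_eq _ (colimit.isColimit (diag I K i)) _ _ h0
  have hle : n ≤ m := leOfHom f.unop.unop
  refine ⟨m, hle, ?_⟩
  have hz : ((diag I K i).map g).hom (0 : Dual.inD A (A ⧸ I ^ n) ⟶ K⟦i⟧) = 0 := map_zero _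
  exact hfg.trans hz

end Groth.Agent.Helper8.HDI
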