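import Mathlib
import Groth.Prelude.Def_CAlg
import Groth.Prelude.Def_W4c5grrsingularflatDSeq
import Groth.Agent.Lib.Helper9.Depth3
import Groth.Agent.Lib.Helper9.Depth4
import Groth.Agent.Lib.Helper26.SopExt2

/-!
# Primes of small deviation in Cohen–Macaulay local rings are generated by d-sequences (helper8)

Let `T` be a Cohen–Macaulay local ring and `p` a prime with `μ(p) ≤ ht p + 1` and `T_p` regular.
By prime avoidance we choose a regular sequence `t₁, …, t_h ∈ p` (`h = ht p`) which is part of a
minimal system of generators of `p` and generates `p T_p`; then either `p = (t)` or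
`p = (t, z)`, and the resulting list is a d-sequence.
-/

set_option autoImplicit false

universe u

namespace Groth.Agent.Helper8.DSeq

open IsLocalRing RingTheory.Sequence

section Exchange

variable {R : Type u} [CommRing R] [IsLocalRing R]

/-- `P` is generated by `I` together with at most `k` further elements -/
def Gen (P I : Ideal R) (k : ℕ) : Prop :=
  ∃ s : Finset R, s.card ≤ k ∧ P = I ⊔ Ideal.span (s : Set R)

/-- **exchange lemma** -/
theorem gen_exchange (P I : Ideal R) (hIP : I ≤ P) (k : ℕ) (h : Gen P I k) (t : R) (htP : t ∈ P)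
    (ht : t ∉ I ⊔ maximalIdeal R • P) : 1 ≤ k ∧ Gen P (I ⊔ Ideal.span {t}) (k - 1) := by
  classical
  obtain ⟨s, hs, hP⟩ := h
  have hsP : Ideal.span (s : Set R) ≤ P := by
    rw [hP]
    exact le_sup_right
  have htmem : t ∈ I ⊔ Ideal.span (s : Set R) := by
    rw [← hP]
    exact htP
  obtain ⟨a, ha, b, hb, hab⟩ := Submodule.mem_sup.mp htmem
  obtain ⟨f, -, hf⟩ := Submodule.mem_span_finset.mp hb
  -- some coefficient is a unit
  have hex : ∃ y0 ∈ s, f y0 ∉ maximalIdeal R := by
    by_contra hcon
    push Not at hcon
    apply ht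
    rw [← hab, ← hf]
    refine Submodule.add_mem_sup ha ?_
    refine Submodule.sum_mem _ (fun y hy => ?_)
    exact Submodule.smul_mem_smul (hcon y hy) (hsP (Ideal.subset_span hy))
  obtain ⟨y0, hy0, hu⟩ := hex
  have hunit : IsUnit (f y0) := by
    by_contra hnu
    exact hu ((IsLocalRing.mem_maximalIdeal _).mpr hnu)
  have hcard : (s.erase y0).card = s.card - 1 := Finset.card_erase_of_mem hy0
  have hpos : 1 ≤ s.card := Finset.card_pos.mpr ⟨y0, hy0⟩
  refine ⟨hpos.trans hs, s.erase y0, by rw [hcard]; omega, ?_⟩
  apply le_antisymm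
  · rw [hP]
    refine sup_le (le_sup_left.trans le_sup_left) ?_
    rw [Ideal.span_le]
    intro y hy
    by_cases hyy : y = y0
    · -- `y0` is recovered from `t`
      subst hyy
      have hsplit := Finset.add_sum_erase s (fun x => f x • x) hy0
      have h1 : f y * y = t - a - ∑ x ∈ s.erase y, f x • x := by
        have h2 : t = a + (f y • y + ∑ x ∈ s.erase y, f x • x) := by
          rw [hsplit, hf, hab]
        rw [h2, smul_eq_mul]
        ring
      have h3 : f y * y ∈ I ⊔ Ideal.span {t} ⊔ Ideal.span ((s.erase y : Finset R) : Set R) := by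
        rw [h1]
        refine Ideal.sub_mem _ (Ideal.sub_mem _ ?_ ?_) ?_
        · exact Ideal.mem_sup_left (Ideal.mem_sup_right (Ideal.mem_span_singleton_self t))
        · exact Ideal.mem_sup_left (Ideal.mem_sup_left ha)
        · refine Ideal.mem_sup_right (Submodule.sum_mem _ (fun x hx => ?_))
          exact Submodule.smul_mem _ _ (Ideal.subset_span hx)
      exact (Ideal.unit_mul_mem_iff_mem _ hunit).mp h3
    · exact Ideal.mem_sup_right (Ideal.subset_span (Finset.mem_erase.mpr ⟨hyy, hy⟩))
  · refine sup_le (sup_le hIP ?_) ?_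
    · rw [Ideal.span_singleton_le_iff_mem]
      exact htP
    · refine le_trans (Ideal.span_mono ?_) hsP
      intro x hx
      exact Finset.mem_of_mem_erase hx

/-- lists whose members are successively independent modulo `𝔪 P` -/
inductive Indep (P : Ideal R) : List R → Prop
  | nil : Indep P []
  | snoc (ts : List R) (t : R) : Indep P ts → t ∈ P →
      t ∉ Ideal.ofList ts ⊔ maximalIdeal R • P → Indep P (ts ++ [t])

theorem Indep.mem {P : Ideal R} {ts : List R} (h : Indep P ts) : ∀ t ∈ ts, t ∈ P := by
  induction h with
  | nil => intro t ht; simp at ht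
  | snoc ts t _ htP _ ih =>
    intro x hx
    rcases List.mem_append.mp hx with hx | hx
    · exact ih x hx
    · rw [List.mem_singleton.mp hx]
      exact htP

theorem ofList_le_of_mem {P : Ideal R} {ts : List R} (h : ∀ t ∈ ts, t ∈ P) :
    Ideal.ofList ts ≤ P := by
  rw [Ideal.span_le]
  intro x hx
  exact h x hx

/-- an independent list can be completed to a system of generators of minimal size -/
theorem gen_of_indep (P : Ideal R) (ts : List R) (hind : Indep P ts) :
    ∀ k : ℕ, Gen P ⊥ k → ts.length ≤ k ∧ Gen P (Ideal.ofList ts) (k - ts.length) := by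
  induction hind with
  | nil =>
    intro k hk
    refine ⟨Nat.zero_le _, ?_⟩
    rw [Ideal.ofList_nil]
    simpa using hk
  | snoc ts t hts htP ht ih =>
    intro k hk
    obtain ⟨h1, h2⟩ := ih k hk
    obtain ⟨h3, h4⟩ := gen_exchange P (Ideal.ofList ts) (ofList_le_of_mem hts.mem) _ h2 t htP ht
    refine ⟨?_, ?_⟩
    · rw [List.length_append, List.length_singleton]
      omega
    · rw [Ideal.ofList_append, Ideal.ofList_singleton, List.length_append, List.length_singleton]
      have : k - (ts.length + 1) = k - ts.length - 1 := by omega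
      rw [this]
      exact h4

theorem gen_bot_of_span (P : Ideal R) (s : Finset R) (hs : Ideal.span (s : Set R) = P) :
    Gen P ⊥ s.card := ⟨s, le_rfl, by rw [hs, bot_sup_eq]⟩

theorem eq_of_gen_zero (P I : Ideal R) (h : Gen P I 0) : P = I := by
  obtain ⟨s, hs, hP⟩ := h
  have : s = ∅ := Finset.card_eq_zero.mp (Nat.le_zero.mp hs)
  rw [this] at hP
  simpa using hP

end Exchange

section CM

variable {T : Type u} [CommRing T] [IsLocalRing T] [IsNoetherianRing T]

/-- in a Cohen–Macaulay local ring, an element of the maximal ideal avoiding the minimal primes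
of an ideal generated by a regular sequence is regular modulo that ideal -/
theorem isSMulRegular_quot_of_notMem (hCM : LocCoh.IsCohenMacaulayModule T T) (ts : List T)
    (hts : ∀ t ∈ ts, t ∈ maximalIdeal T) (hreg : IsWeaklyRegular T ts) (z : T)
    (hz : z ∈ maximalIdeal T) (hmin : ∀ P ∈ (Ideal.ofList ts).minimalPrimes, z ∉ P) :
    IsSMulRegular (T ⧸ (Ideal.ofList ts • ⊤ : Submodule T T)) z := by
  have hN := (Groth.Agent.Helper9.Depth.cm_list ts T hCM hts).2 hreg
  have hdim := Module.supportDim_quotSMulTop_succ_eq_of_notMem_minimalPrimes_of_mem_maximalIdeal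
    (M := T ⧸ (Ideal.ofList ts • ⊤ : Submodule T T)) (x := z)
    (by rw [Groth.Agent.Lib.Helper26.SopExt2.annihilator_quot]; exact hmin) hz
  exact Groth.Agent.Helper9.Depth.isSMulRegular_of_supportDim_drop hN hz hdim

omit [IsLocalRing T] [IsNoetherianRing T] in
/-- membership modulo `J • ⊤` -/
theorem mem_of_regular (J : Ideal T) (w a : T)
    (hw : IsSMulRegular (T ⧸ (J • ⊤ : Submodule T T)) w) (h : w * a ∈ J) : a ∈ J := by
  have htop : (J • ⊤ : Submodule T T) = J := by simp
  have h1 : w • (Submodule.Quotient.mk a : T ⧸ (J • ⊤ : Submodule T T)) = w • 0 := by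
    rw [smul_zero, ← Submodule.Quotient.mk_smul, Submodule.Quotient.mk_eq_zero, htop]
    exact h
  have h2 := hw h1
  rw [Submodule.Quotient.mk_eq_zero, htop] at h2
  exact h2

omit [IsLocalRing T] [IsNoetherianRing T] in
/-- the colon condition at a regular element -/
theorem colon_eq_of_regular (J : Ideal T) (x y : T)
    (hx : IsSMulRegular (T ⧸ (J • ⊤ : Submodule T T)) x) :
    J.colon {y * x} = J.colon {y} := by
  ext r
  rw [Submodule.mem_colon_singleton, Submodule.mem_colon_singleton, smul_eq_mul, smul_eq_mul]
  constructor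
  · intro h
    refine mem_of_regular J x (r * y) hx ?_
    have : x * (r * y) = r * (y * x) := by ring
    rw [this]
    exact h
  · intro h
    have : r * (y * x) = x * (r * y) := by ring
    rw [this]
    exact Ideal.mul_mem_left _ _ h

/-- **the special colon condition** at the last element -/
theorem colon_sq (hCM : LocCoh.IsCohenMacaulayModule T T) (ts : List T)
    (hts : ∀ t ∈ ts, t ∈ maximalIdeal T) (hreg : IsWeaklyRegular T ts) (p : Ideal T)
    [hp : p.IsPrime] (hht : p.height = (ts.length : ℕ∞)) (z : T)
    (hpz : p = Ideal.ofList ts ⊔ Ideal.span {z}) (s : T) (hs : s ∉ p)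
    (hsz : s * z ∈ Ideal.ofList ts) :
    (Ideal.ofList ts).colon {z * z} = (Ideal.ofList ts).colon {z} := by
  classical
  ext r
  rw [Submodule.mem_colon_singleton, Submodule.mem_colon_singleton, smul_eq_mul, smul_eq_mul]
  constructor
  · intro h
    set J := Ideal.ofList ts with hJ
    set a := r * z with ha
    have haz : z * a ∈ J := by
      have : z * a = r * (z * z) := by rw [ha]; ring
      rw [this]
      exact h
    have has : s * a ∈ J := by
      have : s * a = r * (s * z) := by rw [ha]; ring
      rw [this]
      exact Ideal.mul_mem_left _ _ hsz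
    let I' : Ideal T := J ⊔ Ideal.span {s} ⊔ Ideal.span {z}
    have hI'a : ∀ w ∈ I', w * a ∈ J := by
      intro w hw
      obtain ⟨w1, hw1, w2, hw2, rfl⟩ := Submodule.mem_sup.mp hw
      obtain ⟨j, hj, w3, hw3, rfl⟩ := Submodule.mem_sup.mp hw1
      obtain ⟨c, rfl⟩ := Ideal.mem_span_singleton'.mp hw3
      obtain ⟨d, rfl⟩ := Ideal.mem_span_singleton'.mp hw2
      have : (j + c * s + d * z) * a = j * a + c * (s * a) + d * (z * a) := by ring
      rw [this]
      exact Ideal.add_mem _ (Ideal.add_mem _ (Ideal.mul_mem_right _ _ hj)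
        (Ideal.mul_mem_left _ _ has)) (Ideal.mul_mem_left _ _ haz)
    have hfin : (J.minimalPrimes).Finite := Ideal.finite_minimalPrimes_of_isNoetherianRing T J
    have hnot : ∀ P ∈ J.minimalPrimes, ¬ I' ≤ P := by
      intro P hP hle
      haveI := hP.1.1
      have hJP : J ≤ P := hP.1.2
      have hzP : z ∈ P := hle (Ideal.mem_sup_right (Ideal.mem_span_singleton_self z))
      have hsP : s ∈ P :=
        hle (Ideal.mem_sup_left (Ideal.mem_sup_right (Ideal.mem_span_singleton_self s)))
      have hpP : p ≤ P := by
        rw [hpz]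
        exact sup_le hJP ((Ideal.span_singleton_le_iff_mem _).mpr hzP)
      have hPht : P.height ≤ (ts.length : ℕ∞) :=
        Groth.Agent.Lib.Helper26.SopExt2.height_le_length_of_mem_minimalPrimes ts hP
      have hPeq : p = P := by
        by_contra hne
        have hlt : p < P := lt_of_le_of_ne hpP hne
        have := Ideal.height_strict_mono_of_isPrime hlt
        rw [hht] at this
        exact absurd (lt_of_lt_of_le this hPht) (lt_irrefl _)
      exact hs (hPeq ▸ hsP)
    have hex : ∃ w ∈ I', ∀ P ∈ J.minimalPrimes, w ∉ P := by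
      by_contra hcon
      push Not at hcon
      have hsub : ((I' : Ideal T) : Set T) ⊆
          ⋃ i ∈ ((hfin.toFinset : Finset (Ideal T)) : Set (Ideal T)), ((id i : Ideal T) : Set T) := by
        intro w hw
        obtain ⟨P, hP, hwP⟩ := hcon w hw
        simp only [Set.mem_iUnion, Finset.mem_coe, id]
        exact ⟨P, by simpa using hP, hwP⟩
      have hprime : ∀ i ∈ hfin.toFinset, i ≠ ⊥ → i ≠ ⊥ → (id i : Ideal T).IsPrime := by
        intro i hi _ _
        simp only [Set.Finite.mem_toFinset] at hi
        exact hi.1.1
      obtain ⟨P, hP, hle⟩ :=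
        (Ideal.subset_union_prime (s := hfin.toFinset) (f := id) ⊥ ⊥ hprime).mp hsub
      simp only [Set.Finite.mem_toFinset] at hP
      exact hnot P hP hle
    obtain ⟨w, hwI', hwP⟩ := hex
    have hwa : w * a ∈ J := hI'a w hwI'
    by_cases hwm : w ∈ maximalIdeal T
    · exact mem_of_regular J w a (isSMulRegular_quot_of_notMem hCM ts hts hreg w hwm hwP) hwa
    · have hunit : IsUnit w := by
        by_contra hnu
        exact hwm ((IsLocalRing.mem_maximalIdeal _).mpr hnu)
      exact (Ideal.unit_mul_mem_iff_mem _ hunit).mp hwa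
  · intro h
    have : r * (z * z) = z * (r * z) := by ring
    rw [this]
    exact Ideal.mul_mem_left _ _ h

end CM

section Select

variable {T : Type u} [CommRing T] [IsLocalRing T] [IsNoetherianRing T]

/-- **the selection** by prime avoidance -/
theorem exists_seq (hCM : LocCoh.IsCohenMacaulayModule T T) (p : Ideal T) [hp : p.IsPrime]
    (h : ℕ) (hh : p.height = (h : ℕ∞)) :
    ∀ i ≤ h, ∃ ts : List T, ts.length = i ∧ IsWeaklyRegular T ts ∧ Indep p ts ∧
      Indep (maximalIdeal (Localization.AtPrime p))
        (ts.map (algebraMap T (Localization.AtPrime p))) := by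
  classical
  haveI : IsNoetherianRing (Localization.AtPrime p) :=
    IsLocalization.isNoetherianRing p.primeCompl _ inferInstance
  have hpm : p ≤ maximalIdeal T := IsLocalRing.le_maximalIdeal hp.ne_top
  have hnht : (maximalIdeal (Localization.AtPrime p)).height = (h : ℕ∞) := by
    have h1 := IsLocalization.AtPrime.ringKrullDim_eq_height p (Localization.AtPrime p)
    have h2 := IsLocalRing.maximalIdeal_height_eq_ringKrullDim (R := Localization.AtPrime p)
    rw [h1] at h2
    rw [← hh]
    exact_mod_cast h2
  intro i
  induction i with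
  | zero =>
    intro _
    exact ⟨[], rfl, IsWeaklyRegular.nil T T, Indep.nil, by simpa using Indep.nil⟩
  | succ i ih =>
    intro hi
    obtain ⟨ts, hlen, hreg, hind, hindS⟩ := ih (by omega)
    set J := Ideal.ofList ts with hJ
    set S := Localization.AtPrime p with hS
    have hJp : J ≤ p := ofList_le_of_mem hind.mem
    have hfin : (J.minimalPrimes).Finite := Ideal.finite_minimalPrimes_of_isNoetherianRing T J
    let 𝔞 : Ideal T := J ⊔ maximalIdeal T • p
    let 𝔟 : Ideal T := (J.map (algebraMap T S) ⊔ maximalIdeal S • maximalIdeal S).comap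
      (algebraMap T S)
    have hex : ∃ t ∈ p, t ∉ 𝔞 ∧ t ∉ 𝔟 ∧ ∀ P ∈ J.minimalPrimes, t ∉ P := by
      by_contra hcon
      push Not at hcon
      have hsub : ((p : Ideal T) : Set T) ⊆ ((id 𝔞 : Ideal T) : Set T) ∪ ((id 𝔟 : Ideal T) : Set T) ∪
          ⋃ i ∈ ((hfin.toFinset : Finset (Ideal T)) : Set (Ideal T)), ((id i : Ideal T) : Set T) := by
        intro t ht
        by_cases h1 : t ∈ 𝔞
        · exact Or.inl (Or.inl h1)
        by_cases h2 : t ∈ 𝔟
        · exact Or.inl (Or.inr h2)
        obtain ⟨P, hP, htP⟩ := hcon t ht h1 h2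
        refine Or.inr ?_
        simp only [Set.mem_iUnion, Finset.mem_coe, id]
        exact ⟨P, by simpa using hP, htP⟩
      have hprime : ∀ i ∈ hfin.toFinset, (id i : Ideal T).IsPrime := by
        intro i hi
        simp only [Set.Finite.mem_toFinset] at hi
        exact hi.1.1
      rcases (Ideal.subset_union_prime' (s := hfin.toFinset) (f := id) (a := 𝔞) (b := 𝔟)
        hprime).mp hsub with h1 | h1 | ⟨P, hP, h1⟩
      · -- `p ≤ J + 𝔪 p`
        have h2 : p ≤ J := by
          refine Submodule.le_of_le_smul_of_le_jacobson_bot (I := maximalIdeal T)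
            (IsNoetherian.noetherian p) ?_ h1
          rw [IsLocalRing.jacobson_eq_maximalIdeal ⊥ bot_ne_top]
        have h3 : J = p := le_antisymm hJp h2
        have h4 : p ∈ J.minimalPrimes := by
          rw [h3, Ideal.minimalPrimes_eq_subsingleton_self]
          exact Set.mem_singleton p
        have h5 := Groth.Agent.Lib.Helper26.SopExt2.height_le_length_of_mem_minimalPrimes ts h4
        rw [hh, hlen] at h5
        have h6 : h ≤ i := by exact_mod_cast h5
        omega
      · -- `p ≤ 𝔟`
        have h2 : maximalIdeal S ≤ J.map (algebraMap T S) ⊔ maximalIdeal S • maximalIdeal S := by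
          have h1' : p ≤ (J.map (algebraMap T S) ⊔ maximalIdeal S • maximalIdeal S).comap
              (algebraMap T S) := h1
          have h1'' := Ideal.map_le_iff_le_comap.mpr h1'
          rwa [Localization.AtPrime.map_eq_maximalIdeal] at h1''
        have h3 : maximalIdeal S ≤ J.map (algebraMap T S) := by
          refine Submodule.le_of_le_smul_of_le_jacobson_bot (I := maximalIdeal S)
            (IsNoetherian.noetherian _) ?_ h2
          rw [IsLocalRing.jacobson_eq_maximalIdeal ⊥ bot_ne_top]
        have h4 : J.map (algebraMap T S) = maximalIdeal S := by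
          refine le_antisymm ?_ h3
          rw [← Localization.AtPrime.map_eq_maximalIdeal]
          exact Ideal.map_mono hJp
        have h5 : maximalIdeal S ∈ (Ideal.ofList (ts.map (algebraMap T S))).minimalPrimes := by
          rw [← Ideal.map_ofList, h4, Ideal.minimalPrimes_eq_subsingleton_self]
          exact Set.mem_singleton _
        have h6 := Groth.Agent.Lib.Helper26.SopExt2.height_le_length_of_mem_minimalPrimes _ h5
        rw [hnht, List.length_map, hlen] at h6
        have h7 : h ≤ i := by exact_mod_cast h6
        omega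
      · simp only [Set.Finite.mem_toFinset] at hP
        have h2 := Groth.Agent.Lib.Helper26.SopExt2.height_le_length_of_mem_minimalPrimes ts hP
        have h3 := Ideal.height_mono h1
        rw [hh] at h3
        rw [hlen] at h2
        have h4 : h ≤ i := by exact_mod_cast h3.trans h2
        omega
    obtain ⟨t, htp, hta, htb, htP⟩ := hex
    have htsm : ∀ x ∈ ts, x ∈ maximalIdeal T := fun x hx => hpm (hind.mem x hx)
    refine ⟨ts ++ [t], by rw [List.length_append, List.length_singleton, hlen], ?_,
      Indep.snoc ts t hind htp hta, ?_⟩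
    · refine (isWeaklyRegular_append_iff T ts [t]).mpr ⟨hreg, ?_⟩
      refine (isWeaklyRegular_singleton_iff _ t).mpr ?_
      exact isSMulRegular_quot_of_notMem hCM ts htsm hreg t (hpm htp) htP
    · rw [List.map_append, List.map_singleton]
      refine Indep.snoc _ _ hindS ?_ ?_
      · rw [← Localization.AtPrime.map_eq_maximalIdeal]
        exact Ideal.mem_map_of_mem _ htp
      · intro hmem
        apply htb
        rw [← Ideal.map_ofList] at hmem
        exact hmem

end Select

section Main

variable {T : Type u} [CommRing T]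

omit [CommRing T] in
theorem card_image_others_le (ds : List T) (i : Fin ds.length) [DecidableEq T] :
    (Finset.univ.image
      (fun j : {j : Fin ds.length // j ≠ i} => ds[(j : Fin ds.length)])).card ≤ ds.length - 1 := by
  refine le_trans Finset.card_image_le ?_
  rw [Finset.card_univ, Fintype.card_subtype_compl, Fintype.card_fin]
  simp

/-- no member of an independent generating list lies in the ideal of the others -/
theorem not_mem_span_others [IsLocalRing T] (p : Ideal T) (ds : List T) (hind : Indep p ds)
    (hp : Ideal.ofList ds = p) (i : Fin ds.length) :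
    ds[i] ∉ Ideal.span (Set.range fun j : {j : Fin ds.length // j ≠ i} =>
      ds[(j : Fin ds.length)]) := by
  classical
  intro hmem
  set 𝔬 := Ideal.span (Set.range fun j : {j : Fin ds.length // j ≠ i} =>
      ds[(j : Fin ds.length)]) with h𝔬
  have h1 : Ideal.ofList ds ≤ 𝔬 := by
    rw [Ideal.span_le]
    intro x hx
    obtain ⟨j, hj⟩ := List.mem_iff_get.mp hx
    by_cases hji : j = i
    · have : x = ds[i] := by subst hji; rw [← hj]; rfl
      rw [this]
      exact hmem
    · have : x = ds[(j : Fin ds.length)] := by rw [← hj]; rfl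
      rw [this]
      exact Ideal.subset_span ⟨⟨j, hji⟩, rfl⟩
  have h2 : 𝔬 ≤ Ideal.ofList ds := by
    rw [Ideal.span_le]
    rintro x ⟨j, rfl⟩
    exact Ideal.subset_span (List.getElem_mem _)
  have h3 : 𝔬 = p := by rw [← hp]; exact le_antisymm h2 h1
  let s : Finset T := Finset.univ.image
      (fun j : {j : Fin ds.length // j ≠ i} => ds[(j : Fin ds.length)])
  have hs : Ideal.span (s : Set T) = p := by
    rw [← h3, h𝔬]
    congr 1
    ext x
    simp [s]
  have hgen : Gen p ⊥ (ds.length - 1) := by
    obtain ⟨s', hs', hP⟩ := gen_bot_of_span p s hs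
    exact ⟨s', hs'.trans (card_image_others_le ds i), hP⟩
  have h4 := (gen_of_indep p ds hind _ hgen).1
  have h5 : 0 < ds.length := Fin.pos i
  omega

end Main

end Groth.Agent.Helper8.DSeq
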