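import Groth.Agent.Lib.Helper8.HDSeq1

/-!
# Primes of small deviation are generated by d-sequences: the main theorem (helper8)
-/

set_option autoImplicit false

universe u

namespace Groth.Agent.Helper8.DSeq

open IsLocalRing RingTheory.Sequence

theorem colon_eq_at {T : Type u} [CommRing T] (ts : List T) (hreg : IsWeaklyRegular T ts) (i : ℕ)
    (hi : i < ts.length) (y : T) :
    (Ideal.ofList (ts.take i)).colon {y * ts[i]} = (Ideal.ofList (ts.take i)).colon {y} :=
  colon_eq_of_regular _ _ _ (hreg.regular_mod_prev i hi)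

/-- **main theorem** -/
theorem main {T : Type u} [CommRing T] [hT : LocCoh.IsCohenMacaulayLocalRing T] (p : Ideal T)
    [hp : p.IsPrime] (hgen : (Submodule.spanFinrank p : ℕ∞) ≤ p.height + 1)
    [hreg : IsRegularLocalRing (Localization.AtPrime p)] :
    ∃ ts : List T, Ideal.ofList ts = p ∧ W4c5grrsingularflat.IsDSeq ts := by
  classical
  haveI : IsNoetherianRing T := inferInstance
  haveI : IsLocalRing T := inferInstance
  have hCM : LocCoh.IsCohenMacaulayModule T T := hT.supportDim_eq_depth
  obtain ⟨h, hh⟩ : ∃ h : ℕ, p.height = (h : ℕ∞) := by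
    have h2 : p.height ≠ ⊤ := Ideal.height_ne_top_of_isPrime
    obtain ⟨d, hd⟩ := ENat.ne_top_iff_exists.mp h2
    exact ⟨d, hd.symm⟩
  obtain ⟨ts, hlen, hwreg, hind, hindS⟩ := exists_seq hCM p h hh h le_rfl
  haveI : IsNoetherianRing (Localization.AtPrime p) :=
    IsLocalization.isNoetherianRing p.primeCompl _ inferInstance
  have hJp : Ideal.ofList ts ≤ p := ofList_le_of_mem hind.mem
  have hpm : p ≤ maximalIdeal T := IsLocalRing.le_maximalIdeal hp.ne_top
  have htsm : ∀ x ∈ ts, x ∈ maximalIdeal T := fun x hx => hpm (hind.mem x hx)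
  -- in the localization
  have hnS : maximalIdeal (Localization.AtPrime p) =
      (Ideal.ofList ts).map (algebraMap T (Localization.AtPrime p)) := by
    obtain ⟨s, hs1, hs2⟩ := Submodule.FG.exists_span_finset_card_eq_spanFinrank
      (IsNoetherian.noetherian (maximalIdeal (Localization.AtPrime p)))
    have hμS : (maximalIdeal (Localization.AtPrime p)).spanFinrank = h := by
      have h1 := (isRegularLocalRing_iff (Localization.AtPrime p)).mp hreg
      have h2 := IsLocalization.AtPrime.ringKrullDim_eq_height p (Localization.AtPrime p)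
      rw [h2, hh] at h1
      exact_mod_cast h1
    have hg : Gen (maximalIdeal (Localization.AtPrime p)) ⊥ h := by
      rw [← hμS, ← hs1]
      exact gen_bot_of_span _ s hs2
    have h3 := (gen_of_indep _ _ hindS h hg).2
    rw [List.length_map, hlen, Nat.sub_self] at h3
    rw [eq_of_gen_zero _ _ h3, Ideal.map_ofList]
  -- in `T`
  obtain ⟨s, hs1, hs2⟩ := Submodule.FG.exists_span_finset_card_eq_spanFinrank
    (IsNoetherian.noetherian p)
  have hg : Gen p ⊥ p.spanFinrank := by
    rw [← hs1]
    exact gen_bot_of_span p s hs2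
  obtain ⟨hle, hgJ⟩ := gen_of_indep p ts hind _ hg
  have hμ : p.spanFinrank ≤ h + 1 := by
    rw [hh] at hgen
    exact_mod_cast hgen
  rw [hlen] at hle hgJ
  by_cases hA : p ≤ Ideal.ofList ts ⊔ maximalIdeal T • p
  · -- `p = (ts)`
    have h2 : p ≤ Ideal.ofList ts := by
      refine Submodule.le_of_le_smul_of_le_jacobson_bot (I := maximalIdeal T)
        (IsNoetherian.noetherian p) ?_ hA
      rw [IsLocalRing.jacobson_eq_maximalIdeal ⊥ bot_ne_top]
    have hJeq : Ideal.ofList ts = p := le_antisymm hJp h2
    refine ⟨ts, hJeq, fun i => not_mem_span_others p ts hind hJeq i, ?_⟩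
    intro i k hk hik
    exact colon_eq_at ts hwreg i (lt_of_le_of_lt hik hk) ts[k]
  · -- `p = (ts, z)`
    obtain ⟨z, hzp, hzn⟩ := SetLike.not_le_iff_exists.mp hA
    obtain ⟨h1, h2⟩ := gen_exchange p (Ideal.ofList ts) hJp _ hgJ z hzp hzn
    have h3 : p.spanFinrank - h - 1 = 0 := by omega
    rw [h3] at h2
    have hpz : p = Ideal.ofList ts ⊔ Ideal.span {z} := eq_of_gen_zero _ _ h2
    have hds : Ideal.ofList (ts ++ [z]) = p := by
      rw [Ideal.ofList_append, Ideal.ofList_singleton, ← hpz]
    have hindz : Indep p (ts ++ [z]) := Indep.snoc ts z hind hzp hzn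
    -- the element `s`
    obtain ⟨s0, hs0, hs0z⟩ : ∃ s0 : T, s0 ∉ p ∧ s0 * z ∈ Ideal.ofList ts := by
      have hz1 : algebraMap T (Localization.AtPrime p) z ∈
          (Ideal.ofList ts).map (algebraMap T (Localization.AtPrime p)) := by
        rw [← hnS, ← Localization.AtPrime.map_eq_maximalIdeal]
        exact Ideal.mem_map_of_mem _ hzp
      obtain ⟨⟨j, s'⟩, hjs⟩ := (IsLocalization.mem_map_algebraMap_iff p.primeCompl _).mp hz1
      simp only at hjs
      rw [← map_mul, IsLocalization.eq_iff_exists p.primeCompl] at hjs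
      obtain ⟨s'', hs''⟩ := hjs
      refine ⟨(s'' : T) * (s' : T), ?_, ?_⟩
      · intro hmem
        rcases hp.mem_or_mem hmem with hmem | hmem
        · exact s''.2 hmem
        · exact s'.2 hmem
      · have : (s'' : T) * (s' : T) * z = (s'' : T) * (j : T) := by
          rw [← hs'']
          ring
        rw [this]
        exact Ideal.mul_mem_left _ _ j.2
    refine ⟨ts ++ [z], hds, fun i => not_mem_span_others p (ts ++ [z]) hindz hds i, ?_⟩
    intro i k hk hik
    have hlen' : (ts ++ [z]).length = ts.length + 1 := by simp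
    by_cases hi : i < ts.length
    · have e1 : (ts ++ [z]).take i = ts.take i := List.take_append_of_le_length (le_of_lt hi)
      have e2 : (ts ++ [z])[i]'(Nat.lt_of_le_of_lt hik hk) = ts[i] := List.getElem_append_left hi
      rw [e1, e2]
      exact colon_eq_at ts hwreg i hi _
    · have hi' : i = ts.length := by omega
      have hk' : k = ts.length := by omega
      subst hi'
      subst hk'
      have e1 : (ts ++ [z]).take ts.length = ts := List.take_left' rfl
      have e2 : (ts ++ [z])[ts.length]'(Nat.lt_of_le_of_lt hik hk) = z := by simp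
      rw [e1, e2]
      exact colon_sq hCM ts htsm hwreg p (by rw [hh, hlen]) z hpz s0 hs0 hs0z

end Groth.Agent.Helper8.DSeq
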