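import Groth.Agent.Lib.Helper8.RMod7

/-!
# Local duality, part 1: the functor `𝓗(Y) = colim_n Hom(A/I^n[0], Y)` on `D(A)` (helper8)
-/

set_option autoImplicit false

open CategoryTheory CategoryTheory.Limits Opposite Pretriangulated

universe u

namespace Groth.Agent.Helper8.LD

open DerivedCategory Groth.Agent.Helper8.FLD Groth.Agent.Helper8.HDI

attribute [local instance] HasDerivedCategory.standard

variable {A : Type u} [CommRing A] (I : Ideal A)

/-- the diagram whose colimit is `𝓗(Y)` -/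
noncomputable abbrev diagY (Y : Dual.D A) : (ℕᵒᵖ)ᵒᵖ ⥤ ModuleCat.{u + 1} A :=
  (localCohomology.ringModIdeals (localCohomology.idealPowersDiagram I) ⋙
      DerivedCategory.singleFunctor (ModuleCat.{u} A) 0).op ⋙
    (linearYoneda A (Dual.D A)).obj Y

/-- `𝓗_I(Y) = colim_n Hom(A/I^n[0], Y)`; `Dual2.HDI A I K i` is `HH I (K⟦i⟧)` -/
noncomputable abbrev HH (Y : Dual.D A) : ModuleCat.{u + 1} A := colimit (diagY I Y)

theorem HDI_eq (K : Dual.D A) (i : ℤ) : Dual2.HDI A I K i = HH I (K⟦i⟧) := rfl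

variable (Y : Dual.D A)

/-- the legs of the colimit cocone -/
noncomputable def legY (n : ℕ) : (Dual.inD A (A ⧸ I ^ n) ⟶ Y) →ₗ[A] HH I Y :=
  (colimit.ι (diagY I Y) (op (op n))).hom

theorem legY_tr {n m : ℕ} (h : n ≤ m) (t : Dual.inD A (A ⧸ I ^ n) ⟶ Y) :
    legY I Y m (inDMap (tr I h) ≫ t) = legY I Y n t := by
  have hw := colimit.w (diagY I Y) ((homOfLE h).op.op)
  exact congrArg (fun φ => φ.hom t) hw

theorem exists_repY (y : HH I Y) :
    ∃ (n : ℕ) (t : Dual.inD A (A ⧸ I ^ n) ⟶ Y), legY I Y n t = y := by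
  obtain ⟨⟨⟨n⟩⟩, t, ht⟩ := Concrete.isColimit_exists_rep _ (colimit.isColimit (diagY I Y)) y
  exact ⟨n, t, ht⟩

theorem legY_eq_zero (n : ℕ) (t : Dual.inD A (A ⧸ I ^ n) ⟶ Y) (ht : legY I Y n t = 0) :
    ∃ (m : ℕ) (h : n ≤ m), inDMap (tr I h) ≫ t = 0 := by
  have h0 : (colimit.ι (diagY I Y) (op (op n))) t =
      (colimit.ι (diagY I Y) (op (op n))) (0 : Dual.inD A (A ⧸ I ^ n) ⟶ Y) :=
    ht.trans (map_zero (legY I Y n)).symm
  obtain ⟨⟨⟨m⟩⟩, f, g, hfg⟩ :=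
    Concrete.isColimit_exists_of_rep_eq _ (colimit.isColimit (diagY I Y)) _ _ h0
  have hle : n ≤ m := leOfHom f.unop.unop
  refine ⟨m, hle, ?_⟩
  have hz : ((diagY I Y).map g).hom (0 : Dual.inD A (A ⧸ I ^ n) ⟶ Y) = 0 := map_zero _
  exact hfg.trans hz

theorem smul_legY_eq_zero (n : ℕ) (t : Dual.inD A (A ⧸ I ^ n) ⟶ Y) (a : A) (ha : a ∈ I ^ n) :
    a • legY I Y n t = 0 := by
  rw [← map_smul, Groth.Agent.Helper8.BiDual.smul_hom_single_eq_zero a (killed_quot _ a ha) t,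
    map_zero]

variable {Y}

/-- functoriality of `𝓗` -/
noncomputable def HHmap {Y Y' : Dual.D A} (g : Y ⟶ Y') : HH I Y →ₗ[A] HH I Y' :=
  (colimMap (Functor.whiskerLeft _ ((linearYoneda A (Dual.D A)).map g))).hom

theorem HHmap_legY {Y Y' : Dual.D A} (g : Y ⟶ Y') (n : ℕ) (t : Dual.inD A (A ⧸ I ^ n) ⟶ Y) :
    HHmap I g (legY I Y n t) = legY I Y' n (t ≫ g) := by
  have h := ι_colimMap (Functor.whiskerLeft (localCohomology.ringModIdeals
    (localCohomology.idealPowersDiagram I) ⋙ DerivedCategory.singleFunctor (ModuleCat.{u} A) 0).op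
    ((linearYoneda A (Dual.D A)).map g)) (op (op n))
  exact congrArg (fun φ => φ.hom t) h

theorem HHmap_id (Y : Dual.D A) : HHmap I (𝟙 Y) = LinearMap.id := by
  ext y
  obtain ⟨n, t, rfl⟩ := exists_repY I Y y
  rw [HHmap_legY, Category.comp_id]
  rfl

theorem HHmap_comp {Y Y' Y'' : Dual.D A} (g : Y ⟶ Y') (g' : Y' ⟶ Y'') :
    HHmap I (g ≫ g') = HHmap I g' ∘ₗ HHmap I g := by
  ext y
  obtain ⟨n, t, rfl⟩ := exists_repY I Y y
  rw [LinearMap.comp_apply, HHmap_legY, HHmap_legY, HHmap_legY, Category.assoc]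

theorem HHmap_comp_apply {Y Y' Y'' : Dual.D A} (g : Y ⟶ Y') (g' : Y' ⟶ Y'') (y : HH I Y) :
    HHmap I (g ≫ g') y = HHmap I g' (HHmap I g y) := by
  rw [HHmap_comp]
  rfl

theorem HHmap_zero (Y Y' : Dual.D A) : HHmap I (0 : Y ⟶ Y') = 0 := by
  ext y
  obtain ⟨n, t, rfl⟩ := exists_repY I Y y
  rw [HHmap_legY, comp_zero, map_zero]
  rfl

theorem HHmap_add {Y Y' : Dual.D A} (g g' : Y ⟶ Y') :
    HHmap I (g + g') = HHmap I g + HHmap I g' := by
  ext y
  obtain ⟨n, t, rfl⟩ := exists_repY I Y y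
  rw [LinearMap.add_apply, HHmap_legY, HHmap_legY, HHmap_legY, Preadditive.comp_add, map_add]

theorem HHmap_smul {Y Y' : Dual.D A} (a : A) (g : Y ⟶ Y') :
    HHmap I (a • g) = a • HHmap I g := by
  ext y
  obtain ⟨n, t, rfl⟩ := exists_repY I Y y
  rw [LinearMap.smul_apply, HHmap_legY, HHmap_legY, Linear.comp_smul, map_smul]

theorem HHmap_neg {Y Y' : Dual.D A} (g : Y ⟶ Y') : HHmap I (-g) = -HHmap I g := by
  have h := HHmap_add I g (-g)
  rw [add_neg_cancel, HHmap_zero] at h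
  exact eq_neg_of_add_eq_zero_right h.symm

/-- `𝓗` is homological -/
theorem HH_exact (T : Triangle (Dual.D A)) (hT : T ∈ distTriang (Dual.D A)) :
    Function.Exact (HHmap I T.mor₁) (HHmap I T.mor₂) := by
  intro y
  constructor
  · intro hy
    obtain ⟨n, t, rfl⟩ := exists_repY I _ y
    rw [HHmap_legY] at hy
    obtain ⟨k, hk, h0⟩ := legY_eq_zero I _ n _ hy
    rw [← Category.assoc] at h0
    obtain ⟨ζ, hζ⟩ := Triangle.coyoneda_exact₂ T hT _ h0
    refine ⟨legY I _ k ζ, ?_⟩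
    rw [HHmap_legY, ← hζ, legY_tr]
  · rintro ⟨z, rfl⟩
    rw [← HHmap_comp_apply, comp_distTriang_mor_zero₁₂ T hT, HHmap_zero]
    rfl

theorem HHmap_bijective_of_isIso {Y Y' : Dual.D A} (g : Y ⟶ Y') [IsIso g] :
    Function.Bijective (HHmap I g) := by
  constructor
  · intro y y' h
    have h1 := congrArg (HHmap I (inv g)) h
    rwa [← HHmap_comp_apply, ← HHmap_comp_apply, IsIso.hom_inv_id, HHmap_id] at h1
  · intro y
    refine ⟨HHmap I (inv g) y, ?_⟩
    rw [← HHmap_comp_apply, IsIso.inv_hom_id, HHmap_id]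
    rfl

end Groth.Agent.Helper8.LD
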