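import Groth.Agent.Lib.Helper8.HTd4
import Groth.Agent.Lib.Helper8.LD1

/-!
# The functor `𝓗_T(Y) = colim_{V(J) ⊆ T} Hom(A/J[0], Y)` on `D(A)` (helper8)

Port of `LD1` to the diagram of ideals with zero locus in `T`; `Dual2.HDT A T K i = HH T (K⟦i⟧)`.
-/

set_option autoImplicit false

open CategoryTheory CategoryTheory.Limits Opposite Pretriangulated

universe u

namespace Groth.Agent.Helper8.HDT

open DerivedCategory Groth.Agent.Helper8.FLD Groth.Agent.Helper8.HTd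

attribute [local instance] HasDerivedCategory.standard

variable {A : Type u} [CommRing A] (T : Set (PrimeSpectrum A))

noncomputable instance forgetPreservesFiltered :
    PreservesFilteredColimitsOfSize.{u, u} (forget (ModuleCat.{u + 1} A)) := by
  have h1 : PreservesFilteredColimitsOfSize.{u, u} (forget AddCommGrpCat.{u + 1}) :=
    preservesFilteredColimitsOfSize_shrink.{u, u + 1, u, u + 1} _
  have h2 : PreservesFilteredColimitsOfSize.{u, u}
      (forget₂ (ModuleCat.{u + 1} A) AddCommGrpCat.{u + 1}) := by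
    constructor
    intro J _ _
    infer_instance
  exact Limits.comp_preservesFilteredColimits
    (forget₂ (ModuleCat.{u + 1} A) AddCommGrpCat.{u + 1}) (forget AddCommGrpCat.{u + 1})

/-- the diagram whose colimit is `𝓗_T(Y)` -/
noncomputable abbrev diagY (Y : Dual.D A) : (Dual2.IdealsIn T)ᵒᵖ ⥤ ModuleCat.{u + 1} A :=
  (localCohomology.ringModIdeals (Dual2.idealsInDiagram T) ⋙
      DerivedCategory.singleFunctor (ModuleCat.{u} A) 0).op ⋙
    (linearYoneda A (Dual.D A)).obj Y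

/-- `𝓗_T(Y)`; `Dual2.HDT A T K i` is `HH T (K⟦i⟧)` -/
noncomputable abbrev HH (Y : Dual.D A) : ModuleCat.{u + 1} A := colimit (diagY T Y)

theorem HDT_eq (K : Dual.D A) (i : ℤ) : Dual2.HDT A T K i = HH T (K⟦i⟧) := rfl

/-- the transition map `A/J → A/J'` for `J ≤ J'` -/
def tr {J J' : Ideal A} (h : J ≤ J') : (A ⧸ J) →ₗ[A] (A ⧸ J') :=
  Submodule.mapQ _ _ LinearMap.id h

variable (Y : Dual.D A)

/-- the legs of the colimit cocone -/
noncomputable def legY (t : Dual2.IdealsIn T) : (Dual.inD A (A ⧸ t.obj) ⟶ Y) →ₗ[A] HH T Y :=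
  (colimit.ι (diagY T Y) (op t)).hom

theorem legY_tr {s t : Dual2.IdealsIn T} (h : s.obj ≤ t.obj) (φ : Dual.inD A (A ⧸ t.obj) ⟶ Y) :
    legY T Y s (inDMap (tr h) ≫ φ) = legY T Y t φ := by
  have hw := colimit.w (diagY T Y) (homOfLE' T h).op
  exact congrArg (fun ψ => ψ.hom φ) hw

theorem exists_repY (y : HH T Y) :
    ∃ (t : Dual2.IdealsIn T) (φ : Dual.inD A (A ⧸ t.obj) ⟶ Y), legY T Y t φ = y := by
  obtain ⟨⟨t⟩, φ, hφ⟩ := Concrete.isColimit_exists_rep _ (colimit.isColimit (diagY T Y)) y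
  exact ⟨t, φ, hφ⟩

theorem legY_eq_zero (t : Dual2.IdealsIn T) (φ : Dual.inD A (A ⧸ t.obj) ⟶ Y)
    (hφ : legY T Y t φ = 0) :
    ∃ (s : Dual2.IdealsIn T) (h : s.obj ≤ t.obj), inDMap (tr h) ≫ φ = 0 := by
  have h0 : (colimit.ι (diagY T Y) (op t)) φ =
      (colimit.ι (diagY T Y) (op t)) (0 : Dual.inD A (A ⧸ t.obj) ⟶ Y) :=
    hφ.trans (map_zero (legY T Y t)).symm
  obtain ⟨⟨s⟩, f, g, hfg⟩ :=
    Concrete.isColimit_exists_of_rep_eq _ (colimit.isColimit (diagY T Y)) _ _ h0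
  have hle : s.obj ≤ t.obj := le_of_hom' T f.unop
  refine ⟨s, hle, ?_⟩
  have hz : ((diagY T Y).map g).hom (0 : Dual.inD A (A ⧸ t.obj) ⟶ Y) = 0 := map_zero _
  have hf : f = (homOfLE' T hle).op := by
    apply Quiver.Hom.unop_inj
    exact Subsingleton.elim _ _
  rw [hf] at hfg
  exact hfg.trans hz

theorem smul_legY_eq_zero (t : Dual2.IdealsIn T) (φ : Dual.inD A (A ⧸ t.obj) ⟶ Y) (a : A)
    (ha : a ∈ t.obj) : a • legY T Y t φ = 0 := by
  rw [← map_smul, Groth.Agent.Helper8.BiDual.smul_hom_single_eq_zero a (killed_quot _ a ha) φ,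
    map_zero]

/-- every element of `𝓗_T(Y)` is killed by an ideal with zero locus in `T` -/
theorem exists_ideal_kill (y : HH T Y) :
    ∃ J : Ideal A, PrimeSpectrum.zeroLocus (J : Set A) ⊆ T ∧ ∀ a ∈ J, a • y = 0 := by
  obtain ⟨t, φ, rfl⟩ := exists_repY T Y y
  exact ⟨t.obj, t.property, fun a ha => smul_legY_eq_zero T Y t φ a ha⟩

variable {Y}

/-- functoriality of `𝓗_T` -/
noncomputable def HHmap {Y Y' : Dual.D A} (g : Y ⟶ Y') : HH T Y →ₗ[A] HH T Y' :=
  (colimMap (Functor.whiskerLeft _ ((linearYoneda A (Dual.D A)).map g))).hom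

theorem HHmap_legY {Y Y' : Dual.D A} (g : Y ⟶ Y') (t : Dual2.IdealsIn T)
    (φ : Dual.inD A (A ⧸ t.obj) ⟶ Y) :
    HHmap T g (legY T Y t φ) = legY T Y' t (φ ≫ g) := by
  have h := ι_colimMap (Functor.whiskerLeft (localCohomology.ringModIdeals
    (Dual2.idealsInDiagram T) ⋙ DerivedCategory.singleFunctor (ModuleCat.{u} A) 0).op
    ((linearYoneda A (Dual.D A)).map g)) (op t)
  exact congrArg (fun ψ => ψ.hom φ) h

theorem HHmap_id (Y : Dual.D A) : HHmap T (𝟙 Y) = LinearMap.id := by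
  ext y
  obtain ⟨t, φ, rfl⟩ := exists_repY T Y y
  rw [HHmap_legY, Category.comp_id]
  rfl

theorem HHmap_comp {Y Y' Y'' : Dual.D A} (g : Y ⟶ Y') (g' : Y' ⟶ Y'') :
    HHmap T (g ≫ g') = HHmap T g' ∘ₗ HHmap T g := by
  ext y
  obtain ⟨t, φ, rfl⟩ := exists_repY T Y y
  rw [LinearMap.comp_apply, HHmap_legY, HHmap_legY, HHmap_legY, Category.assoc]

theorem HHmap_comp_apply {Y Y' Y'' : Dual.D A} (g : Y ⟶ Y') (g' : Y' ⟶ Y'') (y : HH T Y) :
    HHmap T (g ≫ g') y = HHmap T g' (HHmap T g y) := by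
  rw [HHmap_comp]
  rfl

theorem HHmap_zero (Y Y' : Dual.D A) : HHmap T (0 : Y ⟶ Y') = 0 := by
  ext y
  obtain ⟨t, φ, rfl⟩ := exists_repY T Y y
  rw [HHmap_legY, comp_zero, map_zero]
  rfl

theorem HHmap_smul {Y Y' : Dual.D A} (a : A) (g : Y ⟶ Y') :
    HHmap T (a • g) = a • HHmap T g := by
  ext y
  obtain ⟨t, φ, rfl⟩ := exists_repY T Y y
  rw [LinearMap.smul_apply, HHmap_legY, HHmap_legY, Linear.comp_smul, map_smul]

/-- `𝓗_T` is homological -/
theorem HH_exact (Tr : Triangle (Dual.D A)) (hT : Tr ∈ distTriang (Dual.D A)) :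
    Function.Exact (HHmap T Tr.mor₁) (HHmap T Tr.mor₂) := by
  intro y
  constructor
  · intro hy
    obtain ⟨t, φ, rfl⟩ := exists_repY T _ y
    rw [HHmap_legY] at hy
    obtain ⟨s, hs, h0⟩ := legY_eq_zero T _ t _ hy
    rw [← Category.assoc] at h0
    obtain ⟨ζ, hζ⟩ := Triangle.coyoneda_exact₂ Tr hT _ h0
    refine ⟨legY T _ s ζ, ?_⟩
    rw [HHmap_legY, ← hζ, legY_tr]
  · rintro ⟨z, rfl⟩
    rw [← HHmap_comp_apply, comp_distTriang_mor_zero₁₂ Tr hT, HHmap_zero]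
    rfl

theorem HHmap_bijective_of_isIso {Y Y' : Dual.D A} (g : Y ⟶ Y') [IsIso g] :
    Function.Bijective (HHmap T g) := by
  constructor
  · intro y y' h
    have h1 := congrArg (HHmap T (inv g)) h
    rwa [← HHmap_comp_apply, ← HHmap_comp_apply, IsIso.hom_inv_id, HHmap_id] at h1
  · intro y
    refine ⟨HHmap T (inv g) y, ?_⟩
    rw [← HHmap_comp_apply, IsIso.inv_hom_id, HHmap_id]
    rfl

/-- an iso `Y ≅ Y'` gives a linear equivalence on `𝓗_T` -/
noncomputable def HHcongr {Y Y' : Dual.D A} (e : Y ≅ Y') : HH T Y ≃ₗ[A] HH T Y' :=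
  LinearEquiv.ofBijective (HHmap T e.hom) (HHmap_bijective_of_isIso T e.hom)

/-- if `a • 𝟙 Y = 0` then `a` kills `𝓗_T(Y)` -/
theorem smul_HH_eq_zero {Y : Dual.D A} (a : A) (ha : a • 𝟙 Y = 0) (y : HH T Y) : a • y = 0 := by
  have h1 : HHmap T (a • 𝟙 Y) y = a • y := by
    rw [HHmap_smul, HHmap_id]
    rfl
  rw [← h1, ha, HHmap_zero]
  rfl

end Groth.Agent.Helper8.HDT
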