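import Groth.Agent.Lib.Helper8.HTd4

/-!
# Finiteness of `H^i_T(M)` for `i ≤ n` iff annihilation by an ideal with zero locus in `T` (helper8)
-/

open CategoryTheory CategoryTheory.Limits Opposite Abelian Pointwise
universe u

namespace Groth.Agent.Helper8.HTd

open Groth.Agent.Helper8.LC (IsSES isSES_subtype_mkQ isSES_smul)

variable {A : Type u} [CommRing A] [IsNoetherianRing A] (T : Set (PrimeSpectrum A))

/-- modules killed by an ideal with zero locus in `T` are acyclic for `H_T` -/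
theorem H_subsingleton_of_kill (i : ℕ) (hi : 0 < i) (N : Type u) [AddCommGroup N] [Module A N]
    (J₀ : Ideal A) (hJ₀ : PrimeSpectrum.zeroLocus (J₀ : Set A) ⊆ T)
    (hk : ∀ a ∈ J₀, ∀ x : N, a • x = 0) : Subsingleton (H (ID T) i N) := by
  refine ⟨fun x y => ?_⟩
  have h0 : ∀ z : H (ID T) i N, z = 0 := by
    intro z
    obtain ⟨t, ξ, rfl⟩ := exists_rep (ID T) i (ModuleCat.of A N) z
    -- the ideal `𝔞 = t ⊓ J₀`
    let 𝔞 : Ideal A := t.obj ⊓ J₀
    have h𝔞 : PrimeSpectrum.zeroLocus (𝔞 : Set A) ⊆ T := zeroLocus_inf_subset T t.property hJ₀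
    have htors : Groth.Agent.Helper8.LC.IsTors 𝔞 N := fun n =>
      ⟨1, fun a ha => hk a (by rw [pow_one] at ha; exact ha.2) n⟩
    have hsub : Subsingleton (Groth.Agent.Helper8.LC.H 𝔞 i N) :=
      Groth.Agent.Helper8.LC.IsTors.H_subsingleton 𝔞 i hi N htors
    have hle1 : 𝔞 ^ 1 ≤ t.obj := by rw [pow_one]; exact inf_le_left
    let g : Groth.Agent.Helper8.LC.RmodPow 𝔞 1 ⟶ Rmod (ID T) t :=
      ModuleCat.ofHom (Submodule.mapQ (𝔞 ^ 1) t.obj LinearMap.id hle1)
    let ζ : Abelian.Ext (Groth.Agent.Helper8.LC.RmodPow 𝔞 1) (ModuleCat.of A N) i :=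
      (Abelian.Ext.mk₀ g).comp ξ (zero_add i)
    have hζ : Groth.Agent.Helper8.LC.ι 𝔞 i (ModuleCat.of A N) 1 ζ = 0 := Subsingleton.elim _ _
    obtain ⟨m, hm, hz⟩ := (Groth.Agent.Helper8.LC.ι_eq_zero_iff 𝔞 i (ModuleCat.of A N) 1 ζ).mp hζ
    have hm0 : m ≠ 0 := by omega
    have hs : PrimeSpectrum.zeroLocus ((𝔞 ^ m : Ideal A) : Set A) ⊆ T := by
      rw [PrimeSpectrum.zeroLocus_pow _ hm0]
      exact h𝔞
    let s : Dual2.IdealsIn T := mkI T (𝔞 ^ m) hs
    have hst : s.obj ≤ t.obj := (Ideal.pow_le_self hm0).trans inf_le_left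
    let f : s ⟶ t := homOfLE' T hst
    have htr : trans (ID T) f = Groth.Agent.Helper8.LC.trans 𝔞 hm ≫ g := by
      apply ModuleCat.hom_ext
      apply LinearMap.ext
      intro y
      obtain ⟨y, rfl⟩ := Submodule.Quotient.mk_surjective _ y
      rfl
    have key : (Abelian.Ext.mk₀ (trans (ID T) f)).comp ξ (zero_add i) =
        (Abelian.Ext.mk₀ (Groth.Agent.Helper8.LC.trans 𝔞 hm)).comp ζ (zero_add i) := by
      show _ = (Abelian.Ext.mk₀ (Groth.Agent.Helper8.LC.trans 𝔞 hm)).comp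
        ((Abelian.Ext.mk₀ g).comp ξ (zero_add i)) (zero_add i)
      rw [← Ext.comp_assoc (Ext.mk₀ (Groth.Agent.Helper8.LC.trans 𝔞 hm)) (Ext.mk₀ g) ξ
        (zero_add 0) (zero_add i) (by omega), Ext.mk₀_comp_mk₀]
      exact congrArg (fun φ => (Abelian.Ext.mk₀ φ).comp ξ (zero_add i)) htr
    rw [ι_eq_zero_iff]
    exact ⟨s, f, key.trans hz⟩
  rw [h0 x, h0 y]

/-- the hard direction -/
theorem finite_H_of_kill (hT : StableUnderSpecialization T) :
    ∀ (n : ℕ) (M : Type u) [AddCommGroup M] [Module A M] [Module.Finite A M],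
    (∃ J : Ideal A, PrimeSpectrum.zeroLocus (J : Set A) ⊆ T ∧
      ∀ i : ℕ, i ≤ n → ∀ a ∈ J, ∀ x : H (ID T) i M, a • x = 0) →
    ∀ i : ℕ, i ≤ n → Module.Finite A (H (ID T) i M) := by
  intro n
  induction n with
  | zero =>
    intro M _ _ _ _ i hi
    obtain rfl : i = 0 := by omega
    exact finite_H_zero T M
  | succ n ih =>
    intro M _ _ _ hM i hi
    obtain ⟨J, hJ, hkill⟩ := hM
    rcases Nat.eq_zero_or_pos i with rfl | hpos
    · exact finite_H_zero T M
    -- pass to `M' = M / Γ_T(M)`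
    obtain ⟨J₀, hJ₀, hk₀⟩ := exists_ideal_kill_gamT T M
    have hses := isSES_subtype_mkQ (gamT T M)
    have hG : ∀ j : ℕ, 0 < j → Subsingleton (H (ID T) j (gamT T M)) := fun j hj =>
      H_subsingleton_of_kill T j hj (gamT T M) J₀ hJ₀
        (fun a ha x => Subtype.ext (hk₀ a ha x.1 x.2))
    -- `J` kills `H^j(M')` for `j ≤ n + 1`
    have hM' : ∀ j : ℕ, j ≤ n + 1 → ∀ a ∈ J, ∀ z : H (ID T) j (M ⧸ gamT T M), a • z = 0 := by
      intro j hj a ha z
      have hsub := hG (j + 1) (by omega)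
      have h1 : Hδ (ID T) j hses z = 0 := Subsingleton.elim _ _
      obtain ⟨w, rfl⟩ := (exact_Hmap_δ (ID T) j hses z).mp h1
      rw [← map_smul, hkill j hj a ha w, map_zero]
    suffices hsuff : Module.Finite A (H (ID T) i (M ⧸ gamT T M)) by
      have hsub := hG i hpos
      have hinj : Function.Injective (Hmap (ID T) i (gamT T M).mkQ) := by
        rw [injective_iff_map_eq_zero]
        intro x hx
        obtain ⟨v, rfl⟩ := (exact_Hmap (ID T) i hses x).mp hx
        rw [Subsingleton.elim v 0, map_zero]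
      have : IsNoetherian A (H (ID T) i (M ⧸ gamT T M)) :=
        isNoetherian_of_isNoetherianRing_of_finite A _
      exact Module.Finite.of_injective _ hinj
    -- a regular element
    obtain ⟨r, hrJ, hr⟩ := exists_regular_of_gamT_eq_bot T (M ⧸ gamT T M) hT
      (gamT_quotient_gamT T M) J hJ
    have hsesr := isSES_smul (M ⧸ gamT T M) hr
    -- the quotient `N = M' / r M'`
    have hN : ∃ J' : Ideal A, PrimeSpectrum.zeroLocus (J' : Set A) ⊆ T ∧
        ∀ j : ℕ, j ≤ n → ∀ a ∈ J', ∀ x : H (ID T) j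
          ((M ⧸ gamT T M) ⧸ r • (⊤ : Submodule A (M ⧸ gamT T M))), a • x = 0 := by
      refine ⟨J * J, zeroLocus_mul_subset T hJ hJ, fun j hj c hc x => ?_⟩
      refine Submodule.mul_induction_on hc ?_ ?_
      · intro a ha b hb
        have h1 : Hδ (ID T) j hsesr (b • x) = 0 := by
          rw [map_smul]
          exact hM' (j + 1) (by omega) b hb _
        obtain ⟨w, hw⟩ := (exact_Hmap_δ (ID T) j hsesr (b • x)).mp h1
        rw [mul_smul, ← hw, ← map_smul, hM' j (by omega) a ha w, map_zero]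
      · intro c c' h h'
        rw [add_smul, h, h', add_zero]
    have hNfin := ih _ hN
    obtain ⟨j, rfl⟩ : ∃ j, i = j + 1 := ⟨i - 1, by omega⟩
    have hsurj : Function.Surjective (Hδ (ID T) j hsesr) := by
      intro y
      have h1 : Hmap (ID T) (j + 1)
          (r • (LinearMap.id : (M ⧸ gamT T M) →ₗ[A] (M ⧸ gamT T M))) y = 0 := by
        rw [Hmap_smul_id]
        exact hM' (j + 1) hi r hrJ y
      exact (exact_δ_Hmap (ID T) j hsesr y).mp h1
    have := hNfin j (by omega)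
    exact Module.Finite.of_surjective _ hsurj

/-- finiteness of `H^i_T(M)`, `i ≤ n`, iff annihilation by an ideal with zero locus in `T` -/
theorem finite_H_iff_exists_kill (hT : StableUnderSpecialization T) (M : Type u) [AddCommGroup M]
    [Module A M] [Module.Finite A M] (n : ℕ) :
    (∀ i : ℕ, i ≤ n → Module.Finite A (H (ID T) i M)) ↔
      ∃ J : Ideal A, PrimeSpectrum.zeroLocus (J : Set A) ⊆ T ∧
        ∀ i : ℕ, i ≤ n → ∀ a ∈ J, ∀ x : H (ID T) i M, a • x = 0 := by
  constructor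
  · intro h
    have hex : ∀ j : ℕ, ∃ J : Ideal A, PrimeSpectrum.zeroLocus (J : Set A) ⊆ T ∧
        (j ≤ n → ∀ a ∈ J, ∀ x : H (ID T) j M, a • x = 0) := by
      intro j
      by_cases hj : j ≤ n
      · obtain ⟨J, hJ, hk⟩ := exists_ideal_kill_of_fg (T := T) (N := H (ID T) j M) (fun x => by
          obtain ⟨t, ht⟩ := exists_smul_eq_zero (ID T) j x
          exact ⟨t.obj, t.property, ht⟩) (h j hj).fg_top
        exact ⟨J, hJ, fun _ => hk⟩
      · exact ⟨⊤, by simp, fun h => absurd h hj⟩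
    choose Jf hJf hkf using hex
    have key : ∀ m : ℕ, ∃ J : Ideal A, PrimeSpectrum.zeroLocus (J : Set A) ⊆ T ∧
        ∀ j : ℕ, j < m → J ≤ Jf j := by
      intro m
      induction m with
      | zero => exact ⟨⊤, by simp, fun j hj => absurd hj (by omega)⟩
      | succ m ihm =>
        obtain ⟨J, hJ, hle⟩ := ihm
        refine ⟨J ⊓ Jf m, zeroLocus_inf_subset T hJ (hJf m), fun j hj => ?_⟩
        rcases Nat.lt_succ_iff_lt_or_eq.mp hj with hj | rfl
        · exact inf_le_left.trans (hle j hj)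
        · exact inf_le_right
    obtain ⟨J, hJ, hle⟩ := key (n + 1)
    exact ⟨J, hJ, fun i hi a ha x => hkf i hi a (hle i (by omega) ha) x⟩
  · intro h
    exact finite_H_of_kill T hT n M h

end Groth.Agent.Helper8.HTd
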