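import Groth.Agent.Lib.Helper8.LD3
import Groth.Agent.Lib.Helper8.LCNoeth

/-!
# Local duality, part 4: the bridge `H^i_I(M) ≃ 𝓗(M[0]⟦i⟧)` (helper8)
-/

set_option autoImplicit false

open CategoryTheory CategoryTheory.Limits Opposite Pretriangulated

universe u

namespace Groth.Agent.Helper8.LD

open DerivedCategory Groth.Agent.Helper8.FLD Groth.Agent.Helper8.HDI

attribute [local instance] HasDerivedCategory.standard

variable {A : Type u} [CommRing A] (I : Ideal A) (i : ℕ)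
  (M : Type u) [AddCommGroup M] [Module A M]

/-- `Ext^i(A/I^n, M) ≃ Hom(A/I^n[0], M[0]⟦i⟧)` -/
noncomputable def extHom (n : ℕ) :
    Abelian.Ext (Groth.Agent.Helper8.LC.RmodPow I n) (ModuleCat.of A M) i ≃ₗ[A]
      (Dual.inD A (A ⧸ I ^ n) ⟶ (Dual.inD A M)⟦(i : ℤ)⟧) :=
  Abelian.Ext.homLinearEquiv

theorem extHom_trans {n m : ℕ} (h : n ≤ m)
    (x : Abelian.Ext (Groth.Agent.Helper8.LC.RmodPow I n) (ModuleCat.of A M) i) :
    extHom I i M m ((Abelian.Ext.mk₀ (Groth.Agent.Helper8.LC.trans I h)).comp x (zero_add i)) =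
      inDMap (tr I h) ≫ extHom I i M n x := by
  show ((Abelian.Ext.mk₀ (Groth.Agent.Helper8.LC.trans I h)).comp x (zero_add i)).hom = _
  rw [Abelian.Ext.comp_hom, Abelian.Ext.mk₀_hom, ShiftedHom.mk₀_comp]
  rfl


/-- the legs of the cocone defining the bridge -/
noncomputable def brLeg (n : ℕ) :
    (Dual.inD A (A ⧸ I ^ n) ⟶ (Dual.inD A M)⟦(i : ℤ)⟧) →ₗ[A]
      ULift.{u + 1} (Groth.Agent.Helper8.LC.H I i M) :=
  ULift.moduleEquiv.symm.toLinearMap ∘ₗ
    Groth.Agent.Helper8.LC.ι I i (ModuleCat.of A M) n ∘ₗ (extHom I i M n).symm.toLinearMap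

theorem brLeg_apply (n : ℕ) (t : Dual.inD A (A ⧸ I ^ n) ⟶ (Dual.inD A M)⟦(i : ℤ)⟧) :
    (brLeg I i M n t).down =
      Groth.Agent.Helper8.LC.ι I i (ModuleCat.of A M) n ((extHom I i M n).symm t) := rfl

theorem brLeg_tr {n m : ℕ} (h : n ≤ m)
    (t : Dual.inD A (A ⧸ I ^ n) ⟶ (Dual.inD A M)⟦(i : ℤ)⟧) :
    brLeg I i M m (inDMap (tr I h) ≫ t) = brLeg I i M n t := by
  apply ULift.ext
  rw [brLeg_apply, brLeg_apply]
  have h1 := extHom_trans I i M h ((extHom I i M n).symm t)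
  rw [LinearEquiv.apply_symm_apply] at h1
  rw [← h1, LinearEquiv.symm_apply_apply]
  exact Groth.Agent.Helper8.LC.ι_trans I i (ModuleCat.of A M) h _

/-- the cocone defining the bridge -/
noncomputable def brCocone : Cocone (diagY I ((Dual.inD A M)⟦(i : ℤ)⟧)) where
  pt := ModuleCat.of A (ULift.{u + 1} (Groth.Agent.Helper8.LC.H I i M))
  ι :=
    { app := fun n => ModuleCat.ofHom (brLeg I i M n.unop.unop)
      naturality := by
        rintro ⟨⟨n⟩⟩ ⟨⟨m⟩⟩ f
        have hle : n ≤ m := leOfHom f.unop.unop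
        have hf : f = (homOfLE hle).op.op := Subsingleton.elim _ _
        subst hf
        ext t
        exact brLeg_tr I i M hle t }

/-- the bridge map `𝓗(M[0]⟦i⟧) → H^i_I(M)` -/
noncomputable def br : HH I ((Dual.inD A M)⟦(i : ℤ)⟧) →ₗ[A] Groth.Agent.Helper8.LC.H I i M :=
  ULift.moduleEquiv.toLinearMap ∘ₗ (colimit.desc _ (brCocone I i M)).hom

theorem br_legY (n : ℕ) (t : Dual.inD A (A ⧸ I ^ n) ⟶ (Dual.inD A M)⟦(i : ℤ)⟧) :
    br I i M (legY I _ n t) =
      Groth.Agent.Helper8.LC.ι I i (ModuleCat.of A M) n ((extHom I i M n).symm t) := by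
  have h := colimit.ι_desc (brCocone I i M) (op (op n))
  have h2 := congrArg (fun φ => φ.hom t) h
  show ((colimit.desc _ (brCocone I i M)).hom (legY I _ n t)).down = _
  exact congrArg ULift.down h2

theorem br_bijective : Function.Bijective (br I i M) := by
  constructor
  · rw [← LinearMap.ker_eq_bot, LinearMap.ker_eq_bot']
    intro y hy
    obtain ⟨n, t, rfl⟩ := exists_repY I _ y
    rw [br_legY] at hy
    obtain ⟨m, h, hm⟩ := (Groth.Agent.Helper8.LC.ι_eq_zero_iff I i (ModuleCat.of A M) n _).mp hy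
    have h1 := extHom_trans I i M h ((extHom I i M n).symm t)
    rw [LinearEquiv.apply_symm_apply, hm, map_zero] at h1
    rw [← legY_tr I _ h t, ← h1, map_zero]
  · intro x
    obtain ⟨n, ξ, rfl⟩ := Groth.Agent.Helper8.LC.exists_rep I i (ModuleCat.of A M) x
    refine ⟨legY I _ n (extHom I i M n ξ), ?_⟩
    rw [br_legY, LinearEquiv.symm_apply_apply]

/-- the bridge `H^i_I(M) ≃ 𝓗(M[0]⟦i⟧)` -/
noncomputable def brEquiv :
    HH I ((Dual.inD A M)⟦(i : ℤ)⟧) ≃ₗ[A] LocCoh.H I i M :=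
  LinearEquiv.ofBijective (br I i M) (br_bijective I i M)

end Groth.Agent.Helper8.LD
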