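import Groth.Agent.Lib.Helper8.HDT1
import Groth.Agent.Lib.Helper8.HTd5
import Groth.Agent.Lib.Helper8.LD4
import Groth.Agent.Lib.Helper8.DualMod2

/-!
# The bridge `𝓗_T(M[0]⟦i⟧) ≃ H^i_T(M)` and vanishing of `𝓗_T` on `D^{≥ 1}` (helper8)
-/

set_option autoImplicit false

open CategoryTheory CategoryTheory.Limits Opposite Pretriangulated

universe u

namespace Groth.Agent.Helper8.HDT

open DerivedCategory Groth.Agent.Helper8.FLD Groth.Agent.Helper8.HTd

attribute [local instance] HasDerivedCategory.standard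

variable {A : Type u} [CommRing A] (T : Set (PrimeSpectrum A))

section Vanish

/-- `𝓗_T` vanishes on `D^{≥ 1}` -/
theorem subsingleton_HH_of_isGE (Y : Dual.D A) (m : ℤ) (hm : 0 < m) [Y.IsGE m] :
    Subsingleton (HH T Y) := by
  have key : ∀ x : HH T Y, x = 0 := by
    intro x
    obtain ⟨t, φ, rfl⟩ := exists_repY T Y x
    have h1 : (Dual.inD A (A ⧸ t.obj)).IsLE 0 := inferInstance
    have h3 : TStructure.t.IsGE Y m := inferInstance
    rw [TStructure.t.zero_of_isLE_of_isGE φ 0 m hm h1 h3, map_zero]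
  exact ⟨fun x y => by rw [key x, key y]⟩

/-- `𝓗_T(K⟦i⟧) = 0` for `K ∈ D^{≥ a}` and `i < a` -/
theorem subsingleton_HH_shift (K : Dual.D A) (a : ℤ) [K.IsGE a] (i : ℤ) (hi : i < a) :
    Subsingleton (HH T (K⟦i⟧)) := by
  haveI : TStructure.t.IsGE (K⟦i⟧) (a - i) := TStructure.t.isGE_shift K a i (a - i) (by omega)
  haveI : (K⟦i⟧).IsGE (a - i) := this
  exact subsingleton_HH_of_isGE T (K⟦i⟧) (a - i) (by omega)

end Vanish

section Bridge

variable (i : ℕ) (M : Type u) [AddCommGroup M] [Module A M]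

/-- `Ext^i(A/J, M) ≃ Hom(A/J[0], M[0]⟦i⟧)` -/
noncomputable def extHom (t : Dual2.IdealsIn T) :
    Abelian.Ext (Rmod (ID T) t) (ModuleCat.of A M) i ≃ₗ[A]
      (Dual.inD A (A ⧸ t.obj) ⟶ (Dual.inD A M)⟦(i : ℤ)⟧) :=
  Abelian.Ext.homLinearEquiv

theorem extHom_trans {s t : Dual2.IdealsIn T} (h : s.obj ≤ t.obj)
    (x : Abelian.Ext (Rmod (ID T) t) (ModuleCat.of A M) i) :
    extHom T i M s ((Abelian.Ext.mk₀ (trans (ID T) (homOfLE' T h))).comp x (zero_add i)) =
      inDMap (tr h) ≫ extHom T i M t x := by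
  show ((Abelian.Ext.mk₀ (trans (ID T) (homOfLE' T h))).comp x (zero_add i)).hom = _
  rw [Abelian.Ext.comp_hom, Abelian.Ext.mk₀_hom, ShiftedHom.mk₀_comp]
  rfl

/-- the legs of the cocone defining the bridge -/
noncomputable def brLeg (t : Dual2.IdealsIn T) :
    (Dual.inD A (A ⧸ t.obj) ⟶ (Dual.inD A M)⟦(i : ℤ)⟧) →ₗ[A]
      ULift.{u + 1} (H (ID T) i M) :=
  ULift.moduleEquiv.symm.toLinearMap ∘ₗ
    ι (ID T) i (ModuleCat.of A M) t ∘ₗ (extHom T i M t).symm.toLinearMap

theorem brLeg_apply (t : Dual2.IdealsIn T)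
    (φ : Dual.inD A (A ⧸ t.obj) ⟶ (Dual.inD A M)⟦(i : ℤ)⟧) :
    (brLeg T i M t φ).down = ι (ID T) i (ModuleCat.of A M) t ((extHom T i M t).symm φ) := rfl

theorem brLeg_tr {s t : Dual2.IdealsIn T} (h : s.obj ≤ t.obj)
    (φ : Dual.inD A (A ⧸ t.obj) ⟶ (Dual.inD A M)⟦(i : ℤ)⟧) :
    brLeg T i M s (inDMap (tr h) ≫ φ) = brLeg T i M t φ := by
  apply ULift.ext
  rw [brLeg_apply, brLeg_apply]
  have h1 := extHom_trans T i M h ((extHom T i M t).symm φ)
  rw [LinearEquiv.apply_symm_apply] at h1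
  rw [← h1, LinearEquiv.symm_apply_apply]
  exact ι_trans (ID T) i (ModuleCat.of A M) (homOfLE' T h) _

/-- the cocone defining the bridge -/
noncomputable def brCocone : Cocone (diagY T ((Dual.inD A M)⟦(i : ℤ)⟧)) where
  pt := ModuleCat.of A (ULift.{u + 1} (H (ID T) i M))
  ι :=
    { app := fun t => ModuleCat.ofHom (brLeg T i M t.unop)
      naturality := by
        rintro ⟨t⟩ ⟨s⟩ f
        have hle : s.obj ≤ t.obj := le_of_hom' T f.unop
        have hf : f = (homOfLE' T hle).op := by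
          apply Quiver.Hom.unop_inj
          exact Subsingleton.elim _ _
        subst hf
        ext φ
        exact brLeg_tr T i M hle φ }

/-- the bridge map `𝓗_T(M[0]⟦i⟧) → H^i_T(M)` -/
noncomputable def br : HH T ((Dual.inD A M)⟦(i : ℤ)⟧) →ₗ[A] H (ID T) i M :=
  ULift.moduleEquiv.toLinearMap ∘ₗ (colimit.desc _ (brCocone T i M)).hom

theorem br_legY (t : Dual2.IdealsIn T)
    (φ : Dual.inD A (A ⧸ t.obj) ⟶ (Dual.inD A M)⟦(i : ℤ)⟧) :
    br T i M (legY T _ t φ) = ι (ID T) i (ModuleCat.of A M) t ((extHom T i M t).symm φ) := by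
  have h := colimit.ι_desc (brCocone T i M) (op t)
  have h2 := congrArg (fun ψ => ψ.hom φ) h
  show ((colimit.desc _ (brCocone T i M)).hom (legY T _ t φ)).down = _
  exact congrArg ULift.down h2

theorem br_bijective : Function.Bijective (br T i M) := by
  constructor
  · rw [← LinearMap.ker_eq_bot, LinearMap.ker_eq_bot']
    intro y hy
    obtain ⟨t, φ, rfl⟩ := exists_repY T _ y
    rw [br_legY] at hy
    obtain ⟨s, f, hs⟩ := (ι_eq_zero_iff (ID T) i (ModuleCat.of A M) t _).mp hy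
    have hle : s.obj ≤ t.obj := le_of_hom' T f
    have hf : f = homOfLE' T hle := Subsingleton.elim _ _
    subst hf
    have h1 := extHom_trans T i M hle ((extHom T i M t).symm φ)
    rw [LinearEquiv.apply_symm_apply, hs, map_zero] at h1
    rw [← legY_tr T _ hle φ, ← h1, map_zero]
  · intro x
    obtain ⟨t, ξ, rfl⟩ := exists_rep (ID T) i (ModuleCat.of A M) x
    refine ⟨legY T _ t (extHom T i M t ξ), ?_⟩
    rw [br_legY, LinearEquiv.symm_apply_apply]

/-- the bridge `𝓗_T(M[0]⟦i⟧) ≃ H^i_T(M)` -/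
noncomputable def brEquiv : HH T ((Dual.inD A M)⟦(i : ℤ)⟧) ≃ₗ[A] H (ID T) i M :=
  LinearEquiv.ofBijective (br T i M) (br_bijective T i M)

end Bridge

section Single

variable [IsNoetherianRing A] (M : Type u) [AddCommGroup M] [Module A M]

/-- for a finite module `M` killed by an ideal with zero locus in `T`, all `𝓗_T(M[0]⟦k⟧)` are
finite -/
theorem finite_HH_inD_shift [Module.Finite A M] (J₀ : Ideal A)
    (hJ₀ : PrimeSpectrum.zeroLocus (J₀ : Set A) ⊆ T) (hk : ∀ a ∈ J₀, ∀ x : M, a • x = 0) (k : ℤ) :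
    Module.Finite A (HH T ((Dual.inD A M)⟦k⟧)) := by
  rcases lt_trichotomy k 0 with hk0 | rfl | hk0
  · haveI : Subsingleton (HH T ((Dual.inD A M)⟦k⟧)) :=
      subsingleton_HH_shift T (Dual.inD A M) 0 k hk0
    exact Module.Finite.of_finite
  · haveI := finite_H_zero T M
    exact Module.Finite.equiv (brEquiv T 0 M).symm
  · obtain ⟨n, rfl⟩ := Int.eq_ofNat_of_zero_le hk0.le
    haveI : Subsingleton (H (ID T) n M) :=
      H_subsingleton_of_kill T n (by exact_mod_cast hk0) M J₀ hJ₀ hk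
    haveI : Subsingleton (HH T ((Dual.inD A M)⟦(n : ℤ)⟧)) := (brEquiv T n M).toEquiv.subsingleton
    exact Module.Finite.of_finite

end Single

end Groth.Agent.Helper8.HDT
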