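import Groth.Agent.Lib.Helper8.HDT2
import Groth.Agent.Lib.Helper8.KT2
import Groth.Agent.Lib.Helper8.RFin1

/-!
# Long exact cohomology sequences, cones, and splitting off the torsion in lowest degree (helper8)
-/

set_option autoImplicit false

open CategoryTheory CategoryTheory.Limits Opposite Pretriangulated

universe u v

namespace Groth.Agent.Helper8.HDT

open DerivedCategory Groth.Agent.Helper8.FLD Groth.Agent.Helper8.HTd

attribute [local instance] HasDerivedCategory.standard

/-- the middle term of an exact sequence with finite ends over a Noetherian ring is finite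
(universe-polymorphic version) -/
theorem finite_of_exact' {R : Type u} [CommRing R] [IsNoetherianRing R] {X Y Z : Type v}
    [AddCommGroup X] [Module R X] [AddCommGroup Y] [Module R Y] [AddCommGroup Z] [Module R Z]
    {f : X →ₗ[R] Y} {g : Y →ₗ[R] Z} (hex : Function.Exact f g) [Module.Finite R X]
    [Module.Finite R Z] : Module.Finite R Y := by
  have hN : IsNoetherian R Z := isNoetherian_of_isNoetherianRing_of_finite R _
  have h1 : Module.Finite R (LinearMap.range f) := Module.Finite.range f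
  have h2 : Module.Finite R (Y ⧸ LinearMap.range f) := by
    have hk : LinearMap.ker g = LinearMap.range f := LinearMap.exact_iff.mp hex
    have e : (Y ⧸ LinearMap.range f) ≃ₗ[R] LinearMap.range g :=
      (Submodule.quotEquivOfEq _ _ hk.symm).trans (LinearMap.quotKerEquivRange g)
    exact Module.Finite.equiv e.symm
  exact Module.Finite.of_submodule_quotient (LinearMap.range f)

variable {A : Type u} [CommRing A]

section LES

/-- `H^j(f)` as a linear map -/
noncomputable abbrev Hm (j : ℤ) {X Y : Dual.D A} (f : X ⟶ Y) :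
    Dual.HD A X j →ₗ[A] Dual.HD A Y j :=
  ((homologyFunctor (ModuleCat.{u} A) j).map f).hom

theorem Hm_comp (j : ℤ) {X Y Z : Dual.D A} (f : X ⟶ Y) (g : Y ⟶ Z) (x : Dual.HD A X j) :
    Hm j (f ≫ g) x = Hm j g (Hm j f x) := by
  show ((homologyFunctor (ModuleCat.{u} A) j).map (f ≫ g)).hom x = _
  rw [Functor.map_comp]
  rfl

theorem Hm_smul_id (j : ℤ) (X : Dual.D A) (r : A) (x : Dual.HD A X j) :
    Hm j (r • 𝟙 X) x = r • x := by
  show ((homologyFunctor (ModuleCat.{u} A) j).map (r • 𝟙 X)).hom x = _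
  rw [Groth.Agent.Helper8.RFin.homology_map_smul_id]
  rfl

variable (Tr : Triangle (Dual.D A)) (hTr : Tr ∈ distTriang (Dual.D A))

/-- the connecting map `H^j(Z) → H^{j+1}(X)` -/
noncomputable abbrev dl (j : ℤ) : Dual.HD A Tr.obj₃ j →ₗ[A] Dual.HD A Tr.obj₁ (j + 1) :=
  (HomologySequence.δ Tr j (j + 1) rfl).hom

include hTr

theorem ex₂ (j : ℤ) : Function.Exact (Hm j Tr.mor₁) (Hm j Tr.mor₂) :=
  (ShortComplex.ShortExact.moduleCat_exact_iff_function_exact _).mp
    (HomologySequence.exact₂ Tr hTr j)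

theorem ex₃ (j : ℤ) : Function.Exact (Hm j Tr.mor₂) (dl Tr j) :=
  (ShortComplex.ShortExact.moduleCat_exact_iff_function_exact _).mp
    (HomologySequence.exact₃ Tr hTr j (j + 1) rfl)

theorem ex₁ (j : ℤ) : Function.Exact (dl Tr j) (Hm (j + 1) Tr.mor₁) :=
  (ShortComplex.ShortExact.moduleCat_exact_iff_function_exact _).mp
    (HomologySequence.exact₁ Tr hTr j (j + 1) rfl)

/-- the cone of a map between objects of `D^{≥ a}` which is injective on `H^a` is in `D^{≥ a}` -/
theorem isGE_obj₃ (a : ℤ) [Tr.obj₁.IsGE a] [Tr.obj₂.IsGE a]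
    (hinj : Function.Injective (Hm a Tr.mor₁)) : Tr.obj₃.IsGE a := by
  rw [isGE_iff]
  intro j hj
  have h2 : IsZero ((homologyFunctor (ModuleCat.{u} A) j).obj Tr.obj₂) :=
    isZero_of_isGE Tr.obj₂ a j hj
  haveI : Subsingleton (Dual.HD A Tr.obj₂ j) := ModuleCat.subsingleton_of_isZero h2
  have key : ∀ z : Dual.HD A Tr.obj₃ j, z = 0 := by
    intro z
    have hd : dl Tr j z = 0 := by
      rcases lt_or_eq_of_le (show j + 1 ≤ a by omega) with h | h
      · have h1 : IsZero ((homologyFunctor (ModuleCat.{u} A) (j + 1)).obj Tr.obj₁) :=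
          isZero_of_isGE Tr.obj₁ a (j + 1) h
        haveI : Subsingleton (Dual.HD A Tr.obj₁ (j + 1)) := ModuleCat.subsingleton_of_isZero h1
        exact Subsingleton.elim _ _
      · subst h
        apply hinj
        rw [map_zero]
        exact (ex₁ Tr hTr j (dl Tr j z)).mpr ⟨z, rfl⟩
    obtain ⟨y, rfl⟩ := (ex₃ Tr hTr j z).mp hd
    rw [Subsingleton.elim y 0, map_zero]
  haveI : Subsingleton (Dual.HD A Tr.obj₃ j) := ⟨fun x y => by rw [key x, key y]⟩
  exact ModuleCat.isZero_of_subsingleton _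

/-- finiteness of the cohomology of the cone -/
theorem finite_obj₃ [IsNoetherianRing A] (j : ℤ) [Module.Finite A (Dual.HD A Tr.obj₂ j)]
    [Module.Finite A (Dual.HD A Tr.obj₁ (j + 1))] : Module.Finite A (Dual.HD A Tr.obj₃ j) :=
  finite_of_exact' (ex₃ Tr hTr j)

/-- surjectivity of `H^j(Y) → H^j(Z)` when `H^{j+1}(X) = 0` -/
theorem surjective_mor₂ (j : ℤ) [Subsingleton (Dual.HD A Tr.obj₁ (j + 1))] :
    Function.Surjective (Hm j Tr.mor₂) := by
  intro z
  exact (ex₃ Tr hTr j z).mp (Subsingleton.elim _ _)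

end LES

section Single

/-- every object of `D^{≥ a}` receives a map from a module placed in degree `a` which is bijective
on `H^a` -/
theorem exists_single_to (K : Dual.D A) (a : ℤ) [K.IsGE a] :
    ∃ (M0 : ModuleCat.{u} A) (i : (singleFunctor (ModuleCat.{u} A) a).obj M0 ⟶ K),
      Function.Bijective (Hm a i) := by
  obtain ⟨X, Y, hX, hY, i, g, δ, hT⟩ :=
    DerivedCategory.TStructure.t.exists_triangle K a (a + 1) rfl
  haveI hXle : X.IsLE a := ⟨hX⟩
  haveI hYge : Y.IsGE (a + 1) := ⟨hY⟩
  have hinj : ∀ j : ℤ, j ≤ a → Function.Injective (Hm j i) := fun j hj =>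
    Groth.Agent.Helper8.KT.homology_mor₁_injective i g δ hT a j hj
  have hsurj : ∀ j : ℤ, j ≤ a → Function.Surjective (Hm j i) := fun j hj =>
    Groth.Agent.Helper8.KT.homology_mor₁_surjective i g δ hT a j hj
  haveI hXge : X.IsGE a := by
    rw [isGE_iff]
    intro j hj
    have hQ : IsZero ((homologyFunctor (ModuleCat.{u} A) j).obj K) := isZero_of_isGE K a j hj
    haveI : Subsingleton ((homologyFunctor (ModuleCat.{u} A) j).obj K) :=
      ModuleCat.subsingleton_of_isZero hQ
    haveI : Subsingleton ((homologyFunctor (ModuleCat.{u} A) j).obj X) :=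
      (hinj j (by omega)).subsingleton
    exact ModuleCat.isZero_of_subsingleton _
  obtain ⟨M0, ⟨e⟩⟩ := exists_iso_singleFunctor_obj_of_isGE_of_isLE X a
  refine ⟨M0, e.inv ≫ i, ?_⟩
  have hb : Function.Bijective (Hm a e.inv) := by
    have := ((homologyFunctor (ModuleCat.{u} A) a).mapIso e.symm).toLinearEquiv.bijective
    exact this
  have hcomp : ∀ x, Hm a (e.inv ≫ i) x = Hm a i (Hm a e.inv x) := Hm_comp a e.inv i
  constructor
  · intro x y hxy
    rw [hcomp, hcomp] at hxy
    exact hb.1 (hinj a le_rfl hxy)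
  · intro y
    obtain ⟨x, rfl⟩ := hsurj a le_rfl y
    obtain ⟨w, rfl⟩ := hb.2 x
    exact ⟨w, hcomp w⟩

/-- the canonical iso `H^a(M[-a]) ≃ M` -/
noncomputable def singleEquiv (a : ℤ) (M : ModuleCat.{u} A) :
    Dual.HD A ((singleFunctor (ModuleCat.{u} A) a).obj M) a ≃ₗ[A] M :=
  ((singleFunctorCompHomologyFunctorIso (ModuleCat.{u} A) a).app M).toLinearEquiv

theorem singleEquiv_map (a : ℤ) {M N : ModuleCat.{u} A} (φ : M ⟶ N)
    (x : Dual.HD A ((singleFunctor (ModuleCat.{u} A) a).obj M) a) :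
    singleEquiv a N (Hm a ((singleFunctor (ModuleCat.{u} A) a).map φ) x) =
      φ.hom (singleEquiv a M x) := by
  have h := (singleFunctorCompHomologyFunctorIso (ModuleCat.{u} A) a).hom.naturality φ
  exact congrArg (fun ψ => ψ.hom x) h

theorem subsingleton_HD_single (a j : ℤ) (hj : j ≠ a) (M : ModuleCat.{u} A) :
    Subsingleton (Dual.HD A ((singleFunctor (ModuleCat.{u} A) a).obj M) j) := by
  rcases lt_or_gt_of_ne hj with h | h
  · exact ModuleCat.subsingleton_of_isZero (isZero_of_isGE _ a j h)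
  · exact ModuleCat.subsingleton_of_isZero (isZero_of_isLE _ a j h)

theorem finite_HD_single (a j : ℤ) (M : ModuleCat.{u} A) [Module.Finite A M] :
    Module.Finite A (Dual.HD A ((singleFunctor (ModuleCat.{u} A) a).obj M) j) := by
  by_cases hj : j = a
  · subst hj
    exact Module.Finite.equiv (singleEquiv j M).symm
  · haveI := subsingleton_HD_single a j hj M
    exact Module.Finite.of_finite

/-- `M[-a]⟦i⟧ ≅ M[0]⟦i - a⟧` -/
noncomputable def singleShiftIso (a i : ℤ) (M : ModuleCat.{u} A) :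
    ((singleFunctor (ModuleCat.{u} A) a).obj M)⟦i⟧ ≅
      ((singleFunctor (ModuleCat.{u} A) 0).obj M)⟦i - a⟧ :=
  ((singleFunctors (ModuleCat.{u} A)).shiftIso i (a - i) a (by omega)).app M ≪≫
    (((singleFunctors (ModuleCat.{u} A)).shiftIso (i - a) (a - i) 0 (by omega)).app M).symm

end Single

end Groth.Agent.Helper8.HDT
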