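import Groth.Agent.Lib.Helper8.HDT3

/-!
# Dévissage for `𝓗_T` of bounded below complexes (helper8)
-/

set_option autoImplicit false

open CategoryTheory CategoryTheory.Limits Opposite Pretriangulated

universe u v

namespace Groth.Agent.Helper8.HDT

open DerivedCategory Groth.Agent.Helper8.FLD Groth.Agent.Helper8.HTd

attribute [local instance] HasDerivedCategory.standard

variable {A : Type u} [CommRing A] (T : Set (PrimeSpectrum A))

section Split

variable [IsNoetherianRing A]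

/-- splitting off the `T`-torsion of the lowest cohomology module -/
theorem exists_split_torsion (K : Dual.D A) (a : ℤ) [K.IsGE a]
    (hK : ∀ j : ℤ, Module.Finite A (Dual.HD A K j)) :
    ∃ (V K₁ : Dual.D A) (u : V ⟶ K) (g : K ⟶ K₁) (h : K₁ ⟶ V⟦(1 : ℤ)⟧) (J₀ : Ideal A),
      Triangle.mk u g h ∈ distTriang (Dual.D A) ∧
      PrimeSpectrum.zeroLocus (J₀ : Set A) ⊆ T ∧
      (∀ x ∈ J₀, x • 𝟙 V = 0) ∧
      (∀ i : ℤ, Module.Finite A (HH T (V⟦i⟧))) ∧
      K₁.IsGE a ∧ (∀ j : ℤ, Module.Finite A (Dual.HD A K₁ j)) ∧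
      gamT T (Dual.HD A K₁ a) = ⊥ := by
  obtain ⟨M0, i, hi⟩ := exists_single_to K a
  let θ : Dual.HD A K a ≃ₗ[A] M0 :=
    (LinearEquiv.ofBijective (Hm a i) hi).symm.trans (singleEquiv a M0)
  haveI := hK a
  haveI : Module.Finite A M0 := Module.Finite.equiv θ
  haveI : IsNoetherian A M0 := isNoetherian_of_isNoetherianRing_of_finite A M0
  obtain ⟨J₀, hJ₀, hk⟩ := exists_ideal_kill_gamT T M0
  let M' : ModuleCat.{u} A := ModuleCat.of A (gamT T M0)
  let incl : M' ⟶ M0 := ModuleCat.ofHom (gamT T M0).subtype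
  let V : Dual.D A := (singleFunctor (ModuleCat.{u} A) a).obj M'
  let u : V ⟶ K := (singleFunctor (ModuleCat.{u} A) a).map incl ≫ i
  obtain ⟨K₁, g, h, hTr⟩ := distinguished_cocone_triangle u
  have hu : ∀ v : Dual.HD A V a, θ (Hm a u v) = ((singleEquiv a M' v : gamT T M0) : M0) := by
    intro v
    rw [Hm_comp]
    show singleEquiv a M0 ((LinearEquiv.ofBijective (Hm a i) hi).symm (Hm a i _)) = _
    have h1 : (LinearEquiv.ofBijective (Hm a i) hi).symm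
        (Hm a i (Hm a ((singleFunctor (ModuleCat.{u} A) a).map incl) v)) =
        Hm a ((singleFunctor (ModuleCat.{u} A) a).map incl) v :=
      (LinearEquiv.ofBijective (Hm a i) hi).symm_apply_apply _
    rw [h1]
    exact singleEquiv_map a incl v
  have hV : ∀ x ∈ J₀, x • 𝟙 V = 0 := by
    intro x hx
    have h1 : x • 𝟙 M' = 0 := by
      ext m
      exact hk x hx m.1 m.2
    show x • 𝟙 ((singleFunctor (ModuleCat.{u} A) a).obj M') = 0
    rw [← CategoryTheory.Functor.map_id, ← Functor.map_smul, h1, Functor.map_zero]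
  refine ⟨V, K₁, u, g, h, J₀, hTr, hJ₀, hV, ?_, ?_, ?_, ?_⟩
  · intro j
    haveI : Module.Finite A (gamT T M0) := inferInstance
    haveI : Module.Finite A (HH T ((Dual.inD A (gamT T M0))⟦j - a⟧)) :=
      finite_HH_inD_shift T (gamT T M0) J₀ hJ₀ (fun x hx m => Subtype.ext (hk x hx m.1 m.2)) (j - a)
    exact Module.Finite.equiv (HHcongr T (singleShiftIso a j M')).symm
  · haveI : (Triangle.mk u g h).obj₁.IsGE a := by
      show ((singleFunctor (ModuleCat.{u} A) a).obj M').IsGE a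
      infer_instance
    haveI : (Triangle.mk u g h).obj₂.IsGE a := by
      show K.IsGE a
      infer_instance
    refine isGE_obj₃ (Triangle.mk u g h) hTr a ?_
    intro v v' hvv
    have h1 : θ (Hm a u v) = θ (Hm a u v') := congrArg θ hvv
    rw [hu, hu] at h1
    exact (singleEquiv a M').injective (Subtype.ext h1)
  · intro j
    haveI : Module.Finite A (Dual.HD A (Triangle.mk u g h).obj₂ j) := hK j
    haveI : Module.Finite A (Dual.HD A (Triangle.mk u g h).obj₁ (j + 1)) :=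
      finite_HD_single a (j + 1) M'
    exact finite_obj₃ (Triangle.mk u g h) hTr j
  · rw [eq_bot_iff]
    intro z hz
    obtain ⟨J, hJ, hJz⟩ := (mem_gamT T z).mp hz
    haveI : Subsingleton (Dual.HD A (Triangle.mk u g h).obj₁ (a + 1)) :=
      subsingleton_HD_single a (a + 1) (by omega) M'
    obtain ⟨y, rfl⟩ : ∃ y : Dual.HD A K a, Hm a g y = z :=
      surjective_mor₂ (Triangle.mk u g h) hTr a z
    have hy : θ y ∈ gamT T M0 := by
      rw [mem_gamT]
      refine ⟨J₀ * J, zeroLocus_mul_subset T hJ₀ hJ, ?_⟩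
      intro r hr
      refine Submodule.mul_induction_on hr ?_ ?_
      · intro x' hx' x hx
        have h1 : Hm a g (x • y) = 0 := ((Hm a g).map_smul x y).trans (hJz x hx)
        obtain ⟨v, hv⟩ : ∃ v : Dual.HD A V a, Hm a u v = x • y :=
          (ex₂ (Triangle.mk u g h) hTr a (x • y)).mp h1
        have h2 : x' • v = 0 := by
          have h3 := Hm_smul_id a V x' v
          rw [hV x' hx'] at h3
          rw [← h3]
          show ((homologyFunctor (ModuleCat.{u} A) a).map (0 : V ⟶ V)).hom v = 0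
          rw [Functor.map_zero]
          rfl
        have h4 : x' • (x • y) = 0 := by
          have h5 : Hm a u (x' • v) = x' • (x • y) := by
            rw [map_smul]
            exact congrArg (fun w => x' • w) hv
          rw [← h5, h2, map_zero]
        have h6 : (x' * x) • θ y = θ (x' • (x • y)) := by
          rw [map_smul, map_smul, mul_smul]
        rw [h6, h4, map_zero]
      · intro r r' hr hr'
        rw [add_smul, hr, hr', add_zero]
    have h3 : y = Hm a u ((singleEquiv a M').symm ⟨θ y, hy⟩) := by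
      apply θ.injective
      rw [hu, LinearEquiv.apply_symm_apply]
    rw [Submodule.mem_bot, h3]
    exact (ex₂ (Triangle.mk u g h) hTr a _).mpr ⟨_, rfl⟩

/-- the cone of a regular element on the lowest cohomology module -/
theorem cone_regular (K₁ C : Dual.D A) (a : ℤ) [K₁.IsGE a]
    (hK : ∀ j : ℤ, Module.Finite A (Dual.HD A K₁ j)) (r : A)
    (hr : IsSMulRegular (Dual.HD A K₁ a) r) (g : K₁ ⟶ C) (h : C ⟶ K₁⟦(1 : ℤ)⟧)
    (hTr : Triangle.mk (r • 𝟙 K₁) g h ∈ distTriang (Dual.D A)) :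
    C.IsGE a ∧ ∀ j : ℤ, Module.Finite A (Dual.HD A C j) := by
  constructor
  · haveI : (Triangle.mk (r • 𝟙 K₁) g h).obj₁.IsGE a := by
      show K₁.IsGE a
      infer_instance
    haveI : (Triangle.mk (r • 𝟙 K₁) g h).obj₂.IsGE a := by
      show K₁.IsGE a
      infer_instance
    refine isGE_obj₃ (Triangle.mk (r • 𝟙 K₁) g h) hTr a ?_
    intro v v' hvv
    have h1 : Hm a (r • 𝟙 K₁) v = Hm a (r • 𝟙 K₁) v' := hvv
    rw [Hm_smul_id, Hm_smul_id] at h1
    exact hr h1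
  · intro j
    haveI : Module.Finite A (Dual.HD A (Triangle.mk (r • 𝟙 K₁) g h).obj₂ j) := hK j
    haveI : Module.Finite A (Dual.HD A (Triangle.mk (r • 𝟙 K₁) g h).obj₁ (j + 1)) := hK (j + 1)
    exact finite_obj₃ (Triangle.mk (r • 𝟙 K₁) g h) hTr j

end Split

section HHLES

theorem negOnePow_smul_eq' (n : ℤ) {X Y : Dual.D A} (g : X ⟶ Y) :
    n.negOnePow • g = g ∨ n.negOnePow • g = -g := by
  rcases Int.even_or_odd n with h | h
  · left
    rw [Int.negOnePow_even n h, one_smul]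
  · right
    rw [Int.negOnePow_odd n h, Units.neg_smul, one_smul]

theorem HHmap_neg {Y Y' : Dual.D A} (g : Y ⟶ Y') : HHmap T (-g) = -HHmap T g := by
  have h : -g = (-1 : A) • g := by rw [neg_smul, one_smul]
  rw [h, HHmap_smul, neg_smul, one_smul]

theorem exact_of_sign {X Y Z : Type*} [AddCommGroup X] [Module A X] [AddCommGroup Y] [Module A Y]
    [AddCommGroup Z] [Module A Z] {f f1 : X →ₗ[A] Y} {g g1 : Y →ₗ[A] Z}
    (hf : f1 = f ∨ f1 = -f) (hg : g1 = g ∨ g1 = -g) (h : Function.Exact f1 g1) :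
    Function.Exact f g := by
  have hg' : ∀ y, g1 y = 0 ↔ g y = 0 := by
    intro y
    rcases hg with rfl | rfl
    · exact Iff.rfl
    · rw [LinearMap.neg_apply, neg_eq_zero]
  intro y
  rw [← hg' y, h y]
  constructor
  · rintro ⟨x, rfl⟩
    rcases hf with rfl | rfl
    · exact ⟨x, rfl⟩
    · exact ⟨-x, by rw [map_neg, LinearMap.neg_apply]⟩
  · rintro ⟨x, rfl⟩
    rcases hf with rfl | rfl
    · exact ⟨x, rfl⟩
    · exact ⟨-x, by rw [LinearMap.neg_apply, map_neg, neg_neg]⟩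

theorem HHmap_sign (n : ℤ) {X Y : Dual.D A} (g : X ⟶ Y) :
    HHmap T (n.negOnePow • g) = HHmap T g ∨ HHmap T (n.negOnePow • g) = -HHmap T g := by
  rcases negOnePow_smul_eq' n g with h | h
  · left
    rw [h]
  · right
    rw [h, HHmap_neg]

variable (Tr : Triangle (Dual.D A)) (hTr : Tr ∈ distTriang (Dual.D A))

include hTr

theorem HH_ex₁₂ (j : ℤ) : Function.Exact (HHmap T (Tr.mor₁⟦j⟧')) (HHmap T (Tr.mor₂⟦j⟧')) :=
  exact_of_sign (HHmap_sign T j _) (HHmap_sign T j _)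
    (HH_exact T _ (Triangle.shift_distinguished Tr hTr j))

theorem HH_ex₂₃ (j : ℤ) : Function.Exact (HHmap T (Tr.mor₂⟦j⟧')) (HHmap T (Tr.mor₃⟦j⟧')) :=
  exact_of_sign (HHmap_sign T j _) (HHmap_sign T j _)
    (HH_exact T _ (Triangle.shift_distinguished Tr.rotate (rot_of_distTriang _ hTr) j))

theorem HH_ex₃₁ (j : ℤ) :
    Function.Exact (HHmap T (Tr.mor₃⟦j⟧')) (HHmap T ((-Tr.mor₁⟦(1 : ℤ)⟧')⟦j⟧')) :=
  exact_of_sign (HHmap_sign T j _) (HHmap_sign T j _)
    (HH_exact T _ (Triangle.shift_distinguished Tr.rotate.rotate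
      (rot_of_distTriang _ (rot_of_distTriang _ hTr)) j))

/-- if `x` kills `𝓗(Y⟦j⟧)` and `x'` kills `𝓗(X⟦1⟧⟦j⟧)` then `x x'` kills `𝓗(Z⟦j⟧)` -/
theorem kill_obj₃ (j : ℤ) (x x' : A) (h2 : ∀ y : HH T (Tr.obj₂⟦j⟧), x • y = 0)
    (h1 : ∀ y : HH T ((Tr.obj₁⟦(1 : ℤ)⟧)⟦j⟧), x' • y = 0) (z : HH T (Tr.obj₃⟦j⟧)) :
    (x * x') • z = 0 := by
  have hz : HHmap T (Tr.mor₃⟦j⟧') (x' • z) = 0 := by
    rw [map_smul]
    exact h1 _
  obtain ⟨w, hw⟩ := (HH_ex₂₃ T Tr hTr j (x' • z)).mp hz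
  rw [mul_smul, ← hw, ← map_smul, h2, map_zero]

theorem finite_obj₂_HH [IsNoetherianRing A] (j : ℤ) [Module.Finite A (HH T (Tr.obj₁⟦j⟧))]
    [Module.Finite A (HH T (Tr.obj₃⟦j⟧))] : Module.Finite A (HH T (Tr.obj₂⟦j⟧)) :=
  finite_of_exact' (HH_ex₁₂ T Tr hTr j)

end HHLES

section Shift

theorem shift_smul_id (Y : Dual.D A) (r : A) (j : ℤ) : (r • 𝟙 Y)⟦j⟧' = r • 𝟙 (Y⟦j⟧) := by
  rw [Functor.map_smul, CategoryTheory.Functor.map_id]

theorem smul_HH_shift_eq_zero (Y : Dual.D A) (r : A) (hr : r • 𝟙 Y = 0) (j : ℤ)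
    (y : HH T (Y⟦j⟧)) : r • y = 0 :=
  smul_HH_eq_zero T r (by rw [← shift_smul_id, hr, Functor.map_zero]) y

/-- `𝓗(Y⟦1⟧⟦j⟧) ≃ 𝓗(Y⟦j + 1⟧)` -/
noncomputable def shiftOneEquiv (Y : Dual.D A) (j j' : ℤ) (h : j + 1 = j') :
    HH T ((Y⟦(1 : ℤ)⟧)⟦j⟧) ≃ₗ[A] HH T (Y⟦j'⟧) :=
  HHcongr T ((shiftFunctorAdd' (Dual.D A) 1 j j' (by omega)).app Y).symm

/-- if `r` kills `𝓗(K₁⟦1⟧⟦j⟧)` then `𝓗(C⟦j⟧) → 𝓗(K₁⟦1⟧⟦j⟧)` is onto, `C` the cone of `r` -/
theorem surjective_of_kill (K₁ C : Dual.D A) (r : A) (g : K₁ ⟶ C) (h : C ⟶ K₁⟦(1 : ℤ)⟧)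
    (hTr : Triangle.mk (r • 𝟙 K₁) g h ∈ distTriang (Dual.D A)) (j : ℤ)
    (hr : ∀ y : HH T ((K₁⟦(1 : ℤ)⟧)⟦j⟧), r • y = 0) :
    Function.Surjective (HHmap T (h⟦j⟧')) := by
  intro y
  refine (HH_ex₃₁ T (Triangle.mk (r • 𝟙 K₁) g h) hTr j y).mp ?_
  show HHmap T ((-(r • 𝟙 K₁)⟦(1 : ℤ)⟧')⟦j⟧') y = 0
  have h1 : (-(r • 𝟙 K₁)⟦(1 : ℤ)⟧')⟦j⟧' = (-r) • 𝟙 ((K₁⟦(1 : ℤ)⟧)⟦j⟧) := by
    rw [Functor.map_neg, shift_smul_id, shift_smul_id, neg_smul]
  rw [h1, HHmap_smul, HHmap_id]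
  show (-r) • y = 0
  rw [neg_smul, hr, neg_zero]

end Shift

end Groth.Agent.Helper8.HDT
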