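import Groth.Agent.Lib.Helper8.HDT4

/-!
# `𝓗^i_T(K)` finite for `i ≤ n` iff annihilated by an ideal with zero locus in `T` (helper8)
-/

set_option autoImplicit false

open CategoryTheory CategoryTheory.Limits Opposite Pretriangulated

universe u v

namespace Groth.Agent.Helper8.HDT

open DerivedCategory Groth.Agent.Helper8.FLD Groth.Agent.Helper8.HTd

attribute [local instance] HasDerivedCategory.standard

variable {A : Type u} [CommRing A] [IsNoetherianRing A] (T : Set (PrimeSpectrum A))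

theorem finite_of_kill (hT : StableUnderSpecialization T) :
    ∀ (d : ℕ) (a n : ℤ) (K : Dual.D A), n < a + d → K.IsGE a →
      (∀ j : ℤ, Module.Finite A (Dual.HD A K j)) →
      (∃ J : Ideal A, PrimeSpectrum.zeroLocus (J : Set A) ⊆ T ∧
        ∀ i : ℤ, i ≤ n → ∀ x ∈ J, ∀ y : HH T (K⟦i⟧), x • y = 0) →
      ∀ i : ℤ, i ≤ n → Module.Finite A (HH T (K⟦i⟧)) := by
  intro d
  induction d with
  | zero =>
    intro a n K hn hKa _ _ i hi
    haveI := hKa
    haveI := subsingleton_HH_shift T K a i (by push_cast at hn; omega)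
    exact Module.Finite.of_finite
  | succ d ih =>
    rintro a n K hn hKa hK ⟨J, hJ, hkill⟩ i hi
    haveI := hKa
    obtain ⟨V, K₁, u, g, h, J₀, hTr, hJ₀, hV, hVfin, hK₁ge, hK₁fin, hgam⟩ :=
      exists_split_torsion T K a hK
    -- annihilation for `K₁`
    have hkill₁ : ∀ i : ℤ, i ≤ n → ∀ x ∈ J * J₀, ∀ y : HH T (K₁⟦i⟧), x • y = 0 := by
      intro i hi x hx y
      refine Submodule.mul_induction_on hx ?_ ?_
      · intro x1 hx1 x2 hx2
        exact kill_obj₃ T (Triangle.mk u g h) hTr i x1 x2 (hkill i hi x1 hx1)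
          (fun y => smul_HH_shift_eq_zero T (V⟦(1 : ℤ)⟧) x2
            (by rw [← shift_smul_id, hV x2 hx2, Functor.map_zero]) i y) y
      · intro r r' hr hr'
        rw [add_smul, hr, hr', add_zero]
    have hJ₁ := zeroLocus_mul_subset T hJ hJ₀
    haveI := hK₁ge
    haveI := hK₁fin a
    obtain ⟨r, hrJ, hreg⟩ :=
      exists_regular_of_gamT_eq_bot T (Dual.HD A K₁ a) hT hgam (J * J₀) hJ₁
    obtain ⟨C, g', h', hTr'⟩ := distinguished_cocone_triangle (r • 𝟙 K₁)
    obtain ⟨hCge, hCfin⟩ := cone_regular K₁ C a hK₁fin r hreg g' h' hTr'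
    -- elements killing `𝓗(K₁⟦i + 1⟧)` kill `𝓗(K₁⟦1⟧⟦i⟧)`
    have hsh : ∀ (i i' : ℤ) (hii : i + 1 = i') (x : A),
        (∀ y : HH T (K₁⟦i'⟧), x • y = 0) → ∀ y : HH T ((K₁⟦(1 : ℤ)⟧)⟦i⟧), x • y = 0 := by
      intro i i' hii x hx y
      have h1 := hx (shiftOneEquiv T K₁ i i' hii y)
      rw [← map_smul] at h1
      exact (shiftOneEquiv T K₁ i i' hii).injective (h1.trans (map_zero _).symm)
    -- annihilation for `C`
    have hkillC : ∀ i : ℤ, i ≤ n - 1 → ∀ x ∈ (J * J₀) * (J * J₀), ∀ y : HH T (C⟦i⟧),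
        x • y = 0 := by
      intro i hi x hx y
      refine Submodule.mul_induction_on hx ?_ ?_
      · intro x1 hx1 x2 hx2
        exact kill_obj₃ T (Triangle.mk (r • 𝟙 K₁) g' h') hTr' i x1 x2
          (hkill₁ i (by omega) x1 hx1)
          (hsh i (i + 1) rfl x2 (hkill₁ (i + 1) (by omega) x2 hx2)) y
      · intro r r' hr hr'
        rw [add_smul, hr, hr', add_zero]
    have hfinC := ih a (n - 1) C (by push_cast at hn; omega) hCge hCfin
      ⟨_, zeroLocus_mul_subset T hJ₁ hJ₁, hkillC⟩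
    -- finiteness for `K₁`
    have hfin₁ : ∀ i : ℤ, i ≤ n → Module.Finite A (HH T (K₁⟦i⟧)) := by
      intro i hi
      haveI := hfinC (i - 1) (by omega)
      have hr : ∀ y : HH T ((K₁⟦(1 : ℤ)⟧)⟦i - 1⟧), r • y = 0 :=
        hsh (i - 1) i (by omega) r (hkill₁ i hi r hrJ)
      have hs := surjective_of_kill T K₁ C r g' h' hTr' (i - 1) hr
      haveI : Module.Finite A (HH T ((K₁⟦(1 : ℤ)⟧)⟦i - 1⟧)) := Module.Finite.of_surjective _ hs
      exact Module.Finite.equiv (shiftOneEquiv T K₁ (i - 1) i (by omega))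
    -- finiteness for `K`
    haveI : Module.Finite A (HH T ((Triangle.mk u g h).obj₁⟦i⟧)) := hVfin i
    haveI : Module.Finite A (HH T ((Triangle.mk u g h).obj₃⟦i⟧)) := hfin₁ i hi
    exact finite_obj₂_HH T (Triangle.mk u g h) hTr i

theorem exists_kill_of_finite (K : Dual.D A) (a : ℤ) [K.IsGE a] (n : ℤ)
    (hfin : ∀ i : ℤ, i ≤ n → Module.Finite A (HH T (K⟦i⟧))) :
    ∃ J : Ideal A, PrimeSpectrum.zeroLocus (J : Set A) ⊆ T ∧
      ∀ i : ℤ, i ≤ n → ∀ x ∈ J, ∀ y : HH T (K⟦i⟧), x • y = 0 := by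
  have key : ∀ k : ℕ, ∃ J : Ideal A, PrimeSpectrum.zeroLocus (J : Set A) ⊆ T ∧
      ∀ i : ℤ, i < a + k → i ≤ n → ∀ x ∈ J, ∀ y : HH T (K⟦i⟧), x • y = 0 := by
    intro k
    induction k with
    | zero =>
      refine ⟨⊤, by simp, ?_⟩
      intro i hi _ x _ y
      haveI := subsingleton_HH_shift T K a i (by push_cast at hi; omega)
      exact Subsingleton.elim _ _
    | succ k ih =>
      obtain ⟨J, hJ, hkill⟩ := ih
      by_cases hk : a + k ≤ n
      · haveI := hfin (a + k) hk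
        obtain ⟨J', hJ', hkill'⟩ := exists_ideal_kill_of_fg (T := T)
          (N := HH T (K⟦a + (k : ℤ)⟧)) (fun y => exists_ideal_kill T _ y) Module.Finite.fg_top
        refine ⟨J ⊓ J', zeroLocus_inf_subset T hJ hJ', ?_⟩
        intro i hi hin x hx y
        rcases lt_or_eq_of_le (show i ≤ a + k by push_cast at hi; omega) with h | h
        · exact hkill i h hin x hx.1 y
        · subst h
          exact hkill' x hx.2 y
      · refine ⟨J, hJ, ?_⟩
        intro i hi hin x hx y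
        exact hkill i (by omega) hin x hx y
  obtain ⟨J, hJ, hkill⟩ := key (n - a + 1).toNat
  exact ⟨J, hJ, fun i hi => hkill i (by omega) hi⟩

theorem finite_iff_exists_kill (hT : StableUnderSpecialization T) (K : Dual.D A) (a : ℤ)
    (hKa : ∀ i : ℤ, i < a → Subsingleton (Dual.HD A K i))
    (hK : ∀ i : ℤ, Module.Finite A (Dual.HD A K i)) (n : ℤ) :
    (∀ i : ℤ, i ≤ n → Module.Finite A (Dual2.HDT A T K i)) ↔
      ∃ J : Ideal A, PrimeSpectrum.zeroLocus (J : Set A) ⊆ T ∧
        ∀ i : ℤ, i ≤ n → ∀ x : A, x ∈ J → ∀ y : Dual2.HDT A T K i, x • y = 0 := by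
  haveI : K.IsGE a := by
    rw [isGE_iff]
    intro i hi
    haveI := hKa i hi
    exact ModuleCat.isZero_of_subsingleton _
  constructor
  · intro h
    exact exists_kill_of_finite T K a n h
  · intro h
    exact finite_of_kill T hT (n - a + 1).toNat a n K (by omega) inferInstance hK h

end Groth.Agent.Helper8.HDT
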