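import Groth.Agent.Lib.Helper8.LCTors

/-!
# Element-level API for `localCohomology.ofDiagram` along a general filtered diagram of ideals (helper8)

Port of `LCColim` from the diagram of powers of an ideal to an arbitrary diagram `I : D ⥤ Ideal R`
with `Dᵒᵖ` filtered.
-/

open CategoryTheory CategoryTheory.Limits Opposite Abelian
universe u

namespace Groth.Agent.Helper8.HTd

open Groth.Agent.Helper8.LC (extEquiv extEquiv_naturality_left extEquiv_naturality_right)

variable {R : Type u} [CommRing R] {D : Type u} [SmallCategory D] (I : D ⥤ Ideal R) (i : ℕ)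

/-- the diagram whose colimit is local cohomology along `I` -/
noncomputable abbrev lcDiagram : Dᵒᵖ ⥤ ModuleCat.{u} R ⥤ ModuleCat.{u} R :=
  localCohomology.diagram I i

/-- `R ⧸ I t` as an object of `ModuleCat` -/
noncomputable abbrev Rmod (t : D) : ModuleCat.{u} R := ModuleCat.of R (R ⧸ I.obj t)

/-- the transition map `R/I_s → R/I_t` for `s ⟶ t` -/
noncomputable def trans {s t : D} (f : s ⟶ t) : Rmod I s ⟶ Rmod I t :=
  (localCohomology.ringModIdeals I).map f

theorem trans_mk {s t : D} (f : s ⟶ t) (a : R) :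
    (trans I f).hom (Submodule.Quotient.mk a) = Submodule.Quotient.mk a := rfl

variable (M : ModuleCat.{u} R)

/-- the colimit functor -/
noncomputable abbrev HF : ModuleCat.{u} R ⥤ ModuleCat.{u} R := localCohomology.ofDiagram.{u, u} I i

/-- the old Ext module `Ext^i(R/I_t, M)` -/
noncomputable abbrev oldObj (t : D) : ModuleCat.{u} R :=
  ((Ext R (ModuleCat.{u} R) i).obj (op (Rmod I t))).obj M

/-- the leg of the colimit cocone -/
noncomputable def leg (t : D) : oldObj I i M t ⟶ (HF I i).obj M :=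
  (colimit.ι (lcDiagram I i) (op t)).app M

/-- transition maps of old Ext -/
noncomputable def oldTrans {s t : D} (f : s ⟶ t) : oldObj I i M t ⟶ oldObj I i M s :=
  ((Ext R (ModuleCat.{u} R) i).map (trans I f).op).app M

theorem oldTrans_leg {s t : D} (f : s ⟶ t) : oldTrans I i M f ≫ leg I i M s = leg I i M t := by
  have hw := colimit.w (lcDiagram I i) f.op
  exact congrArg (fun t => t.app M) hw

/-- the evaluated colimit cocone -/
noncomputable def evalCocone : Cocone (lcDiagram I i ⋙ (evaluation _ _).obj M) :=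
  ((evaluation (ModuleCat.{u} R) (ModuleCat.{u} R)).obj M).mapCocone (colimit.cocone (lcDiagram I i))

/-- it is a colimit cocone -/
noncomputable def evalCoconeIsColimit : IsColimit (evalCocone I i M) :=
  isColimitOfPreserves _ (colimit.isColimit _)

variable [IsFiltered Dᵒᵖ]

theorem leg_exists_rep (h : (HF I i).obj M) :
    ∃ (t : D) (y : oldObj I i M t), (leg I i M t).hom y = h := by
  obtain ⟨⟨t⟩, y, hy⟩ := Concrete.isColimit_exists_rep _ (evalCoconeIsColimit I i M) h
  exact ⟨t, y, hy⟩

theorem leg_eq_zero (t : D) (y : oldObj I i M t) (hy : (leg I i M t).hom y = 0) :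
    ∃ (s : D) (f : s ⟶ t), (oldTrans I i M f).hom y = 0 := by
  have h0 : ((evalCocone I i M).ι.app (op t)) y =
      ((evalCocone I i M).ι.app (op t)) (0 : oldObj I i M t) :=
    hy.trans (map_zero (leg I i M t).hom).symm
  obtain ⟨⟨s⟩, f, g, hfg⟩ :=
    Concrete.isColimit_exists_of_rep_eq _ (evalCoconeIsColimit I i M) _ _ h0
  refine ⟨s, f.unop, ?_⟩
  exact hfg.trans (map_zero (oldTrans I i M g.unop).hom)

omit [IsFiltered Dᵒᵖ] in
/-- the canonical map from `Ext^i(R/I_t, M)` to local cohomology -/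
noncomputable def ι (t : D) : Abelian.Ext (Rmod I t) M i →ₗ[R] (HF I i).obj M :=
  (leg I i M t).hom ∘ₗ (extEquiv (Rmod I t) M i).symm.toLinearMap

omit [IsFiltered Dᵒᵖ] in
theorem ι_apply (t : D) (x : Abelian.Ext (Rmod I t) M i) :
    ι I i M t x = (leg I i M t).hom ((extEquiv (Rmod I t) M i).symm x) := rfl

omit [IsFiltered Dᵒᵖ] in
theorem extEquiv_oldTrans {s t : D} (f : s ⟶ t) (y : oldObj I i M t) :
    extEquiv (Rmod I s) M i ((oldTrans I i M f).hom y) =
      (Abelian.Ext.mk₀ (trans I f)).comp (extEquiv (Rmod I t) M i y) (zero_add i) :=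
  extEquiv_naturality_left (trans I f) M i y

omit [IsFiltered Dᵒᵖ] in
theorem ι_trans {s t : D} (f : s ⟶ t) (x : Abelian.Ext (Rmod I t) M i) :
    ι I i M s ((Abelian.Ext.mk₀ (trans I f)).comp x (zero_add i)) = ι I i M t x := by
  rw [ι_apply, ι_apply]
  have h1 := extEquiv_oldTrans I i M f ((extEquiv (Rmod I t) M i).symm x)
  rw [LinearEquiv.apply_symm_apply] at h1
  rw [← h1, LinearEquiv.symm_apply_apply]
  have h2 := oldTrans_leg I i M f
  exact congrArg (fun t' => t'.hom ((extEquiv (Rmod I t) M i).symm x)) h2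

theorem exists_rep (h : (HF I i).obj M) :
    ∃ (t : D) (x : Abelian.Ext (Rmod I t) M i), ι I i M t x = h := by
  obtain ⟨t, y, hy⟩ := leg_exists_rep I i M h
  refine ⟨t, extEquiv _ M i y, ?_⟩
  rw [ι_apply, LinearEquiv.symm_apply_apply]
  exact hy

theorem ι_eq_zero_iff (t : D) (x : Abelian.Ext (Rmod I t) M i) :
    ι I i M t x = 0 ↔
      ∃ (s : D) (f : s ⟶ t), (Abelian.Ext.mk₀ (trans I f)).comp x (zero_add i) = 0 := by
  constructor
  · intro hx
    obtain ⟨s, f, hm⟩ := leg_eq_zero I i M t ((extEquiv (Rmod I t) M i).symm x) hx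
    refine ⟨s, f, ?_⟩
    have h1 := extEquiv_oldTrans I i M f ((extEquiv (Rmod I t) M i).symm x)
    rw [LinearEquiv.apply_symm_apply, hm, map_zero] at h1
    exact h1.symm
  · rintro ⟨s, f, hm⟩
    rw [← ι_trans I i M f, hm, map_zero]

variable {M} {M' : ModuleCat.{u} R}

omit [IsFiltered Dᵒᵖ] in
theorem map_leg (f : M ⟶ M') (t : D) :
    leg I i M t ≫ (HF I i).map f =
      ((Ext R (ModuleCat.{u} R) i).obj (op (Rmod I t))).map f ≫ leg I i M' t :=
  ((colimit.ι (lcDiagram I i) (op t)).naturality f).symm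

omit [IsFiltered Dᵒᵖ] in
theorem map_ι (f : M ⟶ M') (t : D) (x : Abelian.Ext (Rmod I t) M i) :
    ((HF I i).map f).hom (ι I i M t x) =
      ι I i M' t (x.comp (Abelian.Ext.mk₀ f) (add_zero i)) := by
  rw [ι_apply, ι_apply]
  have h1 := congrArg (fun t' => t'.hom ((extEquiv (Rmod I t) M i).symm x)) (map_leg I i f t)
  simp only [ModuleCat.hom_comp, LinearMap.comp_apply] at h1
  rw [h1]
  congr 1
  apply (extEquiv (Rmod I t) M' i).injective
  rw [LinearEquiv.apply_symm_apply, extEquiv_naturality_right, LinearEquiv.apply_symm_apply]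

end Groth.Agent.Helper8.HTd
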