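import Groth.Agent.Lib.Helper8.HTd1

/-!
# The long exact sequence of `localCohomology.ofDiagram` along a filtered diagram (helper8)

Port of `LCSeq`.
-/

open CategoryTheory CategoryTheory.Limits Opposite Abelian
universe u

namespace Groth.Agent.Helper8.HTd

open Groth.Agent.Helper8.LC (extEquiv extEquiv_naturality_left extEquiv_naturality_right)

variable {R : Type u} [CommRing R] {D : Type u} [SmallCategory D] (I : D ⥤ Ideal R) (i : ℕ)

section Delta

variable {S : ShortComplex (ModuleCat.{u} R)} (hS : S.ShortExact)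

/-- the legs of the cocone defining the connecting homomorphism -/
noncomputable def δLeg (t : D) : oldObj I i S.X₃ t ⟶ (HF I (i + 1)).obj S.X₁ :=
  ModuleCat.ofHom (ι I (i + 1) S.X₁ t ∘ₗ
    (Ext.postcompOfLinear hS.extClass R (Rmod I t) (rfl : i + 1 = i + 1)) ∘ₗ
      (extEquiv (Rmod I t) S.X₃ i).toLinearMap)

theorem δLeg_apply (t : D) (y : oldObj I i S.X₃ t) :
    (δLeg I i hS t).hom y =
      ι I (i + 1) S.X₁ t ((extEquiv (Rmod I t) S.X₃ i y).comp hS.extClass rfl) := rfl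

theorem oldTrans_δLeg {s t : D} (f : s ⟶ t) :
    oldTrans I i S.X₃ f ≫ δLeg I i hS s = δLeg I i hS t := by
  ext y
  rw [ModuleCat.hom_comp, LinearMap.comp_apply, δLeg_apply, δLeg_apply, extEquiv_oldTrans,
    Ext.comp_assoc (Ext.mk₀ (trans I f)) _ hS.extClass (zero_add i) rfl (by omega),
    ι_trans]

/-- the cocone defining the connecting homomorphism -/
noncomputable def δCocone : Cocone (lcDiagram I i ⋙ (evaluation _ _).obj S.X₃) where
  pt := (HF I (i + 1)).obj S.X₁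
  ι :=
    { app := fun t => δLeg I i hS t.unop
      naturality := by
        rintro ⟨t⟩ ⟨s⟩ f
        obtain ⟨f', rfl⟩ : ∃ f' : s ⟶ t, f = f'.op := ⟨f.unop, rfl⟩
        simp only [Functor.const_obj_obj, Functor.const_obj_map, Category.comp_id]
        exact oldTrans_δLeg I i hS f' }

/-- the connecting homomorphism -/
noncomputable def δ : (HF I i).obj S.X₃ ⟶ (HF I (i + 1)).obj S.X₁ :=
  (evalCoconeIsColimit I i S.X₃).desc (δCocone I i hS)

theorem leg_δ (t : D) : leg I i S.X₃ t ≫ δ I i hS = δLeg I i hS t :=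
  (evalCoconeIsColimit I i S.X₃).fac (δCocone I i hS) (op t)

theorem δ_ι (t : D) (x : Abelian.Ext (Rmod I t) S.X₃ i) :
    (δ I i hS).hom (ι I i S.X₃ t x) = ι I (i + 1) S.X₁ t (x.comp hS.extClass rfl) := by
  rw [ι_apply]
  have h := congrArg (fun t' => t'.hom ((extEquiv (Rmod I t) S.X₃ i).symm x)) (leg_δ I i hS t)
  simp only [ModuleCat.hom_comp, LinearMap.comp_apply] at h
  rw [h, δLeg_apply, LinearEquiv.apply_symm_apply]

end Delta

section Exact

variable [IsFiltered Dᵒᵖ]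
variable {S : ShortComplex (ModuleCat.{u} R)} (hS : S.ShortExact)

omit hS in
theorem map_g_map_f (x : (HF I i).obj S.X₁) :
    ((HF I i).map S.g).hom (((HF I i).map S.f).hom x) = 0 := by
  obtain ⟨t, ξ, rfl⟩ := exists_rep I i S.X₁ x
  rw [map_ι, map_ι, Ext.comp_assoc_of_third_deg_zero, Ext.mk₀_comp_mk₀, S.zero, Ext.mk₀_zero,
    Ext.comp_zero, map_zero]

theorem δ_map_g (y : (HF I i).obj S.X₂) :
    (δ I i hS).hom (((HF I i).map S.g).hom y) = 0 := by
  obtain ⟨t, ξ, rfl⟩ := exists_rep I i S.X₂ y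
  rw [map_ι, δ_ι, Ext.comp_assoc_of_second_deg_zero, hS.comp_extClass, Ext.comp_zero, map_zero]

theorem map_f_δ (z : (HF I i).obj S.X₃) :
    ((HF I (i + 1)).map S.f).hom ((δ I i hS).hom z) = 0 := by
  obtain ⟨t, ξ, rfl⟩ := exists_rep I i S.X₃ z
  rw [δ_ι, map_ι, Ext.comp_assoc_of_third_deg_zero, hS.extClass_comp, Ext.comp_zero, map_zero]

include hS in
theorem exact_f_g (y : (HF I i).obj S.X₂)
    (hy : ((HF I i).map S.g).hom y = 0) :
    ∃ x, ((HF I i).map S.f).hom x = y := by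
  obtain ⟨t, ξ, rfl⟩ := exists_rep I i S.X₂ y
  rw [map_ι, ι_eq_zero_iff] at hy
  obtain ⟨s, f, hm⟩ := hy
  rw [← Ext.comp_assoc_of_third_deg_zero] at hm
  obtain ⟨ξ₁, h₁⟩ := Ext.covariant_sequence_exact₂ _ hS _ hm
  refine ⟨ι I i S.X₁ s ξ₁, ?_⟩
  rw [map_ι, h₁, ι_trans]

theorem exact_g_δ (z : (HF I i).obj S.X₃) (hz : (δ I i hS).hom z = 0) :
    ∃ y, ((HF I i).map S.g).hom y = z := by
  obtain ⟨t, ξ, rfl⟩ := exists_rep I i S.X₃ z
  rw [δ_ι, ι_eq_zero_iff] at hz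
  obtain ⟨s, f, hm⟩ := hz
  rw [← Ext.comp_assoc (Ext.mk₀ (trans I f)) ξ hS.extClass (zero_add i) rfl (by omega)] at hm
  obtain ⟨ξ₂, h₂⟩ := Ext.covariant_sequence_exact₃ _ hS _ rfl hm
  refine ⟨ι I i S.X₂ s ξ₂, ?_⟩
  rw [map_ι, h₂, ι_trans]

theorem exact_δ_f (x : (HF I (i + 1)).obj S.X₁)
    (hx : ((HF I (i + 1)).map S.f).hom x = 0) :
    ∃ z, (δ I i hS).hom z = x := by
  obtain ⟨t, ξ, rfl⟩ := exists_rep I (i + 1) S.X₁ x
  rw [map_ι, ι_eq_zero_iff] at hx
  obtain ⟨s, f, hm⟩ := hx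
  rw [← Ext.comp_assoc_of_third_deg_zero] at hm
  obtain ⟨ξ₃, h₃⟩ := Ext.covariant_sequence_exact₁ _ hS _ hm rfl
  refine ⟨ι I i S.X₃ s ξ₃, ?_⟩
  rw [δ_ι, h₃, ι_trans]

end Exact

section Mono

variable [IsFiltered Dᵒᵖ]
variable {M M' : ModuleCat.{u} R}

theorem map_zero_injective_of_mono (f : M ⟶ M') [Mono f] :
    Function.Injective ((HF I 0).map f).hom := by
  rw [injective_iff_map_eq_zero]
  intro x hx
  obtain ⟨t, ξ, rfl⟩ := exists_rep I 0 M x
  rw [map_ι, ι_eq_zero_iff] at hx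
  obtain ⟨s, g, hm⟩ := hx
  rw [← Ext.comp_assoc_of_third_deg_zero] at hm
  have h0 : (Ext.mk₀ (trans I g)).comp ξ (zero_add 0) = 0 := by
    apply Ext.postcomp_mk₀_injective_of_mono (Rmod I s) f
    simpa using hm
  rw [← ι_trans I 0 M g, h0, map_zero]

end Mono

end Groth.Agent.Helper8.HTd
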