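import Groth.Agent.Lib.Helper8.HTd2

/-!
# Module-level API for `localCohomology.ofDiagram` along a filtered diagram of ideals (helper8)

Port of `LCBasic` and of the `H⁰` part of `LCTors`.
-/

open CategoryTheory CategoryTheory.Limits Opposite Abelian
universe u

namespace Groth.Agent.Helper8.HTd

open Groth.Agent.Helper8.LC (extEquiv IsSES ext_smul_eq_zero_of_left ext_smul_eq_zero_of_right)

variable {R : Type u} [CommRing R] {D : Type u} [SmallCategory D] (I : D ⥤ Ideal R) (i : ℕ)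

/-- local cohomology of a module along the diagram `I` -/
noncomputable abbrev H (M : Type u) [AddCommGroup M] [Module R M] : Type u :=
  (HF I i).obj (ModuleCat.of R M)

section Map

variable {M N P : Type u} [AddCommGroup M] [Module R M] [AddCommGroup N] [Module R N]
  [AddCommGroup P] [Module R P]

/-- functoriality, as a linear map -/
noncomputable def Hmap (f : M →ₗ[R] N) : H I i M →ₗ[R] H I i N :=
  ((HF I i).map (ModuleCat.ofHom f)).hom

@[simp] theorem Hmap_id : Hmap I i (LinearMap.id : M →ₗ[R] M) = LinearMap.id := by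
  unfold Hmap
  rw [ModuleCat.ofHom_id, CategoryTheory.Functor.map_id]
  rfl

theorem Hmap_comp (f : M →ₗ[R] N) (g : N →ₗ[R] P) :
    Hmap I i (g ∘ₗ f) = Hmap I i g ∘ₗ Hmap I i f := by
  unfold Hmap
  rw [ModuleCat.ofHom_comp, CategoryTheory.Functor.map_comp]
  rfl

theorem Hmap_ι (f : M →ₗ[R] N) (t : D) (x : Abelian.Ext (Rmod I t) (ModuleCat.of R M) i) :
    Hmap I i f (ι I i (ModuleCat.of R M) t x) =
      ι I i (ModuleCat.of R N) t (x.comp (Abelian.Ext.mk₀ (ModuleCat.ofHom f)) (add_zero i)) :=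
  map_ι I i (ModuleCat.ofHom f) t x

variable [IsFiltered Dᵒᵖ]

theorem Hmap_zero : Hmap I i (0 : M →ₗ[R] N) = 0 := by
  ext x
  obtain ⟨t, ξ, rfl⟩ := exists_rep I i (ModuleCat.of R M) x
  rw [Hmap_ι]
  have : (ModuleCat.ofHom (0 : M →ₗ[R] N)) = 0 := rfl
  rw [this, Ext.mk₀_zero, Ext.comp_zero, map_zero]
  rfl

theorem Hmap_smul (r : R) (f : M →ₗ[R] N) : Hmap I i (r • f) = r • Hmap I i f := by
  ext x
  obtain ⟨t, ξ, rfl⟩ := exists_rep I i (ModuleCat.of R M) x
  rw [LinearMap.smul_apply, Hmap_ι, Hmap_ι, ← map_smul]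
  have : (ModuleCat.ofHom (r • f)) = r • ModuleCat.ofHom f := rfl
  rw [this, Ext.mk₀_smul, Ext.comp_smul]

/-- multiplication by `r` on `M` induces multiplication by `r` on local cohomology -/
theorem Hmap_smul_id (r : R) (x : H I i M) :
    Hmap I i (r • (LinearMap.id : M →ₗ[R] M)) x = r • x := by
  rw [Hmap_smul, Hmap_id]; rfl

theorem smul_H_eq_zero_of_smul_eq_zero (y : R) (hy : ∀ g : M, y • g = 0) (z : H I i M) :
    y • z = 0 := by
  rw [← Hmap_smul_id I i y z]
  have h1 : y • (LinearMap.id : M →ₗ[R] M) = 0 := by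
    ext g
    exact hy g
  rw [h1, Hmap_zero]
  rfl

omit [IsFiltered Dᵒᵖ] in
theorem smul_Rmod_eq_zero {t : D} {a : R} (ha : a ∈ I.obj t) (y : Rmod I t) : a • y = 0 := by
  obtain ⟨y, rfl⟩ := Submodule.Quotient.mk_surjective _ y
  rw [← Submodule.Quotient.mk_smul, Submodule.Quotient.mk_eq_zero]
  exact Ideal.mul_mem_right _ _ ha

omit [IsFiltered Dᵒᵖ] in
theorem smul_ι_eq_zero (X : ModuleCat.{u} R) {t : D} {a : R} (ha : a ∈ I.obj t)
    (x : Abelian.Ext (Rmod I t) X i) : a • ι I i X t x = 0 := by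
  rw [← map_smul, ext_smul_eq_zero_of_left (smul_Rmod_eq_zero I ha), map_zero]

/-- every element of local cohomology is killed by a member of the diagram -/
theorem exists_smul_eq_zero (x : H I i M) : ∃ t : D, ∀ a ∈ I.obj t, a • x = 0 := by
  obtain ⟨t, ξ, rfl⟩ := exists_rep I i (ModuleCat.of R M) x
  exact ⟨t, fun a ha => smul_ι_eq_zero I i _ ha ξ⟩

end Map

section SES

variable {M N P : Type u} [AddCommGroup M] [Module R M] [AddCommGroup N] [Module R N]
  [AddCommGroup P] [Module R P]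
variable {f : M →ₗ[R] N} {g : N →ₗ[R] P}

/-- the connecting homomorphism -/
noncomputable def Hδ (h : IsSES f g) : H I i P →ₗ[R] H I (i + 1) M :=
  (δ I i h.shortExact).hom

variable [IsFiltered Dᵒᵖ]

theorem exact_Hmap (h : IsSES f g) : Function.Exact (Hmap I i f) (Hmap I i g) := by
  intro y
  constructor
  · intro hy
    exact exact_f_g I i h.shortExact y hy
  · rintro ⟨x, rfl⟩
    exact map_g_map_f I i (S := h.sc) x

theorem exact_Hmap_δ (h : IsSES f g) : Function.Exact (Hmap I i g) (Hδ I i h) := by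
  intro z
  constructor
  · intro hz
    exact exact_g_δ I i h.shortExact z hz
  · rintro ⟨y, rfl⟩
    exact δ_map_g I i h.shortExact y

theorem exact_δ_Hmap (h : IsSES f g) : Function.Exact (Hδ I i h) (Hmap I (i + 1) f) := by
  intro x
  constructor
  · intro hx
    exact exact_δ_f I i h.shortExact x hx
  · rintro ⟨z, rfl⟩
    exact map_f_δ I i h.shortExact z

end SES

section HZero

variable [IsFiltered Dᵒᵖ] [Nonempty D]

/-- the torsion submodule along the diagram -/
def gam (M : Type u) [AddCommGroup M] [Module R M] : Submodule R M where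
  carrier := {m | ∃ t : D, ∀ a ∈ I.obj t, a • m = 0}
  zero_mem' := ⟨Classical.arbitrary D, fun a _ => smul_zero a⟩
  add_mem' := by
    rintro m m' ⟨t, ht⟩ ⟨t', ht'⟩
    let s : Dᵒᵖ := IsFiltered.max (op t) (op t')
    have f1 : s.unop ⟶ t := (IsFiltered.leftToMax (op t) (op t')).unop
    have f2 : s.unop ⟶ t' := (IsFiltered.rightToMax (op t) (op t')).unop
    refine ⟨s.unop, fun a ha => ?_⟩
    rw [smul_add, ht a ((I.map f1).down.down ha), ht' a ((I.map f2).down.down ha), add_zero]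
  smul_mem' := by
    rintro c m ⟨t, ht⟩
    exact ⟨t, fun a ha => by rw [smul_comm, ht a ha, smul_zero]⟩

omit [IsFiltered Dᵒᵖ] [Nonempty D] in
theorem mem_gam {M : Type u} [AddCommGroup M] [Module R M] [IsFiltered Dᵒᵖ] [Nonempty D] (m : M) :
    m ∈ gam I M ↔ ∃ t : D, ∀ a ∈ I.obj t, a • m = 0 := Iff.rfl

variable (M : ModuleCat.{u} R)

omit [IsFiltered Dᵒᵖ] [Nonempty D] in
/-- evaluation at `1` of the morphism underlying a degree-zero Ext class -/
noncomputable def ev (t : D) : Abelian.Ext (Rmod I t) M 0 →ₗ[R] M :=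
  (LinearMap.applyₗ (Submodule.Quotient.mk (1 : R) : R ⧸ I.obj t)) ∘ₗ
    (ModuleCat.homLinearEquiv (S := R)).toLinearMap ∘ₗ (Ext.linearEquiv₀ (R := R)).toLinearMap

omit [IsFiltered Dᵒᵖ] [Nonempty D] in
theorem ev_mk₀ (t : D) (φ : Rmod I t ⟶ M) :
    ev I M t (Abelian.Ext.mk₀ φ) = φ.hom (Submodule.Quotient.mk (1 : R)) := by
  unfold ev
  simp only [LinearMap.comp_apply, LinearEquiv.coe_coe]
  have : Ext.linearEquiv₀ (R := R) (Abelian.Ext.mk₀ φ) = φ := by
    apply (Ext.linearEquiv₀ (R := R)).symm.injective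
    simp
  rw [this]
  rfl

omit [IsFiltered Dᵒᵖ] [Nonempty D] in
theorem ev_trans {s t : D} (f : s ⟶ t) (ξ : Abelian.Ext (Rmod I t) M 0) :
    ev I M s ((Abelian.Ext.mk₀ (trans I f)).comp ξ (zero_add 0)) = ev I M t ξ := by
  obtain ⟨φ, rfl⟩ : ∃ φ, Abelian.Ext.mk₀ φ = ξ := ⟨_, Ext.mk₀_linearEquiv₀_apply (R := R) ξ⟩
  rw [Ext.mk₀_comp_mk₀, ev_mk₀, ev_mk₀]
  rfl

omit [IsFiltered Dᵒᵖ] [Nonempty D] in
theorem ev_eq_zero_iff (t : D) (ξ : Abelian.Ext (Rmod I t) M 0) : ev I M t ξ = 0 ↔ ξ = 0 := by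
  constructor
  · intro h
    obtain ⟨φ, rfl⟩ : ∃ φ, Abelian.Ext.mk₀ φ = ξ := ⟨_, Ext.mk₀_linearEquiv₀_apply (R := R) ξ⟩
    rw [ev_mk₀] at h
    have : φ = 0 := by
      apply ModuleCat.hom_ext
      apply LinearMap.ext
      intro y
      obtain ⟨y, rfl⟩ := Submodule.Quotient.mk_surjective _ y
      have hy : (Submodule.Quotient.mk y : R ⧸ I.obj t) = y • Submodule.Quotient.mk (1 : R) := by
        rw [← Submodule.Quotient.mk_smul, smul_eq_mul, mul_one]
      rw [hy, map_smul, h, smul_zero]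
      rfl
    rw [this, Ext.mk₀_zero]
  · rintro rfl
    rw [map_zero]

theorem ev_mem_gam (t : D) (ξ : Abelian.Ext (Rmod I t) M 0) : ev I M t ξ ∈ gam I M := by
  refine ⟨t, fun a ha => ?_⟩
  rw [← map_smul, ext_smul_eq_zero_of_left (smul_Rmod_eq_zero I ha), map_zero]

omit [IsFiltered Dᵒᵖ] [Nonempty D] in
/-- legs of the cocone -/
noncomputable def toModLeg (t : D) : oldObj I 0 M t ⟶ M :=
  ModuleCat.ofHom (ev I M t ∘ₗ (extEquiv (Rmod I t) M 0).toLinearMap)

omit [IsFiltered Dᵒᵖ] [Nonempty D] in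
theorem oldTrans_toModLeg {s t : D} (f : s ⟶ t) :
    oldTrans I 0 M f ≫ toModLeg I M s = toModLeg I M t := by
  ext y
  change ev I M s (extEquiv _ M 0 ((oldTrans I 0 M f).hom y)) = ev I M t (extEquiv _ M 0 y)
  rw [extEquiv_oldTrans, ev_trans]

omit [IsFiltered Dᵒᵖ] [Nonempty D] in
/-- the cocone defining `H⁰(M) → M` -/
noncomputable def toModCocone : Cocone (lcDiagram I 0 ⋙ (evaluation _ _).obj M) where
  pt := M
  ι :=
    { app := fun t => toModLeg I M t.unop
      naturality := by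
        rintro ⟨t⟩ ⟨s⟩ f
        obtain ⟨f', rfl⟩ : ∃ f' : s ⟶ t, f = f'.op := ⟨f.unop, rfl⟩
        simp only [Functor.const_obj_obj, Functor.const_obj_map, Category.comp_id]
        exact oldTrans_toModLeg I M f' }

omit [IsFiltered Dᵒᵖ] [Nonempty D] in
/-- the canonical map `H⁰(M) → M` -/
noncomputable def toMod : (HF I 0).obj M ⟶ M :=
  (evalCoconeIsColimit I 0 M).desc (toModCocone I M)

omit [IsFiltered Dᵒᵖ] [Nonempty D] in
theorem toMod_ι (t : D) (ξ : Abelian.Ext (Rmod I t) M 0) :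
    (toMod I M).hom (ι I 0 M t ξ) = ev I M t ξ := by
  rw [ι_apply]
  have h := congrArg (fun t' => t'.hom ((extEquiv (Rmod I t) M 0).symm ξ))
    ((evalCoconeIsColimit I 0 M).fac (toModCocone I M) (op t))
  simp only [ModuleCat.hom_comp, LinearMap.comp_apply] at h
  refine h.trans ?_
  change ev I M t (extEquiv _ M 0 ((extEquiv (Rmod I t) M 0).symm ξ)) = _
  rw [LinearEquiv.apply_symm_apply]

omit [Nonempty D] in
theorem toMod_injective : Function.Injective (toMod I M).hom := by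
  rw [injective_iff_map_eq_zero]
  intro x hx
  obtain ⟨t, ξ, rfl⟩ := exists_rep I 0 M x
  rw [toMod_ι, ev_eq_zero_iff] at hx
  rw [hx, map_zero]

theorem toMod_mem_gam (x : (HF I 0).obj M) : (toMod I M).hom x ∈ gam I M := by
  obtain ⟨t, ξ, rfl⟩ := exists_rep I 0 M x
  rw [toMod_ι]
  exact ev_mem_gam I M t ξ

theorem exists_toMod_eq {m : M} (hm : m ∈ gam I M) : ∃ x, (toMod I M).hom x = m := by
  obtain ⟨t, ht⟩ := hm
  let φ : (R ⧸ I.obj t) →ₗ[R] M :=
    Submodule.liftQ (I.obj t) (LinearMap.toSpanSingleton R M m) (by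
      intro a ha
      rw [LinearMap.mem_ker, LinearMap.toSpanSingleton_apply]
      exact ht a ha)
  refine ⟨ι I 0 M t (Abelian.Ext.mk₀ (ModuleCat.ofHom φ)), ?_⟩
  rw [toMod_ι, ev_mk₀]
  change φ (Submodule.Quotient.mk 1) = m
  rw [Submodule.liftQ_apply, LinearMap.toSpanSingleton_apply, one_smul]

end HZero

section HZeroModule

variable [IsFiltered Dᵒᵖ] [Nonempty D]
variable (M : Type u) [AddCommGroup M] [Module R M]

/-- `H⁰(M) ≃ Γ(M)` -/
noncomputable def H0Equiv : H I 0 M ≃ₗ[R] gam I M :=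
  LinearEquiv.ofBijective
    ((toMod I (ModuleCat.of R M)).hom.codRestrict (gam I M) (toMod_mem_gam I (ModuleCat.of R M)))
    ⟨fun x y h => toMod_injective I (ModuleCat.of R M) (congrArg Subtype.val h),
      fun ⟨m, hm⟩ => by
        obtain ⟨x, hx⟩ := exists_toMod_eq I (ModuleCat.of R M) hm
        exact ⟨x, Subtype.ext hx⟩⟩

end HZeroModule

end Groth.Agent.Helper8.HTd
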