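import Groth.Agent.Lib.Helper8.HTd3
import Groth.Agent.Lib.Helper8.LCFaltFin
import Groth.Prelude.Def_DualLC

/-!
# Local cohomology with supports in a specialization-closed subset: basic facts (helper8)

`Dual2.HT T i M` is `HTd.H (Dual2.idealsInDiagram T) i M` definitionally.
-/

open CategoryTheory CategoryTheory.Limits Opposite Abelian Pointwise
universe u

namespace Groth.Agent.Helper8.HTd

variable {A : Type u} [CommRing A] (T : Set (PrimeSpectrum A))

/-- an object of `IdealsIn T` -/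
def mkI (J : Ideal A) (hJ : PrimeSpectrum.zeroLocus (J : Set A) ⊆ T) : Dual2.IdealsIn T := ⟨J, hJ⟩

/-- a morphism of `IdealsIn T` from an inclusion -/
def homOfLE' {J J' : Dual2.IdealsIn T} (h : J.obj ≤ J'.obj) : J ⟶ J' :=
  ObjectProperty.homMk (homOfLE h)

theorem le_of_hom' {J J' : Dual2.IdealsIn T} (f : J ⟶ J') : J.obj ≤ J'.obj := leOfHom f.hom

instance (J J' : Dual2.IdealsIn T) : Subsingleton (J ⟶ J') :=
  ⟨fun _ _ => ObjectProperty.hom_ext _ (Subsingleton.elim _ _)⟩

instance : Nonempty (Dual2.IdealsIn T) :=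
  ⟨mkI T ⊤ (by simp)⟩

theorem zeroLocus_inf_subset {J J' : Ideal A} (hJ : PrimeSpectrum.zeroLocus (J : Set A) ⊆ T)
    (hJ' : PrimeSpectrum.zeroLocus (J' : Set A) ⊆ T) :
    PrimeSpectrum.zeroLocus ((J ⊓ J' : Ideal A) : Set A) ⊆ T := by
  rw [PrimeSpectrum.zeroLocus_inf]
  exact Set.union_subset hJ hJ'

theorem zeroLocus_mul_subset {J J' : Ideal A} (hJ : PrimeSpectrum.zeroLocus (J : Set A) ⊆ T)
    (hJ' : PrimeSpectrum.zeroLocus (J' : Set A) ⊆ T) :
    PrimeSpectrum.zeroLocus ((J * J' : Ideal A) : Set A) ⊆ T := by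
  rw [PrimeSpectrum.zeroLocus_mul]
  exact Set.union_subset hJ hJ'

instance : IsFiltered (Dual2.IdealsIn T)ᵒᵖ where
  cocone_objs := by
    rintro ⟨J⟩ ⟨J'⟩
    refine ⟨op (mkI T (J.obj ⊓ J'.obj) (zeroLocus_inf_subset T J.property J'.property)),
      (homOfLE' T (J := mkI T (J.obj ⊓ J'.obj) _) (J' := J) inf_le_left).op,
      (homOfLE' T (J := mkI T (J.obj ⊓ J'.obj) _) (J' := J') inf_le_right).op, trivial⟩
  cocone_maps := by
    rintro ⟨J⟩ ⟨J'⟩ f g
    refine ⟨op J', 𝟙 _, ?_⟩
    have : f = g := by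
      apply Quiver.Hom.unop_inj
      exact Subsingleton.elim _ _
    rw [this]
  nonempty := ⟨op (mkI T ⊤ (by simp))⟩

/-- the diagram of ideals with zero locus in `T` -/
abbrev ID : Dual2.IdealsIn T ⥤ Ideal A := Dual2.idealsInDiagram T

section Tors

variable {T}
variable {N : Type*} [AddCommGroup N] [Module A N]

/-- a finitely generated module all of whose elements are killed by ideals with zero locus in `T`
is killed by a single such ideal -/
theorem exists_ideal_kill_of_fg
    (hN : ∀ x : N, ∃ J : Ideal A, PrimeSpectrum.zeroLocus (J : Set A) ⊆ T ∧ ∀ a ∈ J, a • x = 0)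
    (hfg : (⊤ : Submodule A N).FG) :
    ∃ J : Ideal A, PrimeSpectrum.zeroLocus (J : Set A) ⊆ T ∧ ∀ a ∈ J, ∀ x : N, a • x = 0 := by
  classical
  obtain ⟨S, hS⟩ := hfg
  choose Jf hJf using hN
  have key : ∀ S' : Finset N, ∃ J : Ideal A, PrimeSpectrum.zeroLocus (J : Set A) ⊆ T ∧
      ∀ a ∈ J, ∀ x ∈ S', a • x = 0 := by
    intro S'
    induction S' using Finset.induction_on with
    | empty => exact ⟨⊤, by simp, fun a _ x hx => absurd hx (Finset.notMem_empty x)⟩
    | insert y S' _ ih =>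
      obtain ⟨J, hJ, hk⟩ := ih
      refine ⟨Jf y ⊓ J, zeroLocus_inf_subset T (hJf y).1 hJ, fun a ha x hx => ?_⟩
      rcases Finset.mem_insert.mp hx with rfl | hx
      · exact (hJf x).2 a ha.1
      · exact hk a ha.2 x hx
  obtain ⟨J, hJ, hk⟩ := key S
  refine ⟨J, hJ, fun a ha m => ?_⟩
  have hm : m ∈ Submodule.span A (S : Set N) := by rw [hS]; trivial
  induction hm using Submodule.span_induction with
  | mem x hx => exact hk a ha x hx
  | zero => exact smul_zero a
  | add x y _ _ hx hy => rw [smul_add, hx, hy, add_zero]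
  | smul r x _ hx => rw [smul_comm, hx, smul_zero]

end Tors

section Gam

variable (M : Type u) [AddCommGroup M] [Module A M]

/-- the submodule of sections with support in `T` -/
abbrev gamT : Submodule A M := gam (ID T) M

variable {M}

theorem mem_gamT (m : M) : m ∈ gamT T M ↔
    ∃ J : Ideal A, PrimeSpectrum.zeroLocus (J : Set A) ⊆ T ∧ ∀ a ∈ J, a • m = 0 := by
  constructor
  · rintro ⟨t, ht⟩
    exact ⟨t.obj, t.property, ht⟩
  · rintro ⟨J, hJ, h⟩
    exact ⟨mkI T J hJ, h⟩

variable (M)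

theorem finite_H_zero [IsNoetherianRing A] [Module.Finite A M] :
    Module.Finite A (H (ID T) 0 M) := by
  have : IsNoetherian A M := isNoetherian_of_isNoetherianRing_of_finite A M
  exact Module.Finite.equiv (H0Equiv (ID T) M).symm

/-- a single ideal with zero locus in `T` kills `Γ_T(M)` for finite `M` -/
theorem exists_ideal_kill_gamT [IsNoetherianRing A] [Module.Finite A M] :
    ∃ J : Ideal A, PrimeSpectrum.zeroLocus (J : Set A) ⊆ T ∧
      ∀ a ∈ J, ∀ g ∈ gamT T M, a • g = 0 := by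
  have hfg : (⊤ : Submodule A (gamT T M)).FG := by
    have : IsNoetherian A M := isNoetherian_of_isNoetherianRing_of_finite A M
    exact (inferInstance : Module.Finite A (gamT T M)).fg_top
  obtain ⟨J, hJ, hk⟩ := exists_ideal_kill_of_fg (T := T) (N := gamT T M) (fun x => by
    obtain ⟨J, hJ, h⟩ := (mem_gamT T x.1).mp x.2
    exact ⟨J, hJ, fun a ha => Subtype.ext (h a ha)⟩) hfg
  exact ⟨J, hJ, fun a ha g hg => congrArg Subtype.val (hk a ha ⟨g, hg⟩)⟩

theorem gamT_quotient_gamT [IsNoetherianRing A] : gamT T (M ⧸ gamT T M) = ⊥ := by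
  rw [eq_bot_iff]
  intro x hx
  obtain ⟨J, hJ, hk⟩ := (mem_gamT T x).mp hx
  obtain ⟨m, rfl⟩ := Submodule.Quotient.mk_surjective _ x
  rw [Submodule.mem_bot, Submodule.Quotient.mk_eq_zero]
  let φ : J →ₗ[A] M := (LinearMap.toSpanSingleton A M m) ∘ₗ J.subtype
  have hφ : ∀ a : J, φ a ∈ gamT T M := by
    intro a
    have := hk a.1 a.2
    rw [← Submodule.Quotient.mk_smul, Submodule.Quotient.mk_eq_zero] at this
    exact this
  let ψ : J →ₗ[A] gamT T M := φ.codRestrict _ hφ
  have hfg : (⊤ : Submodule A (LinearMap.range ψ)).FG := by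
    rw [← Module.finite_def]
    exact Module.Finite.range ψ
  obtain ⟨J₁, hJ₁, hk₁⟩ := exists_ideal_kill_of_fg (T := T) (N := LinearMap.range ψ) (fun y => by
    obtain ⟨J', hJ', h⟩ := (mem_gamT T y.1.1).mp y.1.2
    exact ⟨J', hJ', fun a ha => Subtype.ext (Subtype.ext (h a ha))⟩) hfg
  rw [mem_gamT]
  refine ⟨J₁ * J, zeroLocus_mul_subset T hJ₁ hJ, fun b hb => ?_⟩
  refine Submodule.mul_induction_on hb ?_ ?_
  · intro c hc a ha
    have h1 := hk₁ c hc ⟨ψ ⟨a, ha⟩, LinearMap.mem_range_self ψ _⟩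
    have h2 : c • (a • m) = 0 :=
      congrArg (fun t : LinearMap.range ψ => ((t : gamT T M) : M)) h1
    rw [mul_smul]
    exact h2
  · intro x y hx hy
    rw [add_smul, hx, hy, add_zero]

/-- if `Γ_T(M) = 0` for a finite module over a Noetherian ring and `T` is stable under
specialization, every ideal with zero locus in `T` contains an `M`-regular element -/
theorem exists_regular_of_gamT_eq_bot [IsNoetherianRing A] (hT : StableUnderSpecialization T)
    [Module.Finite A M] (h : gamT T M = ⊥) (J : Ideal A)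
    (hJ : PrimeSpectrum.zeroLocus (J : Set A) ⊆ T) :
    ∃ x ∈ J, IsSMulRegular M x := by
  by_contra hcon
  push Not at hcon
  obtain ⟨p, hp, hIp⟩ : ∃ p ∈ associatedPrimes A M, J ≤ p := by
    refine (J.subset_union_prime_finite (associatedPrimes.finite A M) (f := id) 0 0
      fun _ h _ _ => h.isPrime).1 ?_
    simp_rw [id, biUnion_associatedPrimes_eq_compl_regular A M]
    exact fun x hx => hcon x hx
  obtain ⟨hprime, m, hm⟩ := (isAssociatedPrime_iff (I := p) (M := M)).mp hp
  have hpT : (⟨p, hprime⟩ : PrimeSpectrum A) ∈ T := hJ (by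
    rw [PrimeSpectrum.mem_zeroLocus]
    exact hIp)
  have hm0 : m ∈ gamT T M := by
    rw [mem_gamT]
    refine ⟨p, ?_, fun a ha => ?_⟩
    · intro q hq
      rw [PrimeSpectrum.mem_zeroLocus] at hq
      have hle : (⟨p, hprime⟩ : PrimeSpectrum A) ≤ q := hq
      exact hT ((PrimeSpectrum.le_iff_specializes _ _).mp hle) hpT
    · have : a ∈ p := ha
      rw [hm, Submodule.mem_colon_singleton] at this
      exact (Submodule.mem_bot A).mp this
  rw [h, Submodule.mem_bot] at hm0
  subst hm0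
  apply hprime.ne_top
  rw [hm, Ideal.eq_top_iff_one, Submodule.mem_colon_singleton, smul_zero]
  exact Submodule.zero_mem _

end Gam

end Groth.Agent.Helper8.HTd
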