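import Mathlib
import Groth.Agent.Lib.Helper8.JD3
import Groth.Agent.Lib.Helper16.Sch.EquiSkSch1
import Groth.Agent.Lib.Helper13.FinAffine2
import Groth.Agent.Lib.Helper26.DevD

/-!
# Dimension function on a scheme locally of finite type over a Jacobson equidimensional base,
and the dimension of the stalk of a coherent module
-/

set_option autoImplicit false
universe u
open CategoryTheory AlgebraicGeometry TopologicalSpace Algz

namespace Groth.Agent.Helper8.JD

open Groth.Agent.Helper14

section transfer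

variable {X S : Scheme.{u}} [IsLocallyNoetherian S] [JacobsonSpace S]
  (h2 : ∀ s : S, CAlg.IsUniversallyCatenary (S.presheaf.stalk s))
  (h3 : ∀ S' ∈ irreducibleComponents (S : Type u), ∀ s ∈ S', IsClosed ({s} : Set S) →
      topologicalKrullDim (↥S' : Type u) = topologicalKrullDim ↥{t : S | t ∈ S' ∧ t ⤳ s})
  (g : X ⟶ S) [LocallyOfFiniteType g]

/-- the induced dimension function on `X` -/
noncomputable def deltaX (t : X) : ℤ :=
  (EquidimDimFun.deltaN (g t) : ℤ) + DimClosure.trdegFun g t

include h2 h3 in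
theorem isDimFun_deltaX : Cyc.IsDimFun X (deltaX g) := by
  have h2' : ∀ s : S, CAlg.IsCatenary (S.presheaf.stalk s) := fun s =>
    (h2 s).2 _ inferInstance
  have hδ := EquidimDimFun.isDimFun_deltaN h2' h3
  have hS : Cyc.IsSetup S (fun t => (EquidimDimFun.deltaN t : ℤ)) := ⟨inferInstance, h2, hδ⟩
  have hcompat : Cyc.DeltaCompat g (deltaX g) (fun t => (EquidimDimFun.deltaN t : ℤ)) := by
    intro x
    obtain ⟨m, hm⟩ := ResFieldBridge.exists_nat_trdeg_residueField g x
    exact ⟨m, hm, by simp only [deltaX]; rw [DimClosure.trdegFun_eq g x m hm]⟩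
  exact DimFun.isDimFun_of_deltaCompat g _ hS (deltaX g) hcompat

include h2 h3 in
theorem deltaX_closed (t : X) (ht : IsClosed ({t} : Set X)) : deltaX g t = 0 := by
  have h2' : ∀ s : S, CAlg.IsCatenary (S.presheaf.stalk s) := fun s =>
    (h2 s).2 _ inferInstance
  have hpt : IsClosed ({g t} : Set S) := g.closePoints_subset_preimage_closedPoints ht
  obtain ⟨x, htx, -, hx0⟩ := DimClosure.exists_specializes_trdeg_eq_zero g t
  have hxt : x = t := by
    have : x ∈ closure ({t} : Set X) := specializes_iff_mem_closure.mp htx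
    rw [ht.closure_eq] at this
    exact this
  subst hxt
  simp only [deltaX]
  rw [EquidimDimFun.deltaN_closed h2' h3 _ hpt, DimClosure.trdegFun_eq g x 0 (by rw [hx0]; rfl)]
  simp

end transfer

section stalk

variable {X : Scheme.{u}} [IsLocallyNoetherian X] (δ : X → ℤ) (hδ : Cyc.IsDimFun X δ)
  (hnn : ∀ t, 0 ≤ δ t)

include hδ hnn in
/-- the dimension of the stalk of a coherent module through a dimension function -/
theorem supportDim_stalk (F : X.Modules) (hF : Coh.IsCoh F) (x : X) (hx : x ∈ CohB1.support F)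
    (η₀ : X) (hη₀ : η₀ ∈ CohB1.support F) (hη₀x : η₀ ⤳ x)
    (hmax : ∀ η ∈ CohB1.support F, η ⤳ x → δ η ≤ δ η₀) :
    Module.supportDim (X.presheaf.stalk x) (F.presheaf.stalk x) + (((δ x).toNat : ℕ) : WithBot ℕ∞) =
      (((δ η₀).toNat : ℕ) : WithBot ℕ∞) := by
  haveI : F.IsQuasicoherent := hF.1
  haveI : SheafOfModules.IsFiniteType (R := X.ringCatSheaf) F := hF.2
  let τ : X → ℕ := fun t => (δ t).toNat
  have hτδ : (fun w => (τ w : ℤ)) = δ := by
    funext w
    simp only [τ]
    exact Int.toNat_of_nonneg (hnn w)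
  have hτ : Cyc.IsDimFun X (fun w => (τ w : ℤ)) := by rw [hτδ]; exact hδ
  obtain ⟨ha, hb⟩ := Groth.Agent.Helper16.EquiSk.supportDim_stalk_formula F τ hτ
    (fun V hV => Groth.Agent.Helper13.FinType.finite_sections_of_isFiniteType F hV) x
  apply le_antisymm
  · obtain ⟨v, hvx, hvnt, hv⟩ := hb (not_subsingleton_iff_nontrivial.mp hx)
    rw [hv]
    have h1 := hmax v (not_subsingleton_iff_nontrivial.mpr hvnt) hvx
    have h3 : (δ v).toNat ≤ (δ η₀).toNat := Int.toNat_le_toNat h1
    exact_mod_cast h3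
  · exact ha η₀ hη₀x (not_subsingleton_iff_nontrivial.mp hη₀)

end stalk

end Groth.Agent.Helper8.JD
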