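import Mathlib
import Groth.Prelude.Def_ShStab
import Groth.Agent.Lib.Helper25.ShStabFormal
import Groth.Agent.Lib.Helper13.QCohKer
import Groth.Agent.Lib.Helper13.FinTypeEpi

/-!
# Stability is invariant under isomorphism (piece (JG) of the Jordan–Hölder project, S15202)
-/

set_option autoImplicit false
universe u

open CategoryTheory CategoryTheory.Limits AlgebraicGeometry Polynomial

namespace Groth.Agent.Helper8.JHIso

theorem isCoh_of_iso {X : Scheme.{u}} {M N : X.Modules} (e : M ≅ N) (hM : Coh.IsCoh M) :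
    Coh.IsCoh N := by
  haveI : M.IsQuasicoherent := hM.1
  haveI : SheafOfModules.IsFiniteType (R := X.ringCatSheaf) M := hM.2
  exact ⟨Groth.Agent.Helper13.QCohLocal.isQuasicoherent_of_iso e,
    Groth.Agent.Helper13.FinType.isFiniteType_of_epi e.hom⟩

variable (k : Type u) [Field k] (X : Scheme.{u}) [X.Over (Spec (CommRingCat.of k))]
  [IsProper (X ↘ Spec (CommRingCat.of k))]

/-- (JG) stability is invariant under isomorphism -/
theorem isStable_of_iso (L : X.Modules) (d : ℕ) {E E' : X.Modules} (e : E ≅ E')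
    (hE : ShStab.IsStable k X L E d) : ShStab.IsStable k X L E' d := by
  obtain ⟨hc, hnz, hp, hst⟩ := hE
  refine ⟨isCoh_of_iso e hc, fun hz => hnz (hz.of_iso e), ?_, ?_⟩
  · intro F ι hι hF hF0
    haveI := hι
    exact hp F (ι ≫ e.inv) (mono_comp _ _) hF hF0
  · intro F ι hι hF hF0 hni pF pE' hpF hpE'
    haveI := hι
    refine hst F (ι ≫ e.inv) (mono_comp _ _) hF hF0 ?_ pF pE' hpF
      (Groth.Agent.Helper25.ShStabFormal.isHilbPoly_of_iso k X L e.symm pE' hpE')
    intro hiso
    apply hni
    have h : ι = (ι ≫ e.inv) ≫ e.hom := by simp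
    rw [h]
    infer_instance

/-- semistability is invariant under isomorphism -/
theorem isSemistable_of_iso (L : X.Modules) (d : ℕ) {E E' : X.Modules} (e : E ≅ E')
    (hE : ShStab.IsSemistable k X L E d) : ShStab.IsSemistable k X L E' d := by
  obtain ⟨hc, hnz, hp, hst⟩ := hE
  refine ⟨isCoh_of_iso e hc, fun hz => hnz (hz.of_iso e), ?_, ?_⟩
  · intro F ι hι hF hF0
    haveI := hι
    exact hp F (ι ≫ e.inv) (mono_comp _ _) hF hF0
  · intro F ι hι hF hF0 hni pF pE' hpF hpE'
    haveI := hι
    refine hst F (ι ≫ e.inv) (mono_comp _ _) hF hF0 ?_ pF pE' hpF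
      (Groth.Agent.Helper25.ShStabFormal.isHilbPoly_of_iso k X L e.symm pE' hpE')
    intro hiso
    apply hni
    have h : ι = (ι ≫ e.inv) ≫ e.hom := by simp
    rw [h]
    infer_instance

end Groth.Agent.Helper8.JHIso
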