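import Groth.Agent.Lib.Helper8.LOC24
import Groth.Agent.Lib.Helper8.RMod7

/-!
# An object of `D(A)` with `k` cohomology modules, all killed by `f`, is killed by `f ^ k` (helper8)
-/

set_option autoImplicit false

open CategoryTheory CategoryTheory.Limits CategoryTheory.Pretriangulated

universe u

namespace Groth.Agent.Helper8.KT

open DerivedCategory

attribute [local instance] HasDerivedCategory.standard

variable {A : Type u} [CommRing A]

/-- an object concentrated in one degree whose cohomology is killed by `f` is killed by `f` -/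
theorem smul_id_eq_zero_of_single (f : A) (X : Dual.D A) (a : ℤ) [X.IsGE a] [X.IsLE a]
    (h : ∀ x : Dual.HD A X a, f • x = 0) : f • 𝟙 X = 0 := by
  obtain ⟨M0, ⟨e⟩⟩ := exists_iso_singleFunctor_obj_of_isGE_of_isLE X a
  let e1 : (homologyFunctor (ModuleCat.{u} A) a).obj X ≅ M0 :=
    (homologyFunctor (ModuleCat.{u} A) a).mapIso e ≪≫
      (singleFunctorCompHomologyFunctorIso (ModuleCat.{u} A) a).app M0
  have h1 : f • 𝟙 M0 = 0 := by
    ext y
    show f • y = 0
    have h2 := h (e1.toLinearEquiv.symm y)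
    have h3 := congrArg e1.toLinearEquiv h2
    rw [map_smul, LinearEquiv.apply_symm_apply, map_zero] at h3
    exact h3
  have h2 : f • 𝟙 ((singleFunctor (ModuleCat.{u} A) a).obj M0) = 0 := by
    rw [← CategoryTheory.Functor.map_id, ← Functor.map_smul, h1, Functor.map_zero]
  calc f • 𝟙 X = e.hom ≫ (f • 𝟙 _) ≫ e.inv := by
        rw [Linear.smul_comp, Linear.comp_smul, Category.id_comp, e.hom_inv_id]
    _ = 0 := by rw [h2, zero_comp, comp_zero]

/-- the inductive statement -/
theorem pow_smul_id_eq_zero (f : A) : ∀ (k : ℕ) (Q : Dual.D A) (a : ℤ), Q.IsGE a →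
    Q.IsLE (a + k - 1) → (∀ (j : ℤ) (x : Dual.HD A Q j), f • x = 0) → f ^ k • 𝟙 Q = 0 := by
  intro k
  induction k with
  | zero =>
    intro Q a hge hle _
    have hz : IsZero Q := DerivedCategory.TStructure.t.isZero Q (a + (0 : ℕ) - 1) a (by simp)
    rw [hz.eq_of_src (𝟙 Q) 0, smul_zero]
  | succ k ih =>
    intro Q a hge hle hf
    obtain ⟨X, Y, hX, hY, i, g, δ, hT⟩ :=
      DerivedCategory.TStructure.t.exists_triangle Q a (a + 1) rfl
    haveI hXle : X.IsLE a := ⟨hX⟩
    haveI hYge : Y.IsGE (a + 1) := ⟨hY⟩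
    -- injectivity of `H^j(X) → H^j(Q)` for `j ≤ a`
    have hinj : ∀ j : ℤ, j ≤ a → Function.Injective
        ((homologyFunctor (ModuleCat.{u} A) j).map i).hom := by
      intro j hj
      have hz : IsZero ((homologyFunctor (ModuleCat.{u} A) (j - 1)).obj Y) :=
        isZero_of_isGE Y (a + 1) (j - 1) (by omega)
      have h0 : HomologySequence.δ (Triangle.mk i g δ) (j - 1) j (by omega) = 0 := hz.eq_of_src _ _
      have hm := (HomologySequence.mono_homologyMap_mor₁_iff (Triangle.mk i g δ) hT (j - 1) j
        (by omega)).mpr h0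
      exact (ModuleCat.mono_iff_injective _).mp hm
    -- surjectivity of `H^j(Q) → H^j(Y)` for `j ≥ a + 1`
    have hsurj : ∀ j : ℤ, a + 1 ≤ j → Function.Surjective
        ((homologyFunctor (ModuleCat.{u} A) j).map g).hom := by
      intro j hj
      have hz : IsZero ((homologyFunctor (ModuleCat.{u} A) (j + 1)).obj X) :=
        isZero_of_isLE X a (j + 1) (by omega)
      have h0 : HomologySequence.δ (Triangle.mk i g δ) j (j + 1) rfl = 0 := hz.eq_of_tgt _ _
      have hm := (HomologySequence.epi_homologyMap_mor₂_iff (Triangle.mk i g δ) hT j (j + 1)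
        rfl).mpr h0
      exact (ModuleCat.epi_iff_surjective _).mp hm
    haveI hXge : X.IsGE a := by
      rw [isGE_iff]
      intro j hj
      have hQ : IsZero ((homologyFunctor (ModuleCat.{u} A) j).obj Q) := isZero_of_isGE Q a j hj
      haveI : Subsingleton ((homologyFunctor (ModuleCat.{u} A) j).obj Q) :=
        ModuleCat.subsingleton_of_isZero hQ
      haveI : Subsingleton ((homologyFunctor (ModuleCat.{u} A) j).obj X) :=
        (hinj j (by omega)).subsingleton
      exact ModuleCat.isZero_of_subsingleton _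
    haveI hYle : Y.IsLE (a + 1 + k - 1) := by
      rw [isLE_iff]
      intro j hj
      have hQ : IsZero ((homologyFunctor (ModuleCat.{u} A) j).obj Q) :=
        isZero_of_isLE Q (a + (k + 1 : ℕ) - 1) j (by push_cast; omega)
      haveI : Subsingleton ((homologyFunctor (ModuleCat.{u} A) j).obj Q) :=
        ModuleCat.subsingleton_of_isZero hQ
      haveI : Subsingleton ((homologyFunctor (ModuleCat.{u} A) j).obj Y) :=
        (hsurj j (by omega)).subsingleton
      exact ModuleCat.isZero_of_subsingleton _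
    -- `f` kills `X`
    have hfX : f • 𝟙 X = 0 := by
      refine smul_id_eq_zero_of_single f X a (fun x => ?_)
      apply hinj a le_rfl
      rw [map_smul, hf, map_zero]
    -- `f ^ k` kills `Y`
    have hfY : f ^ k • 𝟙 Y = 0 := by
      refine ih Y (a + 1) hYge hYle (fun j y => ?_)
      rcases lt_or_ge j (a + 1) with hj | hj
      · have hz : IsZero ((homologyFunctor (ModuleCat.{u} A) j).obj Y) :=
          isZero_of_isGE Y (a + 1) j hj
        haveI : Subsingleton ((homologyFunctor (ModuleCat.{u} A) j).obj Y) :=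
          ModuleCat.subsingleton_of_isZero hz
        exact Subsingleton.elim _ _
      · obtain ⟨x, rfl⟩ := hsurj j hj y
        rw [← map_smul, hf, map_zero]
    -- conclusion
    have h1 : (f ^ k • 𝟙 Q) ≫ g = 0 := by
      rw [Linear.smul_comp, Category.id_comp]
      calc f ^ k • g = g ≫ (f ^ k • 𝟙 Y) := by rw [Linear.comp_smul, Category.comp_id]
        _ = 0 := by rw [hfY, comp_zero]
    obtain ⟨h, hh⟩ := Triangle.coyoneda_exact₂ _ hT (f ^ k • 𝟙 Q) h1
    let h' : Q ⟶ X := h
    have hh' : f ^ k • 𝟙 Q = h' ≫ i := hh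
    have h2 : f • (h' ≫ i) = h' ≫ (f • 𝟙 X) ≫ i := by
      rw [Linear.smul_comp, Category.id_comp, Linear.comp_smul]
    calc f ^ (k + 1) • 𝟙 Q = f • (f ^ k • 𝟙 Q) := by rw [pow_succ', mul_smul]
      _ = h' ≫ (f • 𝟙 X) ≫ i := by rw [hh', h2]
      _ = 0 := by rw [hfX, zero_comp, comp_zero]

end Groth.Agent.Helper8.KT
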