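import Groth.Agent.Lib.Helper8.LD5
import Groth.Agent.Lib.Helper8.LCVanish
import Groth.Agent.Lib.Helper8.LCFin

/-!
# Local duality, part 6: the induction (helper8)
-/

set_option autoImplicit false

open CategoryTheory CategoryTheory.Limits Opposite Pretriangulated

universe u

namespace Groth.Agent.Helper8.LD

open DerivedCategory Groth.Agent.Helper8.FLD Groth.Agent.Helper8.HDI IsLocalRing

open scoped Pointwise

attribute [local instance] HasDerivedCategory.standard

section General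

variable {A : Type u} [CommRing A]

/-- `Hom(X, ω⟦-i⟧) ≃ Hom(X⟦i⟧, ω)` -/
noncomputable def homShiftEquiv (X ω : Dual.D A) (i : ℤ) : (X ⟶ ω⟦-i⟧) ≃ₗ[A] (X⟦i⟧ ⟶ ω) :=
  (LinearEquiv.ofBijective (Groth.Agent.Helper8.BiDual.shiftHomLin X ω i (-i) 0 (by omega))
    (Groth.Agent.Helper8.BiDual.shiftHomLin_bijective X ω i (-i) 0 (by omega))).trans
    (Groth.Agent.Helper8.BiDual.shiftZeroEquiv _ _)

theorem negOnePow_smul_eq (n : ℤ) {X Y : Dual.D A} (g : X ⟶ Y) :
    n.negOnePow • g = g ∨ n.negOnePow • g = -g := by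
  rcases Int.even_or_odd n with h | h
  · left
    rw [Int.negOnePow_even n h, one_smul]
  · right
    rw [Int.negOnePow_odd n h, Units.neg_smul, one_smul]

/-- the shifted triangle, spelled out -/
noncomputable abbrev shTri (T : Triangle (Dual.D A)) (n : ℤ) : Triangle (Dual.D A) :=
  Triangle.mk (n.negOnePow • T.mor₁⟦n⟧') (n.negOnePow • T.mor₂⟦n⟧')
    (n.negOnePow • T.mor₃⟦n⟧' ≫ (shiftFunctorComm (Dual.D A) 1 n).hom.app T.obj₁)

theorem shTri_distinguished (T : Triangle (Dual.D A)) (hT : T ∈ distTriang (Dual.D A)) (n : ℤ) :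
    shTri T n ∈ distTriang (Dual.D A) :=
  Triangle.shift_distinguished T hT n

variable (I : Ideal A)

theorem exists_pow_smul_HH_eq_zero (Y : Dual.D A) (t : HH I Y) :
    ∃ k : ℕ, ∀ a ∈ I ^ k, a • t = 0 := by
  obtain ⟨n, τ, rfl⟩ := exists_repY I Y t
  exact ⟨n, fun a ha => smul_legY_eq_zero I Y n τ a ha⟩

theorem HHmap_shift_smul_id {X : Dual.D A} (n : ℤ) (a : A) (t : HH I (X⟦n⟧)) (ht : a • t = 0) :
    HHmap I (n.negOnePow • (a • 𝟙 X)⟦n⟧') t = 0 := by
  have h1 : HHmap I ((a • 𝟙 X)⟦n⟧') t = 0 := by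
    rw [Functor.map_smul, CategoryTheory.Functor.map_id, HHmap_smul, HHmap_id]
    exact ht
  rcases negOnePow_smul_eq n ((a • 𝟙 X)⟦n⟧') with h | h
  · rw [h, h1]
  · rw [h, HHmap_neg, LinearMap.neg_apply, h1, neg_zero]

theorem TTmap_shift_smul_id (ω : Dual.D A) (E : Type u) [AddCommGroup E] [Module A E]
    {X : Dual.D A} (n : ℤ) (a : A) (u : TT ω E (X⟦n⟧)) (hu : a • u = 0) :
    TTmap ω E (n.negOnePow • (a • 𝟙 X)⟦n⟧') u = 0 := by
  have h1 : TTmap ω E ((a • 𝟙 X)⟦n⟧') u = 0 := by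
    rw [Functor.map_smul, CategoryTheory.Functor.map_id, TTmap_smul, TTmap_id]
    exact hu
  rcases negOnePow_smul_eq n ((a • 𝟙 X)⟦n⟧') with h | h
  · rw [h, h1]
  · rw [h, TTmap_neg, h1, neg_zero]

end General


section Local

variable {A : Type u} [CommRing A] [IsLocalRing A] [IsNoetherianRing A] (ω : Dual.D A)
  (hω : Dual.IsDualizing A ω) (hn : Dual.IsNormalized A ω)
  {E : Type u} [AddCommGroup E] [Module A E] {f : ResidueField A →ₗ[A] E}
  (hf : InjHull.IsInjectiveHull f)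
  (Ψ : HH (maximalIdeal A) ω →ₗ[A] E) (hΨ : Function.Injective Ψ)

omit [IsLocalRing A] in
include hω in
theorem finite_hom_shift (M : Type u) [AddCommGroup M] [Module A M] [Module.Finite A M]
    (i : ℤ) : Module.Finite A ((Dual.inD A M)⟦i⟧ ⟶ ω) := by
  obtain ⟨a, b, hab⟩ := hω.finite_injective_dimension
  have hamp : DRing.HasInjAmplitudeIn A a b ω :=
    Groth.Agent.Helper11.DC.injAmp_of_hom_quotient_eq_zero ω a b
      (fun I i hi g => @Subsingleton.elim _ (hab (A ⧸ I) i hi) g 0)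
  have h := Groth.Agent.Helper8.DFin.noetherian_hom (Dual.inD A M) ω
    (fun j => Groth.Agent.Helper8.DualMod.finite_HD_inD A M j) hω.finite_cohomology a b hamp (-i)
  have := Module.IsNoetherian.finite A (Dual.inD A M ⟶ ω⟦-i⟧)
  exact Module.Finite.equiv (homShiftEquiv (Dual.inD A M) ω i)

include hω hf in
theorem exists_pow_smul_TT_eq_zero (M : Type u) [AddCommGroup M] [Module A M]
    [Module.Finite A M] (i : ℤ) (u : TT ω E ((Dual.inD A M)⟦i⟧)) :
    ∃ k : ℕ, ∀ a ∈ maximalIdeal A ^ k, a • u = 0 := by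
  have := finite_hom_shift ω hω M i
  have hfg : (LinearMap.range u).FG := by
    rw [LinearMap.range_eq_map]
    exact Submodule.FG.map _ Module.Finite.fg_top
  obtain ⟨k, hk⟩ := Groth.Agent.Helper8.Matlis.exists_pow_smul_eq_zero_of_fg
    (Groth.Agent.Helper8.Matlis.isPowerTorsion hf.toIsEssentialInj) _ hfg
  refine ⟨k, fun a ha => ?_⟩
  ext ψ
  exact hk a ha _ ⟨ψ, rfl⟩

include hω hf in
/-- the case of a module with a regular element in `m` -/
theorem Lam_bijective_of_regular (i : ℤ)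
    (hP : ∀ (M : Type u) [AddCommGroup M] [Module A M] [Module.Finite A M],
      Function.Bijective (Lam ω E (maximalIdeal A) Ψ ((Dual.inD A M)⟦i - 1⟧)))
    (M : Type u) [AddCommGroup M] [Module A M] [Module.Finite A M] (x : A)
    (hx : x ∈ maximalIdeal A) (hreg : IsSMulRegular M x) :
    Function.Bijective (Lam ω E (maximalIdeal A) Ψ ((Dual.inD A M)⟦i⟧)) := by
  have := hf.isInjective
  have hses : ∀ k : ℕ, Groth.Agent.Helper8.LC.IsSES ((x ^ k) • (LinearMap.id : M →ₗ[A] M))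
      ((x ^ k) • (⊤ : Submodule A M)).mkQ :=
    fun k => Groth.Agent.Helper8.LC.isSES_smul M (hreg.pow k)
  have hT : ∀ k : ℕ, shTri (hses k).shortExact.singleTriangle i ∈ distTriang (Dual.D A) :=
    fun k => shTri_distinguished _ (hses k).shortExact.singleTriangle_distinguished i
  have hmor : ∀ k : ℕ, (hses k).shortExact.singleTriangle.mor₁ = (x ^ k) • 𝟙 (Dual.inD A M) := by
    intro k
    show inDMap ((x ^ k) • (LinearMap.id : M →ₗ[A] M)) = _
    rw [inDMap_smul, inDMap_id]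
  have hmor' : ∀ k : ℕ, (shTri (hses k).shortExact.singleTriangle i).mor₁ =
      i.negOnePow • ((x ^ k) • 𝟙 (Dual.inD A M))⟦i⟧' := by
    intro k
    show i.negOnePow • ((hses k).shortExact.singleTriangle.mor₁)⟦i⟧' = _
    rw [hmor k]
    rfl
  constructor
  · rw [← LinearMap.ker_eq_bot, LinearMap.ker_eq_bot']
    intro t ht
    obtain ⟨k, hk⟩ := exists_pow_smul_HH_eq_zero (maximalIdeal A) _ t
    have hxk : x ^ k ∈ maximalIdeal A ^ k := Ideal.pow_mem_pow hx k
    have ht0 : HHmap (maximalIdeal A) (shTri (hses k).shortExact.singleTriangle i).mor₁ t = 0 := by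
      rw [hmor' k]
      exact HHmap_shift_smul_id _ i (x ^ k) t (hk _ hxk)
    refine Lam_inj_of_triangle ω E _ Ψ _ (hT k) t ht0 ht ?_ ?_
    · exact Lam_injective_of_iso ω E _ Ψ
        ((shiftFunctorAdd' (Dual.D A) i (-1) (i - 1) (by omega)).app _)
        (hP (M ⧸ ((x ^ k) • (⊤ : Submodule A M)))).1
    · exact Lam_surjective_of_iso ω E _ Ψ
        ((shiftFunctorAdd' (Dual.D A) i (-1) (i - 1) (by omega)).app _) (hP M).2
  · intro u
    obtain ⟨k, hk⟩ := exists_pow_smul_TT_eq_zero ω hω hf M i u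
    have hxk : x ^ k ∈ maximalIdeal A ^ k := Ideal.pow_mem_pow hx k
    have hu0 : TTmap ω E (shTri (hses k).shortExact.singleTriangle i).mor₁ u = 0 := by
      rw [hmor' k]
      exact TTmap_shift_smul_id ω E i (x ^ k) u (hk _ hxk)
    refine Lam_surj_of_triangle ω E _ Ψ _ (hT k) u hu0 ?_
    exact Lam_surjective_of_iso ω E _ Ψ
      ((shiftFunctorAdd' (Dual.D A) i (-1) (i - 1) (by omega)).app _)
      (hP (M ⧸ ((x ^ k) • (⊤ : Submodule A M)))).2

end Local

end Groth.Agent.Helper8.LD
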