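import Groth.Agent.Lib.Helper8.KT2
import Groth.Agent.Lib.Helper8.LD4
import Groth.Agent.Lib.Helper8.LD6

/-!
# `H^0_I(ω) = 0` implies `cd(A, I) < dim A`: the main argument (helper8)
-/

set_option autoImplicit false

open CategoryTheory CategoryTheory.Limits CategoryTheory.Pretriangulated

universe u

namespace Groth.Agent.Helper8.KT

open DerivedCategory IsLocalRing

attribute [local instance] HasDerivedCategory.standard

variable {A : Type u} [CommRing A] [IsLocalRing A] [IsNoetherianRing A]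

/-- an element avoiding the top-dimensional minimal primes and killing the higher cohomology of a
normalized dualizing complex -/
theorem exists_killer (ω : Dual.D A) (hω : Dual.IsDualizing A ω) (hn : Dual.IsNormalized A ω)
    (d : ℕ) (hd : ringKrullDim A = d) :
    ∃ (f : A) (b : ℤ), (∀ p ∈ minimalPrimes A, ringKrullDim (A ⧸ p) = d → f ∉ p) ∧
      -(d : ℤ) ≤ b ∧ ω.IsLE b ∧ ∀ j : ℤ, -(d : ℤ) < j → ∀ x : Dual.HD A ω j, f • x = 0 := by
  classical
  obtain ⟨a, b0, hab⟩ := Groth.Agent.Helper8.LOC.exists_isZero_homology ω hω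
  set b : ℤ := max b0 (-(d : ℤ)) with hb
  have hle : ω.IsLE b := by
    rw [isLE_iff]
    intro j hj
    exact hab j (Or.inr (lt_of_le_of_lt (le_max_left _ _) hj))
  have hfin := minimalPrimes.finite_of_isNoetherianRing A
  let S : Finset (Ideal A) := hfin.toFinset.filter (fun p => ringKrullDim (A ⧸ p) = d)
  let Jj : ℤ → Ideal A := fun j => Module.annihilator A (Dual.HD A ω j)
  let J : Ideal A := ∏ j ∈ Finset.Ioc (-(d : ℤ)) b, Jj j
  have hS : ∀ p ∈ S, p ∈ minimalPrimes A ∧ ringKrullDim (A ⧸ p) = d := by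
    intro p hp
    rw [Finset.mem_filter, Set.Finite.mem_toFinset] at hp
    exact hp
  have hJ : ∀ p ∈ S, ¬ J ≤ p := by
    intro p hp hJp
    obtain ⟨hpmin, hpd⟩ := hS p hp
    haveI hpp : p.IsPrime := hpmin.1.1
    obtain ⟨j, hj, hjp⟩ := (Ideal.IsPrime.prod_le hpp).mp hJp
    haveI := hω.finite_cohomology j
    have h1 : (⟨p, hpp⟩ : PrimeSpectrum A) ∈ Module.support A (Dual.HD A ω j) := by
      rw [Module.support_eq_zeroLocus, PrimeSpectrum.mem_zeroLocus]
      exact hjp
    rw [Module.mem_support_iff] at h1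
    have h2 := (Groth.Agent.S1719.result A ω hω hn p hpmin d hpd j).mp h1
    rw [Finset.mem_Ioc] at hj
    omega
  have hav : ¬ ((J : Set A) ⊆ ⋃ p ∈ (↑S : Set (Ideal A)), (p : Set A)) := by
    intro hsub
    obtain ⟨p, hp, hJp⟩ := (Ideal.subset_union_prime (s := S) (f := fun p => p) ⊥ ⊥
      (fun p hp _ _ => (hS p hp).1.1.1)).mp hsub
    exact hJ p hp hJp
  obtain ⟨f, hfJ, hfn⟩ := Set.not_subset.mp hav
  refine ⟨f, b, ?_, le_max_right _ _, hle, ?_⟩
  · intro p hpmin hpd hfp
    apply hfn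
    have hpS : p ∈ S := by
      rw [Finset.mem_filter, Set.Finite.mem_toFinset]
      exact ⟨hpmin, hpd⟩
    exact Set.mem_biUnion (show p ∈ (↑S : Set (Ideal A)) from hpS) hfp
  · intro j hj x
    by_cases hjb : j ≤ b
    · have hmem : j ∈ Finset.Ioc (-(d : ℤ)) b := Finset.mem_Ioc.mpr ⟨hj, hjb⟩
      have h1 : J ≤ Jj j := Ideal.prod_le_inf.trans (Finset.inf_le hmem)
      exact Module.mem_annihilator.mp (h1 hfJ) x
    · have hz : IsZero ((homologyFunctor (ModuleCat.{u} A) j).obj ω) :=
        isZero_of_isLE ω b j (by omega)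
      haveI : Subsingleton (Dual.HD A ω j) := ModuleCat.subsingleton_of_isZero hz
      exact Subsingleton.elim _ _

end Groth.Agent.Helper8.KT
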