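import Groth.Agent.Lib.Helper8.KT3

/-!
# `H^0_I(ω) = 0` implies `cd(A, I) < dim A` (helper8)
-/

set_option autoImplicit false

open CategoryTheory CategoryTheory.Limits CategoryTheory.Pretriangulated

universe u

namespace Groth.Agent.Helper8.KT

open DerivedCategory IsLocalRing Groth.Agent.Helper8.LD

attribute [local instance] HasDerivedCategory.standard

variable {A : Type u} [CommRing A] [IsLocalRing A] [IsNoetherianRing A]

theorem cd_lt_dim (ω : Dual.D A) (hω : Dual.IsDualizing A ω) (hn : Dual.IsNormalized A ω)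
    (I : Ideal A) (h0 : Subsingleton (Dual2.HDI A I ω 0)) (M : Type u) [AddCommGroup M]
    [Module A M] (i : ℕ) (hi : ringKrullDim A ≤ (i : WithBot ℕ∞)) :
    Subsingleton (LocCoh.H I i M) := by
  classical
  obtain ⟨d, hd⟩ := exists_nat_ringKrullDim (A := A)
  have hdi : d ≤ i := by
    rw [hd] at hi
    exact_mod_cast hi
  haveI hge := isGE_neg_dim ω hω hn d hd
  obtain ⟨f, b, hfmin, hdb, hle, hfkill⟩ := exists_killer ω hω hn d hd
  -- the truncation triangle
  obtain ⟨X, Y, hX, hY, i₁, g, δ, hT⟩ :=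
    DerivedCategory.TStructure.t.exists_triangle ω (-(d : ℤ)) (-(d : ℤ) + 1) rfl
  haveI hXle : X.IsLE (-(d : ℤ)) := ⟨hX⟩
  haveI hYge : Y.IsGE (-(d : ℤ) + 1) := ⟨hY⟩
  have hinj := homology_mor₁_injective i₁ g δ hT (-(d : ℤ))
  have hsur1 := homology_mor₁_surjective i₁ g δ hT (-(d : ℤ))
  have hsur2 := homology_mor₂_surjective i₁ g δ hT (-(d : ℤ))
  haveI hXge : X.IsGE (-(d : ℤ)) := by
    rw [isGE_iff]
    intro j hj
    have hQ : IsZero ((homologyFunctor (ModuleCat.{u} A) j).obj ω) :=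
      isZero_of_isGE ω (-(d : ℤ)) j hj
    haveI : Subsingleton ((homologyFunctor (ModuleCat.{u} A) j).obj ω) :=
      ModuleCat.subsingleton_of_isZero hQ
    haveI : Subsingleton ((homologyFunctor (ModuleCat.{u} A) j).obj X) :=
      (hinj j (by omega)).subsingleton
    exact ModuleCat.isZero_of_subsingleton _
  set k : ℕ := (b + d).toNat with hk
  haveI hYle : Y.IsLE (-(d : ℤ) + 1 + (k : ℤ) - 1) := by
    rw [isLE_iff]
    intro j hj
    have hQ : IsZero ((homologyFunctor (ModuleCat.{u} A) j).obj ω) :=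
      isZero_of_isLE ω b j (by omega)
    haveI : Subsingleton ((homologyFunctor (ModuleCat.{u} A) j).obj ω) :=
      ModuleCat.subsingleton_of_isZero hQ
    haveI : Subsingleton ((homologyFunctor (ModuleCat.{u} A) j).obj Y) :=
      (hsur2 j (by omega)).subsingleton
    exact ModuleCat.isZero_of_subsingleton _
  have hfY : f ^ k • 𝟙 Y = 0 := by
    refine pow_smul_id_eq_zero f k Y (-(d : ℤ) + 1) hYge hYle (fun j y => ?_)
    rcases lt_or_ge j (-(d : ℤ) + 1) with hj | hj
    · have hz : IsZero ((homologyFunctor (ModuleCat.{u} A) j).obj Y) :=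
        isZero_of_isGE Y (-(d : ℤ) + 1) j hj
      haveI : Subsingleton ((homologyFunctor (ModuleCat.{u} A) j).obj Y) :=
        ModuleCat.subsingleton_of_isZero hz
      exact Subsingleton.elim _ _
    · obtain ⟨x, rfl⟩ := hsur2 j hj y
      rw [← map_smul, hfkill j (by omega), map_zero]
  -- `f ^ k` kills `𝓗_I(X)`
  haveI hHω : Subsingleton (HH I ω) := by
    have hb := HHmap_bijective_of_isIso I ((shiftFunctorZero (Dual.D A) ℤ).hom.app ω)
    haveI : Subsingleton (HH I (ω⟦(0 : ℤ)⟧)) := h0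
    exact hb.2.subsingleton
  have hTr := inv_rot_of_distTriang _ hT
  have hex := HH_exact I _ hTr
  have hfsh : f ^ k • 𝟙 (Y⟦(-1 : ℤ)⟧) = 0 := by
    rw [← CategoryTheory.Functor.map_id, ← Functor.map_smul, hfY, Functor.map_zero]
  have hkill : ∀ y : HH I X, f ^ k • y = 0 := by
    intro y
    have h1 : HHmap I i₁ y = 0 := Subsingleton.elim _ _
    obtain ⟨z, rfl⟩ := (hex y).mp h1
    have h2 : f ^ k • z = 0 := by
      have h3 : HHmap I (f ^ k • 𝟙 (Y⟦(-1 : ℤ)⟧)) z = f ^ k • z := by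
        rw [HHmap_smul, HHmap_id]
        rfl
      rw [← h3, hfsh, HHmap_zero]
      rfl
    have h4 := (HHmap I (Triangle.mk i₁ g δ).invRotate.mor₁).map_smul (f ^ k) z
    rw [h2, map_zero] at h4
    exact h4.symm
  -- identify `X`
  set N := Dual.HD A ω (-(d : ℤ)) with hN
  haveI : Module.Finite A N := hω.finite_cohomology _
  have h0' : ∀ j : ℤ, j ≠ 0 →
      IsZero ((homologyFunctor (ModuleCat.{u} A) j).obj (X⟦(-(d : ℤ))⟧)) := by
    intro j hj
    have e := Groth.Agent.Helper8.LOC.homologyShiftEquiv X (-(d : ℤ)) j (-(d : ℤ) + j) rfl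
    have hz : IsZero ((homologyFunctor (ModuleCat.{u} A) (-(d : ℤ) + j)).obj X) := by
      rcases lt_or_gt_of_ne hj with h | h
      · exact isZero_of_isGE X (-(d : ℤ)) _ (by omega)
      · exact isZero_of_isLE X (-(d : ℤ)) _ (by omega)
    haveI : Subsingleton (Dual.HD A X (-(d : ℤ) + j)) := ModuleCat.subsingleton_of_isZero hz
    haveI : Subsingleton (Dual.HD A (X⟦(-(d : ℤ))⟧) j) := e.toEquiv.subsingleton
    exact ModuleCat.isZero_of_subsingleton _
  let e1 : Dual.HD A X (-(d : ℤ)) ≃ₗ[A] N :=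
    LinearEquiv.ofBijective ((homologyFunctor (ModuleCat.{u} A) (-(d : ℤ))).map i₁).hom
      ⟨hinj _ le_rfl, hsur1 _ le_rfl⟩
  let e0 : (homologyFunctor (ModuleCat.{u} A) 0).obj (X⟦(-(d : ℤ))⟧) ≃ₗ[A] N :=
    (Groth.Agent.Helper8.LOC.homologyShiftEquiv X (-(d : ℤ)) 0 (-(d : ℤ)) (by omega)).trans e1
  obtain ⟨iso1⟩ := Groth.Agent.Helper8.RMod.nonempty_iso_inD_of_homology (X⟦(-(d : ℤ))⟧) N h0' e0
  let iso2 : X ≅ (Dual.inD A N)⟦(d : ℤ)⟧ :=
    ((shiftFunctorCompIsoId (Dual.D A) (-(d : ℤ)) (d : ℤ) (by omega)).app X).symm ≪≫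
      (shiftFunctor (Dual.D A) (d : ℤ)).mapIso iso1
  have hkillN : ∀ x : LocCoh.H I d N, f ^ k • x = 0 := by
    intro x
    obtain ⟨y', rfl⟩ := (brEquiv I d N).surjective x
    obtain ⟨y, rfl⟩ := (HHmap_bijective_of_isIso I iso2.hom).2 y'
    rw [← map_smul, ← map_smul, hkill y, map_zero, map_zero]
  -- `H^d_I(N) = 0`
  have hsurj := Groth.Agent.Helper8.LC.smul_surjective_H_top I d hd f hfmin N
  have hsurjk : ∀ m : ℕ, ∀ x : LocCoh.H I d N, ∃ x', f ^ m • x' = x := by
    intro m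
    induction m with
    | zero => exact fun x => ⟨x, by rw [pow_zero, one_smul]⟩
    | succ m ih =>
      intro x
      obtain ⟨x1, hx1⟩ := ih x
      obtain ⟨x2, hx2⟩ := hsurj x1
      refine ⟨x2, ?_⟩
      rw [pow_succ, mul_smul]
      show f ^ m • (f • x2) = x
      have hx2' : f • x2 = x1 := hx2
      rw [hx2', hx1]
  have hvan : Subsingleton (LocCoh.H I d N) := by
    refine ⟨fun x x' => ?_⟩
    obtain ⟨y, rfl⟩ := hsurjk k x
    obtain ⟨y', rfl⟩ := hsurjk k x'
    rw [hkillN, hkillN]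
  -- the support condition
  have hsupp : ∀ p ∈ minimalPrimes A, ringKrullDim (A ⧸ p) = d → ∀ hp : p.IsPrime,
      (⟨p, hp⟩ : PrimeSpectrum A) ∈ Module.support A N := by
    intro p hpmin hpd hp
    rw [Module.mem_support_iff]
    exact (Groth.Agent.S1719.result A ω hω hn p hpmin d hpd (-(d : ℤ))).mpr rfl
  exact Groth.Agent.Helper8.LC.H_subsingleton_of_top_vanishing I d hd N hsupp hvan M i hdi

end Groth.Agent.Helper8.KT
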