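import Mathlib
import Groth.Prelude.Def_DRing2

/-!
# Element-level homology API for cochain complexes of modules (for the Künneth formula)
-/

set_option autoImplicit false
set_option linter.unusedSectionVars false
set_option linter.unusedVariables false
set_option linter.style.haveILetI false

universe u

open CategoryTheory CategoryTheory.Limits HomologicalComplex

namespace Groth.Agent.Helper8.Kun

variable {A : Type u} [CommRing A] (C : DRing.Cx A)

/-- concrete cycles -/
abbrev Zs (i : ℤ) : Submodule A (C.X i) := LinearMap.ker (C.d i (i + 1)).hom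

/-- concrete boundaries -/
abbrev Bs (i : ℤ) : Submodule A (C.X i) := LinearMap.range (C.d (i - 1) i).hom

lemma mem_Zs (i : ℤ) (x : C.X i) : x ∈ Zs C i ↔ (C.d i (i + 1)).hom x = 0 := Iff.rfl

lemma mem_Bs (i : ℤ) (x : C.X i) : x ∈ Bs C i ↔ ∃ y, (C.d (i - 1) i).hom y = x := Iff.rfl

lemma d_d_hom (i j k : ℤ) (x : C.X i) : (C.d j k).hom ((C.d i j).hom x) = 0 :=
  congrArg (fun f => f.hom x) (C.d_comp_d i j k)

lemma Bs_le_Zs (i : ℤ) : Bs C i ≤ Zs C i := by
  rintro _ ⟨y, rfl⟩
  exact d_d_hom C _ _ _ y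

theorem exists_cycle (n : ℤ) (x : C.X n) (hx : (C.d n (n + 1)).hom x = 0) :
    ∃ z : C.cycles n, (C.iCycles n).hom z = x := by
  let k : ModuleCat.of A A ⟶ C.X n := ModuleCat.ofHom (LinearMap.toSpanSingleton A _ x)
  have hk : k ≫ C.d n (n + 1) = 0 := by
    ext
    simp [k, hx]
  refine ⟨(C.liftCycles k (n + 1) (by simp) hk).hom (1 : A), ?_⟩
  have := C.liftCycles_i k (n + 1) (by simp) hk
  have h2 : ((C.liftCycles k (n + 1) (by simp) hk ≫ C.iCycles n).hom (1 : A)) = k.hom 1 := by
    rw [this]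
  rw [ModuleCat.hom_comp, LinearMap.comp_apply] at h2
  rw [h2]
  simp [k]

theorem iCycles_injective (n : ℤ) : Function.Injective (C.iCycles n).hom :=
  (ModuleCat.mono_iff_injective _).1 inferInstance

theorem homologyπ_surjective (n : ℤ) : Function.Surjective (C.homologyπ n).hom :=
  (ModuleCat.epi_iff_surjective _).1 inferInstance

theorem iCycles_toCycles (i n : ℤ) (y : C.X i) :
    (C.iCycles n).hom ((C.toCycles i n).hom y) = (C.d i n).hom y := by
  have := C.toCycles_i i n
  exact congrArg (fun f => f.hom y) this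

theorem iCycles_mem_Zs (n : ℤ) (z : C.cycles n) : (C.iCycles n).hom z ∈ Zs C n := by
  have h := C.iCycles_d n (n + 1)
  have h2 : (C.iCycles n ≫ C.d n (n + 1)).hom z = 0 := by rw [h]; rfl
  exact h2

/-- a cycle is a boundary iff its class vanishes -/
theorem homologyπ_eq_zero_iff (n : ℤ) (z : C.cycles n) :
    (C.homologyπ n).hom z = 0 ↔ (C.iCycles n).hom z ∈ Bs C n := by
  have hex : (ShortComplex.mk (C.toCycles (n - 1) n) (C.homologyπ n)
      (C.toCycles_comp_homologyπ (n - 1) n)).Exact :=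
    ShortComplex.exact_of_g_is_cokernel _ (C.homologyIsCokernel (n - 1) n (by simp))
  rw [ShortComplex.moduleCat_exact_iff] at hex
  constructor
  · intro h
    obtain ⟨y, hy⟩ := hex z h
    refine ⟨y, ?_⟩
    rw [← iCycles_toCycles C (n - 1) n y]
    exact congrArg _ hy
  · rintro ⟨y, hy⟩
    rw [← iCycles_toCycles C (n - 1) n y] at hy
    have h2 := iCycles_injective C n hy
    rw [← h2]
    have := C.toCycles_comp_homologyπ (n - 1) n
    exact congrArg (fun f => f.hom y) this

/-- the linear equivalence between abstract and concrete cycles -/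
noncomputable def cyclesEquiv (n : ℤ) : C.cycles n ≃ₗ[A] Zs C n :=
  LinearEquiv.ofBijective
    (LinearMap.codRestrict (Zs C n) (C.iCycles n).hom (iCycles_mem_Zs C n))
    ⟨fun x y h => iCycles_injective C n (congrArg Subtype.val h),
     fun x => by
      obtain ⟨z, hz⟩ := exists_cycle C n x.1 x.2
      exact ⟨z, Subtype.ext hz⟩⟩

lemma cyclesEquiv_apply_coe (n : ℤ) (z : C.cycles n) :
    ((cyclesEquiv C n z : Zs C n) : C.X n) = (C.iCycles n).hom z := rfl

lemma iCycles_cyclesEquiv_symm (n : ℤ) (x : Zs C n) :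
    (C.iCycles n).hom ((cyclesEquiv C n).symm x) = x.1 := by
  rw [← cyclesEquiv_apply_coe, LinearEquiv.apply_symm_apply]

/-- the class map on concrete cycles -/
noncomputable def piH (n : ℤ) : Zs C n →ₗ[A] C.homology n :=
  (C.homologyπ n).hom ∘ₗ (cyclesEquiv C n).symm.toLinearMap

lemma piH_apply (n : ℤ) (x : Zs C n) :
    piH C n x = (C.homologyπ n).hom ((cyclesEquiv C n).symm x) := rfl

lemma piH_iCycles (n : ℤ) (z : C.cycles n) (h : (C.iCycles n).hom z ∈ Zs C n) :
    piH C n ⟨(C.iCycles n).hom z, h⟩ = (C.homologyπ n).hom z := by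
  rw [piH_apply]
  congr 1
  rw [LinearEquiv.symm_apply_eq]
  rfl

lemma piH_surjective (n : ℤ) : Function.Surjective (piH C n) :=
  (homologyπ_surjective C n).comp (cyclesEquiv C n).symm.surjective

lemma piH_eq_zero_iff (n : ℤ) (x : Zs C n) : piH C n x = 0 ↔ x.1 ∈ Bs C n := by
  rw [piH_apply, homologyπ_eq_zero_iff, iCycles_cyclesEquiv_symm]

/-- the inclusion of boundaries into cycles -/
def jBZ (n : ℤ) : Bs C n →ₗ[A] Zs C n := Submodule.inclusion (Bs_le_Zs C n)

lemma jBZ_coe (n : ℤ) (x : Bs C n) : ((jBZ C n x : Zs C n) : C.X n) = x.1 := rfl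

lemma exact_jBZ_piH (n : ℤ) : Function.Exact (jBZ C n) (piH C n) := by
  intro x
  rw [piH_eq_zero_iff]
  constructor
  · intro h
    exact ⟨⟨x.1, h⟩, Subtype.ext rfl⟩
  · rintro ⟨y, rfl⟩
    exact y.2

lemma jBZ_injective (n : ℤ) : Function.Injective (jBZ C n) :=
  Submodule.inclusion_injective _

/-- corestriction of the differential to the boundaries -/
def dB (n : ℤ) : C.X (n - 1) →ₗ[A] Bs C n := (C.d (n - 1) n).hom.rangeRestrict

lemma dB_coe (n : ℤ) (x : C.X (n - 1)) : ((dB C n x : Bs C n) : C.X n) = (C.d (n - 1) n).hom x :=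
  rfl

lemma dB_surjective (n : ℤ) : Function.Surjective (dB C n) :=
  LinearMap.surjective_rangeRestrict _

/-- corestriction of the differential `d : X n → X (n+1)` to the boundaries in degree `m = n+1` -/
def dB' (n m : ℤ) (h : n + 1 = m) : C.X n →ₗ[A] Bs C m :=
  LinearMap.codRestrict (Bs C m) (C.d n m).hom (fun x => by
    subst h
    have : n + 1 - 1 = n := by omega
    refine ⟨(C.XIsoOfEq this).inv.hom x, ?_⟩
    have e : (C.XIsoOfEq this).inv ≫ C.d (n + 1 - 1) (n + 1) = C.d n (n + 1) := by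
      simp
    exact congrArg (fun f => f.hom x) e)

lemma dB'_coe (n m : ℤ) (h : n + 1 = m) (x : C.X n) :
    ((dB' C n m h x : Bs C m) : C.X m) = (C.d n m).hom x := rfl

lemma dB'_surjective (n m : ℤ) (h : n + 1 = m) : Function.Surjective (dB' C n m h) := by
  subst h
  rintro ⟨_, y, rfl⟩
  have : n + 1 - 1 = n := by omega
  refine ⟨(C.XIsoOfEq this).hom.hom y, Subtype.ext ?_⟩
  rw [dB'_coe]
  have e : (C.XIsoOfEq this).hom ≫ C.d n (n + 1) = C.d (n + 1 - 1) (n + 1) := by
    simp
  exact congrArg (fun f => f.hom y) e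

lemma exact_Zs_dB' (n m : ℤ) (h : n + 1 = m) :
    Function.Exact (Zs C n).subtype (dB' C n m h) := by
  subst h
  intro x
  constructor
  · intro hx
    refine ⟨⟨x, ?_⟩, rfl⟩
    exact congrArg Subtype.val hx
  · rintro ⟨y, rfl⟩
    exact Subtype.ext y.2

end Groth.Agent.Helper8.Kun
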