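import Groth.Agent.Lib.Helper8.KunA

/-!
# Flatness of cycles and boundaries, and tensor exactness lemmas (for the Künneth formula)
-/

set_option autoImplicit false
set_option linter.unusedSectionVars false
set_option linter.unusedVariables false
set_option linter.style.haveILetI false

universe u

open CategoryTheory CategoryTheory.Limits HomologicalComplex TensorProduct

namespace Groth.Agent.Helper8.Kun

section LinAlg

variable {R : Type u} [CommRing R]

/-- In a short exact sequence `0 → M → N → P → 0` with `N`, `P` flat, `M` is flat. -/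
theorem flat_of_exact {M N P : Type u} [AddCommGroup M] [AddCommGroup N] [AddCommGroup P]
    [Module R M] [Module R N] [Module R P]
    (g : M →ₗ[R] N) (f : N →ₗ[R] P) (hg : Function.Injective g) (hf : Function.Surjective f)
    (H : Function.Exact g f) [Module.Flat R N] [Module.Flat R P] : Module.Flat R M := by
  rw [Module.Flat.iff_lTensor_preserves_injective_linearMap]
  intro X Y _ _ _ _ i hi
  have h1 : Function.Injective (g.rTensor X) :=
    (LinearMap.lTensor_inj_iff_rTensor_inj _ _).mp
      (LinearMap.lTensor_injective_of_exact_of_flat f hf g hg H X)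
  have h2 : Function.Injective (i.lTensor N) :=
    Module.Flat.lTensor_preserves_injective_linearMap _ hi
  have h3 : (g.rTensor Y) ∘ₗ (i.lTensor M) = (i.lTensor N) ∘ₗ (g.rTensor X) := by
    rw [LinearMap.rTensor_comp_lTensor, LinearMap.lTensor_comp_rTensor]
  have h4 : Function.Injective ((g.rTensor Y) ∘ₗ (i.lTensor M)) := by
    rw [h3]
    exact h2.comp h1
  exact Function.Injective.of_comp h4

variable {M N P Q : Type u} [AddCommGroup M] [AddCommGroup N] [AddCommGroup P] [AddCommGroup Q]
    [Module R M] [Module R N] [Module R P] [Module R Q]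

lemma rl_comm (f : M →ₗ[R] P) (g : N →ₗ[R] Q) (y : M ⊗[R] N) :
    f.rTensor Q (g.lTensor M y) = g.lTensor P (f.rTensor N y) := by
  rw [← LinearMap.comp_apply, ← LinearMap.comp_apply, LinearMap.rTensor_comp_lTensor,
    LinearMap.lTensor_comp_rTensor]

lemma map_eq_rl (f : M →ₗ[R] P) (g : N →ₗ[R] Q) (y : M ⊗[R] N) :
    TensorProduct.map f g y = f.rTensor Q (g.lTensor M y) := by
  rw [← LinearMap.comp_apply, LinearMap.rTensor_comp_lTensor]

lemma map_eq_lr (f : M →ₗ[R] P) (g : N →ₗ[R] Q) (y : M ⊗[R] N) :
    TensorProduct.map f g y = g.lTensor P (f.rTensor N y) := by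
  rw [← LinearMap.comp_apply, LinearMap.lTensor_comp_rTensor]

lemma rT_rT {P' : Type u} [AddCommGroup P'] [Module R P'] (f : M →ₗ[R] P) (f' : P →ₗ[R] P')
    (y : M ⊗[R] N) : f'.rTensor N (f.rTensor N y) = (f' ∘ₗ f).rTensor N y := by
  rw [LinearMap.rTensor_comp]; rfl

lemma lT_lT {Q' : Type u} [AddCommGroup Q'] [Module R Q'] (g : N →ₗ[R] Q) (g' : Q →ₗ[R] Q')
    (y : M ⊗[R] N) : g'.lTensor M (g.lTensor M y) = (g' ∘ₗ g).lTensor M y := by
  rw [LinearMap.lTensor_comp]; rfl

end LinAlg

section Flat

variable {A : Type u} [CommRing A] (L : DRing.Cx A)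
  (hL : ∀ i, Module.Flat A (L.X i)) (hH : ∀ i, Module.Flat A (L.homology i))
  (b : ℤ) (hb : ∀ i, b < i → IsZero (L.X i))

include hL hH hb in
lemma flat_Bs_aux (k : ℕ) : ∀ p : ℤ, b + 1 - p ≤ k → Module.Flat A (Bs L p) := by
  induction k with
  | zero =>
    intro p hp
    haveI : Subsingleton (L.X p) := ModuleCat.subsingleton_of_isZero (hb p (by push_cast at hp; omega))
    haveI : Subsingleton (Bs L p) := inferInstance
    infer_instance
  | succ k ih =>
    intro p hp
    haveI h1 : Module.Flat A (Bs L (p + 1)) := ih (p + 1) (by push_cast at hp; omega)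
    haveI := hL p
    haveI h2 : Module.Flat A (Zs L p) :=
      flat_of_exact (Zs L p).subtype (dB' L p (p + 1) rfl) (Submodule.injective_subtype _)
        (dB'_surjective L p (p + 1) rfl) (exact_Zs_dB' L p (p + 1) rfl)
    haveI := hH p
    exact flat_of_exact (jBZ L p) (piH L p) (jBZ_injective L p) (piH_surjective L p)
      (exact_jBZ_piH L p)

include hL hH hb in
theorem flat_Bs (p : ℤ) : Module.Flat A (Bs L p) :=
  flat_Bs_aux L hL hH b hb (b + 1 - p).toNat p (by omega)

include hL hH hb in
theorem flat_Zs (p : ℤ) : Module.Flat A (Zs L p) := by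
  haveI h1 : Module.Flat A (Bs L (p + 1)) := flat_Bs L hL hH b hb (p + 1)
  haveI := hL p
  exact flat_of_exact (Zs L p).subtype (dB' L p (p + 1) rfl) (Submodule.injective_subtype _)
    (dB'_surjective L p (p + 1) rfl) (exact_Zs_dB' L p (p + 1) rfl)

end Flat

section Tensor

variable {A : Type u} [CommRing A] (L : DRing.Cx A)
  (hB : ∀ i, Module.Flat A (Bs L i)) (hH : ∀ i, Module.Flat A (L.homology i))
  (N : Type u) [AddCommGroup N] [Module A N]

include hB in
theorem rT_Zs_injective (p : ℤ) : Function.Injective ((Zs L p).subtype.rTensor N) := by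
  haveI := hB (p + 1)
  exact (LinearMap.lTensor_inj_iff_rTensor_inj _ _).mp
    (LinearMap.lTensor_injective_of_exact_of_flat (dB' L p (p + 1) rfl)
      (dB'_surjective L p (p + 1) rfl) (Zs L p).subtype (Submodule.injective_subtype _)
      (exact_Zs_dB' L p (p + 1) rfl) N)

include hH in
theorem rT_jBZ_injective (p : ℤ) : Function.Injective ((jBZ L p).rTensor N) := by
  haveI := hH p
  exact (LinearMap.lTensor_inj_iff_rTensor_inj _ _).mp
    (LinearMap.lTensor_injective_of_exact_of_flat (piH L p) (piH_surjective L p) (jBZ L p)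
      (jBZ_injective L p) (exact_jBZ_piH L p) N)

lemma subtype_comp_jBZ (p : ℤ) : (Zs L p).subtype ∘ₗ jBZ L p = (Bs L p).subtype := rfl

include hB hH in
theorem rT_Bs_injective (p : ℤ) : Function.Injective ((Bs L p).subtype.rTensor N) := by
  rw [← subtype_comp_jBZ, LinearMap.rTensor_comp]
  exact (rT_Zs_injective L hB N p).comp (rT_jBZ_injective L hH N p)

lemma subtype_comp_dB' (p p' : ℤ) (hp : p + 1 = p') :
    (Bs L p').subtype ∘ₗ dB' L p p' hp = (L.d p p').hom := rfl

lemma subtype_comp_dB (p : ℤ) :
    (Bs L p).subtype ∘ₗ dB L p = (L.d (p - 1) p).hom := rfl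

include hB hH in
theorem exists_of_rT_d_eq_zero (p p' : ℤ) (hp : p + 1 = p') (x : L.X p ⊗[A] N)
    (hx : (L.d p p').hom.rTensor N x = 0) :
    ∃ y : Zs L p ⊗[A] N, (Zs L p).subtype.rTensor N y = x := by
  rw [← subtype_comp_dB' L p p' hp, LinearMap.rTensor_comp, LinearMap.comp_apply] at hx
  have h0 : (dB' L p p' hp).rTensor N x = 0 := by
    apply rT_Bs_injective L hB hH N p'
    rw [hx, map_zero]
  subst hp
  have hex := rTensor_exact N (exact_Zs_dB' L p (p + 1) rfl) (dB'_surjective L p (p + 1) rfl)
  exact (hex x).mp h0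

theorem exact_rT_jBZ_piH (p : ℤ) :
    Function.Exact ((jBZ L p).rTensor N) ((piH L p).rTensor N) :=
  rTensor_exact N (exact_jBZ_piH L p) (piH_surjective L p)

theorem rT_dB_surjective (p : ℤ) : Function.Surjective ((dB L p).rTensor N) :=
  LinearMap.rTensor_surjective N (dB_surjective L p)

theorem rT_dB'_surjective (p p' : ℤ) (hp : p + 1 = p') :
    Function.Surjective ((dB' L p p' hp).rTensor N) :=
  LinearMap.rTensor_surjective N (dB'_surjective L p p' hp)

theorem rT_piH_surjective (p : ℤ) : Function.Surjective ((piH L p).rTensor N) :=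
  LinearMap.rTensor_surjective N (piH_surjective L p)

end Tensor

end Groth.Agent.Helper8.Kun
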