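import Groth.Agent.Lib.Helper8.KunB

/-!
# Module-level decomposition and injectivity lemmas for the Künneth formula
-/

set_option autoImplicit false
set_option linter.unusedSectionVars false
set_option linter.unusedVariables false
set_option linter.style.haveILetI false

universe u

open CategoryTheory CategoryTheory.Limits HomologicalComplex TensorProduct

namespace Groth.Agent.Helper8.Kun

variable {A : Type u} [CommRing A] (L M : DRing.Cx A)
  (hB : ∀ i, Module.Flat A (Bs L i)) (hH : ∀ i, Module.Flat A (L.homology i))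

lemma map_units_smul {X Y : Type u} [AddCommGroup X] [AddCommGroup Y] [Module A X] [Module A Y]
    (f : X →ₗ[A] Y) (ε : ℤˣ) (x : X) : f (ε • x) = ε • f x := by
  rw [Units.smul_def, Units.smul_def, map_zsmul]

lemma d_comp_Zs_subtype (C : DRing.Cx A) (p : ℤ) :
    (C.d p (p + 1)).hom ∘ₗ (Zs C p).subtype = 0 := by
  ext x
  exact x.2

lemma piH_comp_jBZ (C : DRing.Cx A) (p : ℤ) : piH C p ∘ₗ jBZ C p = 0 := by
  ext x
  exact (exact_jBZ_piH C p).apply_apply_eq_zero x

lemma d_eq_comp (C : DRing.Cx A) (p : ℤ) :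
    (C.d (p - 1) p).hom = (Zs C p).subtype ∘ₗ jBZ C p ∘ₗ dB C p := rfl

include hB hH in
/-- Decomposition lemma -/
theorem decomp (m q : ℤ) (x : L.X m ⊗[A] M.X q)
    (h1 : (L.d m (m + 1)).hom.rTensor (M.X q) x = 0)
    (s : L.X (m - 1) ⊗[A] M.X (q + 1))
    (h2 : (M.d q (q + 1)).hom.lTensor (L.X m) x = (L.d (m - 1) m).hom.rTensor (M.X (q + 1)) s) :
    ∃ (ζ : Zs L m ⊗[A] Zs M q) (t : L.X (m - 1) ⊗[A] M.X q),
      x = TensorProduct.map (Zs L m).subtype (Zs M q).subtype ζ +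
        (L.d (m - 1) m).hom.rTensor (M.X q) t := by
  obtain ⟨y, hy⟩ := exists_of_rT_d_eq_zero L hB hH (M.X q) m (m + 1) rfl x h1
  -- step 2
  have e2 : (M.d q (q + 1)).hom.lTensor (Zs L m) y =
      (jBZ L m).rTensor (M.X (q + 1)) ((dB L m).rTensor _ s) := by
    apply rT_Zs_injective L hB (M.X (q + 1)) m
    rw [rl_comm, hy, h2, rT_rT, rT_rT]
    rfl
  -- step 3
  have e3 : (M.d q (q + 1)).hom.lTensor (L.homology m) ((piH L m).rTensor (M.X q) y) = 0 := by
    rw [← rl_comm, e2]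
    exact (exact_rT_jBZ_piH L (M.X (q + 1)) m).apply_apply_eq_zero _
  -- step 4
  haveI := hH m
  have hex := Module.Flat.lTensor_exact (L.homology m)
    (LinearMap.exact_subtype_ker_map (M.d q (q + 1)).hom)
  obtain ⟨η, hη⟩ := (hex _).mp e3
  -- step 5
  obtain ⟨ζ, hζ⟩ := rT_piH_surjective L (Zs M q) m η
  -- step 6
  have e6 : (piH L m).rTensor (M.X q) (y - (Zs M q).subtype.lTensor (Zs L m) ζ) = 0 := by
    rw [map_sub, rl_comm, hζ, sub_eq_zero]
    exact hη.symm
  obtain ⟨β, hβ⟩ := (exact_rT_jBZ_piH L (M.X q) m _).mp e6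
  obtain ⟨t, ht⟩ := rT_dB_surjective L (M.X q) m β
  refine ⟨ζ, t, ?_⟩
  have e7 : y = (Zs M q).subtype.lTensor (Zs L m) ζ + (jBZ L m).rTensor (M.X q) β := by
    rw [hβ]; abel
  rw [← hy, e7, map_add, ← map_eq_rl, ← ht, rT_rT, rT_rT]
  rfl

include hB hH in
/-- Injectivity lemma -/
theorem inj_lemma (p q : ℤ) (ζ : Zs L p ⊗[A] Zs M q)
    (v0 : L.X (p - 1) ⊗[A] M.X q) (v1 : L.X p ⊗[A] M.X (q - 1)) (ε : ℤˣ)
    (h : TensorProduct.map (Zs L p).subtype (Zs M q).subtype ζ =
      (L.d (p - 1) p).hom.rTensor (M.X q) v0 + ε • (M.d (q - 1) q).hom.lTensor (L.X p) v1) :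
    TensorProduct.map (piH L p) (piH M q) ζ = 0 := by
  -- step 1
  have e1 : (M.d q (q + 1)).hom.lTensor (L.X p) ((L.d (p - 1) p).hom.rTensor (M.X q) v0) = 0 := by
    have h' := congrArg ((M.d q (q + 1)).hom.lTensor (L.X p)) h
    rw [map_add, map_units_smul, lT_lT, map_eq_rl, rl_comm, lT_lT, d_comp_Zs_subtype] at h'
    have e0 : (M.d q (q + 1)).hom ∘ₗ (M.d (q - 1) q).hom = 0 := by
      ext x
      exact d_d_hom M _ _ _ x
    rw [e0] at h'
    simp only [LinearMap.lTensor_zero, LinearMap.zero_apply, map_zero, smul_zero, add_zero] at h'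
    exact h'.symm
  -- step 2
  set β := (dB L p).rTensor (M.X q) v0 with hβ
  have e2a : (Bs L p).subtype.rTensor (M.X q) β = (L.d (p - 1) p).hom.rTensor (M.X q) v0 := by
    rw [hβ, rT_rT]; rfl
  have e2b : (M.d q (q + 1)).hom.lTensor (Bs L p) β = 0 := by
    apply rT_Bs_injective L hB hH (M.X (q + 1)) p
    rw [rl_comm, e2a, e1, map_zero]
  haveI := hB p
  have hexB := Module.Flat.lTensor_exact (Bs L p)
    (LinearMap.exact_subtype_ker_map (M.d q (q + 1)).hom)
  obtain ⟨β', hβ'⟩ := (hexB _).mp e2b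
  -- step 3
  set ζ' := ζ - (jBZ L p).rTensor (Zs M q) β' with hζ'
  have e3a : TensorProduct.map (Zs L p).subtype (Zs M q).subtype ζ' =
      ε • (M.d (q - 1) q).hom.lTensor (L.X p) v1 := by
    have : TensorProduct.map (Zs L p).subtype (Zs M q).subtype ((jBZ L p).rTensor (Zs M q) β') =
        (L.d (p - 1) p).hom.rTensor (M.X q) v0 := by
      rw [map_eq_rl, ← rl_comm, rT_rT, subtype_comp_jBZ, hβ']
      exact e2a
    rw [hζ', map_sub, this, h]
    abel
  have e3b : TensorProduct.map (piH L p) (piH M q) ζ' = TensorProduct.map (piH L p) (piH M q) ζ := by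
    rw [hζ', map_sub, sub_eq_self, map_eq_lr, rT_rT, piH_comp_jBZ]
    simp
  rw [← e3b]
  -- step 4
  have e4 : (M.d (q - 1) q).hom.lTensor (L.X (p + 1))
      ((L.d p (p + 1)).hom.rTensor (M.X (q - 1)) v1) = 0 := by
    have h' := congrArg ((L.d p (p + 1)).hom.rTensor (M.X q)) e3a
    rw [map_eq_lr, ← rl_comm, rT_rT, d_comp_Zs_subtype, map_units_smul, rl_comm] at h'
    simp only [LinearMap.rTensor_zero, LinearMap.zero_apply, map_zero] at h'
    have := congrArg (fun y => ε • y) h'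
    simp only [smul_zero, smul_smul, Int.units_mul_self, one_smul] at this
    rw [← rl_comm]
    exact this.symm
  set γ := (dB' L p (p + 1) rfl).rTensor (M.X (q - 1)) v1 with hγ
  have e4a : (Bs L (p + 1)).subtype.rTensor (M.X (q - 1)) γ =
      (L.d p (p + 1)).hom.rTensor (M.X (q - 1)) v1 := by
    rw [hγ, rT_rT]; rfl
  have e4b : (M.d (q - 1) q).hom.lTensor (Bs L (p + 1)) γ = 0 := by
    apply rT_Bs_injective L hB hH (M.X q) (p + 1)
    rw [rl_comm, e4a, e4, map_zero]
  haveI := hB (p + 1)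
  have hexB' := Module.Flat.lTensor_exact (Bs L (p + 1))
    (LinearMap.exact_subtype_ker_map (M.d (q - 1) q).hom)
  obtain ⟨γ', hγ'⟩ := (hexB' _).mp e4b
  obtain ⟨v', hv'⟩ := rT_dB'_surjective L (LinearMap.ker (M.d (q - 1) q).hom) p (p + 1) rfl γ'
  set u₀ := v1 - (LinearMap.ker (M.d (q - 1) q).hom).subtype.lTensor (L.X p) v' with hu₀
  have e4c : (L.d p (p + 1)).hom.rTensor (M.X (q - 1)) u₀ = 0 := by
    rw [hu₀, map_sub, ← e4a, ← hγ', ← hv', sub_eq_zero, ← subtype_comp_dB' L p (p + 1) rfl,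
      ← rT_rT, rl_comm, rl_comm]
    exact (rl_comm _ _ _).symm
  obtain ⟨u, hu⟩ := exists_of_rT_d_eq_zero L hB hH (M.X (q - 1)) p (p + 1) rfl u₀ e4c
  have e4d : (M.d (q - 1) q).hom.lTensor (L.X p) v1 =
      (Zs L p).subtype.rTensor (M.X q) ((M.d (q - 1) q).hom.lTensor (Zs L p) u) := by
    have hv1 : v1 = u₀ + (LinearMap.ker (M.d (q - 1) q).hom).subtype.lTensor (L.X p) v' := by
      rw [hu₀]; abel
    rw [rl_comm, hu, hv1, map_add, lT_lT]
    have : (M.d (q - 1) q).hom ∘ₗ (LinearMap.ker (M.d (q - 1) q).hom).subtype = 0 := by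
      ext x
      exact x.2
    rw [this]
    simp
  have e4e : (Zs M q).subtype.lTensor (Zs L p) ζ' = ε • (M.d (q - 1) q).hom.lTensor (Zs L p) u := by
    apply rT_Zs_injective L hB (M.X q) p
    rw [← map_eq_rl, e3a, e4d, map_units_smul]
  -- step 5
  have e5 : (Zs M q).subtype.lTensor (L.homology p) ((piH L p).rTensor (Zs M q) ζ') =
      (Zs M q).subtype.lTensor (L.homology p)
        (ε • (jBZ M q).lTensor (L.homology p) ((dB M q).lTensor (L.homology p)
          ((piH L p).rTensor (M.X (q - 1)) u))) := by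
    rw [← rl_comm, e4e, map_units_smul, map_units_smul, lT_lT, lT_lT, rl_comm]
    rfl
  haveI := hH p
  have e5' := Module.Flat.lTensor_preserves_injective_linearMap (M := L.homology p)
    (Zs M q).subtype (Submodule.injective_subtype _) e5
  rw [map_eq_lr, e5', map_units_smul, lT_lT, piH_comp_jBZ]
  simp
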