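import Groth.Agent.Lib.Helper8.KunC
import Groth.Agent.Lib.Helper5.KFlat7
import Groth.Prelude.Def_HTor

/-!
# The Künneth map and the Künneth formula for complexes with flat terms and flat cohomology
-/

set_option autoImplicit false
set_option linter.unusedSectionVars false
set_option linter.unusedVariables false
set_option linter.style.haveILetI false

universe u

open CategoryTheory CategoryTheory.Limits MonoidalCategory HomologicalComplex TensorProduct

namespace Groth.Agent.Helper8.Kun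

open Groth.Agent.Helper5.KF

variable {A : Type u} [CommRing A] (L M : DRing.Cx A)

lemma whiskerRight_eq_rT {X Y : ModuleCat.{u} A} (f : X ⟶ Y) (Z : ModuleCat.{u} A)
    (w : (X ⊗ Z : ModuleCat.{u} A)) : (f ▷ Z) w = f.hom.rTensor Z w := rfl

lemma whiskerLeft_eq_lT {X Y : ModuleCat.{u} A} (Z : ModuleCat.{u} A) (f : X ⟶ Y)
    (w : (Z ⊗ X : ModuleCat.{u} A)) : (Z ◁ f) w = f.hom.lTensor Z w := rfl

lemma rT_d_map {Q : Type u} [AddCommGroup Q] [Module A Q] (p : ℤ) (N : Type u) [AddCommGroup N]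
    [Module A N] (g : Q →ₗ[A] N) (ζ : Zs L p ⊗[A] Q) :
    (L.d p (p + 1)).hom.rTensor N (TensorProduct.map (Zs L p).subtype g ζ) = 0 := by
  rw [map_eq_lr, ← rl_comm, rT_rT, d_comp_Zs_subtype]
  simp

lemma lT_d_map {Q : Type u} [AddCommGroup Q] [Module A Q] (q : ℤ) (N : Type u) [AddCommGroup N]
    [Module A N] (f : Q →ₗ[A] N) (ζ : Q ⊗[A] Zs M q) :
    (M.d q (q + 1)).hom.lTensor N (TensorProduct.map f (Zs M q).subtype ζ) = 0 := by
  rw [map_eq_rl, ← rl_comm, lT_lT, d_comp_Zs_subtype]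
  simp

/-- the element `ι (z ⊗ z')` -/
noncomputable def gam (p q n : ℤ) (h : p + q = n) : Zs L p ⊗[A] Zs M q →ₗ[A] (L ⊗ M).X n :=
  (ι L M p q n h).hom ∘ₗ TensorProduct.map (Zs L p).subtype (Zs M q).subtype

lemma gam_apply (p q n : ℤ) (h : p + q = n) (ζ : Zs L p ⊗[A] Zs M q) :
    gam L M p q n h ζ =
      ι L M p q n h (TensorProduct.map (Zs L p).subtype (Zs M q).subtype ζ) := rfl

lemma d_gam (p q n : ℤ) (h : p + q = n) (ζ : Zs L p ⊗[A] Zs M q) :
    ((L ⊗ M).d n (n + 1)).hom (gam L M p q n h ζ) = 0 := by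
  rw [gam_apply]
  have := d_ι_apply L M p q n h (n + 1) rfl (p + 1) (q + 1) rfl rfl
    (TensorProduct.map (Zs L p).subtype (Zs M q).subtype ζ)
  rw [whiskerRight_eq_rT, whiskerLeft_eq_lT, rT_d_map, lT_d_map] at this
  simpa using this

/-- `gam` as a map to the cycles -/
noncomputable def gamZ (p q n : ℤ) (h : p + q = n) :
    Zs L p ⊗[A] Zs M q →ₗ[A] Zs (L ⊗ M) n :=
  LinearMap.codRestrict _ (gam L M p q n h) (d_gam L M p q n h)

lemma gamZ_coe (p q n : ℤ) (h : p + q = n) (ζ : Zs L p ⊗[A] Zs M q) :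
    ((gamZ L M p q n h ζ : Zs (L ⊗ M) n) : (L ⊗ M).X n) = gam L M p q n h ζ := rfl

/-- the class of `ι (z ⊗ z')` -/
noncomputable def Gam (p q n : ℤ) (h : p + q = n) :
    Zs L p ⊗[A] Zs M q →ₗ[A] (L ⊗ M).homology n :=
  piH (L ⊗ M) n ∘ₗ gamZ L M p q n h

lemma Gam_apply (p q n : ℤ) (h : p + q = n) (ζ : Zs L p ⊗[A] Zs M q) :
    Gam L M p q n h ζ = piH (L ⊗ M) n (gamZ L M p q n h ζ) := rfl

lemma Gam_rT_jBZ (p q n : ℤ) (h : p + q = n) (β : Bs L p ⊗[A] Zs M q) :
    Gam L M p q n h ((jBZ L p).rTensor (Zs M q) β) = 0 := by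
  obtain ⟨t, rfl⟩ := rT_dB_surjective L (Zs M q) p β
  rw [Gam_apply, piH_eq_zero_iff, gamZ_coe, gam_apply]
  have e1 : TensorProduct.map (Zs L p).subtype (Zs M q).subtype
      ((jBZ L p).rTensor (Zs M q) ((dB L p).rTensor (Zs M q) t)) =
      (L.d (p - 1) p).hom.rTensor (M.X q) ((Zs M q).subtype.lTensor (L.X (p - 1)) t) := by
    rw [map_eq_lr, rT_rT, rT_rT, ← rl_comm]
    rfl
  rw [e1]
  have := d_ι_apply L M (p - 1) q (n - 1) (by omega) n (by omega) p (q + 1) (by omega) rfl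
    ((Zs M q).subtype.lTensor (L.X (p - 1)) t)
  rw [whiskerRight_eq_rT, whiskerLeft_eq_lT, lT_lT, d_comp_Zs_subtype] at this
  simp only [LinearMap.lTensor_zero, LinearMap.zero_apply, map_zero, smul_zero, add_zero] at this
  exact ⟨_, this⟩

lemma Gam_lT_jBZ (p q n : ℤ) (h : p + q = n) (β : Zs L p ⊗[A] Bs M q) :
    Gam L M p q n h ((jBZ M q).lTensor (Zs L p) β) = 0 := by
  obtain ⟨t, rfl⟩ := LinearMap.lTensor_surjective (Zs L p) (dB_surjective M q) β
  rw [Gam_apply, piH_eq_zero_iff, gamZ_coe, gam_apply]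
  have e1 : TensorProduct.map (Zs L p).subtype (Zs M q).subtype
      ((jBZ M q).lTensor (Zs L p) ((dB M q).lTensor (Zs L p) t)) =
      (M.d (q - 1) q).hom.lTensor (L.X p) ((Zs L p).subtype.rTensor (M.X (q - 1)) t) := by
    rw [map_eq_rl, lT_lT, lT_lT, rl_comm]
    rfl
  rw [e1]
  have := d_ι_apply L M p (q - 1) (n - 1) (by omega) n (by omega) (p + 1) q rfl (by omega)
    ((Zs L p).subtype.rTensor (M.X (q - 1)) t)
  rw [whiskerRight_eq_rT, whiskerLeft_eq_lT, rT_rT, d_comp_Zs_subtype] at this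
  simp only [LinearMap.rTensor_zero, LinearMap.zero_apply, map_zero, zero_add] at this
  refine ⟨p.negOnePow • ι L M p (q - 1) (n - 1) (by omega)
    ((Zs L p).subtype.rTensor (M.X (q - 1)) t), ?_⟩
  rw [map_units_smul, this, smul_smul, Int.units_mul_self, one_smul]

lemma ker_map_le_ker_Gam (p q n : ℤ) (h : p + q = n) :
    LinearMap.ker (TensorProduct.map (piH L p) (piH M q)) ≤ LinearMap.ker (Gam L M p q n h) := by
  rw [TensorProduct.map_ker (exact_jBZ_piH L p) (piH_surjective L p) (exact_jBZ_piH M q)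
    (piH_surjective M q)]
  refine sup_le ?_ ?_
  · rintro _ ⟨β, rfl⟩
    exact Gam_lT_jBZ L M p q n h β
  · rintro _ ⟨β, rfl⟩
    exact Gam_rT_jBZ L M p q n h β

section descend

variable {X Y Z : Type u} [AddCommGroup X] [AddCommGroup Y] [AddCommGroup Z] [Module A X]
  [Module A Y] [Module A Z]

/-- descent of a linear map along a surjection -/
noncomputable def descend (g : X →ₗ[A] Y) (hg : Function.Surjective g) (Γ : X →ₗ[A] Z)
    (h : LinearMap.ker g ≤ LinearMap.ker Γ) : Y →ₗ[A] Z :=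
  (Submodule.liftQ (LinearMap.ker g) Γ h) ∘ₗ (g.quotKerEquivOfSurjective hg).symm.toLinearMap

lemma descend_apply (g : X →ₗ[A] Y) (hg : Function.Surjective g) (Γ : X →ₗ[A] Z)
    (h : LinearMap.ker g ≤ LinearMap.ker Γ) (x : X) : descend g hg Γ h (g x) = Γ x := by
  have e : (g.quotKerEquivOfSurjective hg).symm (g x) = Submodule.Quotient.mk x := by
    rw [LinearEquiv.symm_apply_eq]
    rfl
  show (Submodule.liftQ (LinearMap.ker g) Γ h) ((g.quotKerEquivOfSurjective hg).symm (g x)) = _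
  rw [e]
  rfl

end descend

lemma map_piH_surjective (p q : ℤ) :
    Function.Surjective (TensorProduct.map (piH L p) (piH M q)) :=
  TensorProduct.map_surjective (piH_surjective L p) (piH_surjective M q)

/-- the component of the Künneth map -/
noncomputable def phi (p q n : ℤ) (h : p + q = n) :
    L.homology p ⊗[A] M.homology q →ₗ[A] (L ⊗ M).homology n :=
  descend (TensorProduct.map (piH L p) (piH M q)) (map_piH_surjective L M p q)
    (Gam L M p q n h) (ker_map_le_ker_Gam L M p q n h)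

lemma phi_map (p q n : ℤ) (h : p + q = n) (ζ : Zs L p ⊗[A] Zs M q) :
    phi L M p q n h (TensorProduct.map (piH L p) (piH M q) ζ) = Gam L M p q n h ζ :=
  descend_apply _ _ _ _ ζ

/-- the Künneth map -/
noncomputable def Phi (n : ℤ) : HTor.KunnethSum L M n →ₗ[A] (L ⊗ M).homology n :=
  DirectSum.toModule A (HTor.Antidiag n) _ (fun ij => phi L M ij.1.1 ij.1.2 n ij.2)

lemma Phi_lof (n : ℤ) (ij : HTor.Antidiag n)
    (x : L.homology ij.1.1 ⊗[A] M.homology ij.1.2) :
    Phi L M n (DirectSum.lof A (HTor.Antidiag n) _ ij x) = phi L M ij.1.1 ij.1.2 n ij.2 x := by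
  unfold Phi
  rw [DirectSum.toModule_lof]

lemma piH_cyclesEquiv (C : DRing.Cx A) (n : ℤ) (z : C.cycles n) :
    piH C n (cyclesEquiv C n z) = (C.homologyπ n).hom z := by
  rw [piH_apply, LinearEquiv.symm_apply_apply]

theorem isKunnethMap_Phi (n : ℤ) : HTor.IsKunnethMap L M n (Phi L M n) := by
  intro ij z z' w hw
  rw [Phi_lof]
  have e1 : (L.homologyπ ij.1.1 z ⊗ₜ[A] M.homologyπ ij.1.2 z' :
      L.homology ij.1.1 ⊗[A] M.homology ij.1.2) =
      TensorProduct.map (piH L ij.1.1) (piH M ij.1.2)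
        (cyclesEquiv L ij.1.1 z ⊗ₜ[A] cyclesEquiv M ij.1.2 z') := by
    rw [TensorProduct.map_tmul, piH_cyclesEquiv, piH_cyclesEquiv]
  rw [e1, phi_map, Gam_apply]
  have e2 : gamZ L M ij.1.1 ij.1.2 n ij.2
      (cyclesEquiv L ij.1.1 z ⊗ₜ[A] cyclesEquiv M ij.1.2 z') = cyclesEquiv (L ⊗ M) n w := by
    apply Subtype.ext
    rw [gamZ_coe, gam_apply, cyclesEquiv_apply_coe, TensorProduct.map_tmul]
    exact hw.symm
  rw [e2, piH_cyclesEquiv]
  rfl

end Groth.Agent.Helper8.Kun
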