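import Groth.Agent.Lib.Helper8.KunD

/-!
# Bijectivity of the Künneth map for complexes with flat terms and flat cohomology
-/

set_option autoImplicit false
set_option linter.unusedSectionVars false
set_option linter.unusedVariables false
set_option linter.style.haveILetI false

universe u

open CategoryTheory CategoryTheory.Limits MonoidalCategory HomologicalComplex TensorProduct

namespace Groth.Agent.Helper8.Kun

open Groth.Agent.Helper5.KF

variable {A : Type u} [CommRing A] (L M : DRing.Cx A)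
  (hB : ∀ i, Module.Flat A (Bs L i)) (hH : ∀ i, Module.Flat A (L.homology i))
  (bM : ℤ) (hbM : ∀ i, bM < i → IsZero (M.X i))
  (bL : ℤ) (hbL : ∀ i, bL < i → IsZero (L.X i))
  (n : ℤ)

include hB hH in
lemma surj_step (m q : ℤ) (hmq : m + q = n) (x : (L ⊗ M).X n)
    (hx : (L ⊗ M).d n (n + 1) x = 0)
    (hcomp : ∀ p q' : ℤ, p + q' = n → m < p → pr L M p q' n x = 0) :
    ∃ (ζ : Zs L m ⊗[A] Zs M q) (y : (L ⊗ M).X (n - 1)),
      ∀ p q' : ℤ, p + q' = n → m - 1 < p →
        pr L M p q' n (x - gam L M m q n hmq ζ - (L ⊗ M).d (n - 1) n y) = 0 := by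
  set xm := pr L M m q n x with hxm
  have h1 := pr_d_apply L M n (n + 1) rfl m (q - 1) (m + 1) q rfl (by omega) x
  rw [hx, map_zero, hcomp (m + 1) (q - 1) (by omega) (by omega), map_zero, smul_zero,
    add_zero] at h1
  have h1' : (L.d m (m + 1)).hom.rTensor (M.X q) xm = 0 := h1.symm
  have h2 := pr_d_apply L M n (n + 1) rfl (m - 1) q m (q + 1) (by omega) rfl x
  rw [hx, map_zero] at h2
  set y0 := pr L M (m - 1) (q + 1) n x with hy0
  have hb : (L.X m ◁ M.d q (q + 1)) xm = -(m.negOnePow • (L.d (m - 1) m ▷ M.X (q + 1)) y0) := by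
    have := congrArg (fun w => m.negOnePow • w) h2
    simp only [smul_zero, smul_add, smul_smul, Int.units_mul_self, one_smul] at this
    exact eq_neg_of_add_eq_zero_right this.symm
  have h2' : (M.d q (q + 1)).hom.lTensor (L.X m) xm =
      (L.d (m - 1) m).hom.rTensor (M.X (q + 1)) (-(m.negOnePow • y0)) := by
    show (L.X m ◁ M.d q (q + 1)) xm = (L.d (m - 1) m ▷ M.X (q + 1)) (-(m.negOnePow • y0))
    rw [hb, map_neg, map_units_smul']
  obtain ⟨ζ, t, hζt⟩ := decomp L M hB hH m q xm h1' _ h2'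
  refine ⟨ζ, ι L M (m - 1) q (n - 1) (by omega) t, ?_⟩
  intro p q' hpq hp
  rw [map_sub, map_sub, pr_d_apply L M (n - 1) n (by omega) (p - 1) (q' - 1) p q' (by omega)
    (by omega) (ι L M (m - 1) q (n - 1) (by omega) t), gam_apply]
  by_cases hpm : p = m
  · subst hpm
    obtain rfl : q' = q := by omega
    rw [pr_ι_apply, pr_ι_apply,
      pr_ι_ne_apply L M p (q' - 1) (p - 1) q' (n - 1) (by omega) (by omega) t, map_zero,
      smul_zero, add_zero, ← hxm, hζt]
    show _ - _ - (L.d (p - 1) p).hom.rTensor (M.X q') t = 0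
    abel
  · rw [hcomp p q' hpq (by omega),
      pr_ι_ne_apply L M p q' m q n hmq (by omega),
      pr_ι_ne_apply L M (p - 1) q' (m - 1) q (n - 1) (by omega) (by omega) t,
      pr_ι_ne_apply L M p (q' - 1) (m - 1) q (n - 1) (by omega) (by omega) t]
    simp

include hB hH hbM in
lemma surj_aux (k : ℕ) : ∀ m : ℤ, m - (n - bM) + 1 ≤ k → ∀ (x : (L ⊗ M).X n)
    (hx : (L ⊗ M).d n (n + 1) x = 0),
    (∀ p q : ℤ, p + q = n → m < p → pr L M p q n x = 0) →
    piH (L ⊗ M) n ⟨x, hx⟩ ∈ LinearMap.range (Phi L M n) := by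
  induction k with
  | zero =>
    intro m hm x hx hcomp
    have hx0 : x = 0 := by
      apply eq_zero_of_components
      intro p q hpq
      by_cases hp : m < p
      · exact hcomp p q hpq hp
      · have hz0 : IsZero (L.X p ⊗ M.X q) :=
          (tensorLeft (L.X p)).map_isZero (hbM q (by push_cast at hm; omega))
        haveI := ModuleCat.subsingleton_of_isZero hz0
        exact Subsingleton.elim _ _
    subst hx0
    have : (⟨0, hx⟩ : Zs (L ⊗ M) n) = 0 := rfl
    rw [this, map_zero]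
    exact zero_mem _
  | succ k ih =>
    intro m hm x hx hcomp
    by_cases hm' : m - (n - bM) + 1 ≤ k
    · exact ih m hm' x hx hcomp
    obtain ⟨ζ, y, hy⟩ := surj_step L M hB hH n m (n - m) (by omega) x hx hcomp
    set x' := x - gam L M m (n - m) n (by omega) ζ - (L ⊗ M).d (n - 1) n y with hx'def
    have hx' : (L ⊗ M).d n (n + 1) x' = 0 := by
      rw [hx'def, map_sub, map_sub, hx, d_d_apply]
      have := d_gam L M m (n - m) n (by omega) ζ
      erw [this]
      simp
    have hIH := ih (m - 1) (by push_cast at hm; omega) x' hx' hy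
    have hdy : (L ⊗ M).d n (n + 1) ((L ⊗ M).d (n - 1) n y) = 0 := d_d_apply _ _ _ _ _
    have e : (⟨x, hx⟩ : Zs (L ⊗ M) n) =
        ⟨x', hx'⟩ + gamZ L M m (n - m) n (by omega) ζ + ⟨(L ⊗ M).d (n - 1) n y, hdy⟩ := by
      apply Subtype.ext
      show x = x' + gam L M m (n - m) n (by omega) ζ + (L ⊗ M).d (n - 1) n y
      rw [hx'def]
      abel
    rw [e, map_add, map_add]
    refine Submodule.add_mem _ (Submodule.add_mem _ hIH ?_) ?_
    · refine ⟨DirectSum.lof A (HTor.Antidiag n) _ ⟨(m, n - m), by simp⟩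
        (TensorProduct.map (piH L m) (piH M (n - m)) ζ), ?_⟩
      rw [Phi_lof]
      exact phi_map L M m (n - m) n _ ζ
    · have : piH (L ⊗ M) n ⟨(L ⊗ M).d (n - 1) n y, hdy⟩ = 0 :=
        (piH_eq_zero_iff _ _ _).mpr ⟨y, rfl⟩
      rw [this]
      exact zero_mem _

include hB hH hbM hbL in
theorem Phi_surjective : Function.Surjective (Phi L M n) := by
  intro c
  obtain ⟨x, rfl⟩ := piH_surjective (L ⊗ M) n c
  have := surj_aux L M hB hH bM hbM n (bL - (n - bM) + 1).toNat bL (by omega) x.1 x.2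
    (fun p q hpq hp => by
      have hz0 : IsZero (L.X p ⊗ M.X q) := (tensorRight (M.X q)).map_isZero (hbL p hp)
      haveI := ModuleCat.subsingleton_of_isZero hz0
      exact Subsingleton.elim _ _)
  exact this

include hB hH in
theorem Phi_injective : Function.Injective (Phi L M n) := by
  classical
  rw [← LinearMap.ker_eq_bot, LinearMap.ker_eq_bot']
  intro ξ hξ
  have hsurj : ∀ ij : HTor.Antidiag n, ∃ ζ : Zs L ij.1.1 ⊗[A] Zs M ij.1.2,
      TensorProduct.map (piH L ij.1.1) (piH M ij.1.2) ζ = ξ ij :=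
    fun ij => map_piH_surjective L M ij.1.1 ij.1.2 (ξ ij)
  choose ζ hζ using hsurj
  set s := ξ.support with hs
  set W : Zs (L ⊗ M) n := ∑ ij ∈ s, gamZ L M ij.1.1 ij.1.2 n ij.2 (ζ ij) with hW
  have hΦ : Phi L M n ξ = piH (L ⊗ M) n W := by
    conv_lhs => rw [← DirectSum.sum_support_of ξ]
    rw [map_sum, hW, map_sum]
    refine Finset.sum_congr rfl (fun ij _ => ?_)
    have : (DirectSum.of (fun ij : HTor.Antidiag n => L.homology ij.1.1 ⊗[A] M.homology ij.1.2)
        ij) (ξ ij) = DirectSum.lof A (HTor.Antidiag n) _ ij (ξ ij) := rfl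
    rw [this, Phi_lof, ← hζ ij, phi_map]
    rfl
  rw [hΦ, piH_eq_zero_iff] at hξ
  obtain ⟨v, hv⟩ := hξ
  have hWcoe : (W : (L ⊗ M).X n) = ∑ ij ∈ s, gam L M ij.1.1 ij.1.2 n ij.2 (ζ ij) := by
    rw [hW, Submodule.coe_sum]
    rfl
  apply DFinsupp.ext
  intro ij
  by_cases hmem : ij ∈ s
  · obtain ⟨⟨p, q⟩, hpq⟩ := ij
    dsimp only at hpq
    have hcomp : pr L M p q n (W : (L ⊗ M).X n) =
        TensorProduct.map (Zs L p).subtype (Zs M q).subtype (ζ ⟨(p, q), hpq⟩) := by
      rw [hWcoe, map_sum, Finset.sum_eq_single_of_mem ⟨(p, q), hpq⟩ hmem]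
      · rw [gam_apply]
        exact pr_ι_apply L M p q n hpq _
      · intro ij' _ hne
        rw [gam_apply]
        apply pr_ι_ne_apply
        intro hh
        apply hne
        apply Subtype.ext
        exact Prod.ext hh.1 hh.2
    have hd := pr_d_apply L M (n - 1) n (by omega) (p - 1) (q - 1) p q (by omega) (by omega) v
    have hv' : (L ⊗ M).d (n - 1) n v = (W : (L ⊗ M).X n) := hv
    rw [hv', hcomp] at hd
    have := inj_lemma L M hB hH p q (ζ ⟨(p, q), hpq⟩) (pr L M (p - 1) q (n - 1) v)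
      (pr L M p (q - 1) (n - 1) v) p.negOnePow hd
    rw [← hζ ⟨(p, q), hpq⟩, this]
    rfl
  · rw [hs, DFinsupp.notMem_support_iff] at hmem
    rw [hmem]
    rfl

end Groth.Agent.Helper8.Kun
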