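import Mathlib
import Groth.Prelude.Def_HTor

/-!
# Subquotient bookkeeping for filtrations (for the Künneth spectral filtration)
-/

set_option autoImplicit false
set_option linter.unusedSectionVars false
set_option linter.unusedVariables false
set_option linter.style.haveILetI false

universe u

namespace Groth.Agent.Helper8.Kun

open HTor

variable {R : Type u} [CommRing R]
variable {N N' T T' : Type u} [AddCommGroup N] [Module R N] [AddCommGroup N'] [Module R N']
  [AddCommGroup T] [Module R T] [AddCommGroup T'] [Module R T']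

theorem isSubquotient_of_surjective (K : Submodule R T) (g : K →ₗ[R] N)
    (hg : Function.Surjective g) : IsSubquotient R N T := by
  refine ⟨(LinearMap.ker g).map K.subtype, K, ?_, ⟨?_⟩⟩
  · rintro _ ⟨x, -, rfl⟩
    exact x.2
  · have : Submodule.comap K.subtype ((LinearMap.ker g).map K.subtype) = LinearMap.ker g :=
      Submodule.comap_map_eq_of_injective K.injective_subtype _
    exact (g.quotKerEquivOfSurjective hg).symm ≪≫ₗ (Submodule.quotEquivOfEq _ _ this.symm)

theorem exists_of_isSubquotient (h : IsSubquotient R N T) :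
    ∃ (K : Submodule R T) (g : K →ₗ[R] N), Function.Surjective g := by
  obtain ⟨S, S', hle, ⟨e⟩⟩ := h
  exact ⟨S', e.symm.toLinearMap ∘ₗ (Submodule.mkQ _),
    e.symm.surjective.comp (Submodule.mkQ_surjective _)⟩

theorem isSubquotient_of_subsingleton [Subsingleton N] : IsSubquotient R N T :=
  isSubquotient_of_surjective (⊥ : Submodule R T) 0 (fun x => ⟨0, Subsingleton.elim _ _⟩)

theorem IsSubquotient.of_injective (h : IsSubquotient R N' T) (f : N →ₗ[R] N')
    (hf : Function.Injective f) : IsSubquotient R N T := by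
  obtain ⟨K, g, hg⟩ := exists_of_isSubquotient h
  let K₀ : Submodule R K := Submodule.comap g (LinearMap.range f)
  let e := LinearEquiv.ofInjective f hf
  let g₀ : K₀ →ₗ[R] LinearMap.range f :=
    LinearMap.codRestrict (LinearMap.range f) (g ∘ₗ K₀.subtype) (fun x => x.2)
  have hg₀ : Function.Surjective g₀ := by
    rintro ⟨y, hy⟩
    obtain ⟨x, hx⟩ := hg y
    exact ⟨⟨x, by show g x ∈ LinearMap.range f; rw [hx]; exact hy⟩, Subtype.ext hx⟩
  let K₁ : Submodule R T := K₀.map K.subtype
  let e₁ : K₀ ≃ₗ[R] K₁ := Submodule.equivMapOfInjective K.subtype K.injective_subtype K₀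
  refine isSubquotient_of_surjective K₁ (e.symm.toLinearMap ∘ₗ g₀ ∘ₗ e₁.symm.toLinearMap) ?_
  exact e.symm.surjective.comp (hg₀.comp e₁.symm.surjective)

theorem IsSubquotient.of_equiv_left (h : IsSubquotient R N' T) (e : N ≃ₗ[R] N') :
    IsSubquotient R N T :=
  IsSubquotient.of_injective h e.toLinearMap e.injective

theorem IsSubquotient.of_equiv_right (h : IsSubquotient R N T) (e : T ≃ₗ[R] T') :
    IsSubquotient R N T' := by
  obtain ⟨K, g, hg⟩ := exists_of_isSubquotient h
  let e₁ : K ≃ₗ[R] K.map e.toLinearMap :=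
    Submodule.equivMapOfInjective e.toLinearMap e.injective K
  exact isSubquotient_of_surjective (K.map e.toLinearMap) (g ∘ₗ e₁.symm.toLinearMap)
    (hg.comp e₁.symm.surjective)

section Filt

variable {H H' : Type u} [AddCommGroup H] [Module R H] [AddCommGroup H'] [Module R H']
  (δ : H →ₗ[R] H') (F : ℕ → Submodule R H) (F' : ℕ → Submodule R H')
  (hF : ∀ p, F (p + 1) = Submodule.comap δ (F' p))

include hF in
theorem isSubquotient_grSucc_succ (p : ℕ) (h : IsSubquotient R (grSucc F' p) T) :
    IsSubquotient R (grSucc F (p + 1)) T := by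
  -- the map induced by δ
  have hmem : ∀ x : F (p + 1 + 1), δ x.1 ∈ F' (p + 1) := by
    intro x
    have h' : (x : H) ∈ Submodule.comap δ (F' (p + 1)) := by
      rw [← hF (p + 1)]
      exact x.2
    exact h'
  let θ : F (p + 1 + 1) →ₗ[R] F' (p + 1) := LinearMap.codRestrict _ (δ ∘ₗ (F (p + 1 + 1)).subtype) hmem
  let θ' : F (p + 1 + 1) →ₗ[R] grSucc F' p := (Submodule.mkQ _) ∘ₗ θ
  have hker : Submodule.comap (F (p + 1 + 1)).subtype (F (p + 1)) ≤ LinearMap.ker θ' := by
    intro x hx
    rw [Submodule.mem_comap, hF p] at hx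
    rw [LinearMap.mem_ker]
    show Submodule.Quotient.mk (θ x) = 0
    rw [Submodule.Quotient.mk_eq_zero]
    exact hx
  let Θ : grSucc F (p + 1) →ₗ[R] grSucc F' p := Submodule.liftQ _ θ' hker
  refine IsSubquotient.of_injective h Θ ?_
  rw [← LinearMap.ker_eq_bot, LinearMap.ker_eq_bot']
  intro y hy
  obtain ⟨x, rfl⟩ := Submodule.mkQ_surjective _ y
  have h1 : θ' x = 0 := hy
  have h2 : Submodule.Quotient.mk (θ x) = (0 : grSucc F' p) := h1
  rw [Submodule.Quotient.mk_eq_zero] at h2
  show Submodule.Quotient.mk x = 0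
  rw [Submodule.Quotient.mk_eq_zero, Submodule.mem_comap, hF p]
  exact h2

include hF in
theorem isSubquotient_grSucc_zero (hF0 : F 0 = LinearMap.ker δ) (g : T →ₗ[R] H')
    (hg : LinearMap.range g = F' 0 ⊓ LinearMap.range δ) :
    IsSubquotient R (grSucc F 0) T := by
  let θ : F (0 + 1) →ₗ[R] H' := δ ∘ₗ (F (0 + 1)).subtype
  have hker : LinearMap.ker θ = Submodule.comap (F (0 + 1)).subtype (F 0) := by
    ext x
    rw [LinearMap.mem_ker, Submodule.mem_comap, hF0, LinearMap.mem_ker]
    rfl
  have hrange : LinearMap.range θ = LinearMap.range g := by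
    rw [hg]
    ext y
    constructor
    · rintro ⟨x, rfl⟩
      refine ⟨?_, ⟨x.1, rfl⟩⟩
      have h' : (x : H) ∈ Submodule.comap δ (F' 0) := by
        rw [← hF 0]
        exact x.2
      exact h'
    · rintro ⟨h1, ⟨x, rfl⟩⟩
      exact ⟨⟨x, by rw [hF 0]; exact h1⟩, rfl⟩
  let e : grSucc F 0 ≃ₗ[R] LinearMap.range g :=
    (Submodule.quotEquivOfEq _ _ hker.symm) ≪≫ₗ (LinearMap.quotKerEquivRange θ) ≪≫ₗ
      (LinearEquiv.ofEq _ _ hrange)
  refine isSubquotient_of_surjective (⊤ : Submodule R T)
    (e.symm.toLinearMap ∘ₗ g.rangeRestrict ∘ₗ (⊤ : Submodule R T).subtype) ?_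
  refine e.symm.surjective.comp (g.surjective_rangeRestrict.comp ?_)
  intro x
  exact ⟨⟨x, trivial⟩, rfl⟩

end Filt

end Groth.Agent.Helper8.Kun
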