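import Groth.Agent.Lib.Helper8.KunA

/-!
# A free "resolution" `P → L` of a complex of modules, with free cohomology, surjective on terms and
on cycles, and vanishing wherever `L` vanishes
-/

set_option autoImplicit false
set_option linter.unusedSectionVars false
set_option linter.unusedVariables false
set_option linter.style.haveILetI false

universe u

open CategoryTheory CategoryTheory.Limits HomologicalComplex

namespace Groth.Agent.Helper8.Kun

variable {A : Type u} [CommRing A] (L : DRing.Cx A)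

/-- nonzero cycles in all degrees -/
def ZIdx : Type u := Σ i : ℤ, {x : Zs L i // x ≠ 0}

/-- non-cycles in all degrees -/
def GIdx : Type u := Σ i : ℤ, {x : L.X i // (L.d i (i + 1)).hom x ≠ 0}

/-- the degree `i` part of the free module on nonzero cycles -/
def Zd (i : ℤ) : Submodule A (ZIdx L →₀ A) := Finsupp.supported A A {e | e.1 = i}

/-- the degree `i` part of the free module on non-cycles -/
def Gd (i : ℤ) : Submodule A (GIdx L →₀ A) := Finsupp.supported A A {e | e.1 = i}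

instance (i : ℤ) : Module.Free A (Zd L i) :=
  Module.Free.of_equiv (Finsupp.supportedEquivFinsupp (M := A) (R := A) {e : ZIdx L | e.1 = i}).symm

instance (i : ℤ) : Module.Free A (Gd L i) :=
  Module.Free.of_equiv (Finsupp.supportedEquivFinsupp (M := A) (R := A) {e : GIdx L | e.1 = i}).symm

/-- evaluation of the free module on nonzero cycles in degree `i` -/
noncomputable def evZ (i : ℤ) : (ZIdx L →₀ A) →ₗ[A] L.X i :=
  Finsupp.linearCombination A
    (fun e => if h : e.1 = i then (L.XIsoOfEq h).hom.hom e.2.1.1 else 0)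

/-- evaluation of the free module on non-cycles in degree `i` -/
noncomputable def evG (i : ℤ) : (GIdx L →₀ A) →ₗ[A] L.X i :=
  Finsupp.linearCombination A
    (fun e => if h : e.1 = i then (L.XIsoOfEq h).hom.hom e.2.1 else 0)

lemma evZ_single (i : ℤ) (x : {x : Zs L i // x ≠ 0}) (a : A) :
    evZ L i (Finsupp.single (⟨i, x⟩ : ZIdx L) a) = a • (x.1.1 : L.X i) := by
  unfold evZ
  rw [Finsupp.linearCombination_single, dif_pos rfl]
  simp [HomologicalComplex.XIsoOfEq]

lemma evG_single (i : ℤ) (x : {x : L.X i // (L.d i (i + 1)).hom x ≠ 0}) (a : A) :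
    evG L i (Finsupp.single (⟨i, x⟩ : GIdx L) a) = a • (x.1 : L.X i) := by
  unfold evG
  rw [Finsupp.linearCombination_single, dif_pos rfl]
  simp [HomologicalComplex.XIsoOfEq]

lemma d_evZ (i : ℤ) (z : ZIdx L →₀ A) : (L.d i (i + 1)).hom (evZ L i z) = 0 := by
  induction z using Finsupp.induction_linear with
  | zero => simp
  | add f g hf hg => rw [map_add, map_add, hf, hg, add_zero]
  | single e a =>
    obtain ⟨j, x⟩ := e
    unfold evZ
    rw [Finsupp.linearCombination_single]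
    by_cases h : j = i
    · subst h
      rw [dif_pos rfl, map_smul]
      have : (L.d j (j + 1)).hom ((L.XIsoOfEq (rfl : j = j)).hom.hom x.1.1) = 0 := by
        simp only [HomologicalComplex.XIsoOfEq, eqToIso_refl, Iso.refl_hom]
        exact x.1.2
      rw [this, smul_zero]
    · rw [dif_neg h, smul_zero, map_zero]

lemma evG_congr (i j k : ℤ) (h : j = i) (w : GIdx L →₀ A) :
    (L.d j k).hom (evG L j w) = (L.d i k).hom (evG L i w) := by
  subst h; rfl

/-- the differential of `P` -/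
noncomputable def dP (i j : ℤ) (h : i + 1 = j) :
    (Zd L i × Gd L i × Gd L (i - 1)) →ₗ[A] (Zd L j × Gd L j × Gd L (j - 1)) :=
  LinearMap.inr A _ _ ∘ₗ LinearMap.inr A _ _ ∘ₗ
    Submodule.inclusion (le_of_eq (by subst h; rw [add_sub_cancel_right])) ∘ₗ
    LinearMap.fst A _ _ ∘ₗ LinearMap.snd A _ _

lemma dP_fst (i j : ℤ) (h : i + 1 = j) (x : Zd L i × Gd L i × Gd L (i - 1)) :
    (dP L i j h x).1 = 0 := rfl

lemma dP_snd_fst (i j : ℤ) (h : i + 1 = j) (x : Zd L i × Gd L i × Gd L (i - 1)) :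
    (dP L i j h x).2.1 = 0 := rfl

lemma dP_snd_snd (i j : ℤ) (h : i + 1 = j) (x : Zd L i × Gd L i × Gd L (i - 1)) :
    ((dP L i j h x).2.2 : GIdx L →₀ A) = (x.2.1 : GIdx L →₀ A) := rfl

lemma dP_dP (i j k : ℤ) (h : i + 1 = j) (h' : j + 1 = k) (x : Zd L i × Gd L i × Gd L (i - 1)) :
    dP L j k h' (dP L i j h x) = 0 := by
  refine Prod.ext rfl (Prod.ext rfl (Subtype.ext ?_))
  rw [dP_snd_snd, dP_snd_fst]
  rfl

/-- the complex `P` -/
noncomputable def Pcx : DRing.Cx A where
  X i := ModuleCat.of A (Zd L i × Gd L i × Gd L (i - 1))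
  d i j := if h : i + 1 = j then ModuleCat.ofHom (dP L i j h) else 0
  shape i j hij := dif_neg hij
  d_comp_d' i j k hij hjk := by
    have hij' : i + 1 = j := hij
    have hjk' : j + 1 = k := hjk
    rw [dif_pos hij', dif_pos hjk']
    apply ModuleCat.hom_ext
    apply LinearMap.ext
    intro x
    exact dP_dP L i j k hij' hjk' x

lemma Pcx_d_apply (i j : ℤ) (h : i + 1 = j) (x : (Pcx L).X i) :
    ((Pcx L).d i j).hom x = dP L i j h x := by
  unfold Pcx
  simp only [dif_pos h]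
  rfl

/-- the components of the augmentation -/
noncomputable def piF (i : ℤ) : (Zd L i × Gd L i × Gd L (i - 1)) →ₗ[A] L.X i :=
  (evZ L i ∘ₗ (Zd L i).subtype) ∘ₗ LinearMap.fst A _ _ +
    (evG L i ∘ₗ (Gd L i).subtype) ∘ₗ LinearMap.fst A _ _ ∘ₗ LinearMap.snd A _ _ +
    ((L.d (i - 1) i).hom ∘ₗ evG L (i - 1) ∘ₗ (Gd L (i - 1)).subtype) ∘ₗ
      LinearMap.snd A _ _ ∘ₗ LinearMap.snd A _ _

lemma piF_apply (i : ℤ) (x : Zd L i × Gd L i × Gd L (i - 1)) :
    piF L i x = evZ L i x.1.1 + evG L i x.2.1.1 + (L.d (i - 1) i).hom (evG L (i - 1) x.2.2.1) :=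
  rfl

/-- the augmentation `P ⟶ L` -/
noncomputable def piP : Pcx L ⟶ L where
  f i := ModuleCat.ofHom (piF L i)
  comm' i j hij := by
    have h : i + 1 = j := hij
    subst h
    apply ModuleCat.hom_ext
    apply LinearMap.ext
    intro x
    show (L.d i (i + 1)).hom (piF L i x) = piF L (i + 1) (((Pcx L).d i (i + 1)).hom x)
    symm
    rw [Pcx_d_apply L i (i + 1) rfl, piF_apply, piF_apply, dP_fst, dP_snd_fst, dP_snd_snd]
    simp only [Submodule.coe_zero, map_zero, zero_add, map_add]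
    rw [d_evZ, zero_add, d_d_hom, add_zero]
    exact evG_congr L i (i + 1 - 1) (i + 1) (by omega) _

lemma piP_f_apply (i : ℤ) (x : (Pcx L).X i) : ((piP L).f i).hom x = piF L i x := rfl

/-! ### properties of `P` -/

instance flat_Pcx_X (i : ℤ) : Module.Flat A ((Pcx L).X i) := by
  show Module.Flat A (Zd L i × Gd L i × Gd L (i - 1))
  infer_instance

lemma Zd_eq_bot (i : ℤ) (h : IsZero (L.X i)) : Zd L i = ⊥ := by
  haveI := ModuleCat.subsingleton_of_isZero h
  have : {e : ZIdx L | e.1 = i} = ∅ := by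
    rw [Set.eq_empty_iff_forall_notMem]
    rintro ⟨j, x⟩ (hj : j = i)
    subst hj
    exact x.2 (Subsingleton.elim _ _)
  unfold Zd
  rw [this, Finsupp.supported_empty]

lemma Gd_eq_bot (i j : ℤ) (hij : i + 1 = j) (h : IsZero (L.X j)) : Gd L i = ⊥ := by
  subst hij
  haveI := ModuleCat.subsingleton_of_isZero h
  have : {e : GIdx L | e.1 = i} = ∅ := by
    rw [Set.eq_empty_iff_forall_notMem]
    rintro ⟨j, x⟩ (hj : j = i)
    subst hj
    exact x.2 (Subsingleton.elim _ _)
  unfold Gd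
  rw [this, Finsupp.supported_empty]

lemma Gd_eq_bot' (i : ℤ) (h : IsZero (L.X i)) : Gd L i = ⊥ := by
  haveI := ModuleCat.subsingleton_of_isZero h
  have : {e : GIdx L | e.1 = i} = ∅ := by
    rw [Set.eq_empty_iff_forall_notMem]
    rintro ⟨j, x⟩ (hj : j = i)
    subst hj
    apply x.2
    rw [Subsingleton.elim x.1 0, map_zero]
  unfold Gd
  rw [this, Finsupp.supported_empty]

theorem isZero_Pcx_X (i : ℤ) (h : IsZero (L.X i)) : IsZero ((Pcx L).X i) := by
  have h1 := Zd_eq_bot L i h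
  have h2 := Gd_eq_bot' L i h
  have h3 := Gd_eq_bot L (i - 1) i (by omega) h
  haveI : Subsingleton (Zd L i) := by rw [h1]; infer_instance
  haveI : Subsingleton (Gd L i) := by rw [h2]; infer_instance
  haveI : Subsingleton (Gd L (i - 1)) := by rw [h3]; infer_instance
  haveI : Subsingleton ((Pcx L).X i) := by
    show Subsingleton (Zd L i × Gd L i × Gd L (i - 1))
    infer_instance
  exact ModuleCat.isZero_of_subsingleton _

lemma mem_Zs_Pcx (i : ℤ) (x : (Pcx L).X i) : x ∈ Zs (Pcx L) i ↔ x.2.1 = 0 := by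
  rw [mem_Zs, Pcx_d_apply L i (i + 1) rfl]
  constructor
  · intro h
    have := congrArg (fun y => ((y.2.2 : Gd L (i + 1 - 1)) : GIdx L →₀ A)) h
    simp only [dP_snd_snd] at this
    exact Subtype.ext this
  · intro h
    refine Prod.ext rfl (Prod.ext rfl (Subtype.ext ?_))
    rw [dP_snd_snd, h]
    rfl

lemma Bs_eq_range (C : DRing.Cx A) (j i : ℤ) (h : j + 1 = i) :
    Bs C i = LinearMap.range (C.d j i).hom := by
  obtain rfl : j = i - 1 := by omega
  rfl

lemma mem_Bs_Pcx (i : ℤ) (x : (Pcx L).X i) : x ∈ Bs (Pcx L) i ↔ x.1 = 0 ∧ x.2.1 = 0 := by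
  constructor
  · rintro ⟨y, rfl⟩
    rw [Pcx_d_apply L (i - 1) i (by omega)]
    exact ⟨rfl, rfl⟩
  · rintro ⟨h1, h2⟩
    obtain ⟨z, g, g'⟩ := x
    dsimp only at h1 h2
    subst h1 h2
    refine ⟨((0 : Zd L (i - 1)), (g' : Gd L (i - 1)), (0 : Gd L (i - 1 - 1))), ?_⟩
    rw [Pcx_d_apply L (i - 1) i (by omega)]
    refine Prod.ext rfl (Prod.ext rfl (Subtype.ext ?_))
    rw [dP_snd_snd]

/-- the inclusion of the free module on cycles into the cycles of `P` -/
noncomputable def jZ (i : ℤ) : Zd L i →ₗ[A] Zs (Pcx L) i :=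
  LinearMap.codRestrict _ (LinearMap.inl A (Zd L i) (Gd L i × Gd L (i - 1)))
    (fun z => (mem_Zs_Pcx L i _).mpr rfl)

lemma jZ_coe (i : ℤ) (z : Zd L i) : ((jZ L i z : Zs (Pcx L) i) : (Pcx L).X i) = (z, 0, 0) := rfl

theorem bijective_piH_jZ (i : ℤ) : Function.Bijective (piH (Pcx L) i ∘ₗ jZ L i) := by
  constructor
  · refine (injective_iff_map_eq_zero _).mpr ?_
    intro z hz
    rw [LinearMap.comp_apply, piH_eq_zero_iff, jZ_coe, mem_Bs_Pcx] at hz
    exact hz.1
  · intro c
    obtain ⟨x, rfl⟩ := piH_surjective (Pcx L) i c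
    refine ⟨x.1.1, ?_⟩
    rw [LinearMap.comp_apply, ← sub_eq_zero, ← map_sub, piH_eq_zero_iff, mem_Bs_Pcx]
    refine ⟨?_, ?_⟩
    · exact sub_self _
    · show (0 : Gd L i) - x.1.2.1 = 0
      rw [(mem_Zs_Pcx L i x.1).mp x.2]
      exact sub_self (0 : Gd L i)

instance flat_Pcx_homology (i : ℤ) : Module.Flat A ((Pcx L).homology i) :=
  Module.Flat.of_linearEquiv (LinearEquiv.ofBijective _ (bijective_piH_jZ L i)).symm

/-- every cycle of `L` lifts to a cycle of `P` -/
theorem exists_cycle_lift (i : ℤ) (y : L.X i) (hy : y ∈ Zs L i) :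
    ∃ x : (Pcx L).X i, x ∈ Zs (Pcx L) i ∧ ((piP L).f i).hom x = y := by
  by_cases h0 : y = 0
  · refine ⟨0, zero_mem _, ?_⟩
    rw [map_zero, h0]
  · have hne : (⟨y, hy⟩ : Zs L i) ≠ 0 := fun h => h0 (congrArg Subtype.val h)
    let e : ZIdx L := ⟨i, ⟨⟨y, hy⟩, hne⟩⟩
    have hmem : Finsupp.single e (1 : A) ∈ Zd L i :=
      Finsupp.single_mem_supported A 1 (show e ∈ {e : ZIdx L | e.1 = i} from rfl)
    refine ⟨((⟨_, hmem⟩ : Zd L i), (0 : Gd L i), (0 : Gd L (i - 1))), (mem_Zs_Pcx L i _).mpr rfl, ?_⟩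
    rw [piP_f_apply, piF_apply]
    simp only [Submodule.coe_zero, map_zero, add_zero]
    rw [evZ_single, one_smul]

theorem piP_f_surjective (i : ℤ) : Function.Surjective ((piP L).f i).hom := by
  intro y
  by_cases hy : (L.d i (i + 1)).hom y = 0
  · obtain ⟨x, -, hx⟩ := exists_cycle_lift L i y hy
    exact ⟨x, hx⟩
  · let e : GIdx L := ⟨i, ⟨y, hy⟩⟩
    have hmem : Finsupp.single e (1 : A) ∈ Gd L i :=
      Finsupp.single_mem_supported A 1 (show e ∈ {e : GIdx L | e.1 = i} from rfl)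
    refine ⟨((0 : Zd L i), (⟨_, hmem⟩ : Gd L i), (0 : Gd L (i - 1))), ?_⟩
    rw [piP_f_apply, piF_apply]
    simp only [Submodule.coe_zero, map_zero, add_zero, zero_add]
    rw [evG_single, one_smul]

end Groth.Agent.Helper8.Kun
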