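import Groth.Agent.Lib.Helper8.KunE

/-!
# Naturality of the Künneth map in the first variable
-/

set_option autoImplicit false
set_option linter.unusedSectionVars false
set_option linter.unusedVariables false
set_option linter.style.haveILetI false

universe u

open CategoryTheory CategoryTheory.Limits MonoidalCategory HomologicalComplex TensorProduct

namespace Groth.Agent.Helper8.Kun

open Groth.Agent.Helper5.KF

variable {A : Type u} [CommRing A]

section general

variable {K K' : DRing.Cx A} (f : K ⟶ K')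

lemma f_mem_Zs (i : ℤ) (x : K.X i) (hx : x ∈ Zs K i) : (f.f i).hom x ∈ Zs K' i := by
  rw [mem_Zs] at hx ⊢
  have h := f.comm i (i + 1)
  have h2 : (f.f i ≫ K'.d i (i + 1)).hom x = (K.d i (i + 1) ≫ f.f (i + 1)).hom x := by rw [h]
  rw [ModuleCat.hom_comp, ModuleCat.hom_comp, LinearMap.comp_apply, LinearMap.comp_apply, hx,
    map_zero] at h2
  exact h2

/-- the induced map on concrete cycles -/
noncomputable def Zmap (i : ℤ) : Zs K i →ₗ[A] Zs K' i :=
  LinearMap.codRestrict _ ((f.f i).hom ∘ₗ (Zs K i).subtype) (fun x => f_mem_Zs f i x.1 x.2)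

lemma Zmap_coe (i : ℤ) (x : Zs K i) : ((Zmap f i x : Zs K' i) : K'.X i) = (f.f i).hom x.1 := rfl

theorem homologyMap_piH (i : ℤ) (x : Zs K i) :
    (homologyMap f i).hom (piH K i x) = piH K' i (Zmap f i x) := by
  rw [piH_apply]
  set z := (cyclesEquiv K i).symm x with hz
  have h1 : (homologyMap f i).hom ((K.homologyπ i).hom z) =
      (K'.homologyπ i).hom ((cyclesMap f i).hom z) := by
    have := homologyπ_naturality f i
    have h2 : (K.homologyπ i ≫ homologyMap f i).hom z = (cyclesMap f i ≫ K'.homologyπ i).hom z := by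
      rw [this]
    exact h2
  rw [h1]
  have h3 : (K'.iCycles i).hom ((cyclesMap f i).hom z) = (f.f i).hom x.1 := by
    have := cyclesMap_i f i
    have h4 : (cyclesMap f i ≫ K'.iCycles i).hom z = (K.iCycles i ≫ f.f i).hom z := by rw [this]
    rw [ModuleCat.hom_comp, ModuleCat.hom_comp, LinearMap.comp_apply, LinearMap.comp_apply] at h4
    rw [h4, hz, iCycles_cyclesEquiv_symm]
  have h5 : Zmap f i x = cyclesEquiv K' i ((cyclesMap f i).hom z) := by
    apply Subtype.ext
    rw [Zmap_coe, cyclesEquiv_apply_coe, h3]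
  rw [h5, piH_cyclesEquiv]

variable (M : DRing.Cx A)

/-- the map induced on Künneth sums -/
noncomputable def Hsum (n : ℤ) : HTor.KunnethSum K M n →ₗ[A] HTor.KunnethSum K' M n :=
  DFinsupp.mapRange.linearMap (fun ij : HTor.Antidiag n =>
    (homologyMap f ij.1.1).hom.rTensor (M.homology ij.1.2))

lemma Hsum_lof (n : ℤ) (ij : HTor.Antidiag n) (x : K.homology ij.1.1 ⊗[A] M.homology ij.1.2) :
    Hsum f M n (DirectSum.lof A (HTor.Antidiag n) _ ij x) =
      DirectSum.lof A (HTor.Antidiag n) _ ij
        ((homologyMap f ij.1.1).hom.rTensor (M.homology ij.1.2) x) := by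
  classical
  unfold Hsum
  rw [DFinsupp.mapRange.linearMap_apply]
  exact DFinsupp.mapRange_single (hf := fun i => map_zero _)

lemma Hsum_apply (n : ℤ) (ξ : HTor.KunnethSum K M n) (ij : HTor.Antidiag n) :
    (Hsum f M n ξ) ij = (homologyMap f ij.1.1).hom.rTensor (M.homology ij.1.2) (ξ ij) := rfl

lemma gam_whiskerRight (p q n : ℤ) (h : p + q = n) (ζ : Zs K p ⊗[A] Zs M q) :
    ((f ▷ M).f n).hom (gam K M p q n h ζ) =
      gam K' M p q n h ((Zmap f p).rTensor (Zs M q) ζ) := by
  rw [gam_apply, gam_apply]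
  have := whiskerRight_ι_apply K M f p q n h
    (TensorProduct.map (Zs K p).subtype (Zs M q).subtype ζ)
  refine this.trans ?_
  congr 1
  rw [whiskerRight_eq_rT, map_eq_rl, map_eq_rl, rT_rT, ← rl_comm, rT_rT]
  rfl

theorem homologyMap_Phi (n : ℤ) (ξ : HTor.KunnethSum K M n) :
    (homologyMap (f ▷ M) n).hom (Phi K M n ξ) = Phi K' M n (Hsum f M n ξ) := by
  classical
  have key : (homologyMap (f ▷ M) n).hom ∘ₗ Phi K M n = Phi K' M n ∘ₗ Hsum f M n := by
    apply DirectSum.linearMap_ext
    intro ij
    apply LinearMap.ext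
    intro x
    obtain ⟨ζ, rfl⟩ := map_piH_surjective K M ij.1.1 ij.1.2 x
    simp only [LinearMap.comp_apply]
    rw [Phi_lof, phi_map, Gam_apply, homologyMap_piH, Hsum_lof, Phi_lof]
    have e1 : (homologyMap f ij.1.1).hom.rTensor (M.homology ij.1.2)
        (TensorProduct.map (piH K ij.1.1) (piH M ij.1.2) ζ) =
        TensorProduct.map (piH K' ij.1.1) (piH M ij.1.2)
          ((Zmap f ij.1.1).rTensor (Zs M ij.1.2) ζ) := by
      induction ζ using TensorProduct.induction_on with
      | zero => simp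
      | add a b ha hb => simp only [map_add, ha, hb]
      | tmul a b =>
        simp only [TensorProduct.map_tmul, LinearMap.rTensor_tmul]
        rw [homologyMap_piH]
    rw [e1, phi_map, Gam_apply]
    congr 1
    apply Subtype.ext
    rw [Zmap_coe, gamZ_coe, gamZ_coe]
    exact gam_whiskerRight f M ij.1.1 ij.1.2 n ij.2 ζ
  exact LinearMap.congr_fun key ξ

end general

end Groth.Agent.Helper8.Kun
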