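import Groth.Agent.Lib.Helper8.KunH
import Groth.Agent.Lib.Helper8.KunG

/-!
# The short exact sequence `0 → L' → P → L → 0`, its tensor product with `M`, and the resulting
long exact sequence
-/

set_option autoImplicit false
set_option linter.unusedSectionVars false
set_option linter.unusedVariables false
set_option linter.style.haveILetI false

universe u

open CategoryTheory CategoryTheory.Limits MonoidalCategory HomologicalComplex TensorProduct

namespace Groth.Agent.Helper8.Kun

open Groth.Agent.Helper5.KF

variable {A : Type u} [CommRing A]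

section tensorSES

variable {K₁ K₂ K₃ : DRing.Cx A} (f : K₁ ⟶ K₂) (g : K₂ ⟶ K₃)
  (hinj : ∀ i, Function.Injective (f.f i).hom) (hsurj : ∀ i, Function.Surjective (g.f i).hom)
  (hex : ∀ i, Function.Exact (f.f i).hom (g.f i).hom) (hflat : ∀ i, Module.Flat A (K₃.X i))
  (M : DRing.Cx A) (n : ℤ)

lemma zero_whiskerRight_cx (K K' : DRing.Cx A) : (0 : K ⟶ K') ▷ M = 0 := by
  apply HomologicalComplex.hom_ext
  intro n
  apply hom_ext'
  intro p q hpq
  rw [ι_whiskerRight]
  simp

include hinj hsurj hex hflat in
lemma whiskerRight_injective : Function.Injective ((f ▷ M).f n).hom := by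
  refine (injective_iff_map_eq_zero _).mpr ?_
  intro x hx
  apply eq_zero_of_components
  intro p q hpq
  have h1 := pr_whiskerRight_apply K₁ M f p q n x
  have hx' : (f ▷ M).f n x = 0 := hx
  rw [hx', map_zero] at h1
  haveI := hflat p
  have hinj' : Function.Injective ((f.f p).hom.rTensor (M.X q)) :=
    (LinearMap.lTensor_inj_iff_rTensor_inj _ _).mp
      (LinearMap.lTensor_injective_of_exact_of_flat (g.f p).hom (hsurj p) (f.f p).hom (hinj p)
        (hex p) (M.X q))
  apply hinj'
  rw [map_zero]
  exact h1.symm

include hsurj in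
lemma whiskerRight_surjective : Function.Surjective ((g ▷ M).f n).hom := by
  intro y
  have : y ∈ LinearMap.range ((g ▷ M).f n).hom := by
    apply mem_of_components K₃ M
    intro p q hpq
    obtain ⟨w, hw⟩ := LinearMap.rTensor_surjective (M.X q) (hsurj p) (pr K₃ M p q n y)
    refine ⟨ι K₂ M p q n hpq w, ?_⟩
    have := whiskerRight_ι_apply K₂ M g p q n hpq w
    refine this.trans ?_
    congr 1
  exact this

include hsurj hex in
lemma whiskerRight_exact (x : (K₂ ⊗ M).X n) (hx : ((g ▷ M).f n).hom x = 0) :
    ∃ y : (K₁ ⊗ M).X n, ((f ▷ M).f n).hom y = x := by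
  have : x ∈ LinearMap.range ((f ▷ M).f n).hom := by
    apply mem_of_components K₂ M
    intro p q hpq
    have h1 := pr_whiskerRight_apply K₂ M g p q n x
    have hx' : (g ▷ M).f n x = 0 := hx
    rw [hx', map_zero] at h1
    have hex' := rTensor_exact (M.X q) (hex p) (hsurj p)
    obtain ⟨v, hv⟩ := (hex' (pr K₂ M p q n x)).mp h1.symm
    refine ⟨ι K₁ M p q n hpq v, ?_⟩
    have := whiskerRight_ι_apply K₁ M f p q n hpq v
    refine this.trans ?_
    congr 1
  exact this

/-- the tensored short complex -/
noncomputable def tensorSC (w : f ≫ g = 0) : ShortComplex (DRing.Cx A) :=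
  ShortComplex.mk (f ▷ M) (g ▷ M) (by rw [← comp_whiskerRight, w, zero_whiskerRight_cx])

include hinj hsurj hex hflat in
theorem tensorSC_shortExact (w : f ≫ g = 0) : (tensorSC f g M w).ShortExact := by
  apply HomologicalComplex.shortExact_of_degreewise_shortExact
  intro n
  refine ShortComplex.ShortExact.mk' ?_ ?_ ?_
  · rw [ShortComplex.moduleCat_exact_iff]
    intro x hx
    exact whiskerRight_exact f g hsurj hex M n x hx
  · exact (ModuleCat.mono_iff_injective _).mpr (whiskerRight_injective f g hinj hsurj hex hflat M n)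
  · exact (ModuleCat.epi_iff_surjective _).mpr (whiskerRight_surjective g hsurj M n)

end tensorSES

section resolution

variable (L : DRing.Cx A)

/-- the kernel complex of `P → L` -/
noncomputable def Lk : DRing.Cx A := kernel (piP L)

/-- the inclusion `L' → P` -/
noncomputable def iK : Lk L ⟶ Pcx L := kernel.ι (piP L)

lemma iK_piP : iK L ≫ piP L = 0 := kernel.condition _

instance epi_piP : Epi (piP L) :=
  HomologicalComplex.epi_of_epi_f _
    (fun i => (ModuleCat.epi_iff_surjective _).mpr (piP_f_surjective L i))

/-- the short complex `L' → P → L` -/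
noncomputable def S0 : ShortComplex (DRing.Cx A) := ShortComplex.mk (iK L) (piP L) (iK_piP L)

theorem S0_shortExact : (S0 L).ShortExact where
  exact := ShortComplex.exact_of_f_is_kernel _ (kernelIsKernel (piP L))
  mono_f := by
    show Mono (kernel.ι (piP L))
    infer_instance
  epi_g := epi_piP L

theorem S0_degreewise (i : ℤ) :
    ((S0 L).map (HomologicalComplex.eval _ _ i)).ShortExact :=
  (S0_shortExact L).map_of_exact _

lemma iK_f_injective (i : ℤ) : Function.Injective ((iK L).f i).hom :=
  (S0_degreewise L i).moduleCat_injective_f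

lemma exact_iK_piP (i : ℤ) : Function.Exact ((iK L).f i).hom ((piP L).f i).hom :=
  (ShortComplex.ShortExact.moduleCat_exact_iff_function_exact _).mp (S0_degreewise L i).exact

theorem flat_Lk_X (hL : ∀ i, Module.Flat A (L.X i)) (i : ℤ) : Module.Flat A ((Lk L).X i) := by
  haveI := hL i
  exact flat_of_exact ((iK L).f i).hom ((piP L).f i).hom (iK_f_injective L i)
    (piP_f_surjective L i) (exact_iK_piP L i)

theorem isZero_Lk_X (i : ℤ) (h : IsZero (L.X i)) : IsZero ((Lk L).X i) := by
  haveI := ModuleCat.subsingleton_of_isZero (isZero_Pcx_X L i h)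
  haveI : Subsingleton ((Lk L).X i) := (iK_f_injective L i).subsingleton
  exact ModuleCat.isZero_of_subsingleton _

theorem homologyMap_piP_surjective (i : ℤ) :
    Function.Surjective (homologyMap (piP L) i).hom := by
  intro c
  obtain ⟨y, rfl⟩ := piH_surjective L i c
  obtain ⟨x, hx, hxy⟩ := exists_cycle_lift L i y.1 y.2
  refine ⟨piH (Pcx L) i ⟨x, hx⟩, ?_⟩
  rw [homologyMap_piH]
  congr 1
  exact Subtype.ext hxy

/-- the short complex of cohomology modules -/
noncomputable def S0H (i : ℤ) : ShortComplex (ModuleCat.{u} A) :=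
  ShortComplex.mk (homologyMap (iK L) i) (homologyMap (piP L) i)
    (by rw [← homologyMap_comp, iK_piP, homologyMap_zero])

theorem S0H_shortExact (i : ℤ) : (S0H L i).ShortExact := by
  have hS := S0_shortExact L
  have hepi : ∀ j, Epi (homologyMap (piP L) j) := fun j =>
    (ModuleCat.epi_iff_surjective _).mpr (homologyMap_piP_surjective L j)
  refine ShortComplex.ShortExact.mk' (hS.homology_exact₂ i) ?_ (hepi i)
  -- the connecting map from degree `i - 1` vanishes
  have h3 := hS.homology_exact₃ (i - 1) i (by simp)
  have hδ : hS.δ (i - 1) i (by simp) = 0 := by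
    haveI : Epi (ShortComplex.mk _ _ (hS.comp_δ (i - 1) i (by simp))).f := hepi (i - 1)
    exact (h3.epi_f_iff).mp inferInstance
  have h1 := hS.homology_exact₁ (i - 1) i (by simp)
  exact (h1.mono_g_iff).mpr hδ

end resolution

end Groth.Agent.Helper8.Kun
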