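import Groth.Agent.Lib.Helper8.KunI
import Groth.Agent.Lib.Helper8.KunF

/-!
# The long exact sequence for `0 → L' ⊗ M → P ⊗ M → L ⊗ M → 0` and the Künneth maps
-/

set_option autoImplicit false
set_option linter.unusedSectionVars false
set_option linter.unusedVariables false
set_option linter.style.haveILetI false

universe u

open CategoryTheory CategoryTheory.Limits MonoidalCategory HomologicalComplex TensorProduct

namespace Groth.Agent.Helper8.Kun

open Groth.Agent.Helper5.KF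

variable {A : Type u} [CommRing A] (L M : DRing.Cx A) (hL : ∀ i, Module.Flat A (L.X i))
  (bL : ℤ) (hbL : ∀ i, bL < i → IsZero (L.X i))
  (bM : ℤ) (hbM : ∀ i, bM < i → IsZero (M.X i))

/-- the tensored short complex `L' ⊗ M → P ⊗ M → L ⊗ M` -/
noncomputable def SM : ShortComplex (DRing.Cx A) := tensorSC (iK L) (piP L) M (iK_piP L)

include hL in
theorem SM_shortExact : (SM L M).ShortExact :=
  tensorSC_shortExact (iK L) (piP L) (iK_f_injective L) (piP_f_surjective L) (exact_iK_piP L) hL M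
    (iK_piP L)

/-- the connecting homomorphism -/
noncomputable def dlt (n : ℤ) : (L ⊗ M).homology n →ₗ[A] (Lk L ⊗ M).homology (n + 1) :=
  ((SM_shortExact L M hL).δ n (n + 1) rfl).hom

include hbL in
lemma flat_Bs_Pcx (i : ℤ) : Module.Flat A (Bs (Pcx L) i) :=
  flat_Bs (Pcx L) (flat_Pcx_X L) (flat_Pcx_homology L) bL
    (fun i hi => isZero_Pcx_X L i (hbL i hi)) i

include hbL in
lemma Phi_P_injective (n : ℤ) : Function.Injective (Phi (Pcx L) M n) :=
  Phi_injective (Pcx L) M (flat_Bs_Pcx L bL hbL) (flat_Pcx_homology L) n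

include hbL hbM in
lemma Phi_P_surjective (n : ℤ) : Function.Surjective (Phi (Pcx L) M n) :=
  Phi_surjective (Pcx L) M (flat_Bs_Pcx L bL hbL) (flat_Pcx_homology L) bM hbM bL
    (fun i hi => isZero_Pcx_X L i (hbL i hi)) n

lemma Hsum_piP_surjective (n : ℤ) : Function.Surjective (Hsum (piP L) M n) := by
  intro y
  obtain ⟨x, hx⟩ := (DFinsupp.mapRange_surjective
    (fun ij : HTor.Antidiag n =>
      ⇑((homologyMap (piP L) ij.1.1).hom.rTensor (M.homology ij.1.2)))
    (fun ij => map_zero _)).mpr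
    (fun ij => LinearMap.rTensor_surjective _ (homologyMap_piP_surjective L ij.1.1)) y
  exact ⟨x, hx⟩

include hbL hbM in
theorem ker_dlt (n : ℤ) :
    LinearMap.ker (dlt L M hL n) = LinearMap.range (Phi L M n) := by
  have hS := SM_shortExact L M hL
  have h3 := (hS.homology_exact₃ n (n + 1) rfl).moduleCat_range_eq_ker
  have h3' : LinearMap.ker (dlt L M hL n) =
      LinearMap.range (homologyMap (piP L ▷ M) n).hom := h3.symm
  rw [h3']
  apply le_antisymm
  · rintro _ ⟨c, rfl⟩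
    obtain ⟨ξ, rfl⟩ := Phi_P_surjective L M bL hbL bM hbM n c
    rw [homologyMap_Phi]
    exact ⟨_, rfl⟩
  · rintro _ ⟨ξ, rfl⟩
    obtain ⟨ξ', rfl⟩ := Hsum_piP_surjective L M n ξ
    rw [← homologyMap_Phi]
    exact ⟨_, rfl⟩

include hbL in
theorem range_Phi_inf_range_dlt (n : ℤ) :
    LinearMap.range (Phi (Lk L) M (n + 1)) ⊓ LinearMap.range (dlt L M hL n) =
      Submodule.map (Phi (Lk L) M (n + 1)) (LinearMap.ker (Hsum (iK L) M (n + 1))) := by
  have hS := SM_shortExact L M hL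
  have h1 := (hS.homology_exact₁ n (n + 1) rfl).moduleCat_range_eq_ker
  have h1' : LinearMap.range (dlt L M hL n) =
      LinearMap.ker (homologyMap (iK L ▷ M) (n + 1)).hom := h1
  rw [h1']
  ext y
  constructor
  · rintro ⟨⟨ξ, rfl⟩, h2⟩
    refine ⟨ξ, ?_, rfl⟩
    have h2' : (homologyMap (iK L ▷ M) (n + 1)).hom (Phi (Lk L) M (n + 1) ξ) = 0 := h2
    show Hsum (iK L) M (n + 1) ξ = 0
    rw [homologyMap_Phi] at h2'
    apply Phi_P_injective L M bL hbL (n + 1)
    rw [h2', map_zero]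
  · rintro ⟨ξ, hξ, rfl⟩
    refine ⟨⟨ξ, rfl⟩, ?_⟩
    have hξ' : Hsum (iK L) M (n + 1) ξ = 0 := hξ
    show (homologyMap (iK L ▷ M) (n + 1)).hom (Phi (Lk L) M (n + 1) ξ) = 0
    rw [homologyMap_Phi, hξ', map_zero]

end Groth.Agent.Helper8.Kun
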