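import Groth.Agent.Lib.Helper8.KunJ
import Groth.Agent.Lib.Helper18.Tor.Low

/-!
# Tor dimension shifting along `0 → H(L') → H(P) → H(L) → 0`
-/

set_option autoImplicit false
set_option linter.unusedSectionVars false
set_option linter.unusedVariables false
set_option linter.style.haveILetI false

universe u

open CategoryTheory CategoryTheory.Limits MonoidalCategory HomologicalComplex TensorProduct

namespace Groth.Agent.Helper8.Kun

open Groth.Agent.Helper18.TorLib

variable {A : Type u} [CommRing A] (L M : DRing.Cx A)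

instance flat_S0H_X₂ (i : ℤ) : Module.Flat A (S0H L i).X₂ := flat_Pcx_homology L i

/-- the connecting map `Tor_{p+2}(H^i L, Y) → Tor_{p+1}(H^i L', Y)` -/
noncomputable def torD (i : ℤ) (Y : ModuleCat.{u} A) (p : ℕ) :
    ((Tor (ModuleCat.{u} A) (p + 1)).obj (S0H L i).X₃).obj Y ⟶
      ((Tor (ModuleCat.{u} A) p).obj (S0H L i).X₁).obj Y :=
  torδ (S0H_shortExact L i) Y p

instance mono_torD (i : ℤ) (Y : ModuleCat.{u} A) (p : ℕ) : Mono (torD L i Y p) := by
  have h3 := tor_exact₃ (S0H_shortExact L i) Y p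
  have hz : IsZero (((Tor (ModuleCat.{u} A) (p + 1)).obj (S0H L i).X₂).obj Y) :=
    isZero_tor_succ_of_flat_left (S0H L i).X₂ Y p
  exact (h3.mono_g_iff).mpr (hz.eq_of_src _ _)

instance epi_torD_succ (i : ℤ) (Y : ModuleCat.{u} A) (p : ℕ) : Epi (torD L i Y (p + 1)) := by
  have h1 := tor_exact₁ (S0H_shortExact L i) Y (p + 1)
  have hz : IsZero (((Tor (ModuleCat.{u} A) (p + 1)).obj (S0H L i).X₂).obj Y) :=
    isZero_tor_succ_of_flat_left (S0H L i).X₂ Y p
  exact (h1.epi_f_iff).mpr (hz.eq_of_tgt _ _)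

instance isIso_torD_succ (i : ℤ) (Y : ModuleCat.{u} A) (p : ℕ) : IsIso (torD L i Y (p + 1)) :=
  isIso_of_mono_of_epi _

/-- `Tor_{p+2}(H^i L, Y) ≃ Tor_{p+1}(H^i L', Y)` -/
noncomputable def torShift (i : ℤ) (Y : ModuleCat.{u} A) (p : ℕ) :
    ((Tor (ModuleCat.{u} A) (p + 1 + 1)).obj (S0H L i).X₃).obj Y ≃ₗ[A]
      ((Tor (ModuleCat.{u} A) (p + 1)).obj (S0H L i).X₁).obj Y :=
  (asIso (torD L i Y (p + 1))).toLinearEquiv

/-- the map `Tor_1(H^i L, Y) → H^i L' ⊗ Y` -/
noncomputable def theta (i : ℤ) (Y : ModuleCat.{u} A) :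
    ((Tor (ModuleCat.{u} A) (0 + 1)).obj (S0H L i).X₃).obj Y →ₗ[A]
      ((S0H L i).X₁ ⊗[A] Y) :=
  (tor0Iso (S0H L i).X₁ Y).hom.hom ∘ₗ (torD L i Y 0).hom

theorem range_theta (i : ℤ) (Y : ModuleCat.{u} A) :
    LinearMap.range (theta L i Y) = LinearMap.ker ((S0H L i).f.hom.rTensor Y) := by
  have h1 := (tor_exact₁ (S0H_shortExact L i) Y 0).moduleCat_range_eq_ker
  have hnat := tor0Iso_hom_naturality (S0H L i).f Y
  have hnat' : ∀ t, (tor0Iso (S0H L i).X₂ Y).hom.hom
      ((((Tor (ModuleCat.{u} A) 0).map (S0H L i).f).app Y).hom t) =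
      (S0H L i).f.hom.rTensor Y ((tor0Iso (S0H L i).X₁ Y).hom.hom t) := by
    intro t
    have := congrArg (fun φ => φ.hom t) hnat
    exact this
  have hinj : Function.Injective (tor0Iso (S0H L i).X₂ Y).hom.hom :=
    (ModuleCat.mono_iff_injective _).mp inferInstance
  ext x
  constructor
  · rintro ⟨τ, rfl⟩
    rw [LinearMap.mem_ker]
    show (S0H L i).f.hom.rTensor Y ((tor0Iso (S0H L i).X₁ Y).hom.hom ((torD L i Y 0).hom τ)) = 0
    rw [← hnat']
    have h0 : (((Tor (ModuleCat.{u} A) 0).map (S0H L i).f).app Y).hom ((torD L i Y 0).hom τ) = 0 := by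
      have := torδ_comp (S0H_shortExact L i) Y 0
      exact congrArg (fun φ => φ.hom τ) this
    rw [h0, map_zero]
  · intro hx
    rw [LinearMap.mem_ker] at hx
    set t := (tor0Iso (S0H L i).X₁ Y).inv.hom x with ht
    have hxt : (tor0Iso (S0H L i).X₁ Y).hom.hom t = x := by
      have := (tor0Iso (S0H L i).X₁ Y).inv_hom_id
      exact congrArg (fun φ => φ.hom x) this
    have h0 : (((Tor (ModuleCat.{u} A) 0).map (S0H L i).f).app Y).hom t = 0 := by
      apply hinj
      rw [hnat', hxt, hx, map_zero]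
    have hmem : t ∈ LinearMap.ker (((Tor (ModuleCat.{u} A) 0).map (S0H L i).f).app Y).hom := h0
    rw [← h1] at hmem
    obtain ⟨τ, hτ⟩ := hmem
    refine ⟨τ, ?_⟩
    show (tor0Iso (S0H L i).X₁ Y).hom.hom ((torD L i Y 0).hom τ) = x
    rw [← hxt]
    congr 1

end Groth.Agent.Helper8.Kun
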