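import Groth.Agent.Lib.Helper8.KunK

/-!
# The Künneth spectral filtration
-/

set_option autoImplicit false
set_option linter.unusedSectionVars false
set_option linter.unusedVariables false
set_option linter.style.haveILetI false

universe u

open CategoryTheory CategoryTheory.Limits MonoidalCategory HomologicalComplex TensorProduct

namespace Groth.Agent.Helper8.Kun

open Groth.Agent.Helper18.TorLib HTor

variable {A : Type u} [CommRing A] (L M : DRing.Cx A)

section shift

variable (n : ℤ) (p : ℕ)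

/-- reindexing -/
def idxEquiv : {ij : ℤ × ℤ // ij.1 + ij.2 - ((p + 1 : ℕ) : ℤ) = n + 1} ≃
    {ij : ℤ × ℤ // ij.1 + ij.2 - ((p + 1 + 1 : ℕ) : ℤ) = n} where
  toFun x := ⟨x.1, by have := x.2; push_cast at this ⊢; omega⟩
  invFun y := ⟨y.1, by have := y.2; push_cast at this ⊢; omega⟩
  left_inv _ := rfl
  right_inv _ := rfl

/-- `TorSum L' M (n+1) (p+1) ≃ TorSum L M n (p+2)` -/
noncomputable def torSumShift :
    TorSum (Lk L) M (n + 1) (p + 1) ≃ₗ[A] TorSum L M n (p + 1 + 1) :=
  (DirectSum.lequivCongrLeft A (idxEquiv n p)).trans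
    (DFinsupp.mapRange.linearEquiv (fun k : {ij : ℤ × ℤ // ij.1 + ij.2 - ((p + 1 + 1 : ℕ) : ℤ) = n} =>
      (torShift L k.1.1 (M.homology k.1.2) p).symm))

end shift

section zero

variable (n : ℤ)

/-- reindexing for `p = 0` -/
def idx0 (ij : {ij : ℤ × ℤ // ij.1 + ij.2 - ((0 + 1 : ℕ) : ℤ) = n}) : Antidiag (n + 1) :=
  ⟨ij.1, by have := ij.2; push_cast at this ⊢; omega⟩

def idx0' (ij : Antidiag (n + 1)) : {ij : ℤ × ℤ // ij.1 + ij.2 - ((0 + 1 : ℕ) : ℤ) = n} :=
  ⟨ij.1, by have := ij.2; push_cast at this ⊢; omega⟩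

/-- the map `TorSum L M n 1 → ⊕ H^i(L') ⊗ H^j(M)` -/
noncomputable def Theta : TorSum L M n (0 + 1) →ₗ[A] KunnethSum (Lk L) M (n + 1) :=
  DirectSum.toModule A _ _ (fun ij =>
    (DirectSum.lof A (Antidiag (n + 1)) (fun ij => (Lk L).homology ij.1.1 ⊗[A] M.homology ij.1.2)
      (idx0 n ij)) ∘ₗ theta L ij.1.1 (M.homology ij.1.2))

lemma Theta_lof (ij : {ij : ℤ × ℤ // ij.1 + ij.2 - ((0 + 1 : ℕ) : ℤ) = n})
    (t : DRing.Tor A (0 + 1) (L.homology ij.1.1) (M.homology ij.1.2)) :
    Theta L M n (DirectSum.lof A _ _ ij t) =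
      DirectSum.lof A (Antidiag (n + 1)) (fun ij => (Lk L).homology ij.1.1 ⊗[A] M.homology ij.1.2)
        (idx0 n ij) (theta L ij.1.1 (M.homology ij.1.2) t) := by
  unfold Theta
  rw [DirectSum.toModule_lof]
  rfl

theorem range_Theta :
    LinearMap.range (Theta L M n) = LinearMap.ker (Hsum (iK L) M (n + 1)) := by
  classical
  apply le_antisymm
  · rintro _ ⟨τ, rfl⟩
    rw [LinearMap.mem_ker]
    have key : Hsum (iK L) M (n + 1) ∘ₗ Theta L M n = 0 := by
      apply DirectSum.linearMap_ext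
      intro ij
      apply LinearMap.ext
      intro t
      simp only [LinearMap.comp_apply, LinearMap.zero_apply]
      rw [Theta_lof, Hsum_lof]
      have hmem : theta L ij.1.1 (M.homology ij.1.2) t ∈
          LinearMap.range (theta L ij.1.1 (M.homology ij.1.2)) := ⟨t, rfl⟩
      rw [range_theta, LinearMap.mem_ker] at hmem
      have h0 : (homologyMap (iK L) (idx0 n ij).1.1).hom.rTensor (M.homology (idx0 n ij).1.2)
          (theta L ij.1.1 (M.homology ij.1.2) t) = 0 := hmem
      rw [h0, map_zero]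
    exact LinearMap.congr_fun key τ
  · intro ξ hξ
    rw [LinearMap.mem_ker] at hξ
    have hcomp : ∀ ij : Antidiag (n + 1), ∃ t : DRing.Tor A (0 + 1) (L.homology ij.1.1)
        (M.homology ij.1.2), theta L ij.1.1 (M.homology ij.1.2) t = ξ ij := by
      intro ij
      have h1 : (homologyMap (iK L) ij.1.1).hom.rTensor (M.homology ij.1.2) (ξ ij) = 0 := by
        rw [← Hsum_apply, hξ]
        rfl
      have hmem : ξ ij ∈ LinearMap.ker ((S0H L ij.1.1).f.hom.rTensor (M.homology ij.1.2)) := h1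
      rw [← range_theta] at hmem
      exact hmem
    choose t ht using hcomp
    refine ⟨∑ ij ∈ ξ.support, DirectSum.lof A _
      (fun ij : {ij : ℤ × ℤ // ij.1 + ij.2 - ((0 + 1 : ℕ) : ℤ) = n} =>
        DRing.Tor A (0 + 1) (L.homology ij.1.1) (M.homology ij.1.2)) (idx0' n ij) (t ij), ?_⟩
    rw [map_sum]
    conv_rhs => rw [← DirectSum.sum_support_of ξ]
    refine Finset.sum_congr rfl (fun ij _ => ?_)
    rw [Theta_lof]
    have := ht ij
    show DirectSum.lof A (Antidiag (n + 1)) (fun ij => (Lk L).homology ij.1.1 ⊗[A] M.homology ij.1.2)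
      ij (theta L ij.1.1 (M.homology ij.1.2) (t ij)) = _
    rw [this]
    rfl

end zero

section induction

open Groth.Agent.Helper5.KF

variable (bM : ℤ) (hbM : ∀ i, bM < i → IsZero (M.X i))

include hbM in
lemma subsingleton_homology_of_lt (L : DRing.Cx A) (bL : ℤ) (hbL : ∀ i, bL < i → IsZero (L.X i))
    (n : ℤ) (h : bL + bM < n) : Subsingleton ((L ⊗ M).homology n) := by
  have hz : ∀ z : (L ⊗ M).X n, z = 0 := fun z => by
    apply eq_zero_of_components
    intro p q hpq
    by_cases hp : bL < p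
    · have hz0 : IsZero (L.X p ⊗ M.X q) := (tensorRight (M.X q)).map_isZero (hbL p hp)
      haveI := ModuleCat.subsingleton_of_isZero hz0
      exact Subsingleton.elim _ _
    · have hz0 : IsZero (L.X p ⊗ M.X q) := (tensorLeft (L.X p)).map_isZero (hbM q (by omega))
      haveI := ModuleCat.subsingleton_of_isZero hz0
      exact Subsingleton.elim _ _
  refine ⟨fun a b => ?_⟩
  obtain ⟨x, rfl⟩ := piH_surjective (L ⊗ M) n a
  obtain ⟨y, rfl⟩ := piH_surjective (L ⊗ M) n b
  congr 1
  apply Subtype.ext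
  rw [hz x.1, hz y.1]

include hbM in
theorem filtration_aux (N : ℕ) : ∀ (L : DRing.Cx A) (hL : ∀ i, Module.Flat A (L.X i)) (bL : ℤ)
    (hbL : ∀ i, bL < i → IsZero (L.X i)) (n : ℤ), bL + bM - n < N →
    ∃ F : ℕ → Submodule A ((L ⊗ M).homology n), F 0 = LinearMap.range (Phi L M n) ∧
      Monotone F ∧ F N = ⊤ ∧
      ∀ p : ℕ, IsSubquotient A (grSucc F p) (TorSum L M n (p + 1)) := by
  induction N with
  | zero =>
    intro L hL bL hbL n hn
    haveI := subsingleton_homology_of_lt M bM hbM L bL hbL n (by push_cast at hn; omega)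
    refine ⟨fun _ => ⊤, ?_, monotone_const, rfl, fun p => ?_⟩
    · apply Submodule.ext
      intro x
      rw [Subsingleton.elim x 0]
      exact ⟨fun _ => zero_mem _, fun _ => zero_mem _⟩
    · haveI : Subsingleton (grSucc (fun _ => (⊤ : Submodule A ((L ⊗ M).homology n))) p) := by
        refine ⟨fun a b => ?_⟩
        obtain ⟨x, rfl⟩ := Submodule.mkQ_surjective _ a
        obtain ⟨y, rfl⟩ := Submodule.mkQ_surjective _ b
        congr 1
        exact Subtype.ext (Subsingleton.elim _ _)
      exact isSubquotient_of_subsingleton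
  | succ N ih =>
    intro L hL bL hbL n hn
    obtain ⟨F', hF'0, hF'mono, hF'top, hF'sub⟩ := ih (Lk L) (flat_Lk_X L hL) bL
      (fun i hi => isZero_Lk_X L i (hbL i hi)) (n + 1) (by push_cast at hn ⊢; omega)
    let δ := dlt L M hL n
    let F : ℕ → Submodule A ((L ⊗ M).homology n) := fun p =>
      Nat.casesOn p (LinearMap.range (Phi L M n)) (fun p => Submodule.comap δ (F' p))
    have hF : ∀ p, F (p + 1) = Submodule.comap δ (F' p) := fun p => rfl
    have hF0 : F 0 = LinearMap.ker δ := (ker_dlt L M hL bL hbL bM hbM n).symm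
    refine ⟨F, rfl, ?_, ?_, ?_⟩
    · apply monotone_nat_of_le_succ
      intro p
      cases p with
      | zero =>
        rw [hF0, hF 0]
        intro x hx
        rw [Submodule.mem_comap, LinearMap.mem_ker.mp hx]
        exact zero_mem _
      | succ p =>
        rw [hF, hF]
        exact Submodule.comap_mono (hF'mono (Nat.le_succ p))
    · rw [hF N, hF'top, Submodule.comap_top]
    · intro p
      cases p with
      | zero =>
        refine isSubquotient_grSucc_zero δ F F' hF hF0
          (Phi (Lk L) M (n + 1) ∘ₗ Theta L M n) ?_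
        rw [LinearMap.range_comp, range_Theta, hF'0]
        exact (range_Phi_inf_range_dlt L M hL bL hbL n).symm
      | succ p =>
        exact isSubquotient_grSucc_succ δ F F' hF p
          (IsSubquotient.of_equiv_right (hF'sub p) (torSumShift L M n p))

end induction

/-- The Künneth spectral filtration (statement S3539). -/
theorem kunneth_filtration (L M : DRing.Cx A) (hL : DRing.TermwiseFlat L)
    (bL : ∃ b : ℤ, DRing.VanishesAbove L b) (bM : ∃ b : ℤ, DRing.VanishesAbove M b) (n : ℤ) :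
    ∃ (N : ℕ) (F : ℕ → Submodule A ((HTor.tensorCx L M).homology n))
      (Φ : HTor.KunnethSum L M n →ₗ[A] (HTor.tensorCx L M).homology n),
      HTor.IsKunnethMap L M n Φ ∧ F 0 = LinearMap.range Φ ∧ Monotone F ∧ F N = ⊤ ∧
        ∀ p : ℕ, HTor.IsSubquotient A (HTor.grSucc F p) (HTor.TorSum L M n (p + 1)) := by
  obtain ⟨bl, hbl⟩ := bL
  obtain ⟨bm, hbm⟩ := bM
  obtain ⟨F, h0, hm, ht, hs⟩ := filtration_aux M bm hbm (bl + bm - n + 1).toNat L hL bl hbl n
    (by omega)
  exact ⟨_, F, Phi L M n, isKunnethMap_Phi L M n, h0, hm, ht, hs⟩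

end Groth.Agent.Helper8.Kun
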