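import Groth.Agent.Lib.Helper8.KunL

/-!
# Vanishing of `H^n(L ⊗ M)` from Tor vanishing (consequence of the Künneth spectral filtration)
-/

set_option autoImplicit false
set_option linter.unusedSectionVars false
set_option linter.unusedVariables false
set_option linter.style.haveILetI false

universe u

open CategoryTheory CategoryTheory.Limits MonoidalCategory HomologicalComplex TensorProduct

namespace Groth.Agent.Helper8.Kun

open Groth.Agent.Helper18.TorLib HTor

variable {A : Type u} [CommRing A]

lemma subsingleton_of_isSubquotient {N T : Type u} [AddCommGroup N] [Module A N]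
    [AddCommGroup T] [Module A T] [Subsingleton T] (h : IsSubquotient A N T) : Subsingleton N := by
  obtain ⟨S, S', hle, ⟨e⟩⟩ := h
  haveI : Subsingleton (↥S' ⧸ Submodule.comap S'.subtype S) := by
    refine ⟨fun a b => ?_⟩
    obtain ⟨x, rfl⟩ := Submodule.mkQ_surjective _ a
    obtain ⟨y, rfl⟩ := Submodule.mkQ_surjective _ b
    congr 1
    exact Subtype.ext (Subsingleton.elim _ _)
  exact e.injective.subsingleton

theorem tensor_homology_isZero (L M : DRing.Cx A)
    (hL : DRing.TermwiseFlat L) (bL : ∃ b : ℤ, DRing.VanishesAbove L b)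
    (bM : ∃ b : ℤ, DRing.VanishesAbove M b) (n : ℤ)
    (h : ∀ (p : ℕ) (i j : ℤ), i + j - p = n →
      Subsingleton (DRing.Tor A p (L.homology i) (M.homology j))) :
    IsZero ((HTor.tensorCx L M).homology n) := by
  obtain ⟨N, F, Φ, -, hF0, hmono, htop, hsub⟩ := kunneth_filtration L M hL bL bM n
  -- the Künneth sum vanishes
  haveI hK : Subsingleton (HTor.KunnethSum L M n) := by
    refine ⟨fun a b => DFinsupp.ext (fun ij => ?_)⟩
    haveI : Subsingleton (DRing.Tor A 0 (L.homology ij.1.1) (M.homology ij.1.2)) :=
      h 0 ij.1.1 ij.1.2 (by have := ij.2; push_cast; omega)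
    have hinj : Function.Injective (tor0Iso (L.homology ij.1.1) (M.homology ij.1.2)).inv.hom :=
      (ModuleCat.mono_iff_injective _).mp inferInstance
    exact hinj (Subsingleton.elim _ _)
  have h0 : F 0 = ⊥ := by
    rw [hF0, eq_bot_iff]
    rintro _ ⟨ξ, rfl⟩
    rw [Subsingleton.elim ξ 0, map_zero]
    exact zero_mem _
  have hstep : ∀ p, F (p + 1) ≤ F p := by
    intro p
    haveI : Subsingleton (HTor.TorSum L M n (p + 1)) := by
      refine ⟨fun a b => DFinsupp.ext (fun ij => ?_)⟩
      haveI := h (p + 1) ij.1.1 ij.1.2 ij.2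
      exact Subsingleton.elim _ _
    haveI := subsingleton_of_isSubquotient (hsub p)
    intro x hx
    have : (Submodule.Quotient.mk (⟨x, hx⟩ : F (p + 1)) : HTor.grSucc F p) = 0 :=
      Subsingleton.elim _ _
    rw [Submodule.Quotient.mk_eq_zero] at this
    exact this
  have hall : ∀ p, F p = ⊥ := by
    intro p
    induction p with
    | zero => exact h0
    | succ p ih => exact le_bot_iff.mp (ih ▸ hstep p)
  have htb : (⊤ : Submodule A ((HTor.tensorCx L M).homology n)) = ⊥ := by
    rw [← htop, hall N]
  haveI : Subsingleton ((HTor.tensorCx L M).homology n) := by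
    refine ⟨fun a b => ?_⟩
    have ha : a ∈ (⊥ : Submodule A ((HTor.tensorCx L M).homology n)) := by
      rw [← htb]; trivial
    have hb : b ∈ (⊥ : Submodule A ((HTor.tensorCx L M).homology n)) := by
      rw [← htb]; trivial
    rw [(Submodule.mem_bot A).mp ha, (Submodule.mem_bot A).mp hb]
  exact ModuleCat.isZero_of_subsingleton _

end Groth.Agent.Helper8.Kun
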