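import Groth.Agent.Lib.Helper8.LCInj

/-!
# Injective modules over an algebra are acyclic for local cohomology over the base (helper8)
-/

open CategoryTheory CategoryTheory.Limits Opposite Abelian Pointwise
universe u

namespace Groth.Agent.Helper8.LC

section Base

variable {R : Type u} [CommRing R] [IsNoetherianRing R] {R' : Type u} [CommRing R']
  [IsNoetherianRing R'] [Algebra R R']

/-- an injective `R'`-module is acyclic for `H_I` over `R`, for `I = (s)` -/
theorem H_span_subsingleton_of_injective_over [DecidableEq R] (s : Finset R) :
    ∀ (E' : Type u) [AddCommGroup E'] [Module R' E'] [Module R E'] [IsScalarTower R R' E']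
      [Module.Injective R' E'] (i : ℕ), 0 < i →
      Subsingleton (H (Ideal.span (s : Set R)) i E') := by
  induction s using Finset.induction_on with
  | empty =>
    intro E' _ _ _ _ _ i hi
    rw [Finset.coe_empty, Ideal.span_empty]
    exact IsTors.H_subsingleton ⊥ i hi E' (isTors_bot E')
  | insert b s hb ih =>
    intro E' _ _ _ _ _ i hi
    have h1 : Ideal.span ((insert b s : Finset R) : Set R) =
        Ideal.span (s : Set R) ⊔ Ideal.span {b} := by
      rw [Finset.coe_insert, Ideal.span_insert, sup_comm]
    rw [h1]
    set a := Ideal.span (s : Set R) with ha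
    set b' : R' := algebraMap R R' b with hb'
    let Γ' : Submodule R' E' := gam (Ideal.span {b'}) E'
    have hΓinj : Module.Injective R' Γ' := injective_gam (Ideal.span {b'}) E'
    have hΓa : Subsingleton (H a i Γ') := ih Γ' i hi
    have hΓtors : IsTors (Ideal.span {b}) Γ' := by
      rintro ⟨m, hm⟩
      obtain ⟨n, hn⟩ := (mem_gam_span_singleton_iff b' E' m).mp hm
      refine ⟨n, fun c hc => ?_⟩
      rw [Ideal.span_singleton_pow, Ideal.mem_span_singleton'] at hc
      obtain ⟨r, rfl⟩ := hc
      apply Subtype.ext
      change (r * b ^ n) • m = 0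
      rw [mul_smul, ← algebraMap_smul R' (b ^ n) m, map_pow, hn, smul_zero]
    have hΓJ : Subsingleton (H (a ⊔ Ideal.span {b}) i Γ') :=
      H_sup_subsingleton_of_isTors a b i hi Γ' hΓtors hΓa
    have hQ : Subsingleton (H (a ⊔ Ideal.span {b}) i (E' ⧸ Γ')) := by
      apply H_subsingleton_of_smul_bijective _ _ _
        (Ideal.mem_sup_right (Ideal.mem_span_singleton_self b))
      have := smul_bijective_quotient_gam b' E'
      have heq : (fun x : E' ⧸ Γ' => b • x) = (fun x : E' ⧸ Γ' => b' • x) := by
        funext x
        rw [hb', algebraMap_smul]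
      rw [heq]
      exact this
    have hses : IsSES (Γ'.subtype.restrictScalars R) (Γ'.mkQ.restrictScalars R) :=
      { inj := Γ'.injective_subtype
        exact := fun x => LinearMap.exact_subtype_mkQ Γ' x
        surj := Γ'.mkQ_surjective }
    exact hses.subsingleton_mid _ i

/-- an injective `R'`-module is acyclic for `H_I` over `R` -/
theorem H_subsingleton_of_injective_over (I : Ideal R) (E' : Type u) [AddCommGroup E']
    [Module R' E'] [Module R E'] [IsScalarTower R R' E'] [Module.Injective R' E'] (i : ℕ)
    (hi : 0 < i) : Subsingleton (H I i E') := by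
  classical
  obtain ⟨s, hs⟩ := (IsNoetherian.noetherian I : I.FG)
  rw [← hs]
  exact H_span_subsingleton_of_injective_over (R' := R') s E' i hi

end Base

end Groth.Agent.Helper8.LC
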