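import Groth.Agent.Lib.Helper8.LCGen

/-!
# Cohomological dimension is detected on the ring (helper8)
-/

open CategoryTheory CategoryTheory.Limits Opposite Abelian Pointwise
universe u

namespace Groth.Agent.Helper8.LC

variable {R : Type u} [CommRing R] (I : Ideal R)

section RightExact

variable (k : ℕ)
  (hk : ∀ (N : Type u) [AddCommGroup N] [Module R N], Subsingleton (H I (k + 1) N))

include hk in
/-- if `H^{k+1}_I` vanishes identically then `H^k_I` is right exact -/
theorem Hmap_surjective_of_surjective {M P : Type u} [AddCommGroup M] [Module R M]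
    [AddCommGroup P] [Module R P] {g : M →ₗ[R] P} (hg : Function.Surjective g) :
    Function.Surjective (Hmap I k g) := by
  have := hk (LinearMap.ker g)
  exact (isSES_of_surjective hg).Hmap_g_surjective I k

include hk in
theorem H_subsingleton_of_surjective {M P : Type u} [AddCommGroup M] [Module R M]
    [AddCommGroup P] [Module R P] {g : M →ₗ[R] P} (hg : Function.Surjective g)
    [Subsingleton (H I k M)] : Subsingleton (H I k P) :=
  (Hmap_surjective_of_surjective I k hk hg).subsingleton

include hk in
/-- if `H^{k+1}_I` vanishes identically and `H^k_I(R) = 0` then `H^k_I` vanishes on all finitely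
generated submodules -/
theorem H_subsingleton_fg_of_ring (hR : Subsingleton (H I k R)) (M : Type u) [AddCommGroup M]
    [Module R M] (N : Submodule R M) (hN : N.FG) : Subsingleton (H I k N) := by
  induction N, hN using Submodule.fg_induction with
  | singleton x =>
    let g : R →ₗ[R] (Submodule.span R {x}) :=
      (LinearMap.toSpanSingleton R M x).codRestrict _ (fun r => by
        rw [LinearMap.toSpanSingleton_apply]
        exact Submodule.smul_mem _ r (Submodule.mem_span_singleton_self x))
    have hg : Function.Surjective g := by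
      rintro ⟨y, hy⟩
      obtain ⟨r, rfl⟩ := Submodule.mem_span_singleton.mp hy
      exact ⟨r, Subtype.ext (LinearMap.toSpanSingleton_apply R M x r)⟩
    exact H_subsingleton_of_surjective I k hk hg
  | sup N₁ N₂ hN₁ hN₂ h₁ h₂ =>
    -- `0 → N₁ → N₁ ⊔ N₂ → (N₁ ⊔ N₂)/N₁ → 0` and `N₂ ↠ (N₁ ⊔ N₂)/N₁`
    let j : N₁ →ₗ[R] (N₁ ⊔ N₂ : Submodule R M) := Submodule.inclusion le_sup_left
    have hj : Function.Injective j := Submodule.inclusion_injective _
    have hses := isSES_of_injective hj
    let g : N₂ →ₗ[R] ((N₁ ⊔ N₂ : Submodule R M) ⧸ LinearMap.range j) :=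
      (LinearMap.range j).mkQ ∘ₗ Submodule.inclusion le_sup_right
    have hg : Function.Surjective g := by
      intro y
      obtain ⟨⟨y, hy⟩, rfl⟩ := Submodule.Quotient.mk_surjective _ y
      obtain ⟨y₁, hy₁, y₂, hy₂, rfl⟩ := Submodule.mem_sup.mp hy
      refine ⟨⟨y₂, hy₂⟩, ?_⟩
      change (LinearMap.range j).mkQ _ = (LinearMap.range j).mkQ _
      rw [← sub_eq_zero, ← map_sub, Submodule.mkQ_apply, Submodule.Quotient.mk_eq_zero]
      refine ⟨-⟨y₁, hy₁⟩, ?_⟩
      apply Subtype.ext
      simp [j]
    have h3 : Subsingleton (H I k ((N₁ ⊔ N₂ : Submodule R M) ⧸ LinearMap.range j)) :=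
      H_subsingleton_of_surjective I k hk hg
    exact hses.subsingleton_mid I k

include hk in
theorem H_subsingleton_of_ring [IsNoetherianRing R] (hR : Subsingleton (H I k R)) (M : Type u)
    [AddCommGroup M] [Module R M] : Subsingleton (H I k M) :=
  H_subsingleton_of_forall_fg I k M (fun N hN => H_subsingleton_fg_of_ring I k hk hR M N hN)

end RightExact

section Cd

variable [IsNoetherianRing R]

/-- if `H^i_I(R) = 0` for all `i > d` then `H^i_I(M) = 0` for all `i > d` and all `M` -/
theorem H_subsingleton_of_forall_ring (d : ℕ) (hR : ∀ i : ℕ, d < i → Subsingleton (H I i R))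
    (M : Type u) [AddCommGroup M] [Module R M] (i : ℕ) (hi : d < i) : Subsingleton (H I i M) := by
  classical
  obtain ⟨s, hs⟩ := (IsNoetherian.noetherian I : I.FG)
  have key : ∀ (n k : ℕ), d < k → s.card + 1 ≤ k + n →
      ∀ (M : Type u) [AddCommGroup M] [Module R M], Subsingleton (H I k M) := by
    intro n
    induction n with
    | zero =>
      intro k _ hk M _ _
      rw [← hs]
      exact H_span_finset_subsingleton s M k (by omega)
    | succ n ih =>
      intro k hdk hk M _ _
      exact H_subsingleton_of_ring I k (fun N _ _ => ih (k + 1) (by omega) (by omega) N)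
        (hR k hdk) M
  exact key (s.card + 1) i hi (by omega) M

end Cd

end Groth.Agent.Helper8.LC
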