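import Groth.Agent.Lib.Helper8.LCNoeth
import Groth.Agent.Lib.Helper17.DT6

/-!
# Local cohomology and the ideal transform (helper8)

* a map with `I`-torsion kernel and cokernel induces isomorphisms on `H^i_I` for `i ≥ 2`;
* in particular `H^i_I(M) → H^i_I(D_I(M))` is bijective for `i ≥ 2`.
-/

open CategoryTheory CategoryTheory.Limits Opposite Abelian
universe u

namespace Groth.Agent.Helper8.LC

variable {R : Type u} [CommRing R] [IsNoetherianRing R] (I : Ideal R)

variable {M N : Type u} [AddCommGroup M] [Module R M] [AddCommGroup N] [Module R N]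

/-- a surjection with torsion kernel induces bijections on `H^i_I`, `i ≥ 1` -/
theorem Hmap_bijective_of_surjective_of_ker_tors (f : M →ₗ[R] N) (hf : Function.Surjective f)
    (hker : IsTors I (LinearMap.ker f)) (i : ℕ) (hi : 1 ≤ i) :
    Function.Bijective (Hmap I i f) := by
  have hs := isSES_of_surjective hf
  obtain ⟨j, rfl⟩ : ∃ j, i = j + 1 := ⟨i - 1, by omega⟩
  have : Subsingleton (H I (j + 1) (LinearMap.ker f)) :=
    IsTors.H_subsingleton I (j + 1) (by omega) _ hker
  have : Subsingleton (H I (j + 1 + 1) (LinearMap.ker f)) :=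
    IsTors.H_subsingleton I (j + 1 + 1) (by omega) _ hker
  exact ⟨hs.Hmap_g_injective I (j + 1), hs.Hmap_g_surjective I (j + 1)⟩

/-- an injection with torsion cokernel induces bijections on `H^i_I`, `i ≥ 2` -/
theorem Hmap_bijective_of_injective_of_coker_tors (f : M →ₗ[R] N) (hf : Function.Injective f)
    (hcoker : IsTors I (N ⧸ LinearMap.range f)) (i : ℕ) (hi : 2 ≤ i) :
    Function.Bijective (Hmap I i f) := by
  have hs := isSES_of_injective hf
  obtain ⟨j, rfl⟩ : ∃ j, i = j + 1 + 1 := ⟨i - 2, by omega⟩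
  have : Subsingleton (H I (j + 1) (N ⧸ LinearMap.range f)) :=
    IsTors.H_subsingleton I (j + 1) (by omega) _ hcoker
  have : Subsingleton (H I (j + 1 + 1) (N ⧸ LinearMap.range f)) :=
    IsTors.H_subsingleton I (j + 1 + 1) (by omega) _ hcoker
  exact ⟨hs.Hmap_f_injective_succ I (j + 1), hs.Hmap_f_surjective I (j + 1 + 1)⟩

/-- a map with torsion kernel and cokernel induces bijections on `H^i_I`, `i ≥ 2` -/
theorem Hmap_bijective_of_ker_coker_tors (f : M →ₗ[R] N)
    (hker : IsTors I (LinearMap.ker f)) (hcoker : IsTors I (N ⧸ LinearMap.range f))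
    (i : ℕ) (hi : 2 ≤ i) : Function.Bijective (Hmap I i f) := by
  have hfac : f = (LinearMap.range f).subtype ∘ₗ f.rangeRestrict := by
    ext x; rfl
  have h1 : Function.Bijective (Hmap I i f.rangeRestrict) := by
    refine Hmap_bijective_of_surjective_of_ker_tors I f.rangeRestrict
      f.surjective_rangeRestrict ?_ i (by omega)
    rw [LinearMap.ker_rangeRestrict]
    exact hker
  have h2 : Function.Bijective (Hmap I i (LinearMap.range f).subtype) := by
    refine Hmap_bijective_of_injective_of_coker_tors I _ (LinearMap.range f).injective_subtype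
      ?_ i hi
    rw [Submodule.range_subtype]
    exact hcoker
  rw [hfac, Hmap_comp]
  exact h2.comp h1

omit [IsNoetherianRing R] in
theorem isTors_ker_toDT (M : Type u) [AddCommGroup M] [Module R M] :
    IsTors I (LinearMap.ker (LocCoh.toDT I M)) := by
  rintro ⟨x, hx⟩
  rw [Groth.Agent.Helper17.ker_toDT] at hx
  obtain ⟨n, hn⟩ := hx
  exact ⟨n, fun a ha => Subtype.ext (hn a ha)⟩

omit [IsNoetherianRing R] in
theorem isTors_coker_toDT (M : Type u) [AddCommGroup M] [Module R M] :
    IsTors I (LocCoh.DT I M ⧸ LinearMap.range (LocCoh.toDT I M)) :=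
  Groth.Agent.Helper17.isPowerTorsion_coker_toDT I M

/-- `H^i_I(M) → H^i_I(D_I(M))` is bijective for `i ≥ 2` -/
theorem Hmap_toDT_bijective (M : Type u) [AddCommGroup M] [Module R M] (i : ℕ) (hi : 2 ≤ i) :
    Function.Bijective (Hmap I i (LocCoh.toDT I M)) :=
  Hmap_bijective_of_ker_coker_tors I _ (isTors_ker_toDT I M) (isTors_coker_toDT I M) i hi

end Groth.Agent.Helper8.LC
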