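import Groth.Agent.Lib.Helper8.LCDT
import Groth.Agent.Lib.Helper8.LCLes
import Groth.Agent.Lib.Helper8.LCFlat2

/-!
# `coker (M → D_I(M)) ≃ H^1_I(M)` (helper8)
-/

open CategoryTheory CategoryTheory.Limits Opposite Abelian
open Groth.Agent.Helper17
universe u

namespace Groth.Agent.Helper8.LC

variable {R : Type u} [CommRing R] [IsNoetherianRing R] (I : Ideal R)

variable {M E Q : Type u} [AddCommGroup M] [Module R M] [AddCommGroup E] [Module R E]
  [AddCommGroup Q] [Module R Q]

/-- elements of `D_I(K)` agreeing after multiplication by `I^n` are equal -/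
theorem DT_eq_of_forall_smul_eq (K : Type u) [AddCommGroup K] [Module R K] (n : ℕ)
    (u v : LocCoh.DT I K) (h : ∀ a ∈ I ^ n, a • u = a • v) : u = v := by
  rw [← sub_eq_zero, ← Submodule.mem_bot R, ← torsionSub_DT_eq_bot I K]
  exact ⟨n, fun a ha => by rw [smul_sub, h a ha, sub_self]⟩

variable {f : M →ₗ[R] E} {g : E →ₗ[R] Q}

/-- the preimage of `Γ_I(Q)` in `E` -/
def satE (g : E →ₗ[R] Q) : Submodule R E := (gam I Q).comap g

omit [IsNoetherianRing R] in
theorem mem_satE (x : E) : x ∈ satE I g ↔ ∃ n : ℕ, ∀ a ∈ I ^ n, a • g x = 0 := Iff.rfl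

/-- `M → satE` -/
def toSatE (hs : IsSES f g) : M →ₗ[R] satE I g :=
  f.codRestrict (satE I g) (fun m => ⟨0, fun a _ => by
    rw [hs.exact.apply_apply_eq_zero, smul_zero]⟩)

omit [IsNoetherianRing R] in
theorem toSatE_coe (hs : IsSES f g) (m : M) : (toSatE I hs m : E) = f m := rfl

omit [IsNoetherianRing R] in
theorem ker_toSatE (hs : IsSES f g) : LinearMap.ker (toSatE I hs) = ⊥ := by
  rw [LinearMap.ker_eq_bot]
  intro m m' h
  exact hs.inj (congrArg Subtype.val h)

omit [IsNoetherianRing R] in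
theorem coker_toSatE_tors (hs : IsSES f g) :
    LocCoh.IsPowerTorsion I (satE I g ⧸ LinearMap.range (toSatE I hs)) := by
  intro q
  obtain ⟨⟨x, hx⟩, rfl⟩ := Submodule.Quotient.mk_surjective _ q
  obtain ⟨n, hn⟩ := hx
  refine ⟨n, fun a ha => ?_⟩
  rw [← Submodule.Quotient.mk_smul, Submodule.Quotient.mk_eq_zero]
  have h1 : g (a • x) = 0 := by rw [map_smul]; exact hn a ha
  obtain ⟨m, hm⟩ := (hs.exact (a • x)).mp h1
  exact ⟨m, Subtype.ext hm⟩

/-- the canonical map `satE → D_I(M)` -/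
noncomputable def satToDT (hs : IsSES f g) : satE I g →ₗ[R] LocCoh.DT I M :=
  extLift I (toSatE I hs) (by rw [ker_toSatE]; exact bot_le) (coker_toSatE_tors I hs)
    LinearMap.id

theorem satToDT_toSatE (hs : IsSES f g) (m : M) :
    satToDT I hs (toSatE I hs m) = LocCoh.toDT I M m := by
  have := extLift_comp I (toSatE I hs) (by rw [ker_toSatE]; exact bot_le)
    (coker_toSatE_tors I hs) LinearMap.id
  exact LinearMap.congr_fun this m

theorem satToDT_eq_zero_of_mem_gam (hs : IsSES f g) (x : satE I g) (hx : (x : E) ∈ gam I E) :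
    satToDT I hs x = 0 := by
  obtain ⟨n, hn⟩ := hx
  apply DT_eq_of_forall_smul_eq I M n
  intro a ha
  rw [smul_zero, ← map_smul]
  have : a • x = 0 := Subtype.ext (hn a ha)
  rw [this, map_zero]

theorem mem_gam_of_satToDT_eq_zero (hs : IsSES f g) (x : satE I g) (hx : satToDT I hs x = 0) :
    (x : E) ∈ gam I E := by
  obtain ⟨n, hn⟩ := x.2
  -- `I^n x ⊆ f(Γ_I(M))`
  have h1 : ∀ a ∈ I ^ n, a • (x : E) ∈ gam I E := by
    intro a ha
    have h2 : g (a • (x : E)) = 0 := by rw [map_smul]; exact hn a ha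
    obtain ⟨m, hm⟩ := (hs.exact (a • (x : E))).mp h2
    have h3 : toSatE I hs m = a • x := Subtype.ext hm
    have h4 : LocCoh.toDT I M m = 0 := by
      rw [← satToDT_toSatE I hs, h3, map_smul, hx, smul_zero]
    have h5 : m ∈ DRing.torsionSub I M := by
      rw [← ker_toDT]; exact h4
    obtain ⟨k, hk⟩ := h5
    rw [← hm]
    exact ⟨k, fun b hb => by rw [← map_smul, hk b hb, map_zero]⟩
  have hfg : ((I ^ n) • (Submodule.span R {(x : E)})).FG :=
    Submodule.FG.smul (IsNoetherian.noetherian _) (Submodule.fg_span_singleton _)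
  have hle : (I ^ n) • (Submodule.span R {(x : E)}) ≤ DRing.torsionSub I E := by
    rw [Submodule.smul_le]
    intro a ha y hy
    obtain ⟨c, rfl⟩ := Submodule.mem_span_singleton.mp hy
    rw [smul_comm]
    exact (DRing.torsionSub I E).smul_mem c (h1 a ha)
  obtain ⟨k, hk⟩ := exists_pow_smul_eq_zero_of_fg_le_torsionSub I _ hfg hle
  refine ⟨k + n, fun c hc => ?_⟩
  rw [pow_add] at hc
  refine Submodule.mul_induction_on hc ?_ ?_
  · intro b hb a ha
    rw [mul_smul]
    exact hk b hb _ (Submodule.smul_mem_smul ha (Submodule.mem_span_singleton_self _))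
  · intro y z hy hz
    rw [add_smul, hy, hz, add_zero]

theorem satToDT_surjective [Module.Injective R E] (hs : IsSES f g) :
    Function.Surjective (satToDT I hs) := by
  intro y
  obtain ⟨n, h, rfl⟩ := cls_surjective I M y
  obtain ⟨φ, hφ⟩ := Module.Injective.out (I ^ n).subtype (I ^ n).injective_subtype (f ∘ₗ h)
    (R := R) (Q := E)
  have hx : ∀ a (ha : a ∈ I ^ n), a • φ 1 = f (h ⟨a, ha⟩) := by
    intro a ha
    rw [← map_smul, smul_eq_mul, mul_one]
    exact hφ ⟨a, ha⟩
  have hmem : φ 1 ∈ satE I g := by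
    refine ⟨n, fun a ha => ?_⟩
    rw [← map_smul, hx a ha, hs.exact.apply_apply_eq_zero]
  refine ⟨⟨φ 1, hmem⟩, ?_⟩
  apply DT_eq_of_forall_smul_eq I M n
  intro a ha
  rw [smul_cls_of_mem I M h a ha, ← map_smul, ← satToDT_toSatE I hs]
  congr 1
  exact Subtype.ext (hx a ha)

/-- the common cover `M × Γ_I(E) → satE` -/
def sumToSatE (hs : IsSES f g) : (M × gam I E) →ₗ[R] satE I g :=
  (toSatE I hs).coprod (Submodule.inclusion (fun x hx => by
    obtain ⟨n, hn⟩ := hx
    exact ⟨n, fun a ha => by rw [← map_smul, hn a ha, map_zero]⟩ : gam I E ≤ satE I g))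

omit [IsNoetherianRing R] in
theorem sumToSatE_coe (hs : IsSES f g) (p : M × gam I E) :
    (sumToSatE I hs p : E) = f p.1 + (p.2 : E) := by
  obtain ⟨m, t⟩ := p
  simp [sumToSatE, toSatE_coe]

/-- `g` restricted to `satE → Γ_I(Q)` -/
def satToGam (g : E →ₗ[R] Q) : satE I g →ₗ[R] gam I Q :=
  g.restrict (fun _ hx => hx)

omit [IsNoetherianRing R] in
theorem satToGam_coe (x : satE I g) : (satToGam I g x : Q) = g x := rfl

theorem nonempty_coker_toDT_equiv_coker_gamMap [Module.Injective R E] (hs : IsSES f g) :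
    Nonempty ((LocCoh.DT I M ⧸ LinearMap.range (LocCoh.toDT I M)) ≃ₗ[R]
      (gam I Q ⧸ LinearMap.range (gamMap I g))) := by
  obtain ⟨e1⟩ := nonempty_coker_equiv_of_surjective (sumToSatE I hs) (LocCoh.toDT I M)
    (LinearMap.fst R M (gam I E)) (satToDT I hs) LinearMap.fst_surjective
    (satToDT_surjective I hs)
    (by
      rintro ⟨m, t⟩
      have h1 : sumToSatE I hs (m, t) = toSatE I hs m + ⟨(t : E), by
          obtain ⟨n, hn⟩ := t.2
          exact ⟨n, fun a ha => by rw [← map_smul, hn a ha, map_zero]⟩⟩ := by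
        apply Subtype.ext
        rw [sumToSatE_coe]
        rfl
      rw [h1, map_add, satToDT_toSatE, satToDT_eq_zero_of_mem_gam I hs _ t.2, add_zero]
      rfl)
    (by
      intro x hx
      have h1 := mem_gam_of_satToDT_eq_zero I hs x hx
      refine ⟨(0, ⟨(x : E), h1⟩), ?_⟩
      apply Subtype.ext
      rw [sumToSatE_coe]
      simp)
  obtain ⟨e2⟩ := nonempty_coker_equiv_of_surjective (sumToSatE I hs) (gamMap I g)
    (LinearMap.snd R M (gam I E)) (satToGam I g) LinearMap.snd_surjective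
    (by
      rintro ⟨q, hq⟩
      obtain ⟨x, rfl⟩ := hs.surj q
      exact ⟨⟨x, hq⟩, rfl⟩)
    (by
      rintro ⟨m, t⟩
      apply Subtype.ext
      rw [satToGam_coe, sumToSatE_coe, map_add, hs.exact.apply_apply_eq_zero, zero_add]
      rfl)
    (by
      intro x hx
      have h1 : g (x : E) = 0 := congrArg Subtype.val hx
      obtain ⟨m, hm⟩ := (hs.exact (x : E)).mp h1
      refine ⟨(m, 0), ?_⟩
      apply Subtype.ext
      rw [sumToSatE_coe]
      simp [hm])
  exact ⟨e1.symm.trans e2⟩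

/-- `H^1_I(M) ≃ coker (Γ_I(E) → Γ_I(Q))` -/
theorem nonempty_H_one_equiv_coker_gamMap [Module.Injective R E] (hs : IsSES f g) :
    Nonempty ((gam I Q ⧸ LinearMap.range (gamMap I g)) ≃ₗ[R] H I 1 M) := by
  have : Subsingleton (H I (0 + 1) E) := H_subsingleton_of_injective I 1 E (by omega)
  have hsurj : Function.Surjective (Hδ I 0 hs) := hs.δ_surjective I 0
  have hker : LinearMap.ker (Hδ I 0 hs) = LinearMap.range (Hmap I 0 g) := by
    ext z
    rw [LinearMap.mem_ker]
    exact hs.exact_Hmap_δ I 0 z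
  obtain ⟨e1⟩ := nonempty_coker_equiv_of_equiv (Hmap I 0 g) (gamMap I g) (H0Equiv I E)
    (H0Equiv I Q) (fun x => H0Equiv_Hmap I g x)
  exact ⟨e1.symm.trans ((Submodule.quotEquivOfEq _ _ hker.symm).trans
    (LinearMap.quotKerEquivOfSurjective (Hδ I 0 hs) hsurj))⟩

/-- `coker (M → D_I(M)) ≃ H^1_I(M)` -/
theorem nonempty_coker_toDT_equiv_H_one (M : Type u) [AddCommGroup M] [Module R M] :
    Nonempty ((LocCoh.DT I M ⧸ LinearMap.range (LocCoh.toDT I M)) ≃ₗ[R] H I 1 M) := by
  obtain ⟨e1⟩ := nonempty_coker_toDT_equiv_coker_gamMap I (RMod.isSES (RMod.mk M))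
  obtain ⟨e2⟩ := nonempty_H_one_equiv_coker_gamMap I (RMod.isSES (RMod.mk M))
  exact ⟨e1.trans e2⟩

end Groth.Agent.Helper8.LC
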