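import Groth.Agent.Lib.Helper8.LCSup
import Mathlib.RingTheory.Flat.Basic

/-!
# Flat base change for local cohomology, part 1: acyclicity of `R' ⊗ E` (helper8)
-/

open CategoryTheory CategoryTheory.Limits Opposite Abelian Pointwise TensorProduct
universe u

namespace Groth.Agent.Helper8.LC

variable {R : Type u} [CommRing R] {R' : Type u} [CommRing R'] [Algebra R R']

section BaseChangeSES

variable {M N P : Type u} [AddCommGroup M] [Module R M] [AddCommGroup N] [Module R N]
  [AddCommGroup P] [Module R P]

theorem IsSES.baseChange [Module.Flat R R'] {f : M →ₗ[R] N} {g : N →ₗ[R] P} (h : IsSES f g) :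
    IsSES (f.baseChange R') (g.baseChange R') where
  inj := Module.Flat.lTensor_preserves_injective_linearMap f h.inj
  exact := Module.Flat.lTensor_exact R' h.exact
  surj := LinearMap.lTensor_surjective R' h.surj

theorem algebraMap_smul_tmul (b : R) (r' : R') (m : M) :
    algebraMap R R' b • (r' ⊗ₜ[R] m) = r' ⊗ₜ[R] (b • m) := by
  rw [TensorProduct.smul_tmul', smul_eq_mul, ← Algebra.smul_def, TensorProduct.smul_tmul]

theorem algebraMap_smul_eq_baseChange (b : R) (x : R' ⊗[R] M) :
    algebraMap R R' b • x = (b • (LinearMap.id : M →ₗ[R] M)).baseChange R' x := by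
  induction x using TensorProduct.induction_on with
  | zero => rw [smul_zero, map_zero]
  | tmul r' m => rw [algebraMap_smul_tmul, LinearMap.baseChange_tmul]; rfl
  | add x y hx hy => rw [smul_add, hx, hy, map_add]

theorem smul_bijective_baseChange (b : R) (hb : Function.Bijective (fun m : M => b • m)) :
    Function.Bijective (fun x : R' ⊗[R] M => algebraMap R R' b • x) := by
  let e : M ≃ₗ[R] M := LinearEquiv.ofBijective (b • (LinearMap.id : M →ₗ[R] M)) hb
  have h : (fun x : R' ⊗[R] M => algebraMap R R' b • x) = ⇑(LinearEquiv.lTensor R' e) := by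
    funext x
    rw [algebraMap_smul_eq_baseChange]
    rfl
  rw [h]
  exact (LinearEquiv.lTensor R' e).bijective

theorem isTors_baseChange_span_singleton (b : R) (hM : IsTors (Ideal.span {b}) M) :
    IsTors (Ideal.span {algebraMap R R' b}) (R' ⊗[R] M) := by
  intro x
  change x ∈ gam (Ideal.span {algebraMap R R' b}) (R' ⊗[R] M)
  induction x using TensorProduct.induction_on with
  | zero => exact Submodule.zero_mem _
  | tmul r' m =>
    rw [mem_gam_span_singleton_iff]
    obtain ⟨n, hn⟩ := (mem_gam_span_singleton_iff b M m).mp (hM m)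
    refine ⟨n, ?_⟩
    rw [← map_pow, algebraMap_smul_tmul, hn, TensorProduct.tmul_zero]
  | add x y hx hy => exact Submodule.add_mem _ hx hy

end BaseChangeSES

section Acyclic

variable [IsNoetherianRing R] [IsNoetherianRing R'] [Module.Flat R R']

theorem H_map_span_subsingleton_baseChange_of_injective [DecidableEq R] (s : Finset R) :
    ∀ (E : Type u) [AddCommGroup E] [Module R E] [Module.Injective R E] (i : ℕ), 0 < i →
      Subsingleton (H ((Ideal.span (s : Set R)).map (algebraMap R R')) i (R' ⊗[R] E)) := by
  induction s using Finset.induction_on with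
  | empty =>
    intro E _ _ _ i hi
    rw [Finset.coe_empty, Ideal.span_empty, Ideal.map_bot]
    exact IsTors.H_subsingleton ⊥ i hi _ (isTors_bot _)
  | insert b s hb ih =>
    intro E _ _ _ i hi
    have h1 : (Ideal.span ((insert b s : Finset R) : Set R)).map (algebraMap R R') =
        (Ideal.span (s : Set R)).map (algebraMap R R') ⊔ Ideal.span {algebraMap R R' b} := by
      rw [Finset.coe_insert, Ideal.span_insert, sup_comm, Ideal.map_sup,
        Ideal.map_span (algebraMap R R') {b}, Set.image_singleton]
    rw [h1]
    set a' := (Ideal.span (s : Set R)).map (algebraMap R R') with ha'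
    set b' : R' := algebraMap R R' b with hb'
    let Γ : Submodule R E := gam (Ideal.span {b}) E
    have hΓinj : Module.Injective R Γ := injective_gam (Ideal.span {b}) E
    have hses : IsSES Γ.subtype Γ.mkQ := isSES_subtype_mkQ Γ
    have hses' := hses.baseChange (R' := R')
    have hΓa : Subsingleton (H a' i (R' ⊗[R] Γ)) := ih Γ i hi
    have hΓtors : IsTors (Ideal.span {b'}) (R' ⊗[R] Γ) :=
      isTors_baseChange_span_singleton b (isTors_gam (Ideal.span {b}))
    have hΓJ : Subsingleton (H (a' ⊔ Ideal.span {b'}) i (R' ⊗[R] Γ)) :=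
      H_sup_subsingleton_of_isTors a' b' i hi _ hΓtors hΓa
    have hQ : Subsingleton (H (a' ⊔ Ideal.span {b'}) i (R' ⊗[R] (E ⧸ Γ))) := by
      apply H_subsingleton_of_smul_bijective _ _ _
        (Ideal.mem_sup_right (Ideal.mem_span_singleton_self b'))
      exact smul_bijective_baseChange b (smul_bijective_quotient_gam b E)
    exact hses'.subsingleton_mid _ i

/-- `R' ⊗ E` is acyclic for `H_{IR'}` when `E` is `R`-injective and `R'` is flat over `R` -/
theorem H_map_subsingleton_baseChange_of_injective (I : Ideal R) (E : Type u) [AddCommGroup E]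
    [Module R E] [Module.Injective R E] (i : ℕ) (hi : 0 < i) :
    Subsingleton (H (I.map (algebraMap R R')) i (R' ⊗[R] E)) := by
  classical
  obtain ⟨s, hs⟩ := (IsNoetherian.noetherian I : I.FG)
  rw [← hs]
  exact H_map_span_subsingleton_baseChange_of_injective s E i hi

end Acyclic

end Groth.Agent.Helper8.LC
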