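import Groth.Agent.Lib.Helper8.LCGNV2
import Groth.Agent.Lib.Helper8.LCMV
import Groth.Agent.Lib.Helper8.LCTop
import Groth.Agent.Lib.Helper8.LCDepth
import Mathlib.RingTheory.KrullDimension.NonZeroDivisors
import Mathlib.RingTheory.Ideal.MinimalPrime.Noetherian

/-!
# Towards the Lichtenbaum–Hartshorne theorem (helper8)

* `dim R_x < dim R` for `x` in the maximal ideal of a local ring;
* `H^n_{a+(x)}(M) → H^n_a(M)` is surjective for `n = dim R`, `x ∈ m`;
* Mayer–Vietoris vanishing in top degree.
-/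

open CategoryTheory CategoryTheory.Limits Opposite Abelian IsLocalRing
open scoped TensorProduct
universe u

namespace Groth.Agent.Helper8.LC

variable {R : Type u} [CommRing R]

/-- `dim R_x < dim R` for `x` in the maximal ideal of a local ring -/
theorem ringKrullDim_away_lt [IsLocalRing R] (n : ℕ) (hn : ringKrullDim R = n) (x : R)
    (hx : x ∈ maximalIdeal R) :
    ringKrullDim (Localization (Submonoid.powers x)) < (n : WithBot ℕ∞) := by
  rw [ringKrullDim, Order.krullDim_lt_coe_iff]
  intro l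
  have hinj := PrimeSpectrum.localization_comap_injective
    (Localization (Submonoid.powers x)) (Submonoid.powers x)
  have hmono : StrictMono (PrimeSpectrum.comap
      (algebraMap R (Localization (Submonoid.powers x)))) := by
    intro P Q hPQ
    refine lt_of_le_of_ne ?_ (fun h => hPQ.ne (hinj h))
    exact Ideal.comap_mono (f := algebraMap R (Localization (Submonoid.powers x))) hPQ.le
  let l' : LTSeries (PrimeSpectrum R) := l.map _ hmono
  have hlast : RelSeries.last l' < closedPoint R := by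
    refine lt_of_le_of_ne (le_maximalIdeal (RelSeries.last l').2.ne_top) ?_
    intro h
    have h1 : x ∈ (RelSeries.last l').asIdeal := by rw [h]; exact hx
    have h2 : RelSeries.last l' = PrimeSpectrum.comap
        (algebraMap R (Localization (Submonoid.powers x))) (RelSeries.last l) :=
      LTSeries.last_map l _ hmono
    rw [h2] at h1
    have h3 : algebraMap R (Localization (Submonoid.powers x)) x ∈ (RelSeries.last l).asIdeal := h1
    have hu : IsUnit (algebraMap R (Localization (Submonoid.powers x)) x) :=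
      IsLocalization.map_units _ (⟨x, Submonoid.mem_powers x⟩ : Submonoid.powers x)
    exact (RelSeries.last l).2.ne_top (Ideal.eq_top_of_isUnit_mem _ h3 hu)
  have h3 := Order.LTSeries.length_le_krullDim (l'.snoc (closedPoint R) hlast)
  have hkd : Order.krullDim (PrimeSpectrum R) = n := hn
  rw [hkd] at h3
  have h5 : (l'.snoc (closedPoint R) hlast).length = l.length + 1 := by
    rw [RelSeries.snoc_length]
    rfl
  rw [h5] at h3
  have h6 : l.length + 1 ≤ n := by exact_mod_cast h3
  omega

variable [IsNoetherianRing R]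

/-- `H^n_a(M)_x = 0` for `n = dim R`, `x ∈ m` -/
theorem localizedModule_H_subsingleton_top [IsLocalRing R] (n : ℕ) (hn : ringKrullDim R = n)
    (x : R) (hx : x ∈ maximalIdeal R) (a : Ideal R) (M : Type u) [AddCommGroup M] [Module R M] :
    Subsingleton (LocalizedModule (Submonoid.powers x) (H a n M)) := by
  have hN : IsNoetherianRing (Localization (Submonoid.powers x)) :=
    IsLocalization.isNoetherianRing (Submonoid.powers x) _ inferInstance
  have hF : Module.Flat R (Localization (Submonoid.powers x)) :=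
    IsLocalization.flat _ (Submonoid.powers x)
  obtain ⟨e⟩ := exists_equiv_baseChange (R' := Localization (Submonoid.powers x)) a n (RMod.mk M)
  have h1 : Subsingleton (H (a.map (algebraMap R (Localization (Submonoid.powers x)))) n
      (Localization (Submonoid.powers x) ⊗[R] M)) := by
    apply H_subsingleton_of_supportDim_lt
    exact lt_of_le_of_lt (Module.supportDim_le_ringKrullDim _ _) (ringKrullDim_away_lt n hn x hx)
  have h2 : Subsingleton (Localization (Submonoid.powers x) ⊗[R] H a n M) :=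
    e.injective.subsingleton
  exact ((LocalizedModule.isBaseChange (Submonoid.powers x)
    (H a n M)).equiv).symm.injective.subsingleton

/-- `H^n_{a+(x)}(M) → H^n_a(M)` is surjective for `n = dim R`, `x ∈ m` -/
theorem Hθ_sup_span_surjective_top [IsLocalRing R] (n : ℕ) (hn : ringKrullDim R = n)
    (x : R) (hx : x ∈ maximalIdeal R) (a : Ideal R) (M : Type u) [AddCommGroup M] [Module R M] :
    Function.Surjective (Hθ (le_sup_left : a ≤ a ⊔ Ideal.span {x}) n M) := by
  intro y
  have := localizedModule_H_subsingleton_top n hn x hx a M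
  exact (exact_Hθ_mkLinearMap a x M n y).mp (Subsingleton.elim _ _)

/-- Mayer–Vietoris: if `H^i_I(M) = H^i_J(M) = 0` and `H^{i+1}_{I+J}(M) = 0` then
`H^i_{I ∩ J}(M) = 0` -/
theorem H_inf_subsingleton (I J : Ideal R) (M : Type u) [AddCommGroup M] [Module R M] (i : ℕ)
    (hI : Subsingleton (H I i M)) (hJ : Subsingleton (H J i M))
    (hIJ : Subsingleton (H (I ⊔ J) (i + 1) M)) : Subsingleton (H (I ⊓ J) i M) := by
  obtain ⟨e⟩ := mv_nonempty_coker_equiv_ker I J M i
  have h1 : Subsingleton (LinearMap.ker (LinearMap.prod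
      (Hθ (le_sup_left : I ≤ I ⊔ J) (i + 1) M) (Hθ (le_sup_right : J ≤ I ⊔ J) (i + 1) M))) :=
    inferInstance
  have h2 := e.injective.subsingleton
  have h3 := Submodule.Quotient.subsingleton_iff.mp h2
  refine ⟨fun a b => ?_⟩
  have h0 : ∀ y : H (I ⊓ J) i M, y = 0 := by
    intro y
    have hy : y ∈ LinearMap.range
        (Hθ (inf_le_left : I ⊓ J ≤ I) i M ∘ₗ LinearMap.fst R (H I i M) (H J i M) -
          Hθ (inf_le_right : I ⊓ J ≤ J) i M ∘ₗ LinearMap.snd R (H I i M) (H J i M)) := by
      rw [h3]; trivial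
    obtain ⟨⟨z1, z2⟩, rfl⟩ := hy
    rw [Subsingleton.elim z1 0, Subsingleton.elim z2 0]
    exact map_zero _
  rw [h0 a, h0 b]

omit [IsNoetherianRing R] in
/-- a non-maximal prime above `b` gives `dim R/b > 0` -/
theorem ringKrullDim_quotient_pos_of_lt [IsLocalRing R] (b q : Ideal R) [hq : q.IsPrime]
    (hbq : b ≤ q) (hqm : q ≠ maximalIdeal R) : 0 < ringKrullDim (R ⧸ b) := by
  rw [ringKrullDim_quotient, Order.krullDim_pos_iff]
  refine ⟨⟨⟨q, hq⟩, ?_⟩, ⟨closedPoint R, ?_⟩, ?_⟩
  · rw [PrimeSpectrum.mem_zeroLocus]; exact hbq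
  · rw [PrimeSpectrum.mem_zeroLocus]
    exact hbq.trans (le_maximalIdeal hq.ne_top)
  · refine lt_of_le_of_ne (le_maximalIdeal hq.ne_top) ?_
    intro h
    exact hqm (congrArg (fun z => z.1.asIdeal) h)

theorem withBot_enat_eq_one {d : WithBot ℕ∞} (h0 : 0 < d) (h2 : d < ((2 : ℕ) : WithBot ℕ∞)) :
    d = 1 := by
  induction d with
  | bot => exact absurd h0 (not_lt_bot)
  | coe e =>
    have h2' : e < (2 : ℕ∞) := by
      have : ((e : ℕ∞) : WithBot ℕ∞) < (((2 : ℕ∞)) : WithBot ℕ∞) := h2
      exact WithBot.coe_lt_coe.mp this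
    have h0' : (0 : ℕ∞) < e := by
      have : (((0 : ℕ∞)) : WithBot ℕ∞) < ((e : ℕ∞) : WithBot ℕ∞) := h0
      exact WithBot.coe_lt_coe.mp this
    have he : e = 1 := by
      induction e with
      | top => exact absurd h2' (not_lt_of_ge le_top)
      | coe k =>
        have h0'' : 0 < k := by exact_mod_cast h0'
        have h2'' : k < 2 := by exact_mod_cast h2'
        have : k = 1 := by omega
        rw [this]; rfl
    rw [he]; rfl

/-- an ideal maximal among those with `H^n_p(R) ≠ 0` and `dim R/p > 0` is prime of dimension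
one -/
theorem isPrime_of_maximal_nonvanishing [IsLocalRing R] (n : ℕ) (hn : ringKrullDim R = n)
    (p : Ideal R) (hp : Nontrivial (H p n R)) (hp' : 0 < ringKrullDim (R ⧸ p))
    (hmax : ∀ b : Ideal R, p < b → Nontrivial (H b n R) → ¬ 0 < ringKrullDim (R ⧸ b)) :
    p.IsPrime ∧ ringKrullDim (R ⧸ p) = 1 := by
  -- Step A
  have hA : ∀ x ∈ maximalIdeal R, x ∉ p → ¬ 0 < ringKrullDim (R ⧸ (p ⊔ Ideal.span {x})) := by
    intro x hxm hxp
    apply hmax _ (lt_sup_span_of_notMem hxp)
    exact (Hθ_sup_span_surjective_top n hn x hxm p R).nontrivial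
  -- Step B
  have hB : ringKrullDim (R ⧸ p) < ((2 : ℕ) : WithBot ℕ∞) := by
    rw [ringKrullDim_quotient, Order.krullDim_lt_coe_iff]
    intro l
    by_contra hlen
    rw [not_lt] at hlen
    have h01 : l ⟨0, by omega⟩ < l ⟨1, by omega⟩ := l.strictMono (by simp [Fin.lt_def])
    have h12 : l ⟨1, by omega⟩ < l ⟨2, by omega⟩ := l.strictMono (by simp [Fin.lt_def])
    obtain ⟨x, hx1, hx0⟩ := SetLike.exists_of_lt
      (show (l ⟨0, by omega⟩).1.asIdeal < (l ⟨1, by omega⟩).1.asIdeal from h01)
    have hp0 : p ≤ (l ⟨0, by omega⟩).1.asIdeal := (l ⟨0, by omega⟩).2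
    have hp1 : p ≤ (l ⟨1, by omega⟩).1.asIdeal := (l ⟨1, by omega⟩).2
    have hxm : x ∈ maximalIdeal R := le_maximalIdeal (l ⟨1, by omega⟩).1.2.ne_top hx1
    have hxp : x ∉ p := fun h => hx0 (hp0 h)
    apply hA x hxm hxp
    have hle1 : p ⊔ Ideal.span {x} ≤ (l ⟨1, by omega⟩).1.asIdeal :=
      sup_le hp1 (by rw [Ideal.span_le]; simpa using hx1)
    rw [ringKrullDim_quotient, Order.krullDim_pos_iff]
    refine ⟨⟨(l ⟨1, by omega⟩).1, ?_⟩, ⟨(l ⟨2, by omega⟩).1, ?_⟩, h12⟩
    · rw [PrimeSpectrum.mem_zeroLocus]; exact hle1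
    · rw [PrimeSpectrum.mem_zeroLocus]; exact hle1.trans h12.le
  have hdim : ringKrullDim (R ⧸ p) = 1 := withBot_enat_eq_one hp' hB
  refine ⟨?_, hdim⟩
  -- Step C: `p` is radical
  have hrad : p.radical = p := by
    by_contra hne
    have hlt : p < p.radical := lt_of_le_of_ne Ideal.le_radical (Ne.symm hne)
    obtain ⟨e⟩ := nonempty_H_equiv_of_radical_eq (Ideal.radical_idem p) n R
    apply hmax _ hlt e.toEquiv.nontrivial
    rw [ringKrullDim_quotient, PrimeSpectrum.zeroLocus_radical, ← ringKrullDim_quotient]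
    exact hp'
  -- `m` is not a minimal prime of `p`
  have hmin_ne : ∀ q ∈ p.minimalPrimes, q ≠ maximalIdeal R := by
    rintro q hq rfl
    have h0 : ¬ 0 < ringKrullDim (R ⧸ p) := by
      rw [ringKrullDim_quotient, Order.krullDim_pos_iff]
      rintro ⟨a, b, hab⟩
      have ha : maximalIdeal R ≤ a.1.asIdeal := hq.2 ⟨a.1.2, a.2⟩ (le_maximalIdeal a.1.2.ne_top)
      have hb : b.1.asIdeal ≤ maximalIdeal R := le_maximalIdeal b.1.2.ne_top
      exact absurd (hb.trans ha) (not_le_of_gt hab)
    exact h0 hp'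
  have hptop : p ≠ ⊤ := by
    rintro rfl
    have : Subsingleton (R ⧸ (⊤ : Ideal R)) := Ideal.Quotient.subsingleton_iff.mpr rfl
    rw [ringKrullDim_eq_bot_of_subsingleton] at hp'
    exact absurd hp' (not_lt_bot)
  obtain ⟨q, hq⟩ : ∃ q, q ∈ p.minimalPrimes := by
    obtain ⟨q, hq, _⟩ := Ideal.exists_minimalPrimes_le (I := p) (J := maximalIdeal R)
      (le_maximalIdeal hptop)
    exact ⟨q, hq⟩
  have hqprime : q.IsPrime := hq.1.1
  have hfin : (p.minimalPrimes \ {q}).Finite :=
    (Ideal.finite_minimalPrimes_of_isNoetherianRing R p).subset Set.sdiff_subset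
  have hpqc : p = q ⊓ sInf (p.minimalPrimes \ {q}) := by
    rw [← sInf_insert, Set.insert_sdiff_singleton, Set.insert_eq_of_mem hq,
      Ideal.sInf_minimalPrimes, hrad]
  have hvan : Subsingleton (H (q ⊔ sInf (p.minimalPrimes \ {q})) (n + 1) R) :=
    H_subsingleton_of_ringKrullDim_lt _ n hn R (n + 1) (by omega)
  have hor : Nontrivial (H q n R) ∨ Nontrivial (H (sInf (p.minimalPrimes \ {q})) n R) := by
    by_contra hcon
    push Not at hcon
    have h1 := H_inf_subsingleton q (sInf (p.minimalPrimes \ {q})) R n hcon.1 hcon.2 hvan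
    rw [← hpqc] at h1
    exact not_subsingleton _ h1
  rcases hor with hq1 | hc1
  · -- `H^n_q(R) ≠ 0`
    by_cases hpq : p = q
    · rw [hpq]; exact hqprime
    · exfalso
      have hlt : p < q := lt_of_le_of_ne hq.1.2 hpq
      exact hmax q hlt hq1 (ringKrullDim_quotient_pos_of_lt q q le_rfl (hmin_ne q hq))
  · -- `H^n_c(R) ≠ 0`
    exfalso
    have hpc : p ≤ sInf (p.minimalPrimes \ {q}) := hpqc.le.trans inf_le_right
    by_cases hpc' : p = sInf (p.minimalPrimes \ {q})
    · -- then `q` contains another minimal prime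
      have hle : hfin.toFinset.inf id ≤ q := by
        have h1 : hfin.toFinset.inf id = sInf (p.minimalPrimes \ {q}) := by
          rw [Finset.inf_id_eq_sInf, Set.Finite.coe_toFinset]
        rw [h1, ← hpc']
        exact hq.1.2
      obtain ⟨q', hq'S, hq'q⟩ := (Ideal.IsPrime.inf_le' hqprime).mp hle
      rw [Set.Finite.mem_toFinset] at hq'S
      have h2 : q ≤ q' := hq.2 hq'S.1.1 hq'q
      exact hq'S.2 (le_antisymm hq'q h2)
    · have hlt : p < sInf (p.minimalPrimes \ {q}) := lt_of_le_of_ne hpc hpc'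
      apply hmax _ hlt hc1
      by_cases hS : (p.minimalPrimes \ {q}).Nonempty
      · obtain ⟨q', hq'⟩ := hS
        have : q'.IsPrime := hq'.1.1.1
        exact ringKrullDim_quotient_pos_of_lt _ q' (sInf_le hq') (hmin_ne q' hq'.1)
      · exfalso
        rw [Set.not_nonempty_iff_eq_empty] at hS
        rw [hS, sInf_empty] at hc1
        have : Subsingleton (H (⊤ : Ideal R) n R) :=
          H_subsingleton_of_smul_top_eq_top ⊤ R (by simp) n
        exact not_subsingleton _ this

end Groth.Agent.Helper8.LC
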