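import Groth.Agent.Lib.Helper8.LCLes3
import Groth.Agent.Lib.Helper8.LCVanish
import Groth.Agent.Lib.Helper8.LCIndep

/-!
# Elements of the Jacobson radical and top local cohomology (helper8)
-/

open CategoryTheory CategoryTheory.Limits Opposite Abelian
universe u

namespace Groth.Agent.Helper8.LC

variable {A : Type u} [CommRing A]

/-- inverting an element of the Jacobson radical drops the dimension -/
theorem ringKrullDim_localization_away_lt (f : A) (hf : f ∈ (⊥ : Ideal A).jacobson) (d : ℕ)
    (hd : ringKrullDim A = d) : ringKrullDim (Localization.Away f) < d := by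
  rw [ringKrullDim, Order.krullDim_lt_coe_iff]
  intro l
  let g : PrimeSpectrum (Localization.Away f) → PrimeSpectrum A :=
    PrimeSpectrum.comap (algebraMap A (Localization.Away f))
  have hgmono : Monotone g := fun p q hpq => Ideal.comap_mono hpq
  have hginj : Function.Injective g := by
    intro p q hpq
    apply PrimeSpectrum.ext
    have h1 := IsLocalization.map_under (Submonoid.powers f) (Localization.Away f) p.asIdeal
    have h2 := IsLocalization.map_under (Submonoid.powers f) (Localization.Away f) q.asIdeal
    have h3 : Ideal.under A p.asIdeal = Ideal.under A q.asIdeal :=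
      congrArg PrimeSpectrum.asIdeal hpq
    rw [← h1, ← h2, h3]
  have hg : StrictMono g := hgmono.strictMono_of_injective hginj
  have hf' : f ∉ (g (RelSeries.last l)).asIdeal := by
    intro h
    have h1 : algebraMap A (Localization.Away f) f ∈ (RelSeries.last l).asIdeal := h
    exact (RelSeries.last l).isPrime.ne_top
      (Ideal.eq_top_of_isUnit_mem _ h1 (IsLocalization.Away.algebraMap_isUnit f))
  obtain ⟨m, hm, hle⟩ := Ideal.exists_le_maximal (g (RelSeries.last l)).asIdeal
    (g (RelSeries.last l)).isPrime.ne_top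
  have hfm : f ∈ m := by
    have h1 : (⊥ : Ideal A).jacobson ≤ m := sInf_le ⟨bot_le, hm⟩
    exact h1 hf
  have hlt : RelSeries.last (l.map g hg) < (⟨m, hm.isPrime⟩ : PrimeSpectrum A) := by
    rw [LTSeries.last_map]
    refine lt_of_le_of_ne hle ?_
    intro h
    apply hf'
    rw [h]
    exact hfm
  have h2 := Order.LTSeries.length_le_krullDim ((l.map g hg).snoc ⟨m, hm.isPrime⟩ hlt)
  have h3 : Order.krullDim (PrimeSpectrum A) = d := hd
  rw [h3] at h2
  have h4 : ((l.map g hg).snoc ⟨m, hm.isPrime⟩ hlt).length = l.length + 1 := rfl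
  rw [h4] at h2
  have h5 : l.length + 1 ≤ d := by exact_mod_cast h2
  omega

variable [IsNoetherianRing A]

/-- `H^i_a(M_f) = 0` for `i ≥ dim A` when `f` lies in the Jacobson radical -/
theorem H_localizedModule_away_subsingleton_of_mem_jacobson (a : Ideal A) (f : A)
    (hf : f ∈ (⊥ : Ideal A).jacobson) (d : ℕ) (hd : ringKrullDim A = d)
    (M : Type u) [AddCommGroup M] [Module A M] (i : ℕ) (hi : d ≤ i) :
    Subsingleton (H a i (LocalizedModule (Submonoid.powers f) M)) := by
  let R' := Localization (Submonoid.powers f)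
  have hN : IsNoetherianRing R' :=
    IsLocalization.isNoetherianRing (Submonoid.powers f) R' inferInstance
  let X : BMod A R' := { carrier := LocalizedModule (Submonoid.powers f) M }
  obtain ⟨e⟩ := exists_equiv_base a i X
  have h1 : Module.supportDim R' (LocalizedModule (Submonoid.powers f) M) < (i : WithBot ℕ∞) := by
    refine lt_of_le_of_lt (Module.supportDim_le_ringKrullDim R' _) ?_
    refine lt_of_lt_of_le (ringKrullDim_localization_away_lt f hf d hd) ?_
    exact_mod_cast hi
  have h2 : Subsingleton (H (a.map (algebraMap A R')) i (LocalizedModule (Submonoid.powers f) M)) :=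
    H_subsingleton_of_supportDim_lt _ _ i h1
  have h3 : Subsingleton (HA a i X) := h2
  exact e.symm.toEquiv.subsingleton

/-- one step: if `cd (a + (f)) < d = dim A` with `f` in the Jacobson radical then `cd a < d`. -/
theorem H_subsingleton_of_sup_span_of_mem_jacobson (a : Ideal A) (f : A)
    (hf : f ∈ (⊥ : Ideal A).jacobson) (d : ℕ) (hd : ringKrullDim A = d)
    (M : Type u) [AddCommGroup M] [Module A M] (i : ℕ) (hi : d ≤ i)
    (h : Subsingleton (H (a ⊔ Ideal.span {f}) i M)) : Subsingleton (H a i M) := by
  have h1 := H_localizedModule_away_subsingleton_of_mem_jacobson a f hf d hd M i hi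
  have hex := exact_Hθ_Hmap_mkLinearMap a f M i
  refine ⟨fun x y => ?_⟩
  have hx : ∀ z : H a i M, z = 0 := by
    intro z
    have hz : Hmap a i (LocalizedModule.mkLinearMap (Submonoid.powers f) M) z = 0 :=
      Subsingleton.elim _ _
    obtain ⟨w, rfl⟩ := (hex z).mp hz
    rw [Subsingleton.elim w 0, map_zero]
  rw [hx x, hx y]

/-- if `I ≤ I' ≤ Jac(A)` and `cd I' < dim A` then `cd I < dim A`. -/
theorem H_subsingleton_of_le_of_le_jacobson (d : ℕ) (hd : ringKrullDim A = d) (I I' : Ideal A)
    (hII' : I ≤ I') (hJ : I' ≤ (⊥ : Ideal A).jacobson)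
    (h : ∀ (M : Type u) [AddCommGroup M] [Module A M] (i : ℕ), d ≤ i → Subsingleton (H I' i M))
    (M : Type u) [AddCommGroup M] [Module A M] (i : ℕ) (hi : d ≤ i) : Subsingleton (H I i M) := by
  classical
  obtain ⟨s, hs⟩ := (IsNoetherian.noetherian I' : I'.FG)
  have key : ∀ t : Finset A, (∀ x ∈ t, x ∈ (⊥ : Ideal A).jacobson) →
      (∀ (M : Type u) [AddCommGroup M] [Module A M] (i : ℕ), d ≤ i →
        Subsingleton (H (I ⊔ Ideal.span (t : Set A)) i M)) →
      ∀ (M : Type u) [AddCommGroup M] [Module A M] (i : ℕ), d ≤ i → Subsingleton (H I i M) := by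
    intro t
    induction t using Finset.induction_on with
    | empty =>
      intro _ h0 M _ _ i hi
      have := h0 M i hi
      rw [Finset.coe_empty, Ideal.span_empty, sup_bot_eq] at this
      exact this
    | insert f t hft ih =>
      intro hmem h0 M _ _ i hi
      refine ih (fun x hx => hmem x (Finset.mem_insert_of_mem hx)) ?_ M i hi
      intro M' _ _ j hj
      refine H_subsingleton_of_sup_span_of_mem_jacobson _ f (hmem f (Finset.mem_insert_self f t))
        d hd M' j hj ?_
      have h1 := h0 M' j hj
      have h2 : I ⊔ Ideal.span ((insert f t : Finset A) : Set A) =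
          I ⊔ Ideal.span (t : Set A) ⊔ Ideal.span {f} := by
        rw [Finset.coe_insert, Ideal.span_insert, sup_assoc, sup_comm (Ideal.span {f})]
      rw [h2] at h1
      exact h1
  refine key s (fun x hx => hJ (hs ▸ Ideal.subset_span hx)) ?_ M i hi
  intro M' _ _ j hj
  have hs' : Ideal.span (s : Set A) = I' := hs
  have h1 : I ⊔ Ideal.span (s : Set A) = I' := by
    rw [hs']
    exact sup_eq_right.mpr hII'
  rw [h1]
  exact h M' j hj

end Groth.Agent.Helper8.LC
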