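import Groth.Agent.Lib.Helper8.LCFaltFin
import Mathlib.RingTheory.Finiteness.Finsupp
import Mathlib.RingTheory.Localization.Finiteness

/-!
# Finiteness of `Hom(R/I, H^n_I(M))` and the local-global principle for finiteness (helper8)
-/

open CategoryTheory CategoryTheory.Limits Opposite Abelian Pointwise
universe u

namespace Groth.Agent.Helper8.LC

variable {R : Type u} [CommRing R] [IsNoetherianRing R] (I : Ideal R)

/-- `(L :_X I)` is finitely generated when `L` and `(0 :_X I)` are -/
theorem finite_colon_of_finite {X : Type u} [AddCommGroup X] [Module R X] (L : Submodule R X)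
    [Module.Finite R L] [Module.Finite R (LocCoh.torsionBy I X)] (C : Submodule R X)
    (hC : ∀ x ∈ C, ∀ a ∈ I, a • x ∈ L) : Module.Finite R C := by
  classical
  obtain ⟨s, hs⟩ := (IsNoetherian.noetherian I : I.FG)
  have hsI : ∀ a : {a : R // a ∈ s}, (a : R) ∈ I := fun a => by
    rw [← hs]; exact Submodule.subset_span (Finset.mem_coe.mpr a.2)
  -- `Φ : C → (s → L)`, `x ↦ (a • x)_a`
  let Φ : C →ₗ[R] ({a : R // a ∈ s} → L) :=
    LinearMap.pi (fun a => LinearMap.codRestrict L ((a : R) • C.subtype)
      (fun x => hC x.1 x.2 a (hsI a)))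
  have hΦ : ∀ (x : C) (a : {a : R // a ∈ s}), ((Φ x a : L) : X) = (a : R) • (x : X) := fun x a => rfl
  have hN1 : IsNoetherian R (LocCoh.torsionBy I X) := isNoetherian_of_isNoetherianRing_of_finite R _
  have hN2 : IsNoetherian R ({a : R // a ∈ s} → L) := isNoetherian_of_isNoetherianRing_of_finite R _
  -- the kernel embeds in `(0 :_X I)`
  have hker : ∀ x : LinearMap.ker Φ, ((x : C) : X) ∈ LocCoh.torsionBy I X := by
    intro x
    rw [Submodule.mem_torsionBySet_iff]
    rintro ⟨a, ha⟩
    change a • ((x : C) : X) = 0
    have hx : Φ x.1 = 0 := x.2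
    have hs' : Ideal.span (s : Set R) = I := hs
    have ha' : a ∈ Ideal.span (s : Set R) := by rw [hs']; exact ha
    have hkey : ∀ b ∈ Ideal.span (s : Set R), b • ((x : C) : X) = 0 := by
      intro b hb
      induction hb using Submodule.span_induction with
      | mem b hb =>
        have h1 := congrArg (fun g => ((g ⟨b, Finset.mem_coe.mp hb⟩ : L) : X)) hx
        have h2 : ((Φ x.1 ⟨b, Finset.mem_coe.mp hb⟩ : L) : X) = b • ((x : C) : X) := hΦ x.1 _
        rw [← h2]
        exact h1
      | zero => rw [zero_smul]
      | add b c _ _ hb hc => rw [add_smul, hb, hc, add_zero]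
      | smul r b _ hb => rw [smul_eq_mul, mul_smul, hb, smul_zero]
    exact hkey a ha'
  let κ : LinearMap.ker Φ →ₗ[R] LocCoh.torsionBy I X :=
    LinearMap.codRestrict _ (C.subtype ∘ₗ (LinearMap.ker Φ).subtype) hker
  have hκ : Function.Injective κ := by
    intro x y hxy
    have h1 : ((x : C) : X) = ((y : C) : X) :=
      congrArg (fun z : LocCoh.torsionBy I X => (z : X)) hxy
    exact Subtype.ext (Subtype.ext h1)
  have hfin1 : Module.Finite R (LinearMap.ker Φ) := Module.Finite.of_injective κ hκ
  have hfin2 : Module.Finite R (C ⧸ LinearMap.ker Φ) :=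
    Module.Finite.equiv (LinearMap.quotKerEquivRange Φ).symm
  exact Module.Finite.of_submodule_quotient (LinearMap.ker Φ)

omit [IsNoetherianRing R] in
/-- the middle term of an exact sequence with finite ends over a Noetherian ring is finite -/
theorem finite_of_exact_of_finite [IsNoetherianRing R] {A B C : Type u} [AddCommGroup A]
    [Module R A] [AddCommGroup B] [Module R B] [AddCommGroup C] [Module R C] {f : A →ₗ[R] B}
    {g : B →ₗ[R] C} (hex : Function.Exact f g) [Module.Finite R A] [Module.Finite R C] :
    Module.Finite R B := by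
  have hN : IsNoetherian R C := isNoetherian_of_isNoetherianRing_of_finite R _
  have h1 : Module.Finite R (LinearMap.range f) := Module.Finite.range f
  have h2 : Module.Finite R (B ⧸ LinearMap.range f) := by
    have hk : LinearMap.ker g = LinearMap.range f := LinearMap.exact_iff.mp hex
    have e : (B ⧸ LinearMap.range f) ≃ₗ[R] LinearMap.range g :=
      (Submodule.quotEquivOfEq _ _ hk.symm).trans (LinearMap.quotKerEquivRange g)
    exact Module.Finite.equiv e.symm
  exact Module.Finite.of_submodule_quotient (LinearMap.range f)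

/-- if `H^i_I(M)` is finite for `i < n` then `Hom(R/I, H^n_I(M)) = (0 :_{H^n_I(M)} I)` is finite -/
theorem finite_torsionBy_H : ∀ (n : ℕ) (M : Type u) [AddCommGroup M] [Module R M]
    [Module.Finite R M], (∀ i : ℕ, i < n → Module.Finite R (H I i M)) →
    Module.Finite R (LocCoh.torsionBy I (H I n M)) := by
  intro n
  induction n with
  | zero =>
    intro M _ _ _ _
    have : Module.Finite R (H I 0 M) := finite_H_zero I M
    have : IsNoetherian R (H I 0 M) := isNoetherian_of_isNoetherianRing_of_finite R _
    infer_instance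
  | succ n ih =>
    intro M _ _ _ hM
    have hses' := isSES_subtype_mkQ (gam I M)
    have hsub : ∀ j : ℕ, 0 < j → Subsingleton (H I j (gam I M)) := fun j hj =>
      IsTors.H_subsingleton I j hj _ (isTors_gam I)
    -- hypothesis for `M' = M / Γ_I(M)`
    have hM' : ∀ i : ℕ, i < n + 1 → Module.Finite R (H I i (M ⧸ gam I M)) := by
      intro i hi
      rcases Nat.eq_zero_or_pos i with rfl | hpos
      · exact finite_H_zero I _
      · have := hsub (i + 1) (by omega)
        have hsurj : Function.Surjective (Hmap I i (gam I M).mkQ) := hses'.Hmap_g_surjective I i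
        have := hM i hi
        exact Module.Finite.of_surjective _ hsurj
    -- reduce the conclusion to `M'`
    suffices hsuff : Module.Finite R (LocCoh.torsionBy I (H I (n + 1) (M ⧸ gam I M))) by
      have := hsub (n + 1) (by omega)
      have hinj : Function.Injective (Hmap I (n + 1) (gam I M).mkQ) :=
        hses'.Hmap_g_injective I (n + 1)
      have hN : IsNoetherian R (LocCoh.torsionBy I (H I (n + 1) (M ⧸ gam I M))) :=
        isNoetherian_of_isNoetherianRing_of_finite R _
      have hmem : ∀ x : LocCoh.torsionBy I (H I (n + 1) M),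
          Hmap I (n + 1) (gam I M).mkQ x.1 ∈ LocCoh.torsionBy I (H I (n + 1) (M ⧸ gam I M)) := by
        intro x
        rw [Submodule.mem_torsionBySet_iff]
        intro a
        have hx := ((Submodule.mem_torsionBySet_iff _ _).mp x.2) a
        change (a : R) • Hmap I (n + 1) (gam I M).mkQ x.1 = 0
        change (a : R) • x.1 = 0 at hx
        rw [← map_smul, hx, map_zero]
      let κ : LocCoh.torsionBy I (H I (n + 1) M) →ₗ[R]
          LocCoh.torsionBy I (H I (n + 1) (M ⧸ gam I M)) :=
        LinearMap.codRestrict _ (Hmap I (n + 1) (gam I M).mkQ ∘ₗ Submodule.subtype _) hmem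
      have hκ : Function.Injective κ := by
        intro x y hxy
        have h1 : Hmap I (n + 1) (gam I M).mkQ x.1 = Hmap I (n + 1) (gam I M).mkQ y.1 :=
          congrArg (fun z : LocCoh.torsionBy I (H I (n + 1) (M ⧸ gam I M)) =>
            (z : H I (n + 1) (M ⧸ gam I M))) hxy
        exact Subtype.ext (hinj h1)
      exact Module.Finite.of_injective κ hκ
    -- a regular element
    obtain ⟨r, hrI, hr⟩ := exists_regular_of_gam_eq_bot I (M ⧸ gam I M) (gam_quotient_gam I M)
    have hses := isSES_smul (M ⧸ gam I M) hr
    -- finiteness for `M'/rM'` below `n`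
    have hX₀ : ∀ i : ℕ, i < n → Module.Finite R
        (H I i ((M ⧸ gam I M) ⧸ r • (⊤ : Submodule R (M ⧸ gam I M)))) := by
      intro i hi
      have := hM' i (by omega)
      have := hM' (i + 1) (by omega)
      exact finite_of_exact_of_finite (hses.exact_Hmap_δ I i)
    have hT := ih ((M ⧸ gam I M) ⧸ r • (⊤ : Submodule R (M ⧸ gam I M))) hX₀
    have hn := hM' n (by omega)
    let g := (r • (⊤ : Submodule R (M ⧸ gam I M))).mkQ
    let L : Submodule R (H I n ((M ⧸ gam I M) ⧸ r • (⊤ : Submodule R (M ⧸ gam I M)))) :=
      LinearMap.range (Hmap I n g)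
    have hL : Module.Finite R L := Module.Finite.range _
    let C : Submodule R (H I n ((M ⧸ gam I M) ⧸ r • (⊤ : Submodule R (M ⧸ gam I M)))) :=
      { carrier := {x | ∀ a ∈ I, a • x ∈ L}
        zero_mem' := fun a _ => by rw [smul_zero]; exact Submodule.zero_mem L
        add_mem' := fun {x y} hx hy a ha => by
          rw [smul_add]; exact Submodule.add_mem L (hx a ha) (hy a ha)
        smul_mem' := fun c x hx a ha => by
          rw [smul_comm]; exact Submodule.smul_mem L c (hx a ha) }
    have hC : Module.Finite R C := finite_colon_of_finite I L C (fun x hx a ha => hx a ha)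
    -- `δ : C → (0 :_{N'} I)` is surjective
    have hδmem : ∀ x : C, Hδ I n hses x.1 ∈ LocCoh.torsionBy I (H I (n + 1) (M ⧸ gam I M)) := by
      intro x
      rw [Submodule.mem_torsionBySet_iff]
      intro a
      change (a : R) • Hδ I n hses x.1 = 0
      rw [← map_smul]
      obtain ⟨w, hw⟩ := x.2 a a.2
      exact (hses.exact_Hmap_δ I n _).mpr ⟨w, hw⟩
    let Δ : C →ₗ[R] LocCoh.torsionBy I (H I (n + 1) (M ⧸ gam I M)) :=
      LinearMap.codRestrict _ (Hδ I n hses ∘ₗ C.subtype) hδmem
    have hΔ : Function.Surjective Δ := by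
      rintro ⟨y, hy⟩
      have hy' := (Submodule.mem_torsionBySet_iff _ _).mp hy
      have h1 : Hmap I (n + 1) (r • (LinearMap.id : (M ⧸ gam I M) →ₗ[R] _)) y = 0 := by
        rw [Hmap_smul_id]
        exact hy' ⟨r, hrI⟩
      obtain ⟨x, hx⟩ := (hses.exact_δ_Hmap I n y).mp h1
      have hxC : x ∈ C := by
        intro a ha
        have h2 : Hδ I n hses (a • x) = 0 := by
          rw [map_smul, hx]
          exact hy' ⟨a, ha⟩
        exact (hses.exact_Hmap_δ I n _).mp h2
      exact ⟨⟨x, hxC⟩, Subtype.ext hx⟩
    exact Module.Finite.of_surjective Δ hΔ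

omit [IsNoetherianRing R] in
/-- a localization of an `I`-power torsion module which is finite over the local ring is killed by a
power of `I` -/
theorem exists_pow_smul_localizedModule_eq_zero (q : Ideal R) [q.IsPrime] (N : Type u)
    [AddCommGroup N] [Module R N] (hN : IsTors I N)
    (hfin : Module.Finite (Localization.AtPrime q) (LocalizedModule q.primeCompl N)) :
    ∃ k : ℕ, ∀ c ∈ I ^ k, ∀ z : LocalizedModule q.primeCompl N, c • z = 0 := by
  classical
  obtain ⟨T, hT⟩ := hfin.fg_top
  have htors : ∀ z : LocalizedModule q.primeCompl N, ∃ j : ℕ, ∀ c ∈ I ^ j, c • z = 0 := by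
    intro z
    induction z using LocalizedModule.induction_on with
    | h x s =>
      obtain ⟨j, hj⟩ := hN x
      refine ⟨j, fun c hc => ?_⟩
      rw [LocalizedModule.smul'_mk, hj c hc, LocalizedModule.zero_mk]
  choose j hj using htors
  refine ⟨T.sup j, fun c hc z => ?_⟩
  have hz : z ∈ Submodule.span (Localization.AtPrime q) (T : Set (LocalizedModule q.primeCompl N)) := by
    rw [hT]; trivial
  induction hz using Submodule.span_induction with
  | mem x hx => exact hj x c (Ideal.pow_le_pow_right (Finset.le_sup hx) hc)
  | zero => exact smul_zero c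
  | add x y _ _ hx hy => rw [smul_add, hx, hy, add_zero]
  | smul a x _ hx => rw [smul_comm, hx, smul_zero]

/-- the local-global principle for finiteness of local cohomology, hard direction -/
theorem finite_H_of_forall_localized_finite : ∀ (n : ℕ) (M : Type u) [AddCommGroup M]
    [Module R M] [Module.Finite R M],
    (∀ (p : Ideal R) [p.IsPrime], ∀ i : ℕ, i ≤ n → Module.Finite (Localization.AtPrime p)
      (LocalizedModule p.primeCompl (H I i M))) →
    ∀ i : ℕ, i ≤ n → Module.Finite R (H I i M) := by
  classical
  intro n
  induction n with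
  | zero =>
    intro M _ _ _ _ i hi
    obtain rfl : i = 0 := by omega
    exact finite_H_zero I M
  | succ n ih =>
    intro M _ _ _ hloc
    have hfin : ∀ i : ℕ, i ≤ n → Module.Finite R (H I i M) :=
      ih M (fun p _ i hi => hloc p i (by omega))
    refine finite_H_of_le_radical_annihilator I (n + 1) M ?_
    intro j hj
    rw [le_radical_iff_exists_pow_le]
    rcases Nat.lt_or_ge j (n + 1) with hlt | hge
    · exact exists_pow_le_annihilator_of_finite I j M (hfin j (by omega))
    obtain rfl : j = n + 1 := by omega
    -- `N = H^{n+1}_I(M)`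
    have hNtors : IsTors I (H I (n + 1) M) := fun x => H_exists_pow_smul_eq_zero I (n + 1) M x
    have hT : Module.Finite R (LocCoh.torsionBy I (H I (n + 1) M)) :=
      finite_torsionBy_H I (n + 1) M (fun i hi => hfin i (by omega))
    -- associated primes of `N` are associated primes of `(0 :_N I)`
    have hAss : associatedPrimes R (H I (n + 1) M) ⊆
        associatedPrimes R (LocCoh.torsionBy I (H I (n + 1) M)) := by
      intro q hq
      obtain ⟨hqprime, x, hx⟩ := (isAssociatedPrime_iff (I := q) (M := H I (n + 1) M)).mp hq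
      obtain ⟨k, hk⟩ := hNtors x
      have hIq : I ≤ q := by
        apply hqprime.le_of_pow_le (n := k)
        intro c hc
        rw [hx, Submodule.mem_colon_singleton]
        exact (Submodule.mem_bot R).mpr (hk c hc)
      have hxT : x ∈ LocCoh.torsionBy I (H I (n + 1) M) := by
        rw [Submodule.mem_torsionBySet_iff]
        intro a
        have : (a : R) ∈ q := hIq a.2
        rw [hx, Submodule.mem_colon_singleton] at this
        exact (Submodule.mem_bot R).mp this
      refine (isAssociatedPrime_iff (I := q)
        (M := LocCoh.torsionBy I (H I (n + 1) M))).mpr ⟨hqprime, ⟨x, hxT⟩, ?_⟩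
      ext a
      rw [hx, Submodule.mem_colon_singleton, Submodule.mem_colon_singleton, Submodule.mem_bot,
        Submodule.mem_bot]
      constructor
      · intro h; exact Subtype.ext h
      · intro h; exact congrArg Subtype.val h
    have hAfin : (associatedPrimes R (H I (n + 1) M)).Finite :=
      (associatedPrimes.finite R (LocCoh.torsionBy I (H I (n + 1) M))).subset hAss
    -- exponents at the associated primes
    have hA'fin : {q : PrimeSpectrum R | q.asIdeal ∈ associatedPrimes R (H I (n + 1) M)}.Finite :=
      hAfin.preimage (fun q _ q' _ h => PrimeSpectrum.ext h)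
    have hex : ∀ q : PrimeSpectrum R, ∃ k : ℕ,
        ∀ c ∈ I ^ k, ∀ z : LocalizedModule q.asIdeal.primeCompl (H I (n + 1) M), c • z = 0 := by
      intro q
      exact exists_pow_smul_localizedModule_eq_zero I q.asIdeal (H I (n + 1) M) hNtors
        (hloc q.asIdeal (n + 1) le_rfl)
    choose kf hkf using hex
    let k := hA'fin.toFinset.sup kf
    refine ⟨k, ?_⟩
    -- `I^k N = 0`
    have hP : (I ^ k) • (⊤ : Submodule R (H I (n + 1) M)) = ⊥ := by
      by_contra hne
      have hnt : Nontrivial ↥((I ^ k) • (⊤ : Submodule R (H I (n + 1) M))) := by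
        obtain ⟨w, hw, hw0⟩ := (Submodule.ne_bot_iff _).mp hne
        exact ⟨⟨⟨w, hw⟩, 0, fun h => hw0 (congrArg Subtype.val h)⟩⟩
      obtain ⟨q, hq⟩ := associatedPrimes.nonempty R
        ↥((I ^ k) • (⊤ : Submodule R (H I (n + 1) M)))
      have hqN : q ∈ associatedPrimes R (H I (n + 1) M) :=
        associatedPrimes.subset_of_injective (f := Submodule.subtype _)
          (Submodule.injective_subtype _) hq
      obtain ⟨hqprime, y, hy⟩ := (isAssociatedPrime_iff (I := q)
        (M := ↥((I ^ k) • (⊤ : Submodule R (H I (n + 1) M))))).mp hq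
      let q' : PrimeSpectrum R := ⟨q, hqprime⟩
      have hkq : kf q' ≤ k := Finset.le_sup (f := kf) (hA'fin.mem_toFinset.mpr hqN)
      -- `y` dies in the localization
      have key : ∀ w ∈ (I ^ k) • (⊤ : Submodule R (H I (n + 1) M)),
          LocalizedModule.mkLinearMap q'.asIdeal.primeCompl (H I (n + 1) M) w = 0 := by
        intro w hw
        refine Submodule.smul_induction_on hw ?_ ?_
        · intro c hc x _
          rw [map_smul]
          exact hkf q' c (Ideal.pow_le_pow_right hkq hc) _
        · intro x z hx hz
          rw [map_add, hx, hz, add_zero]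
      have hy0 := key y.1 y.2
      rw [LocalizedModule.mkLinearMap_apply, ← LocalizedModule.zero_mk 1,
        LocalizedModule.mk_eq] at hy0
      obtain ⟨s, hs⟩ := hy0
      rw [one_smul, one_smul, smul_zero] at hs
      have hs' : (s : R) • (y : H I (n + 1) M) = 0 := hs
      have hsq : (s : R) ∈ (⊥ : Submodule R
          ↥((I ^ k) • (⊤ : Submodule R (H I (n + 1) M)))).colon {y} := by
        rw [Submodule.mem_colon_singleton]
        exact (Submodule.mem_bot R).mpr (Subtype.ext hs')
      rw [← hy] at hsq
      exact s.2 hsq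
    intro c hc
    rw [Module.mem_annihilator]
    intro x
    have : c • x ∈ (I ^ k) • (⊤ : Submodule R (H I (n + 1) M)) :=
      Submodule.smul_mem_smul hc Submodule.mem_top
    rw [hP] at this
    exact (Submodule.mem_bot R).mp this

end Groth.Agent.Helper8.LC
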