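import Groth.Agent.Lib.Helper8.LCAnn
import Groth.Agent.Lib.Helper8.LCFinDim

/-!
# Annihilators of local cohomology of locally projective modules (helper8)

* `exists_factor_of_projective_away`: if `M_f` is projective over `A_f` then `f ^ c • id_M` factors
  through a finite free module
* `smul_eq_zero_pi_fin`: an element killing `H^i_I(A)` kills `H^i_I(Fin n → A)`
* `exists_pow_smul_eq_zero_of_projective_away`: the uniform annihilator statement
-/

set_option autoImplicit false
set_option linter.style.haveILetI false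
universe u

namespace Groth.Agent.Helper8.LC

open Pointwise

section Factor

variable {R : Type u} [CommRing R] [IsNoetherianRing R]

open IsLocalizedModule in
theorem exists_factor_of_projective_away (M : Type u) [AddCommGroup M] [Module R M]
    [Module.Finite R M] (f : R)
    [Module.Projective (Localization.Away f) (LocalizedModule (Submonoid.powers f) M)] :
    ∃ (c n : ℕ) (ψ : M →ₗ[R] (Fin n → R)) (φ : (Fin n → R) →ₗ[R] M),
      φ ∘ₗ ψ = (f ^ c) • LinearMap.id := by
  classical
  let S := Submonoid.powers f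
  obtain ⟨n, π, hπ⟩ := Module.Finite.exists_fin' R M
  let πf : LocalizedModule S (Fin n → R) →ₗ[Localization S] LocalizedModule S M :=
    LocalizedModule.map S π
  have hπf : Function.Surjective πf := LocalizedModule.map_surjective S π hπ
  haveI : Module.Projective (Localization S) (LocalizedModule S M) :=
    ‹Module.Projective (Localization.Away f) (LocalizedModule (Submonoid.powers f) M)›
  obtain ⟨σ, hσ⟩ := Module.projective_lifting_property πf LinearMap.id hπf
  let mkM : M →ₗ[R] LocalizedModule S M := LocalizedModule.mkLinearMap S M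
  let g : (Fin n → R) →ₗ[R] LocalizedModule S (Fin n → R) :=
    LocalizedModule.mkLinearMap S (Fin n → R)
  haveI : Module.FinitePresentation R M := Module.finitePresentation_of_finite R M
  obtain ⟨ψ, s₀, hψ⟩ :=
    Module.FinitePresentation.exists_lift_of_isLocalizedModule S g
      ((σ.restrictScalars R) ∘ₗ mkM)
  have h3 : mkM ∘ₗ (π ∘ₗ ψ) = mkM ∘ₗ (((s₀ : S) : R) • LinearMap.id) := by
    ext m
    have h4 : g (ψ m) = (s₀ : R) • σ (mkM m) := LinearMap.congr_fun hψ m
    have h5 : πf (g (ψ m)) = mkM (π (ψ m)) := by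
      change LocalizedModule.map S π (LocalizedModule.mk (ψ m) 1) = LocalizedModule.mk (π (ψ m)) 1
      rw [LocalizedModule.map_mk]
    have h6 : πf (σ (mkM m)) = mkM m := LinearMap.congr_fun hσ (mkM m)
    change mkM (π (ψ m)) = mkM ((((s₀ : S) : R) • LinearMap.id) m)
    have h7 : πf ((s₀ : R) • σ (mkM m)) = (s₀ : R) • πf (σ (mkM m)) :=
      LinearMap.map_smul_of_tower πf (s₀ : R) (σ (mkM m))
    rw [← h5, h4, LinearMap.smul_apply, LinearMap.id_apply, h7, h6]
    exact (map_smul mkM _ _).symm
  obtain ⟨s₁, h5⟩ := Module.Finite.exists_smul_of_comp_eq_of_isLocalizedModule S mkM _ _ h3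
  obtain ⟨c, hc⟩ := (s₁ * s₀ : S).2
  refine ⟨c, n, (s₁ : R) • ψ, π, ?_⟩
  rw [LinearMap.comp_smul]
  have h6 : (s₁ : R) • (π ∘ₗ ψ) = (s₁ : R) • (((s₀ : S) : R) • LinearMap.id) := h5
  rw [h6, smul_smul]
  congr 1
  exact hc.symm

end Factor

section Pi

variable {R : Type u} [CommRing R] (I : Ideal R) (i : ℕ)

theorem smul_eq_zero_pi_fin (M : Type u) [AddCommGroup M] [Module R M] (a : R)
    (ha : ∀ x : H I i M, a • x = 0) (n : ℕ) (x : H I i (Fin n → M)) : a • x = 0 := by
  classical
  have h1 : (LinearMap.id : (Fin n → M) →ₗ[R] (Fin n → M)) =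
      ∑ j : Fin n, (LinearMap.single R (fun _ : Fin n => M) j) ∘ₗ (LinearMap.proj j) := by
    ext j m k
    simp [Pi.single_apply, Finset.sum_apply]
  have h2 : ∀ (s : Finset (Fin n)),
      Hmap I i (∑ j ∈ s, (LinearMap.single R (fun _ : Fin n => M) j) ∘ₗ (LinearMap.proj j)) =
        ∑ j ∈ s, Hmap I i ((LinearMap.single R (fun _ : Fin n => M) j) ∘ₗ (LinearMap.proj j)) := by
    intro s
    induction s using Finset.induction_on with
    | empty => simp [Hmap_zero]
    | insert j s hj ih => rw [Finset.sum_insert hj, Finset.sum_insert hj, Hmap_add, ih]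
  have h3 : x = Hmap I i (LinearMap.id : (Fin n → M) →ₗ[R] (Fin n → M)) x := by
    rw [Hmap_id]; rfl
  rw [h3, h1, h2, LinearMap.sum_apply, Finset.smul_sum]
  refine Finset.sum_eq_zero fun j _ => ?_
  rw [Hmap_comp_apply, ← map_smul, ha, map_zero]

end Pi

section Main

variable {R : Type u} [CommRing R] [IsNoetherianRing R]

theorem exists_pow_smul_eq_zero_of_projective_away (J I : Ideal R) (hJI : J ≤ I) (i n : ℕ)
    (hA : ∀ a ∈ J ^ n, ∀ x : H I i R, a • x = 0) (M : Type u) [AddCommGroup M] [Module R M]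
    [Module.Finite R M]
    (hM : ∀ f ∈ I, Module.Projective (Localization.Away f)
      (LocalizedModule (Submonoid.powers f) M)) :
    ∃ m : ℕ, ∀ a ∈ J ^ m, ∀ x : H I i M, a • x = 0 := by
  classical
  -- the annihilator ideal
  let K : Ideal R := Module.annihilator R (H I i M)
  have hK : ∀ a : R, a ∈ K ↔ ∀ x : H I i M, a • x = 0 := fun a => Module.mem_annihilator
  -- each `f ∈ J` has a power in `K : J ^ n`
  have h1 : ∀ f ∈ J, ∃ c : ℕ, ∀ a ∈ J ^ n, f ^ c * a ∈ K := by
    intro f hf
    haveI := hM f (hJI hf)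
    obtain ⟨c, b, ψ, φ, h⟩ := exists_factor_of_projective_away M f
    refine ⟨c, fun a ha => ?_⟩
    rw [hK]
    intro x
    have h2 : ∀ y : H I i (Fin b → R), a • y = 0 :=
      smul_eq_zero_pi_fin I i R a (hA a ha) b
    rw [mul_comm, mul_smul, ← Hmap_smul_id I i (f ^ c) x, ← h, Hmap_comp_apply, ← map_smul, h2,
      map_zero]
  have h3 : J ≤ (K.colon (J ^ n : Ideal R)).radical := by
    intro f hf
    obtain ⟨c, hc⟩ := h1 f hf
    refine ⟨c, ?_⟩
    rw [Submodule.mem_colon]
    intro a ha
    exact hc a ha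
  obtain ⟨t, ht⟩ := (le_radical_iff_exists_pow_le J _).mp h3
  refine ⟨t + n, fun a ha x => ?_⟩
  rw [pow_add] at ha
  have h4 : J ^ t * J ^ n ≤ K := by
    rw [Ideal.mul_le]
    intro r hr s hs
    have := ht hr
    rw [Submodule.mem_colon] at this
    exact this s hs
  exact (hK a).mp (h4 ha) x

end Main

end Groth.Agent.Helper8.LC
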