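import Groth.Agent.Lib.Helper8.LCColim

/-!
# The long exact sequence of Mathlib's `localCohomology`, element-level (helper8)
-/

open CategoryTheory CategoryTheory.Limits Opposite Abelian
universe u

namespace Groth.Agent.Helper8.LC

variable {R : Type u} [CommRing R] (I : Ideal R) (i : ℕ)

section Delta

variable {S : ShortComplex (ModuleCat.{u} R)} (hS : S.ShortExact)

/-- the legs of the cocone defining the connecting homomorphism -/
noncomputable def δLeg (n : ℕ) : oldObj I i S.X₃ n ⟶ (localCohomology I (i + 1)).obj S.X₁ :=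
  ModuleCat.ofHom (ι I (i + 1) S.X₁ n ∘ₗ
    (Ext.postcompOfLinear hS.extClass R (RmodPow I n) (rfl : i + 1 = i + 1)) ∘ₗ
      (extEquiv (RmodPow I n) S.X₃ i).toLinearMap)

theorem δLeg_apply (n : ℕ) (y : oldObj I i S.X₃ n) :
    (δLeg I i hS n).hom y =
      ι I (i + 1) S.X₁ n ((extEquiv (RmodPow I n) S.X₃ i y).comp hS.extClass rfl) := rfl

theorem oldTrans_δLeg {n m : ℕ} (h : n ≤ m) :
    oldTrans I i S.X₃ h ≫ δLeg I i hS m = δLeg I i hS n := by
  ext y
  rw [ModuleCat.hom_comp, LinearMap.comp_apply, δLeg_apply, δLeg_apply, extEquiv_oldTrans,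
    Ext.comp_assoc (Ext.mk₀ (trans I h)) _ hS.extClass (zero_add i) rfl (by omega),
    ι_trans]

/-- the cocone defining the connecting homomorphism -/
noncomputable def δCocone : Cocone (lcDiagram I i ⋙ (evaluation _ _).obj S.X₃) where
  pt := (localCohomology I (i + 1)).obj S.X₁
  ι :=
    { app := fun n => δLeg I i hS n.unop.unop
      naturality := by
        rintro ⟨⟨n⟩⟩ ⟨⟨m⟩⟩ f
        have hle : n ≤ m := leOfHom f.unop.unop
        have hf : f = (homOfLE hle).op.op := Subsingleton.elim _ _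
        subst hf
        simp only [Functor.const_obj_obj, Functor.const_obj_map, Category.comp_id]
        exact oldTrans_δLeg I i hS hle }

/-- the connecting homomorphism `H^i_I(X₃) ⟶ H^{i+1}_I(X₁)` -/
noncomputable def δ : (localCohomology I i).obj S.X₃ ⟶ (localCohomology I (i + 1)).obj S.X₁ :=
  (evalCoconeIsColimit I i S.X₃).desc (δCocone I i hS)

theorem leg_δ (n : ℕ) : leg I i S.X₃ n ≫ δ I i hS = δLeg I i hS n :=
  (evalCoconeIsColimit I i S.X₃).fac (δCocone I i hS) (op (op n))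

theorem δ_ι (n : ℕ) (x : Abelian.Ext (RmodPow I n) S.X₃ i) :
    (δ I i hS).hom (ι I i S.X₃ n x) = ι I (i + 1) S.X₁ n (x.comp hS.extClass rfl) := by
  rw [ι_apply]
  have h := congrArg (fun t => t.hom ((extEquiv (RmodPow I n) S.X₃ i).symm x)) (leg_δ I i hS n)
  simp only [ModuleCat.hom_comp, LinearMap.comp_apply] at h
  rw [h, δLeg_apply, LinearEquiv.apply_symm_apply]

end Delta

section Exact

variable {S : ShortComplex (ModuleCat.{u} R)} (hS : S.ShortExact)

omit hS in
theorem map_g_map_f (x : (localCohomology I i).obj S.X₁) :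
    ((localCohomology I i).map S.g).hom (((localCohomology I i).map S.f).hom x) = 0 := by
  obtain ⟨n, ξ, rfl⟩ := exists_rep I i S.X₁ x
  rw [map_ι, map_ι, Ext.comp_assoc_of_third_deg_zero, Ext.mk₀_comp_mk₀, S.zero, Ext.mk₀_zero,
    Ext.comp_zero, map_zero]

theorem δ_map_g (y : (localCohomology I i).obj S.X₂) :
    (δ I i hS).hom (((localCohomology I i).map S.g).hom y) = 0 := by
  obtain ⟨n, ξ, rfl⟩ := exists_rep I i S.X₂ y
  rw [map_ι, δ_ι, Ext.comp_assoc_of_second_deg_zero, hS.comp_extClass, Ext.comp_zero, map_zero]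

theorem map_f_δ (z : (localCohomology I i).obj S.X₃) :
    ((localCohomology I (i + 1)).map S.f).hom ((δ I i hS).hom z) = 0 := by
  obtain ⟨n, ξ, rfl⟩ := exists_rep I i S.X₃ z
  rw [δ_ι, map_ι, Ext.comp_assoc_of_third_deg_zero, hS.extClass_comp, Ext.comp_zero, map_zero]

include hS in
theorem exact_f_g (y : (localCohomology I i).obj S.X₂)
    (hy : ((localCohomology I i).map S.g).hom y = 0) :
    ∃ x, ((localCohomology I i).map S.f).hom x = y := by
  obtain ⟨n, ξ, rfl⟩ := exists_rep I i S.X₂ y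
  rw [map_ι, ι_eq_zero_iff] at hy
  obtain ⟨m, h, hm⟩ := hy
  rw [← Ext.comp_assoc_of_third_deg_zero] at hm
  obtain ⟨ξ₁, h₁⟩ := Ext.covariant_sequence_exact₂ _ hS _ hm
  refine ⟨ι I i S.X₁ m ξ₁, ?_⟩
  rw [map_ι, h₁, ι_trans]

theorem exact_g_δ (z : (localCohomology I i).obj S.X₃) (hz : (δ I i hS).hom z = 0) :
    ∃ y, ((localCohomology I i).map S.g).hom y = z := by
  obtain ⟨n, ξ, rfl⟩ := exists_rep I i S.X₃ z
  rw [δ_ι, ι_eq_zero_iff] at hz
  obtain ⟨m, h, hm⟩ := hz
  rw [← Ext.comp_assoc (Ext.mk₀ (trans I h)) ξ hS.extClass (zero_add i) rfl (by omega)] at hm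
  obtain ⟨ξ₂, h₂⟩ := Ext.covariant_sequence_exact₃ _ hS _ rfl hm
  refine ⟨ι I i S.X₂ m ξ₂, ?_⟩
  rw [map_ι, h₂, ι_trans]

theorem exact_δ_f (x : (localCohomology I (i + 1)).obj S.X₁)
    (hx : ((localCohomology I (i + 1)).map S.f).hom x = 0) :
    ∃ z, (δ I i hS).hom z = x := by
  obtain ⟨n, ξ, rfl⟩ := exists_rep I (i + 1) S.X₁ x
  rw [map_ι, ι_eq_zero_iff] at hx
  obtain ⟨m, h, hm⟩ := hx
  rw [← Ext.comp_assoc_of_third_deg_zero] at hm
  obtain ⟨ξ₃, h₃⟩ := Ext.covariant_sequence_exact₁ _ hS _ hm rfl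
  refine ⟨ι I i S.X₃ m ξ₃, ?_⟩
  rw [δ_ι, h₃, ι_trans]

end Exact

section Mono

variable {M M' : ModuleCat.{u} R}

theorem map_zero_injective_of_mono (f : M ⟶ M') [Mono f] :
    Function.Injective ((localCohomology I 0).map f).hom := by
  rw [injective_iff_map_eq_zero]
  intro x hx
  obtain ⟨n, ξ, rfl⟩ := exists_rep I 0 M x
  rw [map_ι, ι_eq_zero_iff] at hx
  obtain ⟨m, h, hm⟩ := hx
  rw [← Ext.comp_assoc_of_third_deg_zero] at hm
  have h0 : (Ext.mk₀ (trans I h)).comp ξ (zero_add 0) = 0 := by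
    apply Ext.postcomp_mk₀_injective_of_mono (RmodPow I m) f
    simpa using hm
  rw [← ι_trans I 0 M h, h0, map_zero]

end Mono

end Groth.Agent.Helper8.LC
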