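import Groth.Agent.Lib.Helper8.LD9
import Groth.Agent.Lib.Helper8.LCGNV3

/-!
# Local duality, part 10: vanishing ranges and Cohen–Macaulay modules (helper8)
-/

set_option autoImplicit false

open CategoryTheory CategoryTheory.Limits Opposite Pretriangulated

universe u

namespace Groth.Agent.Helper8.LD

open DerivedCategory IsLocalRing

attribute [local instance] HasDerivedCategory.standard

variable {A : Type u} [CommRing A] [IsLocalRing A] [IsNoetherianRing A] (ω : Dual.D A)
  (hω : Dual.IsDualizing A ω) (hn : Dual.IsNormalized A ω)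
  (M : Type u) [AddCommGroup M] [Module A M] [Module.Finite A M]

include hω hn in
/-- a normalized dualizing complex has no positive `Ext` from finite modules -/
theorem subsingleton_hom_of_pos (j : ℤ) (hj : 0 < j) :
    Subsingleton (Dual.inD A M ⟶ ω⟦j⟧) := by
  obtain ⟨E, _, _, f, hf⟩ := Groth.Agent.Helper1.exists_injectiveHull (R := A) (ResidueField A)
  obtain ⟨Ψ⟩ := nonempty_HH_equiv ω hω hn hf
  have hb := Lam_bijective ω hω hn hf Ψ.toLinearMap Ψ.injective M (-j)
  have h1 : Subsingleton (HH (maximalIdeal A) ((Dual.inD A M)⟦-j⟧)) :=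
    subsingleton_HH_of_neg M _ (-j) (by omega)
  have h2 : Subsingleton (TT ω E ((Dual.inD A M)⟦-j⟧)) :=
    (LinearEquiv.ofBijective _ hb).symm.toEquiv.subsingleton
  have h3 : Subsingleton ((Dual.inD A M)⟦-j⟧ ⟶ ω) := (subsingleton_dual_iff' hf _).mp h2
  have h4 : Subsingleton (Dual.inD A M ⟶ ω⟦-(-j)⟧) :=
    (homShiftEquiv (Dual.inD A M) ω (-j)).toEquiv.subsingleton
  rwa [neg_neg] at h4

include hω hn in
/-- `Ext^{-d}(M, ω) ≠ 0` for `d = dim Supp M` -/
theorem nontrivial_hom_supportDim (d : ℕ) (hd : Module.supportDim A M = d) :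
    Nontrivial (Dual.inD A M ⟶ ω⟦(-(d : ℤ))⟧) := by
  have h1 := Groth.Agent.Helper8.LC.nontrivial_H_of_supportDim_eq d M hd
  rw [← not_subsingleton_iff_nontrivial] at h1 ⊢
  exact fun h => h1 ((subsingleton_H_iff ω hω hn M d).mpr h)

include hω hn in
/-- Cohen–Macaulay modules via the dualizing complex -/
theorem isCohenMacaulayModule_iff [Nontrivial M] (d : ℕ) (hd : Module.supportDim A M = d) :
    LocCoh.IsCohenMacaulayModule A M ↔
      ∀ i : ℤ, i ≠ d → Subsingleton (Dual.inD A M ⟶ ω⟦(-i)⟧) := by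
  rw [← Groth.Agent.Helper8.LC.existsUnique_nontrivial_H_iff]
  have hHd := Groth.Agent.Helper8.LC.nontrivial_H_of_supportDim_eq d M hd
  constructor
  · rintro ⟨k, _, hk2⟩ i hi
    have hkd : d = k := hk2 d hHd
    subst hkd
    rcases lt_or_ge i 0 with h | h
    · exact subsingleton_hom_of_pos ω hω hn M (-i) (by omega)
    · obtain ⟨j, rfl⟩ := Int.eq_ofNat_of_zero_le h
      rw [← subsingleton_H_iff ω hω hn M j]
      by_contra hcon
      rw [not_subsingleton_iff_nontrivial] at hcon
      exact hi (by exact_mod_cast hk2 j hcon)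
  · intro h
    refine ⟨d, hHd, fun j hj => ?_⟩
    by_contra hne
    have := (subsingleton_H_iff ω hω hn M j).mpr (h j (by exact_mod_cast hne))
    exact not_subsingleton _ this

end Groth.Agent.Helper8.LD
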