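import Groth.Agent.Lib.Helper8.LD12
import Groth.Agent.Lib.Helper11.DCStupid

/-!
# Local duality, part 13: annihilators of `𝓗` of bounded complexes of finite free modules (helper8)
-/

set_option autoImplicit false

open CategoryTheory CategoryTheory.Limits Opposite Pretriangulated

universe u

namespace Groth.Agent.Helper8.LD

open DerivedCategory Groth.Agent.Helper8.FLD Groth.Agent.Helper8.HDI

attribute [local instance] HasDerivedCategory.standard

variable {A : Type u} [CommRing A] (I : Ideal A)

/-- the ideals `𝔞_s = Ann H^s_I(A)` (and `⊤` for `s < 0`) -/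
noncomputable def aa (s : ℤ) : Ideal A :=
  if 0 ≤ s then Module.annihilator A (LocCoh.H I s.toNat A) else ⊤

theorem aa_natCast (k : ℕ) : aa I (k : ℤ) = Module.annihilator A (LocCoh.H I k A) := by
  unfold aa
  rw [if_pos (Int.natCast_nonneg k), Int.toNat_natCast]

theorem aa_of_neg (s : ℤ) (hs : s < 0) : aa I s = ⊤ := by
  unfold aa
  rw [if_neg (by omega)]

theorem subsingleton_HH_of_isZero (Y : Dual.D A) (hY : IsZero Y) : Subsingleton (HH I Y) := by
  refine ⟨fun x y => ?_⟩
  have key : ∀ x : HH I Y, x = 0 := by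
    intro x
    obtain ⟨n, t, rfl⟩ := exists_repY I Y x
    rw [hY.eq_of_tgt t 0, map_zero]
  rw [key x, key y]

theorem annihilator_HH_eq_of_iso {Y Y' : Dual.D A} (e : Y ≅ Y') :
    Module.annihilator A (HH I Y) = Module.annihilator A (HH I Y') :=
  (LinearEquiv.ofBijective (HHmap I e.hom) (HHmap_bijective_of_isIso I e.hom)).annihilator_eq

theorem aa_le_annihilator_HH_inD [IsNoetherianRing A] (L : Type u) [AddCommGroup L] [Module A L]
    [Module.Free A L] [Module.Finite A L] (s : ℤ) :
    aa I s ≤ Module.annihilator A (HH I ((Dual.inD A L)⟦s⟧)) := by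
  rcases lt_or_ge s 0 with h | h
  · have := subsingleton_HH_of_neg L I s h
    intro a _
    rw [Module.mem_annihilator]
    intro x
    exact Subsingleton.elim _ _
  · obtain ⟨k, rfl⟩ := Int.eq_ofNat_of_zero_le h
    rw [aa_natCast, (brEquiv I k L).annihilator_eq]
    exact annihilator_H_self_le I k L

/-- `single_p(L)⟦j⟧ ≅ L[0]⟦j - p⟧` -/
noncomputable def singleShiftIso (L : ModuleCat.{u} A) (p j : ℤ) :
    ((singleFunctor (ModuleCat.{u} A) p).obj L)⟦j⟧ ≅
      ((singleFunctor (ModuleCat.{u} A) 0).obj L)⟦j - p⟧ :=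
  (shiftFunctorAdd' (Dual.D A) p (j - p) j (by omega)).app _ ≪≫
    (shiftFunctor (Dual.D A) (j - p)).mapIso
      (((singleFunctors (ModuleCat.{u} A)).shiftIso p 0 p (by omega)).app L)

theorem aa_le_annihilator_HH_single [IsNoetherianRing A] (L : ModuleCat.{u} A)
    [Module.Free A L] [Module.Finite A L] (p j : ℤ) :
    aa I (j - p) ≤
      Module.annihilator A (HH I (((singleFunctor (ModuleCat.{u} A) p).obj L)⟦j⟧)) := by
  rw [annihilator_HH_eq_of_iso I (singleShiftIso L p j)]
  exact aa_le_annihilator_HH_inD I L (j - p)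

/-- annihilators along a distinguished triangle -/
theorem annihilator_HH_mid (T : Triangle (Dual.D A)) (hT : T ∈ distTriang (Dual.D A))
    (I₁ I₃ : Ideal A) (h1 : I₁ ≤ Module.annihilator A (HH I T.obj₁))
    (h3 : I₃ ≤ Module.annihilator A (HH I T.obj₃)) :
    I₃ * I₁ ≤ Module.annihilator A (HH I T.obj₂) := by
  rw [Ideal.mul_le]
  intro c hc b hb
  rw [Module.mem_annihilator]
  intro x
  have h0 : HHmap I T.mor₂ (c • x) = 0 := by
    rw [map_smul]
    exact Module.mem_annihilator.mp (h3 hc) _
  obtain ⟨y, hy⟩ := (HH_exact I T hT (c • x)).mp h0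
  rw [mul_comm, mul_smul, ← hy, ← map_smul, Module.mem_annihilator.mp (h1 hb) y, map_zero]

theorem annihilator_HH_mid_shift (T : Triangle (Dual.D A)) (hT : T ∈ distTriang (Dual.D A))
    (j : ℤ) (I₁ I₃ : Ideal A) (h1 : I₁ ≤ Module.annihilator A (HH I (T.obj₁⟦j⟧)))
    (h3 : I₃ ≤ Module.annihilator A (HH I (T.obj₃⟦j⟧))) :
    I₃ * I₁ ≤ Module.annihilator A (HH I (T.obj₂⟦j⟧)) :=
  annihilator_HH_mid I (shTri T j) (shTri_distinguished T hT j) I₁ I₃ h1 h3


open Groth.Agent.Helper11.DC in
/-- the brutal truncation induction -/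
theorem prod_aa_le_annihilator_HH [IsNoetherianRing A] (n : ℕ) :
    ∀ (K : DRing.Cx A) (a : ℤ), DRing.VanishesOutside K a (a + n - 1) →
      (∀ p : ℤ, Module.Free A (K.X p) ∧ Module.Finite A (K.X p)) → ∀ j : ℤ,
      ∏ q ∈ Finset.range n, aa I (j - (a + q)) ≤
        Module.annihilator A (HH I ((Q.obj K)⟦j⟧)) := by
  induction n with
  | zero =>
    intro K a hK _ j
    have hz : IsZero (Q.obj K) := Q.map_isZero (by
      rw [IsZero.iff_id_eq_zero]
      apply HomologicalComplex.hom_ext
      intro i
      refine (hK i ?_).eq_of_src _ _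
      rcases lt_or_ge i a with h | h
      · left; exact h
      · right; push_cast; omega)
    have := subsingleton_HH_of_isZero I _ ((shiftFunctor (Dual.D A) j).map_isZero hz)
    intro x _
    rw [Module.mem_annihilator]
    intro y
    exact Subsingleton.elim _ _
  | succ n ih =>
    intro K a hK hfree j
    have hb' : ∀ i : ℤ, a + n < i → IsZero (K.X i) :=
      fun i hi => hK i (Or.inr (by push_cast; omega))
    have hS := topSC_shortExact K (a + n) hb'
    have hT := triangleOfSES_distinguished hS
    have h3 := ih (topSC K (a + n) hb').X₃ a (by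
      intro i hi
      by_cases hib : i = a + n
      · subst hib
        exact topSC_X₃_isZero K _ hb'
      · have := topSC_g_isIso K (a + n) hb' i hib
        refine (hK i ?_).of_iso (asIso ((topSC K (a + n) hb').g.f i)).symm
        rcases hi with hi | hi
        · left; exact hi
        · right; push_cast; omega) (by
      intro p
      by_cases hpb : p = a + n
      · subst hpb
        have hz := topSC_X₃_isZero K _ hb'
        have : Subsingleton ((topSC K (a + n) hb').X₃.X (a + n)) :=
          ModuleCat.subsingleton_of_isZero hz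
        exact ⟨Module.Free.of_subsingleton A _, Module.Finite.of_finite⟩
      · have := topSC_g_isIso K (a + n) hb' p hpb
        let e := (asIso ((topSC K (a + n) hb').g.f p)).toLinearEquiv
        have h1 : Module.Free A ((topSC K (a + n) hb').X₂.X p) := (hfree p).1
        have h2 : Module.Finite A ((topSC K (a + n) hb').X₂.X p) := (hfree p).2
        exact ⟨Module.Free.of_equiv e, Module.Finite.equiv e⟩) j
    have hfr := (hfree (a + n)).1
    have hfi := (hfree (a + n)).2
    have h1 := aa_le_annihilator_HH_single I (K.X (a + n)) (a + n) j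
    rw [Finset.prod_range_succ]
    exact annihilator_HH_mid_shift I _ hT j _ _ h1 h3

end Groth.Agent.Helper8.LD
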