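import Groth.Agent.Lib.Helper8.LD1

/-!
# Local duality, part 2: the dual functor `𝓣(Y) = Hom_A(Hom(Y, ω), E)` and the pairing (helper8)
-/

set_option autoImplicit false

open CategoryTheory CategoryTheory.Limits Opposite Pretriangulated

universe u v w

namespace Groth.Agent.Helper8.LD

open DerivedCategory Groth.Agent.Helper8.FLD Groth.Agent.Helper8.HDI

attribute [local instance] HasDerivedCategory.standard

section DualExact

variable {A : Type u} [CommRing A] {E : Type u} [AddCommGroup E] [Module A E]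
  [Module.Injective A E]

/-- `Hom(-, E)` is exact for an injective module `E` (universe polymorphic in the source) -/
theorem dual_exact {P' P P'' : Type v} [AddCommGroup P'] [Module A P'] [AddCommGroup P]
    [Module A P] [AddCommGroup P''] [Module A P''] (f : P' →ₗ[A] P) (g : P →ₗ[A] P'')
    (h : Function.Exact f g) (φ : P →ₗ[A] E) (hφ : φ ∘ₗ f = 0) :
    ∃ χ : P'' →ₗ[A] E, χ ∘ₗ g = φ := by
  -- `φ` factors through the range of `g`
  have hle : LinearMap.ker g ≤ LinearMap.ker φ := by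
    intro x hx
    obtain ⟨y, rfl⟩ := (h x).mp hx
    exact LinearMap.congr_fun hφ y
  let φ' : LinearMap.range g →ₗ[A] E :=
    (LinearMap.ker g).liftQ φ hle ∘ₗ (g.quotKerEquivRange).symm.toLinearMap
  obtain ⟨χ, hχ⟩ := Module.Injective.extension_property A E (LinearMap.range g) P''
    (LinearMap.range g).subtype (Submodule.injective_subtype _) φ'
  refine ⟨χ, ?_⟩
  ext x
  have h1 := LinearMap.congr_fun hχ ⟨g x, ⟨x, rfl⟩⟩
  have h2 : (g.quotKerEquivRange).symm ⟨g x, ⟨x, rfl⟩⟩ = Submodule.Quotient.mk x := by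
    rw [LinearEquiv.symm_apply_eq]
    rfl
  show χ (g x) = φ x
  have h3 : φ' ⟨g x, ⟨x, rfl⟩⟩ = φ x := by
    show (LinearMap.ker g).liftQ φ hle ((g.quotKerEquivRange).symm ⟨g x, ⟨x, rfl⟩⟩) = φ x
    rw [h2]
    rfl
  rw [← h3, ← h1]
  rfl

end DualExact

section TT

variable {A : Type u} [CommRing A] (ω : Dual.D A) (E : Type u) [AddCommGroup E] [Module A E]

/-- `𝓣(Y) = Hom_A(Hom(Y, ω), E)` -/
abbrev TT (Y : Dual.D A) : Type (u + 1) := (Y ⟶ ω) →ₗ[A] E

/-- functoriality of `𝓣` -/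
noncomputable def TTmap {Y Y' : Dual.D A} (g : Y ⟶ Y') : TT ω E Y →ₗ[A] TT ω E Y' :=
  LinearMap.lcomp A E (Linear.leftComp A ω g)

theorem TTmap_apply {Y Y' : Dual.D A} (g : Y ⟶ Y') (φ : TT ω E Y) (ψ : Y' ⟶ ω) :
    TTmap ω E g φ ψ = φ (g ≫ ψ) := rfl

theorem TTmap_comp_apply {Y Y' Y'' : Dual.D A} (g : Y ⟶ Y') (g' : Y' ⟶ Y'') (φ : TT ω E Y) :
    TTmap ω E (g ≫ g') φ = TTmap ω E g' (TTmap ω E g φ) := by
  ext ψ
  rw [TTmap_apply, TTmap_apply, TTmap_apply, Category.assoc]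

theorem TTmap_zero {Y Y' : Dual.D A} (φ : TT ω E Y) : TTmap ω E (0 : Y ⟶ Y') φ = 0 := by
  ext ψ
  rw [TTmap_apply, zero_comp, map_zero]
  rfl

theorem TTmap_id {Y : Dual.D A} (φ : TT ω E Y) : TTmap ω E (𝟙 Y) φ = φ := by
  ext ψ
  rw [TTmap_apply, Category.id_comp]

theorem TTmap_smul {Y Y' : Dual.D A} (a : A) (g : Y ⟶ Y') (φ : TT ω E Y) :
    TTmap ω E (a • g) φ = a • TTmap ω E g φ := by
  ext ψ
  rw [TTmap_apply, LinearMap.smul_apply, TTmap_apply, Linear.smul_comp, map_smul]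

theorem TTmap_neg {Y Y' : Dual.D A} (g : Y ⟶ Y') (φ : TT ω E Y) :
    TTmap ω E (-g) φ = -TTmap ω E g φ := by
  ext ψ
  rw [TTmap_apply, LinearMap.neg_apply, TTmap_apply, Preadditive.neg_comp, map_neg]

/-- `𝓣` is homological -/
theorem TT_exact [Module.Injective A E] (T : Triangle (Dual.D A))
    (hT : T ∈ distTriang (Dual.D A)) :
    Function.Exact (TTmap ω E T.mor₁) (TTmap ω E T.mor₂) := by
  intro φ
  constructor
  · intro hφ
    have hex : Function.Exact (Linear.leftComp A ω T.mor₂) (Linear.leftComp A ω T.mor₁) := by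
      intro ψ
      constructor
      · intro hψ
        obtain ⟨ψ₃, hψ₃⟩ := Triangle.yoneda_exact₂ T hT ψ hψ
        exact ⟨ψ₃, hψ₃.symm⟩
      · rintro ⟨ψ₃, rfl⟩
        show T.mor₁ ≫ T.mor₂ ≫ ψ₃ = 0
        rw [← Category.assoc, comp_distTriang_mor_zero₁₂ T hT, zero_comp]
    obtain ⟨χ, hχ⟩ := dual_exact _ _ hex φ (by
      ext ψ₃
      exact LinearMap.congr_fun hφ ψ₃)
    exact ⟨χ, hχ⟩
  · rintro ⟨χ, rfl⟩
    rw [← TTmap_comp_apply, comp_distTriang_mor_zero₁₂ T hT, TTmap_zero]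

theorem TTmap_bijective_of_isIso {Y Y' : Dual.D A} (g : Y ⟶ Y') [IsIso g] :
    Function.Bijective (TTmap ω E g) := by
  constructor
  · intro y y' h
    have h1 := congrArg (TTmap ω E (inv g)) h
    rwa [← TTmap_comp_apply, ← TTmap_comp_apply, IsIso.hom_inv_id, TTmap_id, TTmap_id] at h1
  · intro y
    refine ⟨TTmap ω E (inv g) y, ?_⟩
    rw [← TTmap_comp_apply, IsIso.inv_hom_id, TTmap_id]

variable (I : Ideal A) (Ψ : HH I ω →ₗ[A] E)

/-- the pairing `𝓗(Y) → 𝓣(Y)`, `x ↦ (ψ ↦ Ψ(𝓗(ψ)(x)))` -/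
noncomputable def Lam (Y : Dual.D A) : HH I Y →ₗ[A] TT ω E Y where
  toFun x :=
    { toFun := fun ψ => Ψ (HHmap I ψ x)
      map_add' := fun ψ ψ' => by rw [HHmap_add, LinearMap.add_apply, map_add]
      map_smul' := fun a ψ => by
        rw [HHmap_smul, LinearMap.smul_apply, map_smul]
        rfl }
  map_add' x x' := by
    ext ψ
    show Ψ (HHmap I ψ (x + x')) = Ψ (HHmap I ψ x) + Ψ (HHmap I ψ x')
    rw [map_add, map_add]
  map_smul' a x := by
    ext ψ
    show Ψ (HHmap I ψ (a • x)) = a • Ψ (HHmap I ψ x)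
    rw [map_smul, map_smul]

theorem Lam_apply (Y : Dual.D A) (x : HH I Y) (ψ : Y ⟶ ω) :
    Lam ω E I Ψ Y x ψ = Ψ (HHmap I ψ x) := rfl

theorem Lam_nat {Y Y' : Dual.D A} (g : Y ⟶ Y') (x : HH I Y) :
    Lam ω E I Ψ Y' (HHmap I g x) = TTmap ω E g (Lam ω E I Ψ Y x) := by
  ext ψ
  rw [Lam_apply, TTmap_apply, Lam_apply, HHmap_comp_apply]

end TT

end Groth.Agent.Helper8.LD
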