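import Groth.Agent.Lib.Helper8.LD2

/-!
# Local duality, part 3: diagram chases for the pairing `Λ : 𝓗 → 𝓣` (helper8)
-/

set_option autoImplicit false

open CategoryTheory CategoryTheory.Limits Opposite Pretriangulated

universe u

namespace Groth.Agent.Helper8.LD

open DerivedCategory Groth.Agent.Helper8.FLD Groth.Agent.Helper8.HDI

attribute [local instance] HasDerivedCategory.standard

variable {A : Type u} [CommRing A] (ω : Dual.D A) (E : Type u) [AddCommGroup E] [Module A E]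
  (I : Ideal A) (Ψ : HH I ω →ₗ[A] E)

theorem Lam_comp_HHmap {Y Y' : Dual.D A} (g : Y ⟶ Y') :
    (TTmap ω E g).comp (Lam ω E I Ψ Y) = (Lam ω E I Ψ Y').comp (HHmap I g) := by
  ext x : 1
  exact (Lam_nat ω E I Ψ g x).symm

theorem Lam_injective_of_iso {Y Y' : Dual.D A} (e : Y ≅ Y')
    (h : Function.Injective (Lam ω E I Ψ Y)) : Function.Injective (Lam ω E I Ψ Y') := by
  intro x x' hx
  obtain ⟨y, rfl⟩ := (HHmap_bijective_of_isIso I e.hom).2 x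
  obtain ⟨y', rfl⟩ := (HHmap_bijective_of_isIso I e.hom).2 x'
  rw [Lam_nat, Lam_nat] at hx
  rw [h ((TTmap_bijective_of_isIso ω E e.hom).1 hx)]

theorem Lam_surjective_of_iso {Y Y' : Dual.D A} (e : Y ≅ Y')
    (h : Function.Surjective (Lam ω E I Ψ Y)) : Function.Surjective (Lam ω E I Ψ Y') := by
  intro u
  obtain ⟨v, rfl⟩ := (TTmap_bijective_of_isIso ω E e.hom).2 u
  obtain ⟨y, rfl⟩ := h v
  exact ⟨HHmap I e.hom y, Lam_nat ω E I Ψ e.hom y⟩

theorem Lam_bijective_of_iso {Y Y' : Dual.D A} (e : Y ≅ Y')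
    (h : Function.Bijective (Lam ω E I Ψ Y)) : Function.Bijective (Lam ω E I Ψ Y') :=
  ⟨Lam_injective_of_iso ω E I Ψ e h.1, Lam_surjective_of_iso ω E I Ψ e h.2⟩

variable [Module.Injective A E]

/-- the five lemma for `Λ` along a distinguished triangle -/
theorem Lam_bijective_of_triangle (T : Triangle (Dual.D A)) (hT : T ∈ distTriang (Dual.D A))
    (h1 : Function.Surjective (Lam ω E I Ψ (T.obj₃⟦(-1 : ℤ)⟧)))
    (h2 : Function.Bijective (Lam ω E I Ψ T.obj₁))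
    (h3 : Function.Bijective (Lam ω E I Ψ T.obj₃))
    (h4 : Function.Injective (Lam ω E I Ψ (T.obj₁⟦(1 : ℤ)⟧))) :
    Function.Bijective (Lam ω E I Ψ T.obj₂) := by
  have hT' := inv_rot_of_distTriang _ hT
  have hT'' := rot_of_distTriang _ hT
  exact LinearMap.bijective_of_surjective_of_bijective_of_bijective_of_injective
    (HHmap I T.invRotate.mor₁) (HHmap I T.mor₁) (HHmap I T.mor₂) (HHmap I T.mor₃)
    (TTmap ω E T.invRotate.mor₁) (TTmap ω E T.mor₁) (TTmap ω E T.mor₂) (TTmap ω E T.mor₃)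
    (Lam ω E I Ψ _) (Lam ω E I Ψ _) (Lam ω E I Ψ _) (Lam ω E I Ψ _) (Lam ω E I Ψ _)
    (Lam_comp_HHmap ω E I Ψ _) (Lam_comp_HHmap ω E I Ψ _) (Lam_comp_HHmap ω E I Ψ _)
    (Lam_comp_HHmap ω E I Ψ _)
    (HH_exact I _ hT') (HH_exact I _ hT) (HH_exact I _ hT'')
    (TT_exact ω E _ hT') (TT_exact ω E _ hT) (TT_exact ω E _ hT'')
    h1 h2 h3 h4

/-- if `u ∈ 𝓣(X)` dies in `𝓣(Y)` and `Λ` is surjective on the shifted cone then `u ∈ im Λ` -/
theorem Lam_surj_of_triangle (T : Triangle (Dual.D A)) (hT : T ∈ distTriang (Dual.D A))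
    (u : TT ω E T.obj₁) (hu : TTmap ω E T.mor₁ u = 0)
    (h : Function.Surjective (Lam ω E I Ψ (T.obj₃⟦(-1 : ℤ)⟧))) :
    ∃ x, Lam ω E I Ψ T.obj₁ x = u := by
  have hT' := inv_rot_of_distTriang _ hT
  obtain ⟨c, rfl⟩ := (TT_exact ω E _ hT' u).mp hu
  obtain ⟨c', rfl⟩ := h c
  exact ⟨HHmap I T.invRotate.mor₁ c', Lam_nat ω E I Ψ _ c'⟩

/-- if `t ∈ 𝓗(X)` dies in `𝓗(Y)` and under `Λ`, then `t = 0` -/
theorem Lam_inj_of_triangle (T : Triangle (Dual.D A)) (hT : T ∈ distTriang (Dual.D A))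
    (t : HH I T.obj₁) (ht : HHmap I T.mor₁ t = 0) (hΛ : Lam ω E I Ψ T.obj₁ t = 0)
    (h1 : Function.Injective (Lam ω E I Ψ (T.obj₃⟦(-1 : ℤ)⟧)))
    (h2 : Function.Surjective (Lam ω E I Ψ (T.obj₂⟦(-1 : ℤ)⟧))) : t = 0 := by
  have hT' := inv_rot_of_distTriang _ hT
  have hT'' := inv_rot_of_distTriang _ hT'
  obtain ⟨c, rfl⟩ := (HH_exact I _ hT' t).mp ht
  have hΛ' : TTmap ω E T.invRotate.mor₁ (Lam ω E I Ψ _ c) = 0 :=
    (Lam_nat ω E I Ψ T.invRotate.mor₁ c).symm.trans hΛ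
  obtain ⟨s, hs⟩ := (TT_exact ω E _ hT'' _).mp hΛ'
  obtain ⟨s', rfl⟩ := h2 s
  have hs' : Lam ω E I Ψ _ (HHmap I T.invRotate.invRotate.mor₁ s') = Lam ω E I Ψ _ c :=
    (Lam_nat ω E I Ψ T.invRotate.invRotate.mor₁ s').trans hs
  have hc := h1 hs'
  rw [← hc]
  have h0 : T.invRotate.invRotate.mor₁ ≫ T.invRotate.mor₁ = 0 :=
    comp_distTriang_mor_zero₁₂ _ hT''
  have h3 := HHmap_comp_apply I T.invRotate.invRotate.mor₁ T.invRotate.mor₁ s'
  rw [h0, HHmap_zero] at h3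
  exact h3.symm

end Groth.Agent.Helper8.LD
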