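import Groth.Agent.Lib.Helper8.LD6

/-!
# Local duality, part 7: the theorem (helper8)
-/

set_option autoImplicit false

open CategoryTheory CategoryTheory.Limits Opposite Pretriangulated

universe u

namespace Groth.Agent.Helper8.LD

open DerivedCategory Groth.Agent.Helper8.FLD Groth.Agent.Helper8.HDI IsLocalRing

open scoped Pointwise

attribute [local instance] HasDerivedCategory.standard

variable {A : Type u} [CommRing A] [IsLocalRing A] [IsNoetherianRing A] (ω : Dual.D A)
  (hω : Dual.IsDualizing A ω) (hn : Dual.IsNormalized A ω)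
  {E : Type u} [AddCommGroup E] [Module A E] {f : ResidueField A →ₗ[A] E}
  (hf : InjHull.IsInjectiveHull f)
  (Ψ : HH (maximalIdeal A) ω →ₗ[A] E) (hΨ : Function.Injective Ψ)

theorem isFiniteLength_gam (M : Type u) [AddCommGroup M] [Module A M] [Module.Finite A M] :
    IsFiniteLength A (Groth.Agent.Helper8.LC.gam (maximalIdeal A) M) := by
  have : IsNoetherian A M := isNoetherian_of_isNoetherianRing_of_finite A M
  obtain ⟨k, hk⟩ := Groth.Agent.Helper8.LC.exists_pow_smul_gam_eq_zero (maximalIdeal A) M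
  apply Groth.Agent.Helper8.LDual.isFiniteLength_of_maximalIdeal_le_radical_annihilator
  intro a ha
  refine ⟨k, ?_⟩
  rw [Module.mem_annihilator]
  rintro ⟨g, hg⟩
  exact Subtype.ext (hk _ (Ideal.pow_mem_pow ha k) g hg)

include hω hn hf hΨ in
/-- the inductive step -/
theorem Lam_bijective_step (i : ℤ)
    (hP : ∀ (M : Type u) [AddCommGroup M] [Module A M] [Module.Finite A M],
      Function.Bijective (Lam ω E (maximalIdeal A) Ψ ((Dual.inD A M)⟦i - 1⟧)))
    (M : Type u) [AddCommGroup M] [Module A M] [Module.Finite A M] :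
    Function.Bijective (Lam ω E (maximalIdeal A) Ψ ((Dual.inD A M)⟦i⟧)) := by
  have := hf.isInjective
  have : IsNoetherian A M := isNoetherian_of_isNoetherianRing_of_finite A M
  set G := Groth.Agent.Helper8.LC.gam (maximalIdeal A) M with hG
  have hGfl : IsFiniteLength A G := isFiniteLength_gam M
  have hQ : Groth.Agent.Helper8.LC.gam (maximalIdeal A) (M ⧸ G) = ⊥ :=
    Groth.Agent.Helper8.LC.gam_quotient_gam (maximalIdeal A) M
  obtain ⟨x, hx, hreg⟩ :=
    Groth.Agent.Helper8.LC.exists_regular_of_gam_eq_bot (maximalIdeal A) (M ⧸ G) hQ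
  have hQbij := Lam_bijective_of_regular ω hω hf Ψ i hP (M ⧸ G) x hx hreg
  have hses : Groth.Agent.Helper8.LC.IsSES G.subtype G.mkQ :=
    ⟨G.injective_subtype, LinearMap.exact_subtype_mkQ G, G.mkQ_surjective⟩
  have hT := shTri_distinguished _ hses.shortExact.singleTriangle_distinguished i
  refine Lam_bijective_of_triangle ω E _ Ψ _ hT ?_ ?_ hQbij ?_
  · exact Lam_surjective_of_iso ω E _ Ψ
      ((shiftFunctorAdd' (Dual.D A) i (-1) (i - 1) (by omega)).app _) (hP (M ⧸ G)).2
  · exact Lam_bijective_of_isFiniteLength ω hω hn hf Ψ hΨ G hGfl i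
  · exact Lam_injective_of_iso ω E _ Ψ
      ((shiftFunctorAdd' (Dual.D A) i 1 (i + 1) (by omega)).app _)
      (Lam_bijective_of_isFiniteLength ω hω hn hf Ψ hΨ G hGfl (i + 1)).1

include hω hn hf hΨ in
/-- **local duality**: the pairing `𝓗(M[0]⟦i⟧) → Hom_A(Hom(M[0]⟦i⟧, ω), E)` is bijective -/
theorem Lam_bijective (M : Type u) [AddCommGroup M] [Module A M] [Module.Finite A M] (i : ℤ) :
    Function.Bijective (Lam ω E (maximalIdeal A) Ψ ((Dual.inD A M)⟦i⟧)) := by
  obtain ⟨a, b, hab⟩ := hω.finite_injective_dimension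
  -- the range where both sides vanish
  have hbase : ∀ i : ℤ, i < min 0 (-b) → ∀ (M : Type u) [AddCommGroup M] [Module A M]
      [Module.Finite A M],
      Function.Bijective (Lam ω E (maximalIdeal A) Ψ ((Dual.inD A M)⟦i⟧)) := by
    intro i hi M _ _ _
    have h1 : Subsingleton (HH (maximalIdeal A) ((Dual.inD A M)⟦i⟧)) :=
      subsingleton_HH_of_neg M _ i (lt_of_lt_of_le hi (min_le_left _ _))
    have h2 : Subsingleton ((Dual.inD A M)⟦i⟧ ⟶ ω) := by
      have := hab M (-i) (Or.inr (by have := min_le_right 0 (-b); omega))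
      exact (homShiftEquiv (Dual.inD A M) ω i).symm.toEquiv.subsingleton
    constructor
    · intro x y _
      exact Subsingleton.elim x y
    · intro u
      refine ⟨0, ?_⟩
      ext ψ
      rw [Subsingleton.elim ψ 0, map_zero, map_zero]
  have hind : ∀ n : ℕ, ∀ (M : Type u) [AddCommGroup M] [Module A M] [Module.Finite A M],
      Function.Bijective
        (Lam ω E (maximalIdeal A) Ψ ((Dual.inD A M)⟦min 0 (-b) - 1 + (n : ℤ)⟧)) := by
    intro n
    induction n with
    | zero =>
      intro M _ _ _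
      exact hbase _ (by simp) M
    | succ n ih =>
      intro M _ _ _
      have he : min 0 (-b) - 1 + ((n + 1 : ℕ) : ℤ) - 1 = min 0 (-b) - 1 + (n : ℤ) := by
        push_cast
        ring
      refine Lam_bijective_step ω hω hn hf Ψ hΨ _ ?_ M
      intro M' _ _ _
      rw [he]
      exact ih M'
  by_cases hi : i < min 0 (-b)
  · exact hbase i hi M
  · have he : min 0 (-b) - 1 + ((i - (min 0 (-b) - 1)).toNat : ℤ) = i := by
      rw [Int.toNat_of_nonneg (by omega)]
      ring
    have := hind (i - (min 0 (-b) - 1)).toNat M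
    rwa [he] at this

end Groth.Agent.Helper8.LD
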