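import Groth.Agent.Lib.Helper8.LD8
import Groth.Agent.Lib.Helper8.DArt2

/-!
# Local duality, part 9: depth of the ring via cohomology of `ω` (helper8)
-/

set_option autoImplicit false

open CategoryTheory CategoryTheory.Limits Opposite Pretriangulated

universe u

namespace Groth.Agent.Helper8.LD

open DerivedCategory IsLocalRing

attribute [local instance] HasDerivedCategory.standard

variable {A : Type u} [CommRing A]

theorem subsingleton_hom_inD_self_iff (K : Dual.D A) (i : ℤ) :
    Subsingleton (Dual.inD A A ⟶ K⟦i⟧) ↔ Subsingleton (Dual.HD A K i) := by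
  constructor
  · intro h
    exact ModuleCat.subsingleton_of_isZero
      (Groth.Agent.Helper8.DArt.isZero_homology_of_subsingleton_hom K i h)
  · intro h
    have hz : IsZero ((homologyFunctor (ModuleCat.{u} A) 0).obj (K⟦i⟧)) :=
      (ModuleCat.isZero_of_subsingleton _).of_iso (Groth.Agent.Helper11.DC.sigma K i)
    have hb := Groth.Agent.Helper11.DC.psi_bijective (ModuleCat.of A A) (K⟦i⟧)
    refine ⟨fun x y => hb.1 (hz.eq_of_tgt _ _)⟩

variable [IsLocalRing A] [IsNoetherianRing A] (ω : Dual.D A)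
  (hω : Dual.IsDualizing A ω) (hn : Dual.IsNormalized A ω)

include hω hn in
theorem depth_self_eq_iff (n : ℕ) :
    LocCoh.depth A A = n ↔
      ((∀ δ : ℕ, δ < n → Subsingleton (Dual.HD A ω (-(δ : ℤ)))) ∧
        Nontrivial (Dual.HD A ω (-(n : ℤ)))) := by
  rw [depth_eq_iff ω hω hn A n]
  constructor
  · rintro ⟨h1, h2⟩
    refine ⟨fun δ hδ => (subsingleton_hom_inD_self_iff ω _).mp (h1 δ hδ), ?_⟩
    rw [← not_subsingleton_iff_nontrivial] at h2 ⊢
    exact fun h => h2 ((subsingleton_hom_inD_self_iff ω _).mpr h)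
  · rintro ⟨h1, h2⟩
    refine ⟨fun δ hδ => (subsingleton_hom_inD_self_iff ω _).mpr (h1 δ hδ), ?_⟩
    rw [← not_subsingleton_iff_nontrivial] at h2 ⊢
    exact fun h => h2 ((subsingleton_hom_inD_self_iff ω _).mp h)

end Groth.Agent.Helper8.LD
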