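import Groth.Agent.Lib.Helper8.LDual1
import Groth.Agent.Lib.Helper8.CanonId2

/-!
# Local duality over homomorphic images of Gorenstein local rings (helper8)
Part 2: the localization of `Ext^k_{R'}(M, R')` at a prime.
-/

set_option autoImplicit false
universe u

namespace Groth.Agent.Helper8.LDual

open IsLocalRing CategoryTheory Abelian Groth.Agent.Helper8 Groth.Agent.Helper8.LC
  Groth.Agent.Helper8.Canon Groth.Agent.Helper8.Gor
open scoped Pointwise TensorProduct

variable {R' R : Type u} [CommRing R'] [hG : LocCoh.IsGorensteinLocalRing R'] [CommRing R]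
  [IsNoetherianRing R] [IsLocalRing R] [Algebra R' R]

/-- for a surjection `R' → R` from a Gorenstein local ring, a finite `R`-module `M` and a prime
`p` of `R` with preimage `P'` of height `t`: `Ext^k_{R'}(M, R')_{P'} = 0` iff
`H^{t-k}_{pR_p}(M_p) = 0` (no condition for `k > t`) -/
theorem subsingleton_localized_ext_iff (hsurj : Function.Surjective (algebraMap R' R))
    (M : Type u) [AddCommGroup M] [Module R M] [Module.Finite R M] [Module R' M]
    [IsScalarTower R' R M] (p : Ideal R) [p.IsPrime] (k t : ℕ)
    (ht : (p.comap (algebraMap R' R)).height = t) :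
    Subsingleton (LocalizedModule (p.comap (algebraMap R' R)).primeCompl
      (Ext (ModuleCat.of R' M) (ModuleCat.of R' R') k)) ↔
    (k ≤ t → Subsingleton (H (maximalIdeal (Localization.AtPrime p)) (t - k)
      (LocalizedModule p.primeCompl M))) := by
  haveI : (p.comap (algebraMap R' R)).IsPrime := Ideal.comap_isPrime _ p
  let φ : Localization.AtPrime (p.comap (algebraMap R' R)) →+* Localization.AtPrime p :=
    Localization.localRingHom (p.comap (algebraMap R' R)) p (algebraMap R' R) rfl
  have hφ : Function.Surjective φ :=
    RingHom.surjective_localRingHom_of_surjective (algebraMap R' R) hsurj p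
  letI : Algebra (Localization.AtPrime (p.comap (algebraMap R' R))) (Localization.AtPrime p) :=
    φ.toAlgebra
  have hφ' : Function.Surjective (algebraMap (Localization.AtPrime (p.comap (algebraMap R' R)))
      (Localization.AtPrime p)) := hφ
  haveI := CanonId.isGorensteinLocalRing_localization R' (p.comap (algebraMap R' R))
  have hdim : ringKrullDim (Localization.AtPrime (p.comap (algebraMap R' R))) = t := by
    rw [IsLocalization.AtPrime.ringKrullDim_eq_height (p.comap (algebraMap R' R)), ht]
    rfl
  -- module structures
  letI : Module (Localization.AtPrime (p.comap (algebraMap R' R)))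
      (LocalizedModule p.primeCompl M) := Module.compHom (LocalizedModule p.primeCompl M) φ
  haveI : IsScalarTower (Localization.AtPrime (p.comap (algebraMap R' R)))
      (Localization.AtPrime p) (LocalizedModule p.primeCompl M) := ⟨fun a b x => by
    have h1 : a • b = φ a * b := rfl
    have h2 : ∀ y : LocalizedModule p.primeCompl M, a • y = φ a • y := fun y => rfl
    rw [h1, h2, mul_smul]⟩
  haveI : IsScalarTower R' (Localization.AtPrime (p.comap (algebraMap R' R)))
      (LocalizedModule p.primeCompl M) := ⟨fun a b x => by
    have h2 : ∀ (t : Localization.AtPrime (p.comap (algebraMap R' R)))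
      (y : LocalizedModule p.primeCompl M), t • y = φ t • y := fun t y => rfl
    have h3 : ∀ y : LocalizedModule p.primeCompl M, a • y = algebraMap R' R a • y := fun y =>
      (algebraMap_smul R a y).symm
    rw [h2, h2, h3, Algebra.smul_def, map_mul, Localization.localRingHom_to_map, mul_smul,
      algebraMap_smul]⟩
  haveI : Module.Finite R' R := Module.Finite.of_surjective (Algebra.linearMap R' R) hsurj
  haveI : Module.Finite R' M := Module.Finite.trans R M
  haveI : Module.Finite (Localization.AtPrime (p.comap (algebraMap R' R)))
      (Localization.AtPrime p) :=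
    Module.Finite.of_surjective (Algebra.linearMap _ _) hφ'
  haveI : Module.Finite (Localization.AtPrime (p.comap (algebraMap R' R)))
      (LocalizedModule p.primeCompl M) := Module.Finite.trans (Localization.AtPrime p) _
  -- step 1
  have e1 : LocalizedModule (p.comap (algebraMap R' R)).primeCompl
      (Ext (ModuleCat.of R' M) (ModuleCat.of R' R') k) ≃ₗ[R']
      (Localization.AtPrime (p.comap (algebraMap R' R))) ⊗[R']
        (Ext (ModuleCat.of R' M) (ModuleCat.of R' R') k) :=
    IsLocalizedModule.linearEquiv (p.comap (algebraMap R' R)).primeCompl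
      (LocalizedModule.mkLinearMap _ _)
      (TensorProduct.mk R' (Localization.AtPrime (p.comap (algebraMap R' R))) _ 1)
  -- step 2
  obtain ⟨e2⟩ := ExtBC.ext_baseChange (A := R')
    (B := Localization.AtPrime (p.comap (algebraMap R' R))) R' k M
  -- step 3
  have hSub : Algebra.algebraMapSubmonoid R (p.comap (algebraMap R' R)).primeCompl =
      p.primeCompl := Submonoid.map_comap_eq_of_surjective hsurj p.primeCompl
  haveI : IsLocalizedModule (Algebra.algebraMapSubmonoid R
      (p.comap (algebraMap R' R)).primeCompl) (LocalizedModule.mkLinearMap p.primeCompl M) := by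
    rw [hSub]; infer_instance
  haveI : IsLocalizedModule (p.comap (algebraMap R' R)).primeCompl
      ((LocalizedModule.mkLinearMap p.primeCompl M).restrictScalars R') :=
    IsLocalizedModule.restrictScalars (p.comap (algebraMap R' R)).primeCompl _
  have hbc : IsBaseChange (Localization.AtPrime (p.comap (algebraMap R' R)))
      ((LocalizedModule.mkLinearMap p.primeCompl M).restrictScalars R') :=
    IsLocalizedModule.isBaseChange (p.comap (algebraMap R' R)).primeCompl
      (Localization.AtPrime (p.comap (algebraMap R' R))) _
  let eB := hbc.equiv
  let e3 : (Localization.AtPrime (p.comap (algebraMap R' R))) ⊗[R'] R' ≃ₗ[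
      Localization.AtPrime (p.comap (algebraMap R' R))]
      Localization.AtPrime (p.comap (algebraMap R' R)) :=
    TensorProduct.AlgebraTensorModule.rid R' _ _
  have e4 := e2 ≪≫ₗ (extCongrLeft eB (ModuleCat.of _ _) k).symm ≪≫ₗ
    ExtLoc.extCongrRight (ModuleCat.of (Localization.AtPrime (p.comap (algebraMap R' R)))
      (LocalizedModule p.primeCompl M)) e3 k
  -- step 5
  have h5 := subsingleton_ext_iff hdim k (LocalizedModule p.primeCompl M)
  -- step 6
  have h6 : ∀ j : ℕ, Subsingleton (H (maximalIdeal (Localization.AtPrime
      (p.comap (algebraMap R' R)))) j (LocalizedModule p.primeCompl M)) ↔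
      Subsingleton (H (maximalIdeal (Localization.AtPrime p)) j
        (LocalizedModule p.primeCompl M)) := by
    intro j
    obtain ⟨e6⟩ := exists_equiv_base
      (maximalIdeal (Localization.AtPrime (p.comap (algebraMap R' R)))) j
      ({ carrier := LocalizedModule p.primeCompl M } :
        BMod (Localization.AtPrime (p.comap (algebraMap R' R))) (Localization.AtPrime p))
    have hm : (maximalIdeal (Localization.AtPrime (p.comap (algebraMap R' R)))).map
        (algebraMap (Localization.AtPrime (p.comap (algebraMap R' R)))
          (Localization.AtPrime p)) = maximalIdeal (Localization.AtPrime p) :=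
      IsLocalRing.map_maximalIdeal_of_surjective _ hφ'
    have e7 := HcongrIdeal hm j (LocalizedModule p.primeCompl M)
    exact e6.symm.toEquiv.subsingleton_congr.trans e7.toEquiv.subsingleton_congr
  rw [e1.toEquiv.subsingleton_congr, e4.toEquiv.subsingleton_congr, h5]
  constructor
  · intro h hk
    exact (h6 _).mp (h hk)
  · intro h hk
    exact (h6 _).mpr (h hk)

end Groth.Agent.Helper8.LDual
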