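import Groth.Agent.Lib.Helper8.LDual2

/-!
# Local duality over homomorphic images of Gorenstein local rings (helper8)
Part 3: annihilators of local cohomology (Faltings' annihilator theorem, local form).
-/

set_option autoImplicit false
universe u

namespace Groth.Agent.Helper8.LDual

open IsLocalRing CategoryTheory Abelian Groth.Agent.Helper8 Groth.Agent.Helper8.LC
  Groth.Agent.Helper8.Canon Groth.Agent.Helper8.Gor
open scoped Pointwise TensorProduct

theorem forall_smul_eq_zero_congr {A : Type*} [CommRing A] {X Y : Type*} [AddCommGroup X]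
    [Module A X] [AddCommGroup Y] [Module A Y] (e : X ≃ₗ[A] Y) (r : A) :
    (∀ x : X, r • x = 0) ↔ ∀ y : Y, r • y = 0 := by
  constructor
  · intro h y
    rw [← e.apply_symm_apply y, ← map_smul, h, map_zero]
  · intro h x
    apply e.injective
    rw [map_smul, h, map_zero]

theorem subsingleton_localizedModule_congr {A : Type*} [CommRing A] {P Q : Ideal A}
    [hP : P.IsPrime] [hQ : Q.IsPrime] (h : P = Q) (D : Type*) [AddCommGroup D] [Module A D] :
    Subsingleton (LocalizedModule P.primeCompl D) ↔
      Subsingleton (LocalizedModule Q.primeCompl D) := by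
  subst h
  rfl

variable {R' R : Type u} [CommRing R'] [hG : LocCoh.IsGorensteinLocalRing R'] [CommRing R]
  [IsNoetherianRing R] [IsLocalRing R] [Algebra R' R]

/-- an element `a'` of `R'` kills `H^i_m(M)` iff it kills `Ext^k_{R'}(M, R')`, `k + i = dim R'` -/
theorem smul_H_eq_zero_iff (hsurj : Function.Surjective (algebraMap R' R)) {s : ℕ}
    (hs : ringKrullDim R' = s) (M : Type u) [AddCommGroup M] [Module R M] [Module.Finite R M]
    [Module R' M] [IsScalarTower R' R M] (k i : ℕ) (hki : k + i = s) (a' : R') :
    (∀ x : H (maximalIdeal R) i M, algebraMap R' R a' • x = 0) ↔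
      ∀ d : Ext (ModuleCat.of R' M) (ModuleCat.of R' R') k, a' • d = 0 := by
  haveI : Module.Finite R' R := Module.Finite.of_surjective (Algebra.linearMap R' R) hsurj
  haveI : Module.Finite R' M := Module.Finite.trans R M
  obtain ⟨E', _, _, f', hf'⟩ :=
    Groth.Agent.Helper1.exists_injectiveHull (R := R') (ResidueField R')
  obtain ⟨Θ₁⟩ := nonempty_gorenstein_duality hs hf' k i hki M
  obtain ⟨Θ₂⟩ := exists_equiv_base (maximalIdeal R') i ({ carrier := M } : BMod R' R)
  have hm : (maximalIdeal R').map (algebraMap R' R) = maximalIdeal R :=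
    IsLocalRing.map_maximalIdeal_of_surjective _ hsurj
  have Θ₃ := HcongrIdeal hm i M
  rw [← forall_smul_eq_zero_congr Θ₃ (algebraMap R' R a'),
    ← smul_dual_eq_zero_iff hf' _ a', ← forall_smul_eq_zero_congr Θ₁ a',
    ← forall_smul_eq_zero_congr Θ₂ a']
  rfl

/-- `J ≤ √Ann H^i_m(M)` iff `g⁻¹J ≤ √Ann Ext^k_{R'}(M, R')`, `k + i = dim R'` -/
theorem le_radical_annihilator_H_iff (hsurj : Function.Surjective (algebraMap R' R)) {s : ℕ}
    (hs : ringKrullDim R' = s) (M : Type u) [AddCommGroup M] [Module R M] [Module.Finite R M]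
    [Module R' M] [IsScalarTower R' R M] (k i : ℕ) (hki : k + i = s) (J : Ideal R) :
    J ≤ (Module.annihilator R (H (maximalIdeal R) i M)).radical ↔
      J.comap (algebraMap R' R) ≤
        (Module.annihilator R' (Ext (ModuleCat.of R' M) (ModuleCat.of R' R') k)).radical := by
  constructor
  · intro h a' ha'
    obtain ⟨N, hN⟩ := h (Ideal.mem_comap.mp ha')
    refine ⟨N, ?_⟩
    rw [Module.mem_annihilator, ← smul_H_eq_zero_iff hsurj hs M k i hki, map_pow]
    exact Module.mem_annihilator.mp hN
  · intro h a ha
    obtain ⟨a', rfl⟩ := hsurj a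
    obtain ⟨N, hN⟩ := h (Ideal.mem_comap.mpr ha)
    refine ⟨N, ?_⟩
    rw [Module.mem_annihilator, ← map_pow, smul_H_eq_zero_iff hsurj hs M k i hki]
    exact Module.mem_annihilator.mp hN

/-- reduction to primes of `R` -/
theorem forall_prime_comap_iff (hsurj : Function.Surjective (algebraMap R' R))
    (M : Type u) [AddCommGroup M] [Module R M] [Module R' M] [IsScalarTower R' R M] (k : ℕ)
    (J : Ideal R) :
    (∀ (P' : Ideal R') [P'.IsPrime], ¬ J.comap (algebraMap R' R) ≤ P' →
      Subsingleton (LocalizedModule P'.primeCompl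
        (Ext (ModuleCat.of R' M) (ModuleCat.of R' R') k))) ↔
    ∀ (p : Ideal R) [p.IsPrime], ¬ J ≤ p →
      Subsingleton (LocalizedModule (p.comap (algebraMap R' R)).primeCompl
        (Ext (ModuleCat.of R' M) (ModuleCat.of R' R') k)) := by
  constructor
  · intro h p hp hJp
    haveI : (p.comap (algebraMap R' R)).IsPrime := Ideal.comap_isPrime _ p
    apply h (p.comap (algebraMap R' R))
    intro hle
    apply hJp
    have := Ideal.map_mono (f := algebraMap R' R) hle
    rwa [Ideal.map_comap_of_surjective _ hsurj, Ideal.map_comap_of_surjective _ hsurj] at this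
  · intro h P' hP' hJP'
    by_cases hker : RingHom.ker (algebraMap R' R) ≤ P'
    · haveI : (P'.map (algebraMap R' R)).IsPrime := Ideal.map_isPrime_of_surjective hsurj hker
      have hcm : (P'.map (algebraMap R' R)).comap (algebraMap R' R) = P' := by
        rw [Ideal.comap_map_of_surjective _ hsurj]
        exact sup_eq_left.mpr hker
      have := h (P'.map (algebraMap R' R)) (by
        intro hle
        apply hJP'
        have := Ideal.comap_mono (f := algebraMap R' R) hle
        rwa [hcm] at this)
      exact (subsingleton_localizedModule_congr hcm _).mp this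
    · obtain ⟨a, hak, haP⟩ := SetLike.not_le_iff_exists.mp hker
      rw [LocalizedModule.subsingleton_iff]
      intro d
      refine ⟨a, haP, ?_⟩
      apply ext_smul_eq_zero
      intro y
      change a • (y : M) = 0
      rw [← algebraMap_smul R a y, (RingHom.mem_ker).mp hak, zero_smul]

end Groth.Agent.Helper8.LDual
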