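import Groth.Agent.Lib.Helper8.LDual3
import Groth.Agent.Lib.Helper8.LCTop

/-!
# Local duality over homomorphic images of Gorenstein local rings (helper8)
Part 4: the annihilator theorem.
-/

set_option autoImplicit false
universe u

namespace Groth.Agent.Helper8.LDual

open IsLocalRing CategoryTheory Abelian Groth.Agent.Helper8 Groth.Agent.Helper8.LC
  Groth.Agent.Helper8.Canon Groth.Agent.Helper8.Gor
open scoped Pointwise TensorProduct

variable {R' R : Type u} [CommRing R'] [hG : LocCoh.IsGorensteinLocalRing R'] [CommRing R]
  [IsNoetherianRing R] [IsLocalRing R] [Algebra R' R]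

/-- `dim R' = ht (g⁻¹ p) + dim R/p` -/
theorem exists_height_dim (hsurj : Function.Surjective (algebraMap R' R)) {s : ℕ}
    (hs : ringKrullDim R' = s) (p : Ideal R) [p.IsPrime] :
    ∃ t e : ℕ, (p.comap (algebraMap R' R)).height = t ∧ ringKrullDim (R ⧸ p) = e ∧
      s = t + e := by
  haveI hP' : (p.comap (algebraMap R' R)).IsPrime := Ideal.comap_isPrime _ p
  have hne : (p.comap (algebraMap R' R)).height ≠ ⊤ := Ideal.height_ne_top hP'.ne_top
  obtain ⟨t, ht⟩ := ENat.ne_top_iff_exists.mp hne
  haveI : IsLocalRing (R ⧸ p) :=
    IsLocalRing.of_surjective' (Ideal.Quotient.mk p) Ideal.Quotient.mk_surjective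
  obtain ⟨e, he⟩ := Groth.Agent.Lead.Depth.exists_nat_ringKrullDim (R := R ⧸ p)
  have hd' : ringKrullDim (R' ⧸ p.comap (algebraMap R' R)) = e := by
    rw [← he]
    exact ringKrullDim_eq_of_ringEquiv (RingEquiv.ofBijective
      (Ideal.quotientMap p (algebraMap R' R) le_rfl)
      ⟨Ideal.quotientMap_injective, Ideal.quotientMap_surjective hsurj⟩)
  exact ⟨t, e, ht.symm, he, height_add_eq hs _ hP'.ne_top e hd' t ht.symm⟩

/-- **annihilator theorem** for local cohomology over homomorphic images of Gorenstein rings -/
theorem le_radical_annihilator_H_iff_forall (hsurj : Function.Surjective (algebraMap R' R))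
    (M : Type u) [AddCommGroup M] [Module R M] [Module.Finite R M]
    [Module R' M] [IsScalarTower R' R M] (J : Ideal R) (i : ℕ) :
    J ≤ (Module.annihilator R (H (maximalIdeal R) i M)).radical ↔
      ∀ (p : Ideal R) [p.IsPrime], ¬ J ≤ p → ∀ j : ℕ,
        (j : WithBot ℕ∞) + ringKrullDim (R ⧸ p) = i →
        Subsingleton (H (maximalIdeal (Localization.AtPrime p)) j
          (LocalizedModule p.primeCompl M)) := by
  obtain ⟨s, hs⟩ := Groth.Agent.Lead.Depth.exists_nat_ringKrullDim (R := R')
  haveI : Module.Finite R' R := Module.Finite.of_surjective (Algebra.linearMap R' R) hsurj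
  haveI : Module.Finite R' M := Module.Finite.trans R M
  by_cases his : i ≤ s
  · obtain ⟨k, hk⟩ : ∃ k, k + i = s := ⟨s - i, by omega⟩
    haveI := ExtFin.finite_ext (A := R') R' k M
    rw [le_radical_annihilator_H_iff hsurj hs M k i hk J,
      le_radical_annihilator_iff, forall_prime_comap_iff hsurj M k J]
    refine forall_congr' fun p => forall_congr' fun hp => forall_congr' fun hJp => ?_
    obtain ⟨t, e, ht, he, hste⟩ := exists_height_dim hsurj hs p
    rw [subsingleton_localized_ext_iff hsurj M p k t ht, he]
    constructor
    · intro h j hj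
      have hj' : j + e = i := by exact_mod_cast hj
      have hkt : k ≤ t := by omega
      have := h hkt
      have htk : t - k = j := by omega
      rwa [htk] at this
    · intro h hkt
      apply h (t - k)
      have : t - k + e = i := by omega
      exact_mod_cast this
  · have hdimR : ringKrullDim R ≤ s := by
      rw [← hs]
      exact ringKrullDim_le_of_surjective (algebraMap R' R) hsurj
    obtain ⟨n, hn⟩ := Groth.Agent.Lead.Depth.exists_nat_ringKrullDim (R := R)
    have hns : n ≤ s := by
      rw [hn] at hdimR
      exact_mod_cast hdimR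
    haveI : Subsingleton (H (maximalIdeal R) i M) :=
      H_subsingleton_of_ringKrullDim_lt (maximalIdeal R) n hn M i (by omega)
    have htop : Module.annihilator R (H (maximalIdeal R) i M) = ⊤ := by
      rw [eq_top_iff]
      intro a _
      rw [Module.mem_annihilator]
      intro x
      exact Subsingleton.elim _ _
    constructor
    · intro _ p hp hJp j hj
      obtain ⟨t, e, ht, he, hste⟩ := exists_height_dim hsurj hs p
      rw [he] at hj
      have hj' : j + e = i := by exact_mod_cast hj
      haveI : (p.comap (algebraMap R' R)).IsPrime := Ideal.comap_isPrime _ p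
      have hφ : Function.Surjective (Localization.localRingHom (p.comap (algebraMap R' R)) p
          (algebraMap R' R) rfl) :=
        RingHom.surjective_localRingHom_of_surjective (algebraMap R' R) hsurj p
      have hdimT : ringKrullDim (Localization.AtPrime p) ≤ t := by
        have h1 := ringKrullDim_le_of_surjective _ hφ
        rw [IsLocalization.AtPrime.ringKrullDim_eq_height (p.comap (algebraMap R' R))
          (Localization.AtPrime (p.comap (algebraMap R' R))), ht] at h1
        exact h1
      obtain ⟨d, hd⟩ :=
        Groth.Agent.Lead.Depth.exists_nat_ringKrullDim (R := Localization.AtPrime p)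
      have hdt : d ≤ t := by
        rw [hd] at hdimT
        exact_mod_cast hdimT
      exact H_subsingleton_of_ringKrullDim_lt _ d hd _ j (by omega)
    · intro _
      rw [htop, Ideal.radical_top]
      exact le_top

end Groth.Agent.Helper8.LDual
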