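import Groth.Agent.Lib.Helper8.LDual5
import Groth.Agent.Lib.Helper8.LCGNV3
import Groth.Agent.Lib.Lead.Depth5

/-!
# Local duality over homomorphic images of Gorenstein local rings (helper8)

Part 6: generalized Cohen–Macaulay modules.
-/

set_option autoImplicit false
universe u

namespace Groth.Agent.Helper8.LDual

open IsLocalRing CategoryTheory Abelian Groth.Agent.Helper8 Groth.Agent.Helper8.LC
  Groth.Agent.Helper8.Canon Groth.Agent.Helper8.Gor
open scoped Pointwise TensorProduct

section General

theorem supportDim_eq_zero_of_forall_eq {A : Type*} [CommRing A] [IsLocalRing A] (N : Type*)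
    [AddCommGroup N] [Module A N] [Nontrivial N]
    (h : ∀ p : Ideal A, p.IsPrime → Module.annihilator A N ≤ p → p = maximalIdeal A) :
    Module.supportDim A N = 0 := by
  unfold Module.supportDim
  haveI : Nonempty (Module.support A N) := (Module.nonempty_support_of_nontrivial).to_subtype
  haveI : Subsingleton (Module.support A N) := ⟨fun a b => by
    apply Subtype.ext
    apply PrimeSpectrum.ext
    rw [h a.1.asIdeal a.1.2 (Module.annihilator_le_of_mem_support a.2),
      h b.1.asIdeal b.1.2 (Module.annihilator_le_of_mem_support b.2)]⟩
  exact Order.krullDim_eq_zero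

theorem supportDim_localized_of_mem_minimalPrimes {A : Type*} [CommRing A] (N : Type*)
    [AddCommGroup N] [Module A N] [Module.Finite A N] (q : Ideal A) [hqp : q.IsPrime]
    (hq : q ∈ (Module.annihilator A N).minimalPrimes) :
    Module.supportDim (Localization.AtPrime q) (LocalizedModule q.primeCompl N) = 0 := by
  haveI : Nontrivial (LocalizedModule q.primeCompl N) := by
    have : (⟨q, hqp⟩ : PrimeSpectrum A) ∈ Module.support A N :=
      Module.mem_support_iff_of_finite.mpr hq.1.2
    exact Module.mem_support_iff.mp this
  apply supportDim_eq_zero_of_forall_eq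
  intro Q hQ hle
  have h1 : Module.annihilator A N ≤ Q.comap (algebraMap A (Localization.AtPrime q)) := by
    intro a ha
    rw [Ideal.mem_comap]
    apply hle
    rw [Module.mem_annihilator]
    intro x
    rw [algebraMap_smul]
    induction x using LocalizedModule.induction_on with
    | h m s =>
      rw [LocalizedModule.smul'_mk, Module.mem_annihilator.mp ha m, LocalizedModule.zero_mk]
  have h2 : Q.comap (algebraMap A (Localization.AtPrime q)) ≤ q := by
    have h := IsLocalization.AtPrime.comap_maximalIdeal (Localization.AtPrime q) q
    exact le_trans (Ideal.comap_mono (IsLocalRing.le_maximalIdeal hQ.ne_top)) (le_of_eq h)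
  have h3 : q ≤ Q.comap (algebraMap A (Localization.AtPrime q)) :=
    hq.2 ⟨Ideal.comap_isPrime _ Q, h1⟩ h2
  have h4 : Q.comap (algebraMap A (Localization.AtPrime q)) = q := le_antisymm h2 h3
  have h5 : Ideal.map (algebraMap A (Localization.AtPrime q))
      (Q.comap (algebraMap A (Localization.AtPrime q))) = Q :=
    IsLocalization.map_comap q.primeCompl (Localization.AtPrime q) Q
  rw [h4] at h5
  rw [← h5]
  exact Localization.AtPrime.map_eq_maximalIdeal

end General

variable {R' R : Type u} [CommRing R'] [hG : LocCoh.IsGorensteinLocalRing R'] [CommRing R]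
  [IsNoetherianRing R] [IsLocalRing R] [Algebra R' R]

theorem isFiniteLength_H_iff_forall (hsurj : Function.Surjective (algebraMap R' R))
    (M : Type u) [AddCommGroup M] [Module R M] [Module.Finite R M]
    [Module R' M] [IsScalarTower R' R M] (i : ℕ) :
    IsFiniteLength R (H (maximalIdeal R) i M) ↔
      ∀ (p : Ideal R) [p.IsPrime], p ≠ maximalIdeal R → ∀ j e : ℕ,
        ringKrullDim (R ⧸ p) = e → j + e = i →
        Subsingleton (H (maximalIdeal (Localization.AtPrime p)) j
          (LocalizedModule p.primeCompl M)) := by
  rw [isFiniteLength_H_iff hsurj M i,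
    le_radical_annihilator_H_iff_forall hsurj M (maximalIdeal R) i]
  constructor
  · intro h p hp hpm j e he hje
    apply h p (fun hle => hpm
      ((IsLocalRing.maximalIdeal.isMaximal R).eq_of_le hp.ne_top hle).symm) j
    rw [he]
    exact_mod_cast hje
  · intro h p hp hpm j hj
    obtain ⟨s, hs⟩ := Groth.Agent.Lead.Depth.exists_nat_ringKrullDim (R := R')
    obtain ⟨t, e, ht, he, hste⟩ := exists_height_dim hsurj hs p
    apply h p (fun hpm' => hpm (hpm' ▸ le_rfl)) j e he
    rw [he] at hj
    exact_mod_cast hj

theorem supportDim_localized_add_le (hsurj : Function.Surjective (algebraMap R' R))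
    (M : Type u) [AddCommGroup M] [Module R M] [Module.Finite R M]
    [Module R' M] [IsScalarTower R' R M] (n : ℕ) (hn : Module.supportDim R M = n)
    (p : Ideal R) [hp : p.IsPrime] (d e : ℕ)
    (hd : Module.supportDim (Localization.AtPrime p) (LocalizedModule p.primeCompl M) = d)
    (he : ringKrullDim (R ⧸ p) = e) : d + e ≤ n := by
  by_contra hcon
  push Not at hcon
  haveI : Subsingleton (H (maximalIdeal R) (d + e) M) :=
    H_subsingleton_of_supportDim_lt _ M (d + e) (by rw [hn]; exact_mod_cast hcon)
  have htop : (⊤ : Ideal R) ≤ (Module.annihilator R (H (maximalIdeal R) (d + e) M)).radical := by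
    have h1 : Module.annihilator R (H (maximalIdeal R) (d + e) M) = ⊤ := by
      rw [eq_top_iff]
      intro a _
      rw [Module.mem_annihilator]
      intro x
      exact Subsingleton.elim _ _
    rw [h1, Ideal.radical_top]
  have := (le_radical_annihilator_H_iff_forall hsurj M ⊤ (d + e)).mp htop p
    (fun h => hp.ne_top (top_le_iff.mp h)) d (by rw [he]; norm_cast)
  have hnt := nontrivial_H_of_supportDim_eq d (LocalizedModule p.primeCompl M) hd
  exact not_subsingleton _ this

/-- generalized Cohen–Macaulay modules over homomorphic images of Gorenstein local rings -/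
theorem isFiniteLength_H_iff_equidim_cm (hsurj : Function.Surjective (algebraMap R' R))
    (M : Type u) [AddCommGroup M] [Module R M] [Module.Finite R M]
    [Module R' M] [IsScalarTower R' R M] (n : ℕ) (hn : Module.supportDim R M = n) :
    (∀ i : ℕ, i < n → IsFiniteLength R (H (maximalIdeal R) i M)) ↔
      ((∀ p ∈ (Module.annihilator R M).minimalPrimes, ringKrullDim (R ⧸ p) = n) ∧
        ∀ (p : Ideal R) [p.IsPrime], p ≠ maximalIdeal R → Module.annihilator R M ≤ p →
          LocCoh.IsCohenMacaulayModule (Localization.AtPrime p)
            (LocalizedModule p.primeCompl M)) := by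
  obtain ⟨s, hs⟩ := Groth.Agent.Lead.Depth.exists_nat_ringKrullDim (R := R')
  haveI : Nontrivial M := by
    rw [← Module.supportDim_ne_bot_iff_nontrivial R, hn]
    exact WithBot.coe_ne_bot
  have hnt : ∀ (p : Ideal R) [hp : p.IsPrime], Module.annihilator R M ≤ p →
      Nontrivial (LocalizedModule p.primeCompl M) := by
    intro p hp hle
    have : (⟨p, hp⟩ : PrimeSpectrum R) ∈ Module.support R M :=
      Module.mem_support_iff_of_finite.mpr hle
    exact Module.mem_support_iff.mp this
  constructor
  · intro h1
    have key : ∀ (p : Ideal R) [p.IsPrime], p ≠ maximalIdeal R → Module.annihilator R M ≤ p →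
        ∀ d e : ℕ,
        Module.supportDim (Localization.AtPrime p) (LocalizedModule p.primeCompl M) = d →
        ringKrullDim (R ⧸ p) = e →
        LocCoh.depth (Localization.AtPrime p) (LocalizedModule p.primeCompl M) = d ∧
          d + e = n := by
      intro p hp hpm hle d e hd he
      haveI := hnt p hle
      have hB := supportDim_localized_add_le hsurj M n hn p d e hd he
      obtain ⟨c, hc⟩ := exists_nat_depth_eq (R := Localization.AtPrime p)
        (LocalizedModule p.primeCompl M)
      have h2 : ((n - e : ℕ) : ℕ∞) ≤
          LocCoh.idealDepth (maximalIdeal (Localization.AtPrime p))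
            (LocalizedModule p.primeCompl M) := by
        rw [le_idealDepth_iff_H']
        intro j hj
        exact (isFiniteLength_H_iff_forall hsurj M (j + e)).mp (h1 (j + e) (by omega))
          p hpm j e he rfl
      have h2' : n - e ≤ c := by
        have h3 : LocCoh.idealDepth (maximalIdeal (Localization.AtPrime p))
            (LocalizedModule p.primeCompl M) = c := hc
        rw [h3] at h2
        exact_mod_cast h2
      have h4 := Groth.Agent.Lead.Depth.depth_le_supportDim (R := Localization.AtPrime p)
        (LocalizedModule p.primeCompl M)
      rw [hd, hc] at h4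
      have h4' : c ≤ d := by exact_mod_cast h4
      have hcd : c = d := by omega
      refine ⟨by rw [hc, hcd], by omega⟩
    refine ⟨?_, ?_⟩
    · intro q hq
      haveI := hq.1.1
      by_cases hqm : q = maximalIdeal R
      · have h0 : Module.supportDim R M = 0 := by
          apply supportDim_eq_zero_of_forall_eq
          intro p hp hle
          have hpq : p ≤ q := by
            rw [hqm]
            exact IsLocalRing.le_maximalIdeal hp.ne_top
          rw [← hqm]
          exact le_antisymm hpq (hq.2 ⟨hp, hle⟩ hpq)
        have hn0 : n = 0 := by
          rw [hn] at h0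
          exact_mod_cast h0
        rw [hn0, hqm]
        haveI : IsField (R ⧸ maximalIdeal R) :=
          (Ideal.Quotient.maximal_ideal_iff_isField_quotient _).mp inferInstance
        exact ringKrullDim_eq_zero_of_isField this
      · obtain ⟨t, e, ht, he, hste⟩ := exists_height_dim hsurj hs q
        have hd := supportDim_localized_of_mem_minimalPrimes M q hq
        obtain ⟨_, hde⟩ := key q hqm hq.1.2 0 e (by exact_mod_cast hd) he
        rw [he]
        have : e = n := by omega
        rw [this]
    · intro p hp hpm hle
      haveI := hnt p hle
      obtain ⟨d, hd⟩ := exists_nat_supportDim_eq (R := Localization.AtPrime p)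
        (LocalizedModule p.primeCompl M)
      obtain ⟨t, e, ht, he, hste⟩ := exists_height_dim hsurj hs p
      obtain ⟨hc, _⟩ := key p hpm hle d e hd he
      unfold LocCoh.IsCohenMacaulayModule
      rw [hd, hc]
      rfl
  · rintro ⟨h2a, h2b⟩ i hi
    rw [isFiniteLength_H_iff_forall hsurj M i]
    intro p hp hpm j e he hje
    by_cases hle : Module.annihilator R M ≤ p
    · have hCM := h2b p hpm hle
      haveI := hnt p hle
      obtain ⟨d, hd⟩ := exists_nat_supportDim_eq (R := Localization.AtPrime p)
        (LocalizedModule p.primeCompl M)
      obtain ⟨c, hc⟩ := exists_nat_depth_eq (R := Localization.AtPrime p)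
        (LocalizedModule p.primeCompl M)
      have hcd : d = c := by
        unfold LocCoh.IsCohenMacaulayModule at hCM
        rw [hd, hc] at hCM
        exact_mod_cast hCM
      obtain ⟨q, hq, hqp⟩ := Ideal.exists_minimalPrimes_le hle
      haveI hqprime : q.IsPrime := hq.1.1
      have hqn := h2a q hq
      obtain ⟨tq, eq, htq, heq, hsq⟩ := exists_height_dim hsurj hs q
      obtain ⟨tp, ep, htp, hep, hsp⟩ := exists_height_dim hsurj hs p
      have heqn : eq = n := by
        rw [heq] at hqn
        exact_mod_cast hqn
      have hepe : ep = e := by
        rw [hep] at he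
        exact_mod_cast he
      have hd0 := supportDim_localized_of_mem_minimalPrimes M q hq
      have hnt0 := nontrivial_H_of_supportDim_eq 0 (LocalizedModule q.primeCompl M)
        (by exact_mod_cast hd0)
      haveI hQ'prime : (q.comap (algebraMap R' R)).IsPrime := Ideal.comap_isPrime _ q
      haveI hP'prime : (p.comap (algebraMap R' R)).IsPrime := Ideal.comap_isPrime _ p
      have hQ : ¬ Subsingleton (LocalizedModule (q.comap (algebraMap R' R)).primeCompl
          (Ext (ModuleCat.of R' M) (ModuleCat.of R' R') tq)) := by
        rw [subsingleton_localized_ext_iff hsurj M q tq tq htq]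
        intro h
        have := h le_rfl
        rw [Nat.sub_self] at this
        exact not_subsingleton _ this
      have hP : ¬ Subsingleton (LocalizedModule (p.comap (algebraMap R' R)).primeCompl
          (Ext (ModuleCat.of R' M) (ModuleCat.of R' R') tq)) := by
        rw [not_subsingleton_iff_nontrivial] at hQ ⊢
        have h1 : (⟨q.comap (algebraMap R' R), hQ'prime⟩ : PrimeSpectrum R') ∈
            Module.support R' (Ext (ModuleCat.of R' M) (ModuleCat.of R' R') tq) :=
          Module.mem_support_iff.mpr hQ
        have h2 : (⟨q.comap (algebraMap R' R), hQ'prime⟩ : PrimeSpectrum R') ≤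
            ⟨p.comap (algebraMap R' R), hP'prime⟩ := Ideal.comap_mono hqp
        exact Module.mem_support_iff.mp (Module.mem_support_mono h2 h1)
      have htqp : tq ≤ tp := by
        have := Ideal.height_mono (Ideal.comap_mono (f := algebraMap R' R) hqp)
        rw [htq, htp] at this
        exact_mod_cast this
      rw [subsingleton_localized_ext_iff hsurj M p tq tp htp] at hP
      have hntH : Nontrivial (H (maximalIdeal (Localization.AtPrime p)) (tp - tq)
          (LocalizedModule p.primeCompl M)) := by
        by_contra hcon
        apply hP
        intro _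
        exact not_nontrivial_iff_subsingleton.mp hcon
      have h5 := le_dim_of_nontrivial_H (LocalizedModule p.primeCompl M) d hd (tp - tq) hntH
      exact H_subsingleton_of_lt_depth (LocalizedModule p.primeCompl M) c hc j (by omega)
    · haveI : Subsingleton (LocalizedModule p.primeCompl M) := by
        have : (⟨p, hp⟩ : PrimeSpectrum R) ∉ Module.support R M :=
          fun hmem => hle (Module.annihilator_le_of_mem_support hmem)
        exact Module.notMem_support_iff.mp this
      exact LC.H_subsingleton_of_subsingleton _ _ _

end Groth.Agent.Helper8.LDual
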