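import Groth.Agent.Lib.Helper8.LD12
import Groth.Agent.Lib.Helper11.DCStupid

/-!
# Localization of `Hom` in the derived category, part 1 (helper8)

For a morphism `g : Z ⟶ Z'` of `D(A)` and a multiplicative set `S`, we say that `g` is
`S`-injective (`LI`) / `S`-surjective (`LS`) on `Hom(K, -)`.  Four-lemmas for these notions.
-/

set_option autoImplicit false

open CategoryTheory CategoryTheory.Limits Opposite Pretriangulated

universe u

namespace Groth.Agent.Helper8.LOC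

open DerivedCategory

attribute [local instance] HasDerivedCategory.standard

variable {A : Type u} [CommRing A] (S : Submonoid A)

/-- `Hom(K, g)` is injective up to `S` -/
def LI (K : Dual.D A) {Z Z' : Dual.D A} (g : Z ⟶ Z') : Prop :=
  ∀ f : K ⟶ Z, f ≫ g = 0 → ∃ s ∈ S, s • f = 0

/-- `Hom(K, g)` is surjective up to `S` -/
def LS (K : Dual.D A) {Z Z' : Dual.D A} (g : Z ⟶ Z') : Prop :=
  ∀ f' : K ⟶ Z', ∃ s ∈ S, ∃ f : K ⟶ Z, f ≫ g = s • f'

variable {S}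

theorem LI_of_iso {K K' : Dual.D A} (e : K ≅ K') {Z Z' : Dual.D A} {g : Z ⟶ Z'}
    (h : LI S K g) : LI S K' g := by
  intro f hf
  obtain ⟨s, hs, h1⟩ := h (e.hom ≫ f) (by rw [Category.assoc, hf, comp_zero])
  refine ⟨s, hs, ?_⟩
  rw [← cancel_epi e.hom, Linear.comp_smul, h1, comp_zero]

theorem LS_of_iso {K K' : Dual.D A} (e : K ≅ K') {Z Z' : Dual.D A} {g : Z ⟶ Z'}
    (h : LS S K g) : LS S K' g := by
  intro f'
  obtain ⟨s, hs, f, h1⟩ := h (e.hom ≫ f')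
  refine ⟨s, hs, e.inv ≫ f, ?_⟩
  rw [Category.assoc, h1, Linear.comp_smul, e.inv_hom_id_assoc]

theorem LI_of_isZero {K : Dual.D A} (hK : IsZero K) {Z Z' : Dual.D A} (g : Z ⟶ Z') :
    LI S K g := fun f _ => ⟨1, S.one_mem, by rw [one_smul]; exact hK.eq_of_src _ _⟩

theorem LS_of_isZero {K : Dual.D A} (hK : IsZero K) {Z Z' : Dual.D A} (g : Z ⟶ Z') :
    LS S K g := fun _ => ⟨1, S.one_mem, 0, hK.eq_of_src _ _⟩

/-- shifting the source -/
theorem LI_shift {K : Dual.D A} (n : ℤ) {Z Z' : Dual.D A} {g : Z ⟶ Z'}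
    (h : LI S K (g⟦-n⟧')) : LI S (K⟦n⟧) g := by
  intro f hf
  let e := (shiftFunctorCompIsoId (Dual.D A) n (-n) (by omega)).app K
  obtain ⟨s, hs, h1⟩ := h (e.inv ≫ f⟦-n⟧') (by
    rw [Category.assoc, ← Functor.map_comp, hf, Functor.map_zero, comp_zero])
  refine ⟨s, hs, ?_⟩
  apply (shiftFunctor (Dual.D A) (-n)).map_injective
  rw [Functor.map_zero, Functor.map_smul, ← cancel_epi e.inv, Linear.comp_smul, h1, comp_zero]

theorem LS_shift {K : Dual.D A} (n : ℤ) {Z Z' : Dual.D A} {g : Z ⟶ Z'}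
    (h : LS S K (g⟦-n⟧')) : LS S (K⟦n⟧) g := by
  intro f'
  let e := (shiftFunctorCompIsoId (Dual.D A) n (-n) (by omega)).app K
  obtain ⟨s, hs, f₁, h1⟩ := h (e.inv ≫ f'⟦-n⟧')
  refine ⟨s, hs, (shiftFunctor (Dual.D A) (-n)).preimage (e.hom ≫ f₁), ?_⟩
  apply (shiftFunctor (Dual.D A) (-n)).map_injective
  rw [Functor.map_comp, Functor.map_preimage, Category.assoc, h1, Linear.comp_smul,
    e.hom_inv_id_assoc, Functor.map_smul]

/-- the four lemma: `S`-injectivity at the third vertex -/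
theorem LI_obj₃ (T : Triangle (Dual.D A)) (hT : T ∈ distTriang (Dual.D A))
    {Z Z' : Dual.D A} (g : Z ⟶ Z')
    (h2 : LI S T.obj₂ g) (h2s : LS S (T.obj₂⟦(1 : ℤ)⟧) g) (h1s : LI S (T.obj₁⟦(1 : ℤ)⟧) g) :
    LI S T.obj₃ g := by
  intro f hf
  obtain ⟨s, hs, h1⟩ := h2 (T.mor₂ ≫ f) (by rw [Category.assoc, hf, comp_zero])
  obtain ⟨h, hh⟩ := Triangle.yoneda_exact₃ T hT (s • f) (by rw [Linear.comp_smul, h1])
  have h3 : T.mor₃ ≫ (h ≫ g) = 0 := by
    rw [← Category.assoc, ← hh, Linear.smul_comp, hf, smul_zero]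
  obtain ⟨k', hk'⟩ := Triangle.yoneda_exact₃ T.rotate (rot_of_distTriang T hT) (h ≫ g) h3
  obtain ⟨t, ht, k, hk⟩ := h2s k'
  have hk'' : h ≫ g = (-T.mor₁⟦(1 : ℤ)⟧') ≫ k' := hk'
  have h4 : (t • h + T.mor₁⟦(1 : ℤ)⟧' ≫ k) ≫ g = 0 := by
    rw [Preadditive.add_comp, Linear.smul_comp, hk'', Category.assoc, hk, Linear.comp_smul,
      Preadditive.neg_comp, smul_neg, neg_add_cancel]
  obtain ⟨r, hr, h5⟩ := h1s _ h4
  refine ⟨r * t * s, S.mul_mem (S.mul_mem hr ht) hs, ?_⟩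
  have h6 : r • t • h = -(r • (T.mor₁⟦(1 : ℤ)⟧' ≫ k)) := by
    rw [smul_add] at h5
    exact eq_neg_of_add_eq_zero_left h5
  rw [mul_smul, mul_smul, hh, ← Linear.comp_smul, ← Linear.comp_smul, h6, Preadditive.comp_neg,
    Linear.comp_smul, ← Category.assoc, comp_distTriang_mor_zero₃₁ T hT, zero_comp, smul_zero,
    neg_zero]

/-- the four lemma: `S`-surjectivity at the third vertex -/
theorem LS_obj₃ (T : Triangle (Dual.D A)) (hT : T ∈ distTriang (Dual.D A))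
    {Z Z' : Dual.D A} (g : Z ⟶ Z')
    (h2 : LS S T.obj₂ g) (h1 : LI S T.obj₁ g) (h1s : LS S (T.obj₁⟦(1 : ℤ)⟧) g) :
    LS S T.obj₃ g := by
  intro f'
  obtain ⟨s, hs, h, hh⟩ := h2 (T.mor₂ ≫ f')
  obtain ⟨t, ht, h3⟩ := h1 (T.mor₁ ≫ h) (by
    rw [Category.assoc, hh, Linear.comp_smul, ← Category.assoc,
      comp_distTriang_mor_zero₁₂ T hT, zero_comp, smul_zero])
  obtain ⟨k, hk⟩ := Triangle.yoneda_exact₂ T hT (t • h) (by rw [Linear.comp_smul, h3])
  have h4 : T.mor₂ ≫ (k ≫ g - (t * s) • f') = 0 := by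
    rw [Preadditive.comp_sub, ← Category.assoc, ← hk, Linear.smul_comp, hh, Linear.comp_smul,
      mul_smul, sub_self]
  obtain ⟨m', hm'⟩ := Triangle.yoneda_exact₃ T hT _ h4
  obtain ⟨r, hr, m, hm⟩ := h1s m'
  refine ⟨r * (t * s), S.mul_mem hr (S.mul_mem ht hs), r • k - T.mor₃ ≫ m, ?_⟩
  rw [Preadditive.sub_comp, Linear.smul_comp, Category.assoc, hm, Linear.comp_smul, ← hm',
    smul_sub, sub_sub_cancel, ← mul_smul]

end Groth.Agent.Helper8.LOC
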