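import Groth.Agent.Lib.Helper8.LOC11

/-!
# Localization of dualizing complexes, part 12: cohomology at minimal primes (helper8)
-/

set_option autoImplicit false

open CategoryTheory CategoryTheory.Limits Opposite Pretriangulated

universe u

namespace Groth.Agent.Helper8.LOC

open DerivedCategory ChangeOfRings IsLocalRing

attribute [local instance] HasDerivedCategory.standard

section Range

variable {B : Type u} [CommRing B] [IsLocalRing B] [IsNoetherianRing B] (ν : Dual.D B)
  (hν : Dual.IsDualizing B ν) (hn : Dual.IsNormalized B ν)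
  (M : Type u) [AddCommGroup M] [Module B M] [Module.Finite B M]

include hν hn in
/-- `Ext^j(M, ν) ≠ 0` only for `-dim M ≤ j ≤ 0` -/
theorem range_of_nontrivial_hom (d : ℕ) (hd : Module.supportDim B M ≤ (d : WithBot ℕ∞)) (j : ℤ)
    (hj : Nontrivial (Dual.inD B M ⟶ ν⟦j⟧)) : -(d : ℤ) ≤ j ∧ j ≤ 0 := by
  rw [← not_subsingleton_iff_nontrivial] at hj
  constructor
  · by_contra hcon
    apply hj
    obtain ⟨k, hk⟩ : ∃ k : ℕ, j = -(k : ℤ) := ⟨(-j).toNat, by omega⟩
    subst hk
    rw [← Groth.Agent.Helper8.LD.subsingleton_H_iff ν hν hn M k]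
    apply Groth.Agent.Helper8.LC.H_subsingleton_of_supportDim_lt
    refine lt_of_le_of_lt hd ?_
    have hk2 : d < k := by omega
    exact_mod_cast hk2
  · by_contra hcon
    exact hj (Groth.Agent.Helper8.LD.subsingleton_hom_of_pos ν hν hn M j (by omega))

end Range

section Congr

variable {A : Type u} [CommRing A] (S : Submonoid A)

theorem subsingleton_localizedModule_congr {M N : Type*} [AddCommGroup M] [Module A M]
    [AddCommGroup N] [Module A N] (e : M ≃ₗ[A] N) :
    Subsingleton (LocalizedModule S M) ↔ Subsingleton (LocalizedModule S N) := by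
  rw [LocalizedModule.subsingleton_iff, LocalizedModule.subsingleton_iff]
  constructor
  · intro h n
    obtain ⟨r, hr, hrm⟩ := h (e.symm n)
    exact ⟨r, hr, by rw [← e.apply_symm_apply n, ← map_smul, hrm, map_zero]⟩
  · intro h m
    obtain ⟨r, hr, hrm⟩ := h (e m)
    exact ⟨r, hr, by rw [← e.symm_apply_apply m, ← map_smul, hrm, map_zero]⟩

end Congr

section HD

variable {A : Type u} [CommRing A] [IsNoetherianRing A] (ω : Dual.D A)
  (hω : Dual.IsDualizing A ω)

/-- the localization of `H^i(ω)` at `p` in terms of the normalized complex at `p` -/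
theorem subsingleton_loc_HD_iff (p : Ideal A) [p.IsPrime] (i j : ℤ)
    (hij : degAt ω hω p + j = i) :
    Subsingleton (LocalizedModule p.primeCompl (Dual.HD A ω i)) ↔
      Subsingleton (Dual.inD (Localization.AtPrime p) (Localization.AtPrime p) ⟶
        (nuAt ω hω p)⟦j⟧) := by
  rw [← subsingleton_localizedModule_congr p.primeCompl
    (Groth.Agent.Helper8.LD.homSelfEquiv ω i)]
  exact subsingleton_locHom_nuAt_iff ω hω p
    (Algebra.linearMap A (Localization.AtPrime p)) i j hij

/-- at a minimal prime, exactly one cohomology module of `ω` survives -/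
theorem nontrivial_loc_HD_iff_of_minimal (p : Ideal A) [p.IsPrime] (hp : p ∈ minimalPrimes A)
    (i : ℤ) :
    Nontrivial (LocalizedModule p.primeCompl (Dual.HD A ω i)) ↔ i = degAt ω hω p := by
  have hB : IsNoetherianRing (Localization.AtPrime p) :=
    IsLocalization.isNoetherianRing p.primeCompl _ inferInstance
  have hdim : ringKrullDim (Localization.AtPrime p) = ((0 : ℕ) : WithBot ℕ∞) := by
    rw [IsLocalization.AtPrime.ringKrullDim_eq_height p (Localization.AtPrime p),
      Ideal.height_eq_zero_iff.mpr hp]
    rfl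
  have hsd : Module.supportDim (Localization.AtPrime p) (Localization.AtPrime p) =
      ((0 : ℕ) : WithBot ℕ∞) := by
    rw [Module.supportDim_self_eq_ringKrullDim, hdim]
  rw [← not_subsingleton_iff_nontrivial,
    subsingleton_loc_HD_iff ω hω p i (i - degAt ω hω p) (by omega),
    not_subsingleton_iff_nontrivial]
  constructor
  · intro h
    have := range_of_nontrivial_hom (nuAt ω hω p) (isDualizing_nuAt ω hω p)
      (isNormalized_nuAt ω hω p) (Localization.AtPrime p) 0 hsd.le _ h
    omega
  · intro h
    subst h
    have hnt := Groth.Agent.Helper8.LD.nontrivial_hom_supportDim (nuAt ω hω p)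
      (isDualizing_nuAt ω hω p) (isNormalized_nuAt ω hω p) (Localization.AtPrime p) 0 hsd
    have hz : (-((0 : ℕ) : ℤ)) = degAt ω hω p - degAt ω hω p := by simp
    rw [hz] at hnt
    exact hnt

end HD

end Groth.Agent.Helper8.LOC
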