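import Groth.Agent.Lib.Helper8.LOC13

/-!
# Localization of dualizing complexes, part 14: supports of `Ext^i(M, ω)` (helper8)
-/

set_option autoImplicit false

open CategoryTheory CategoryTheory.Limits Opposite Pretriangulated

universe u

namespace Groth.Agent.Helper8.LOC

open DerivedCategory ChangeOfRings IsLocalRing

attribute [local instance] HasDerivedCategory.standard

section General

variable {A : Type u} [CommRing A] [IsNoetherianRing A] (ω : Dual.D A)
  (hω : Dual.IsDualizing A ω)
  (M : Type u) [AddCommGroup M] [Module A M] [Module.Finite A M]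

/-- the localization of `Ext^i(M, ω)` at `p` -/
theorem nontrivial_loc_hom_iff (p : Ideal A) [p.IsPrime] (i j : ℤ)
    (hij : degAt ω hω p + j = i) :
    Nontrivial (LocalizedModule p.primeCompl (Dual.inD A M ⟶ ω⟦i⟧)) ↔
      Nontrivial (Dual.inD (Localization.AtPrime p) (LocalizedModule p.primeCompl M) ⟶
        (nuAt ω hω p)⟦j⟧) := by
  rw [← not_subsingleton_iff_nontrivial, ← not_subsingleton_iff_nontrivial,
    subsingleton_locHom_nuAt_iff ω hω p (LocalizedModule.mkLinearMap p.primeCompl M) i j hij]

end General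

section Local

variable {A : Type u} [CommRing A] [IsLocalRing A] [IsNoetherianRing A] (ω : Dual.D A)
  (hω : Dual.IsDualizing A ω) (hn : Dual.IsNormalized A ω)
  (M : Type u) [AddCommGroup M] [Module A M] [Module.Finite A M]

include hω hn in
/-- points of the support of `Ext^i(M, ω)` have `dim A/p ≤ -i` -/
theorem coheight_le_of_mem_support (i : ℤ) (p : PrimeSpectrum A)
    (hp : p ∈ Module.support A (Dual.inD A M ⟶ ω⟦i⟧)) :
    Order.coheight p ≤ ((-i).toNat : ℕ∞) := by
  have hB : IsNoetherianRing (Localization.AtPrime p.asIdeal) :=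
    IsLocalization.isNoetherianRing p.asIdeal.primeCompl _ inferInstance
  rw [Module.mem_support_iff] at hp
  rw [nontrivial_loc_hom_iff ω hω M p.asIdeal i (i - degAt ω hω p.asIdeal) (by omega)] at hp
  have h1 := Groth.Agent.Helper8.LD.subsingleton_hom_of_pos (nuAt ω hω p.asIdeal)
    (isDualizing_nuAt ω hω p.asIdeal) (isNormalized_nuAt ω hω p.asIdeal)
    (LocalizedModule p.asIdeal.primeCompl M) (i - degAt ω hω p.asIdeal)
  have h2 : i - degAt ω hω p.asIdeal ≤ 0 := by
    by_contra hcon
    rw [← not_subsingleton_iff_nontrivial] at hp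
    exact hp (h1 (by omega))
  refine le_trans (coheight_le_neg_degAt ω hω hn p) ?_
  have h3 : (-degAt ω hω p.asIdeal).toNat ≤ (-i).toNat := by omega
  exact_mod_cast h3

include hω hn in
/-- `dim Supp Ext^i(M, ω) ≤ -i` -/
theorem supportDim_hom_le (i : ℤ) :
    Module.supportDim A (Dual.inD A M ⟶ ω⟦i⟧) ≤ ((-i).toNat : WithBot ℕ∞) := by
  rw [Module.supportDim, Order.krullDim_eq_iSup_coheight]
  apply iSup_le
  rintro ⟨p, hp⟩
  have h1 := Order.coheight_le_coheight_apply_of_strictMono
    (Subtype.val : Module.support A (Dual.inD A M ⟶ ω⟦i⟧) → PrimeSpectrum A)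
    (fun _ _ h => h) ⟨p, hp⟩
  have h2 := coheight_le_of_mem_support ω hω hn M i p hp
  exact_mod_cast h1.trans h2

end Local

end Groth.Agent.Helper8.LOC
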