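import Groth.Agent.Lib.Helper8.LOC14

/-!
# Localization of dualizing complexes, part 15: supports of `Ext` and depth (helper8)
-/

set_option autoImplicit false

open CategoryTheory CategoryTheory.Limits Opposite Pretriangulated

universe u

namespace Groth.Agent.Helper8.LOC

open DerivedCategory ChangeOfRings IsLocalRing

attribute [local instance] HasDerivedCategory.standard

section Local

variable {A : Type u} [CommRing A] [IsLocalRing A] [IsNoetherianRing A] (ω : Dual.D A)
  (hω : Dual.IsDualizing A ω) (hn : Dual.IsNormalized A ω)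
  (M : Type u) [AddCommGroup M] [Module A M] [Module.Finite A M]

include hω hn in
/-- the support of `Ext^{-j}(M, ω)` in terms of local cohomology of the localizations -/
theorem mem_support_hom_iff (p : PrimeSpectrum A) (j : ℕ) :
    p ∈ Module.support A (Dual.inD A M ⟶ ω⟦(-(j : ℤ))⟧) ↔
      ∃ k : ℕ, k + (-degAt ω hω p.asIdeal).toNat = j ∧
        Nontrivial (LocCoh.H (maximalIdeal (Localization.AtPrime p.asIdeal)) k
          (LocalizedModule p.asIdeal.primeCompl M)) := by
  have hB : IsNoetherianRing (Localization.AtPrime p.asIdeal) :=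
    IsLocalization.isNoetherianRing p.asIdeal.primeCompl _ inferInstance
  have hc := degAt_nonpos ω hω hn p
  set c := (-degAt ω hω p.asIdeal).toNat with hcdef
  have hc' : degAt ω hω p.asIdeal = -(c : ℤ) := by omega
  rw [Module.mem_support_iff,
    nontrivial_loc_hom_iff ω hω M p.asIdeal (-(j : ℤ)) ((c : ℤ) - j) (by omega)]
  constructor
  · intro h
    by_cases hjc : j < c
    · exfalso
      rw [← not_subsingleton_iff_nontrivial] at h
      exact h (Groth.Agent.Helper8.LD.subsingleton_hom_of_pos (nuAt ω hω p.asIdeal)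
        (isDualizing_nuAt ω hω p.asIdeal) (isNormalized_nuAt ω hω p.asIdeal)
        (LocalizedModule p.asIdeal.primeCompl M) _ (by omega))
    · refine ⟨j - c, by omega, ?_⟩
      have hz : (c : ℤ) - j = -((j - c : ℕ) : ℤ) := by omega
      rw [hz] at h
      rw [← not_subsingleton_iff_nontrivial] at h ⊢
      exact fun hs => h ((Groth.Agent.Helper8.LD.subsingleton_H_iff (nuAt ω hω p.asIdeal)
        (isDualizing_nuAt ω hω p.asIdeal) (isNormalized_nuAt ω hω p.asIdeal)
        (LocalizedModule p.asIdeal.primeCompl M) (j - c)).mp hs)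
  · rintro ⟨k, hk, hnt⟩
    have hz : (c : ℤ) - j = -(k : ℤ) := by omega
    rw [hz]
    rw [← not_subsingleton_iff_nontrivial] at hnt ⊢
    exact fun hs => hnt ((Groth.Agent.Helper8.LD.subsingleton_H_iff (nuAt ω hω p.asIdeal)
      (isDualizing_nuAt ω hω p.asIdeal) (isNormalized_nuAt ω hω p.asIdeal)
      (LocalizedModule p.asIdeal.primeCompl M) k).mpr hs)

include hω hn in
/-- the support of `Ext^{-j}(M, ω)`, `j ≤ i`, in terms of depth -/
theorem exists_mem_support_hom_iff (i : ℕ) (p : PrimeSpectrum A) :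
    (∃ j : ℕ, j ≤ i ∧ p ∈ Module.support A (Dual.inD A M ⟶ ω⟦(-(j : ℤ))⟧)) ↔
      ((LocCoh.depth (Localization.AtPrime p.asIdeal)
        (LocalizedModule p.asIdeal.primeCompl M) : ℕ∞) : WithBot ℕ∞) +
          ringKrullDim (A ⧸ p.asIdeal) ≤ (i : WithBot ℕ∞) := by
  have hB : IsNoetherianRing (Localization.AtPrime p.asIdeal) :=
    IsLocalization.isNoetherianRing p.asIdeal.primeCompl _ inferInstance
  rw [ringKrullDim_quotient_eq_neg_degAt ω hω hn p]
  set c := (-degAt ω hω p.asIdeal).toNat with hcdef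
  have key : ∀ k : ℕ, (k : ℕ∞) ≤ LocCoh.depth (Localization.AtPrime p.asIdeal)
      (LocalizedModule p.asIdeal.primeCompl M) ↔ ∀ i : ℕ, i < k →
        Subsingleton (LocCoh.H (maximalIdeal (Localization.AtPrime p.asIdeal)) i
          (LocalizedModule p.asIdeal.primeCompl M)) :=
    fun k : ℕ => Groth.Agent.Helper8.LC.le_idealDepth_iff_H'
      (maximalIdeal (Localization.AtPrime p.asIdeal)) k (LocalizedModule p.asIdeal.primeCompl M)
  constructor
  · rintro ⟨j, hji, hj⟩
    obtain ⟨k, hk, hnt⟩ := (mem_support_hom_iff ω hω hn M p j).mp hj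
    have h1 : ¬ (((k + 1 : ℕ) : ℕ∞) ≤ LocCoh.depth (Localization.AtPrime p.asIdeal)
        (LocalizedModule p.asIdeal.primeCompl M)) := by
      intro hle
      have := (key (k + 1)).mp hle k (by omega)
      exact (not_subsingleton_iff_nontrivial.mpr hnt) this
    have h2 : LocCoh.depth (Localization.AtPrime p.asIdeal)
        (LocalizedModule p.asIdeal.primeCompl M) ≤ (k : ℕ∞) := by
      have h3 := not_le.mp h1
      push_cast at h3
      exact (ENat.lt_add_one_iff (ENat.natCast_ne_top k)).mp h3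
    have h4 : ((LocCoh.depth (Localization.AtPrime p.asIdeal)
        (LocalizedModule p.asIdeal.primeCompl M) : ℕ∞) : WithBot ℕ∞) ≤ ((k : ℕ∞) : WithBot ℕ∞) :=
      WithBot.coe_le_coe.mpr h2
    have h5 : ((k : ℕ∞) : WithBot ℕ∞) + ((c : ℕ) : WithBot ℕ∞) ≤ ((i : ℕ) : WithBot ℕ∞) := by
      have : k + c ≤ i := by omega
      exact_mod_cast this
    exact le_trans (add_le_add_left h4 _) h5
  · intro h
    have hne : LocCoh.depth (Localization.AtPrime p.asIdeal)
        (LocalizedModule p.asIdeal.primeCompl M) ≠ ⊤ := by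
      intro htop
      rw [htop] at h
      have h6 : ((⊤ : ℕ∞) : WithBot ℕ∞) + ((c : ℕ) : WithBot ℕ∞) = ((⊤ : ℕ∞) : WithBot ℕ∞) := by
        have : ((c : ℕ) : WithBot ℕ∞) = (((c : ℕ) : ℕ∞) : WithBot ℕ∞) := rfl
        rw [this, ← WithBot.coe_add, top_add]
      rw [h6] at h
      have h7 : ((i : ℕ) : WithBot ℕ∞) = (((i : ℕ) : ℕ∞) : WithBot ℕ∞) := rfl
      rw [h7, WithBot.coe_le_coe] at h
      exact (ENat.natCast_lt_top i).not_ge h
    obtain ⟨k₀, hk₀⟩ := ENat.ne_top_iff_exists.mp hne
    rw [← hk₀] at h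
    have h8 : k₀ + c ≤ i := by exact_mod_cast h
    have h9 : ¬ (((k₀ + 1 : ℕ) : ℕ∞) ≤ LocCoh.depth (Localization.AtPrime p.asIdeal)
        (LocalizedModule p.asIdeal.primeCompl M)) := by
      rw [← hk₀]
      push_cast
      intro hle
      have : (k₀ : ℕ∞) + 1 ≤ k₀ := hle
      have h10 : k₀ + 1 ≤ k₀ := by exact_mod_cast this
      omega
    rw [key (k₀ + 1)] at h9
    push Not at h9
    obtain ⟨k, hk, hnt⟩ := h9
    exact ⟨k + c, by omega, (mem_support_hom_iff ω hω hn M p (k + c)).mpr ⟨k, rfl, hnt⟩⟩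

end Local

end Groth.Agent.Helper8.LOC
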