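import Groth.Agent.Lib.Helper8.LOC9

/-!
# Local-to-global criterion for dualizing complexes (helper8)
-/

set_option autoImplicit false

open CategoryTheory CategoryTheory.Limits Opposite Pretriangulated

universe u

namespace Groth.Agent.Helper8.LOC

open DerivedCategory ChangeOfRings IsLocalRing

attribute [local instance] HasDerivedCategory.standard

section

variable {A : Type u} [CommRing A]

/-- a morphism killed by some element outside each maximal ideal is zero -/
theorem hom_eq_zero_of_forall_maximal {K W : Dual.D A} (f : K ⟶ W)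
    (h : ∀ m : Ideal A, m.IsMaximal → ∃ s : A, s ∉ m ∧ s • f = 0) : f = 0 := by
  let I : Ideal A :=
    { carrier := {a | a • f = 0}
      add_mem' := by
        intro x y hx hy
        show (x + y) • f = 0
        rw [add_smul, show x • f = 0 from hx, show y • f = 0 from hy, add_zero]
      zero_mem' := by
        show (0 : A) • f = 0
        rw [zero_smul]
      smul_mem' := by
        intro c x hx
        show (c • x) • f = 0
        rw [smul_eq_mul, mul_smul, show x • f = 0 from hx, smul_zero] }
  by_cases hI : I = ⊤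
  · have h1 : (1 : A) ∈ I := by rw [hI]; trivial
    have h2 : (1 : A) • f = 0 := h1
    rwa [one_smul] at h2
  · exfalso
    obtain ⟨m, hm, hIm⟩ := Ideal.exists_le_maximal I hI
    obtain ⟨s, hs, hsf⟩ := h m hm
    exact hs (hIm hsf)

/-- an element killed by some element outside each maximal ideal is zero -/
theorem eq_zero_of_forall_maximal (x : A)
    (h : ∀ m : Ideal A, m.IsMaximal → ∃ s : A, s ∉ m ∧ s * x = 0) : x = 0 := by
  by_cases hI : Ideal.span {x} = ⊥
  · rwa [Ideal.span_singleton_eq_bot] at hI
  · exfalso
    have hI' : (⊥ : Ideal A).colon (Ideal.span {x}) ≠ ⊤ := by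
      intro h1
      apply hI
      have h2 : (1 : A) ∈ (⊥ : Ideal A).colon (Ideal.span {x}) := by rw [h1]; trivial
      rw [Submodule.mem_colon] at h2
      rw [Ideal.span_singleton_eq_bot]
      have := h2 x (Ideal.subset_span rfl)
      simpa using this
    obtain ⟨m, hm, hIm⟩ := Ideal.exists_le_maximal _ hI'
    obtain ⟨s, hs, hsx⟩ := h m hm
    apply hs
    apply hIm
    rw [Submodule.mem_colon]
    intro y hy
    obtain ⟨c, rfl⟩ := Ideal.mem_span_singleton'.mp hy
    show s • (c * x) ∈ (⊥ : Ideal A)
    rw [smul_eq_mul, show s * (c * x) = c * (s * x) by ring, hsx, mul_zero]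
    exact Submodule.zero_mem _

end

section Main

variable {A : Type u} [CommRing A] [IsNoetherianRing A]

/-- **local-to-global**: a bounded coherent complex of finite injective dimension which is
dualizing at every maximal ideal is dualizing. -/
theorem isDualizing_of_forall_maximal (K : Dual.D A) (a b : ℤ)
    (hK : ∀ i : ℤ, (i < a ∨ b < i) → IsZero ((homologyFunctor (ModuleCat.{u} A) i).obj K))
    (hfin : ∀ i : ℤ, Module.Finite A (Dual.HD A K i))
    (hinj : ∃ a b : ℤ, ∀ (M : Type u) [AddCommGroup M] [Module A M] (i : ℤ),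
      (i < a ∨ b < i) → Subsingleton (Dual.inD A M ⟶ K⟦i⟧))
    (hloc : ∀ (m : Ideal A) [m.IsMaximal],
      Dual.IsDualizing (Localization.AtPrime m)
        ((Ld (algebraMap A (Localization.AtPrime m))).obj K)) :
    Dual.IsDualizing A K := by
  have hPP : ∀ S : Submonoid A, PP S K := fun S => PP_of_bounded (S := S) K a b hK hfin
  have hlow : ∀ j : ℤ, j < a → IsZero ((homologyFunctor (ModuleCat.{u} A) j).obj K) :=
    fun j hj => hK j (Or.inl hj)
  refine ⟨inferInstance, hinj, hfin, ⟨?_, ?_⟩, ?_⟩
  · -- injectivity
    intro x y hxy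
    have hxy' : x • 𝟙 K = y • 𝟙 K := hxy
    have hd : (x - y) • 𝟙 K = 0 := by rw [sub_smul, hxy', sub_self]
    apply sub_eq_zero.mp
    apply eq_zero_of_forall_maximal
    intro m hm
    haveI := hm
    have h1 : (Ld (algebraMap A (Localization.AtPrime m))).map ((x - y) • 𝟙 K) = 0 := by
      rw [hd, Functor.map_zero]
    rw [Ld_map_smul_id] at h1
    have h2 : algebraMap A (Localization.AtPrime m) (x - y) = 0 := by
      apply (hloc m).toEnd_bijective.1
      show algebraMap A (Localization.AtPrime m) (x - y) • 𝟙 _ = (0 : Localization.AtPrime m) • 𝟙 _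
      rw [h1, zero_smul]
    obtain ⟨⟨s, hs⟩, hsx⟩ := (IsLocalization.map_eq_zero_iff m.primeCompl
      (Localization.AtPrime m) (x - y)).mp h2
    exact ⟨s, hs, hsx⟩
  · -- surjectivity
    intro f
    let I : Ideal A :=
      { carrier := {c | ∃ d : A, c • f = d • 𝟙 K}
        add_mem' := by
          rintro x y ⟨d, hd⟩ ⟨d', hd'⟩
          exact ⟨d + d', by rw [add_smul, hd, hd', add_smul]⟩
        zero_mem' := ⟨0, by rw [zero_smul, zero_smul]⟩
        smul_mem' := by
          rintro c x ⟨d, hd⟩
          exact ⟨c * d, by rw [smul_eq_mul, mul_smul, hd, mul_smul]⟩ }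
    by_cases hI : I = ⊤
    · have h1 : (1 : A) ∈ I := by rw [hI]; trivial
      obtain ⟨d, hd⟩ := h1
      rw [one_smul] at hd
      exact ⟨d, hd.symm⟩
    · exfalso
      obtain ⟨m, hm, hIm⟩ := Ideal.exists_le_maximal I hI
      haveI := hm
      obtain ⟨β, hβ⟩ := (hloc m).toEnd_bijective.2
        ((Ld (algebraMap A (Localization.AtPrime m))).map f)
      have hβ' : β • 𝟙 _ = (Ld (algebraMap A (Localization.AtPrime m))).map f := hβ
      obtain ⟨⟨d, t⟩, hdt⟩ := IsLocalization.surj m.primeCompl β
      -- β * φ t = φ d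
      have h1 : (Ld (algebraMap A (Localization.AtPrime m))).map
          ((t : A) • f - d • 𝟙 K) = 0 := by
        rw [Functor.map_sub, Ld_map_smul, Ld_map_smul_id, ← hβ', ← mul_smul, sub_eq_zero]
        congr 1
        rw [mul_comm]
        exact hdt
      obtain ⟨s, hs, h2⟩ := Ld_map_eq_zero m.primeCompl (Localization.AtPrime m)
        (hPP m.primeCompl) a hlow _ h1
      have h3 : (s * (t : A)) ∈ I := by
        refine ⟨s * d, ?_⟩
        rw [smul_sub, sub_eq_zero] at h2
        rw [mul_smul, h2, mul_smul]
      exact (m.primeCompl.mul_mem hs t.2) (hIm h3)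
  · intro i hi
    refine ⟨fun x y => ?_⟩
    have key : ∀ f : K ⟶ K⟦i⟧, f = 0 := by
      intro f
      apply hom_eq_zero_of_forall_maximal
      intro m hm
      haveI := hm
      have := (hloc m).ext_self_subsingleton i hi
      let c := ((Ld (algebraMap A (Localization.AtPrime m))).commShiftIso i).app K
      have h1 : (Ld (algebraMap A (Localization.AtPrime m))).map f = 0 := by
        rw [← cancel_mono c.hom, zero_comp]
        exact @Subsingleton.elim _ this
          ((Ld (algebraMap A (Localization.AtPrime m))).map f ≫ c.hom) 0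
      obtain ⟨s, hs, h2⟩ := Ld_map_eq_zero m.primeCompl (Localization.AtPrime m)
        (hPP m.primeCompl) (a - i) (isZero_homology_shift K a hlow i) f h1
      exact ⟨s, hs, h2⟩
    rw [key x, key y]

end Main

end Groth.Agent.Helper8.LOC
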