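import Groth.Agent.Lib.Helper8.LOC15
import Groth.Agent.Lib.Helper8.LD11
import Groth.Agent.Lib.Helper8.LCGNV3
import Groth.Agent.Lib.Helper8.LDual6

/-!
# The Cohen–Macaulay locus via the dualizing complex (helper8)
-/

set_option autoImplicit false

open CategoryTheory CategoryTheory.Limits Opposite Pretriangulated

universe u

namespace Groth.Agent.Helper8.LOC

open DerivedCategory ChangeOfRings IsLocalRing

attribute [local instance] HasDerivedCategory.standard

section CM

variable {A : Type u} [CommRing A] [IsNoetherianRing A] (ω : Dual.D A)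
  (hω : Dual.IsDualizing A ω)
  (M : Type u) [AddCommGroup M] [Module A M] [Module.Finite A M]

/-- `p ∈ Supp Ext^i(M, ω)` in terms of a localization `M'` of `M` at `p` -/
theorem mem_support_hom_iff_loc (p : PrimeSpectrum A) {M' : Type u} [AddCommGroup M']
    [Module A M'] [Module (Localization.AtPrime p.asIdeal) M']
    [IsScalarTower A (Localization.AtPrime p.asIdeal) M']
    (f : M →ₗ[A] M') [IsLocalizedModule p.asIdeal.primeCompl f] (i j : ℤ)
    (hij : degAt ω hω p.asIdeal + j = i) :
    p ∈ Module.support A (Dual.inD A M ⟶ ω⟦i⟧) ↔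
      Nontrivial (Dual.inD (Localization.AtPrime p.asIdeal) M' ⟶ (nuAt ω hω p.asIdeal)⟦j⟧) := by
  rw [Module.mem_support_iff, ← not_subsingleton_iff_nontrivial,
    ← not_subsingleton_iff_nontrivial,
    subsingleton_locHom_nuAt_iff ω hω p.asIdeal f i j hij]

include hω in
/-- outside of the support of `M`, all `Ext^i(M, ω)` vanish -/
theorem not_mem_support_hom (p : PrimeSpectrum A) {M' : Type u} [AddCommGroup M']
    [Module A M'] [Module (Localization.AtPrime p.asIdeal) M']
    [IsScalarTower A (Localization.AtPrime p.asIdeal) M']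
    (f : M →ₗ[A] M') [IsLocalizedModule p.asIdeal.primeCompl f] [Subsingleton M'] (i : ℤ) :
    p ∉ Module.support A (Dual.inD A M ⟶ ω⟦i⟧) := by
  rw [mem_support_hom_iff_loc ω hω M p f i (i - degAt ω hω p.asIdeal) (by omega),
    ← not_subsingleton_iff_nontrivial, not_not]
  have hz : IsZero (Dual.inD (Localization.AtPrime p.asIdeal) M') :=
    (DerivedCategory.singleFunctor (ModuleCat.{u} (Localization.AtPrime p.asIdeal)) 0).map_isZero
      (ModuleCat.isZero_of_subsingleton (ModuleCat.of (Localization.AtPrime p.asIdeal) M'))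
  exact ⟨fun x y => hz.eq_of_src x y⟩

include hω in
/-- **Cohen–Macaulayness at `p`** in terms of the supports of `Ext^i(M, ω)` -/
theorem isCohenMacaulayModule_loc_iff (p : PrimeSpectrum A) {M' : Type u} [AddCommGroup M']
    [Module A M'] [Module (Localization.AtPrime p.asIdeal) M']
    [IsScalarTower A (Localization.AtPrime p.asIdeal) M']
    (f : M →ₗ[A] M') [IsLocalizedModule p.asIdeal.primeCompl f] [Nontrivial M'] :
    LocCoh.IsCohenMacaulayModule (Localization.AtPrime p.asIdeal) M' ↔
      ∀ i i' : ℤ, p ∈ Module.support A (Dual.inD A M ⟶ ω⟦i⟧) →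
        p ∈ Module.support A (Dual.inD A M ⟶ ω⟦i'⟧) → i = i' := by
  have hB : IsNoetherianRing (Localization.AtPrime p.asIdeal) :=
    IsLocalization.isNoetherianRing p.asIdeal.primeCompl _ inferInstance
  haveI : Module.Finite (Localization.AtPrime p.asIdeal) M' :=
    Module.Finite.of_isLocalizedModule p.asIdeal.primeCompl f
  obtain ⟨d, hd⟩ := Groth.Agent.Helper8.LC.exists_nat_supportDim_eq
    (R := Localization.AtPrime p.asIdeal) M'
  have hν := isDualizing_nuAt ω hω p.asIdeal
  have hn := isNormalized_nuAt ω hω p.asIdeal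
  rw [Groth.Agent.Helper8.LD.isCohenMacaulayModule_iff (nuAt ω hω p.asIdeal) hν hn M' d hd]
  have hdn := Groth.Agent.Helper8.LD.nontrivial_hom_supportDim (nuAt ω hω p.asIdeal) hν hn M' d hd
  constructor
  · intro h i i' hi hi'
    rw [mem_support_hom_iff_loc ω hω M p f i (i - degAt ω hω p.asIdeal) (by omega)] at hi
    rw [mem_support_hom_iff_loc ω hω M p f i' (i' - degAt ω hω p.asIdeal) (by omega)] at hi'
    have h1 : degAt ω hω p.asIdeal - i = d := by
      by_contra hne
      have := h (degAt ω hω p.asIdeal - i) hne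
      rw [neg_sub] at this
      exact (not_subsingleton_iff_nontrivial.mpr hi) this
    have h2 : degAt ω hω p.asIdeal - i' = d := by
      by_contra hne
      have := h (degAt ω hω p.asIdeal - i') hne
      rw [neg_sub] at this
      exact (not_subsingleton_iff_nontrivial.mpr hi') this
    omega
  · intro h k hk
    by_contra hcon
    rw [not_subsingleton_iff_nontrivial] at hcon
    have h1 : p ∈ Module.support A (Dual.inD A M ⟶ ω⟦degAt ω hω p.asIdeal - k⟧) :=
      (mem_support_hom_iff_loc ω hω M p f _ (-k) (by omega)).mpr hcon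
    have h2 : p ∈ Module.support A (Dual.inD A M ⟶ ω⟦degAt ω hω p.asIdeal - d⟧) :=
      (mem_support_hom_iff_loc ω hω M p f _ (-(d : ℤ)) (by omega)).mpr hdn
    have := h _ _ h1 h2
    omega

include hω in
/-- the non-Cohen–Macaulay locus is closed -/
theorem isClosed_nonCM :
    IsClosed {p : PrimeSpectrum A | ∃ i i' : ℤ, i ≠ i' ∧
      p ∈ Module.support A (Dual.inD A M ⟶ ω⟦i⟧) ∧
      p ∈ Module.support A (Dual.inD A M ⟶ ω⟦i'⟧)} := by
  obtain ⟨a, b, hab⟩ := hω.finite_injective_dimension
  have hfin := fun i : ℤ => Groth.Agent.Helper8.LD.finite_hom_inD ω hω M i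
  have hclosed : ∀ i : ℤ, IsClosed (Module.support A (Dual.inD A M ⟶ ω⟦i⟧)) := by
    intro i
    rw [Module.support_eq_zeroLocus]
    exact PrimeSpectrum.isClosed_zeroLocus _
  have hempty : ∀ i : ℤ, (i < a ∨ b < i) → Module.support A (Dual.inD A M ⟶ ω⟦i⟧) = ∅ := by
    intro i hi
    haveI := hab M i hi
    exact Module.support_eq_empty
  have heq : {p : PrimeSpectrum A | ∃ i i' : ℤ, i ≠ i' ∧
      p ∈ Module.support A (Dual.inD A M ⟶ ω⟦i⟧) ∧
      p ∈ Module.support A (Dual.inD A M ⟶ ω⟦i'⟧)} =
      ⋃ x ∈ ((Finset.Icc a b ×ˢ Finset.Icc a b).filter (fun x : ℤ × ℤ => x.1 ≠ x.2)),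
        (Module.support A (Dual.inD A M ⟶ ω⟦x.1⟧) ∩
          Module.support A (Dual.inD A M ⟶ ω⟦x.2⟧)) := by
    ext p
    simp only [Set.mem_ofPred_eq, Set.mem_iUnion, Finset.mem_filter, Finset.mem_product,
      Finset.mem_Icc, Set.mem_inter_iff, exists_prop, Prod.exists]
    constructor
    · rintro ⟨i, i', hne, hi, hi'⟩
      refine ⟨i, i', ⟨⟨⟨?_, ?_⟩, ⟨?_, ?_⟩⟩, hne⟩, hi, hi'⟩
      · by_contra hcon
        rw [hempty i (Or.inl (by omega))] at hi
        exact hi
      · by_contra hcon
        rw [hempty i (Or.inr (by omega))] at hi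
        exact hi
      · by_contra hcon
        rw [hempty i' (Or.inl (by omega))] at hi'
        exact hi'
      · by_contra hcon
        rw [hempty i' (Or.inr (by omega))] at hi'
        exact hi'
    · rintro ⟨i, i', ⟨_, hne⟩, hi, hi'⟩
      exact ⟨i, i', hne, hi, hi'⟩
  rw [heq]
  exact isClosed_biUnion_finset (fun x _ => (hclosed x.1).inter (hclosed x.2))

include hω in
/-- at a minimal prime of the support, at most one `Ext^i(M, ω)` is nonzero -/
theorem eq_of_mem_support_of_minimal (q : PrimeSpectrum A)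
    (hq : q.asIdeal ∈ (Module.annihilator A M).minimalPrimes) (i i' : ℤ)
    (hi : q ∈ Module.support A (Dual.inD A M ⟶ ω⟦i⟧))
    (hi' : q ∈ Module.support A (Dual.inD A M ⟶ ω⟦i'⟧)) : i = i' := by
  have hB : IsNoetherianRing (Localization.AtPrime q.asIdeal) :=
    IsLocalization.isNoetherianRing q.asIdeal.primeCompl _ inferInstance
  have hν := isDualizing_nuAt ω hω q.asIdeal
  have hn := isNormalized_nuAt ω hω q.asIdeal
  have hd := Groth.Agent.Helper8.LDual.supportDim_localized_of_mem_minimalPrimes M q.asIdeal hq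
  rw [mem_support_hom_iff_loc ω hω M q (LocalizedModule.mkLinearMap q.asIdeal.primeCompl M) i
    (i - degAt ω hω q.asIdeal) (by omega)] at hi
  rw [mem_support_hom_iff_loc ω hω M q (LocalizedModule.mkLinearMap q.asIdeal.primeCompl M) i'
    (i' - degAt ω hω q.asIdeal) (by omega)] at hi'
  have h1 := range_of_nontrivial_hom (nuAt ω hω q.asIdeal) hν hn
    (LocalizedModule q.asIdeal.primeCompl M) 0 (le_of_eq hd) _ hi
  have h2 := range_of_nontrivial_hom (nuAt ω hω q.asIdeal) hν hn
    (LocalizedModule q.asIdeal.primeCompl M) 0 (le_of_eq hd) _ hi'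
  have h3 : ((0 : ℕ) : ℤ) = 0 := rfl
  omega

include hω in
/-- **openness and density of the Cohen–Macaulay locus**, abstract form -/
theorem cm_locus (P : PrimeSpectrum A → Prop)
    (hP : ∀ p ∈ Module.support A M, (P p ↔
      ∀ i i' : ℤ, p ∈ Module.support A (Dual.inD A M ⟶ ω⟦i⟧) →
        p ∈ Module.support A (Dual.inD A M ⟶ ω⟦i'⟧) → i = i')) :
    IsOpen {p : PrimeSpectrum A | p ∉ Module.support A M ∨ P p} ∧
      Module.support A M ⊆ closure ({p : PrimeSpectrum A | P p} ∩ Module.support A M) := by
  constructor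
  · have heq : {p : PrimeSpectrum A | p ∉ Module.support A M ∨ P p} =
        {p : PrimeSpectrum A | ∃ i i' : ℤ, i ≠ i' ∧
          p ∈ Module.support A (Dual.inD A M ⟶ ω⟦i⟧) ∧
          p ∈ Module.support A (Dual.inD A M ⟶ ω⟦i'⟧)}ᶜ := by
      ext p
      simp only [Set.mem_ofPred_eq, Set.mem_compl_iff]
      by_cases hp : p ∈ Module.support A M
      · rw [hP p hp]
        constructor
        · rintro (h | h)
          · exact absurd hp h
          · rintro ⟨i, i', hne, hi, hi'⟩
            exact hne (h i i' hi hi')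
        · intro h
          right
          intro i i' hi hi'
          by_contra hne
          exact h ⟨i, i', hne, hi, hi'⟩
      · constructor
        · rintro - ⟨i, i', hne, hi, hi'⟩
          rw [Module.mem_support_iff, not_nontrivial_iff_subsingleton] at hp
          exact not_mem_support_hom ω hω M p
            (LocalizedModule.mkLinearMap p.asIdeal.primeCompl M) i hi
        · intro _
          exact Or.inl hp
    rw [heq]
    exact (isClosed_nonCM ω hω M).isOpen_compl
  · intro p hp
    have hp' := Module.mem_support_iff_of_finite.mp hp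
    obtain ⟨q, hq, hqp⟩ := Ideal.exists_minimalPrimes_le hp'
    have hqprime : q.IsPrime := hq.1.1
    let q' : PrimeSpectrum A := ⟨q, hqprime⟩
    have hqsupp : q' ∈ Module.support A M := Module.mem_support_iff_of_finite.mpr hq.1.2
    have hPq : P q' := (hP q' hqsupp).mpr
      (fun i i' hi hi' => eq_of_mem_support_of_minimal ω hω M q' hq i i' hi hi')
    have hspec : q' ⤳ p := (PrimeSpectrum.le_iff_specializes q' p).mp hqp
    have h1 : p ∈ closure ({q'} : Set (PrimeSpectrum A)) := hspec.mem_closure
    have h2 : ({q'} : Set (PrimeSpectrum A)) ⊆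
        {p : PrimeSpectrum A | P p} ∩ Module.support A M := by
      rintro _ rfl
      exact ⟨hPq, hqsupp⟩
    exact closure_mono h2 h1
  
end CM

end Groth.Agent.Helper8.LOC
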