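import Groth.Agent.Lib.Helper8.LOC18

/-!
# Serre's condition `(S_k)` via the supports of `Ext^i(M, ω)` (helper8)
-/

set_option autoImplicit false

open CategoryTheory CategoryTheory.Limits Opposite Pretriangulated

universe u

namespace Groth.Agent.Helper8.LOC

open DerivedCategory ChangeOfRings IsLocalRing

attribute [local instance] HasDerivedCategory.standard

section Local

variable {B : Type u} [CommRing B] [IsLocalRing B] [IsNoetherianRing B] (ν : Dual.D B)
  (hν : Dual.IsDualizing B ν) (hn : Dual.IsNormalized B ν)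
  (N : Type u) [AddCommGroup N] [Module B N] [Module.Finite B N]

include hν hn in
/-- `(S_k)` at the closed point in terms of the nonvanishing of `Ext` -/
theorem sk_local_iff [Nontrivial N] (k : ℕ) (d : ℕ) (hd : Module.supportDim B N = d) :
    min (k : WithBot ℕ∞) (Module.supportDim B N) ≤ ((LocCoh.depth B N : ℕ∞) : WithBot ℕ∞) ↔
      ∀ l l' : ℤ, l < l' → Nontrivial (Dual.inD B N ⟶ ν⟦-l⟧) →
        Nontrivial (Dual.inD B N ⟶ ν⟦-l'⟧) → (k : ℤ) + (l' - l) ≤ d := by
  obtain ⟨t, ht⟩ := Groth.Agent.Helper8.LC.exists_nat_depth_eq (R := B) N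
  obtain ⟨ht1, ht2⟩ := (Groth.Agent.Helper8.LD.depth_eq_iff ν hν hn N t).mp ht
  have hdn := Groth.Agent.Helper8.LD.nontrivial_hom_supportDim ν hν hn N d hd
  have hrange : ∀ l : ℤ, Nontrivial (Dual.inD B N ⟶ ν⟦-l⟧) → (t : ℤ) ≤ l ∧ l ≤ d := by
    intro l hl
    have h1 := range_of_nontrivial_hom ν hν hn N d (le_of_eq hd) (-l) hl
    refine ⟨?_, by omega⟩
    by_contra hcon
    obtain ⟨δ, hδ⟩ : ∃ δ : ℕ, l = (δ : ℤ) := ⟨l.toNat, by omega⟩
    subst hδ
    exact (not_subsingleton_iff_nontrivial.mpr hl) (ht1 δ (by omega))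
  have htd : t ≤ d := by
    have := (hrange t ht2).2
    omega
  rw [hd, ht]
  have hmin : min ((k : ℕ) : WithBot ℕ∞) ((d : ℕ) : WithBot ℕ∞) ≤ (((t : ℕ) : ℕ∞) : WithBot ℕ∞) ↔
      min k d ≤ t := by
    have h1 : min ((k : ℕ) : WithBot ℕ∞) ((d : ℕ) : WithBot ℕ∞) = ((min k d : ℕ) : WithBot ℕ∞) := by
      rcases le_total k d with h | h
      · rw [min_eq_left h, min_eq_left (by exact_mod_cast h)]
      · rw [min_eq_right h, min_eq_right (by exact_mod_cast h)]
    rw [h1]
    exact_mod_cast Iff.rfl
  rw [hmin]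
  constructor
  · intro h l l' hll hl hl'
    have h1 := hrange l hl
    have h2 := hrange l' hl'
    have h3 : k ≤ t := by
      rcases le_total k d with h' | h'
      · rwa [min_eq_left h'] at h
      · rw [min_eq_right h'] at h
        omega
    omega
  · intro h
    rcases eq_or_lt_of_le htd with h1 | h1
    · rw [h1]
      exact min_le_right _ _
    · have := h t d (by exact_mod_cast h1) ht2 hdn
      have h2 : k ≤ t := by omega
      exact le_trans (min_le_left _ _) h2

end Local

section Global

variable {A : Type u} [CommRing A] [IsNoetherianRing A] (ω : Dual.D A)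
  (hω : Dual.IsDualizing A ω)
  (M : Type u) [AddCommGroup M] [Module A M] [Module.Finite A M]

include hω in
/-- `(S_k)` at a prime `p` in terms of the supports of `Ext^i(M, ω)` -/
theorem sk_at_iff (p : PrimeSpectrum A) (k : ℕ) :
    min (k : WithBot ℕ∞) (Module.supportDim (Localization.AtPrime p.asIdeal)
        (LocalizedModule p.asIdeal.primeCompl M)) ≤
      ((LocCoh.depth (Localization.AtPrime p.asIdeal)
        (LocalizedModule p.asIdeal.primeCompl M) : ℕ∞) : WithBot ℕ∞) ↔
      ∀ (i j : ℤ), j < i →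
        p ∈ Module.support A (Dual.inD A M ⟶ ω⟦i⟧) → p ∈ Module.support A (Dual.inD A M ⟶ ω⟦j⟧) →
          (((k : ℤ) + i - j).toNat : WithBot ℕ∞) ≤
            Module.supportDim (Localization.AtPrime p.asIdeal)
              (LocalizedModule p.asIdeal.primeCompl M) := by
  have hB : IsNoetherianRing (Localization.AtPrime p.asIdeal) :=
    IsLocalization.isNoetherianRing p.asIdeal.primeCompl _ inferInstance
  by_cases hp : Subsingleton (LocalizedModule p.asIdeal.primeCompl M)
  · have h1 : Module.supportDim (Localization.AtPrime p.asIdeal)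
        (LocalizedModule p.asIdeal.primeCompl M) = ⊥ := Module.supportDim_eq_bot_of_subsingleton _ _
    constructor
    · intro _ i j _ hi _
      exact absurd hi (not_mem_support_hom ω hω M p
        (LocalizedModule.mkLinearMap p.asIdeal.primeCompl M) i)
    · intro _
      rw [h1, min_eq_right bot_le]
      exact bot_le
  · rw [not_subsingleton_iff_nontrivial] at hp
    obtain ⟨d, hd⟩ := Groth.Agent.Helper8.LC.exists_nat_supportDim_eq
      (R := Localization.AtPrime p.asIdeal) (LocalizedModule p.asIdeal.primeCompl M)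
    have hν := isDualizing_nuAt ω hω p.asIdeal
    have hn := isNormalized_nuAt ω hω p.asIdeal
    rw [sk_local_iff (nuAt ω hω p.asIdeal) hν hn (LocalizedModule p.asIdeal.primeCompl M) k d hd]
    have hmem : ∀ i : ℤ, p ∈ Module.support A (Dual.inD A M ⟶ ω⟦i⟧) ↔
        Nontrivial (Dual.inD (Localization.AtPrime p.asIdeal)
          (LocalizedModule p.asIdeal.primeCompl M) ⟶
            (nuAt ω hω p.asIdeal)⟦-(degAt ω hω p.asIdeal - i)⟧) := fun i =>
      mem_support_hom_iff_loc ω hω M p (LocalizedModule.mkLinearMap p.asIdeal.primeCompl M) i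
        _ (by omega)
    have hcast : ∀ i j : ℤ, ((((k : ℤ) + i - j).toNat : ℕ) : WithBot ℕ∞) ≤
        Module.supportDim (Localization.AtPrime p.asIdeal)
          (LocalizedModule p.asIdeal.primeCompl M) ↔ (k : ℤ) + i - j ≤ d := by
      intro i j
      rw [hd]
      have : (((k : ℤ) + i - j).toNat : WithBot ℕ∞) ≤ ((d : ℕ) : WithBot ℕ∞) ↔
          ((k : ℤ) + i - j).toNat ≤ d := by exact_mod_cast Iff.rfl
      rw [this]
      omega
    constructor
    · intro h i j hji hi hj
      rw [hcast]
      have := h (degAt ω hω p.asIdeal - i) (degAt ω hω p.asIdeal - j) (by omega)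
        ((hmem i).mp hi) ((hmem j).mp hj)
      omega
    · intro h l l' hll hl hl'
      have h1 : p ∈ Module.support A (Dual.inD A M ⟶ ω⟦degAt ω hω p.asIdeal - l⟧) := by
        rw [hmem]
        have : -(degAt ω hω p.asIdeal - (degAt ω hω p.asIdeal - l)) = -l := by omega
        rw [this]
        exact hl
      have h2 : p ∈ Module.support A (Dual.inD A M ⟶ ω⟦degAt ω hω p.asIdeal - l'⟧) := by
        rw [hmem]
        have : -(degAt ω hω p.asIdeal - (degAt ω hω p.asIdeal - l')) = -l' := by omega
        rw [this]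
        exact hl'
      have := (hcast _ _).mp (h _ _ (by omega) h1 h2)
      omega

include hω in
/-- **`(S_k)` via the codimension of `Supp E^i ∩ Supp E^j`** -/
theorem hasSk_iff (k : ℕ) :
    LocCoh.HasSk k A M ↔
      ∀ (i j : ℤ), j < i → ∀ p : PrimeSpectrum A,
        p ∈ Module.support A (Dual.inD A M ⟶ ω⟦i⟧) → p ∈ Module.support A (Dual.inD A M ⟶ ω⟦j⟧) →
          (((k : ℤ) + i - j).toNat : WithBot ℕ∞) ≤
            Module.supportDim (Localization.AtPrime p.asIdeal)
              (LocalizedModule p.asIdeal.primeCompl M) := by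
  constructor
  · intro h i j hji p hi hj
    exact (sk_at_iff ω hω M p k).mp (h p.asIdeal) i j hji hi hj
  · intro h p hp
    exact (sk_at_iff ω hω M ⟨p, hp⟩ k).mpr (fun i j hji hi hj => h i j hji ⟨p, hp⟩ hi hj)

end Global

end Groth.Agent.Helper8.LOC
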