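import Groth.Agent.Lib.Helper8.LOC1
import Groth.Agent.Lib.Helper8.LD7

/-!
# Localization of `Hom` in the derived category, part 2 (helper8)

`GoodMor S a g`: all `H^j(g)` are localizations at `S` and source and target are in `D^{≥ a}`.
For such `g` and `K` bounded with finite cohomology, `Hom(K, g)` is a localization at `S`
(in the `LI`/`LS` form).
-/

set_option autoImplicit false

open CategoryTheory CategoryTheory.Limits Opposite Pretriangulated

universe u

namespace Groth.Agent.Helper8.LOC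

open DerivedCategory

attribute [local instance] HasDerivedCategory.standard

variable {A : Type u} [CommRing A] (S : Submonoid A)

theorem isLocalizedModule_of_conj {M M' N N' : ModuleCat.{u} A} (f : M ⟶ N) (f' : M' ⟶ N')
    (e₁ : M ≅ M') (e₂ : N ≅ N') (h : f ≫ e₂.hom = e₁.hom ≫ f')
    (hf' : IsLocalizedModule S f'.hom) : IsLocalizedModule S f.hom := by
  have h1 : f = e₁.hom ≫ f' ≫ e₂.inv := by
    rw [← Category.assoc, ← h, Category.assoc, e₂.hom_inv_id, Category.comp_id]
  have h2 : f.hom = (e₂.symm.toLinearEquiv : N' ≃ₗ[A] N).toLinearMap ∘ₗ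
      (f'.hom ∘ₗ (e₁.toLinearEquiv : M ≃ₗ[A] M').toLinearMap) := by
    rw [h1]
    rfl
  rw [h2]
  infer_instance

/-- good morphisms -/
structure GoodMor (a : ℤ) {Z Z' : Dual.D A} (g : Z ⟶ Z') : Prop where
  loc : ∀ j : ℤ, IsLocalizedModule S ((homologyFunctor (ModuleCat.{u} A) j).map g).hom
  src : ∀ j : ℤ, j < a → IsZero ((homologyFunctor (ModuleCat.{u} A) j).obj Z)
  tgt : ∀ j : ℤ, j < a → IsZero ((homologyFunctor (ModuleCat.{u} A) j).obj Z')

variable {S}

theorem GoodMor.mk' (a : ℤ) {Z Z' : Dual.D A} (g : Z ⟶ Z')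
    (loc : ∀ j : ℤ, IsLocalizedModule S ((homologyFunctor (ModuleCat.{u} A) j).map g).hom)
    (src : ∀ j : ℤ, j < a → IsZero ((homologyFunctor (ModuleCat.{u} A) j).obj Z)) :
    GoodMor S a g := by
  refine ⟨loc, src, fun j hj => ?_⟩
  have := loc j
  have h1 : Subsingleton ((homologyFunctor (ModuleCat.{u} A) j).obj Z) :=
    ModuleCat.subsingleton_of_isZero (src j hj)
  have := IsLocalizedModule.subsingleton_of_subsingleton S
    ((homologyFunctor (ModuleCat.{u} A) j).map g).hom
  exact ModuleCat.isZero_of_subsingleton _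

theorem GoodMor.shift {a : ℤ} {Z Z' : Dual.D A} {g : Z ⟶ Z'} (hg : GoodMor S a g) (n : ℤ) :
    GoodMor S (a - n) (g⟦n⟧') := by
  refine ⟨fun j => ?_, fun j hj => ?_, fun j hj => ?_⟩
  · let e := (homologyFunctor (ModuleCat.{u} A) 0).shiftIso n j (n + j) rfl
    exact isLocalizedModule_of_conj S _ ((homologyFunctor (ModuleCat.{u} A) (n + j)).map g)
      (e.app Z) (e.app Z') (e.hom.naturality g) (hg.loc (n + j))
  · let e := (homologyFunctor (ModuleCat.{u} A) 0).shiftIso n j (n + j) rfl
    exact IsZero.of_iso (hg.src (n + j) (by omega)) (e.app Z)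
  · let e := (homologyFunctor (ModuleCat.{u} A) 0).shiftIso n j (n + j) rfl
    exact IsZero.of_iso (hg.tgt (n + j) (by omega)) (e.app Z')

/-- the base case `K = A[0]` -/
theorem LI_inD_self {a : ℤ} {Z Z' : Dual.D A} {g : Z ⟶ Z'} (hg : GoodMor S a g) :
    LI S (Dual.inD A A) g := by
  intro f hf
  have h1 := Groth.Agent.Helper8.LD.evHom_comp f g
  rw [hf, map_zero] at h1
  have := hg.loc 0
  obtain ⟨c, hc⟩ := (IsLocalizedModule.eq_zero_iff S
    ((homologyFunctor (ModuleCat.{u} A) 0).map g).hom).mp h1.symm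
  refine ⟨c.1, c.2, ?_⟩
  apply (Groth.Agent.Helper8.LD.evHom_bijective Z).1
  rw [map_smul, map_zero]
  exact hc

theorem LS_inD_self {a : ℤ} {Z Z' : Dual.D A} {g : Z ⟶ Z'} (hg : GoodMor S a g) :
    LS S (Dual.inD A A) g := by
  intro f'
  have := hg.loc 0
  obtain ⟨⟨x, c⟩, hx⟩ := IsLocalizedModule.surj S
    ((homologyFunctor (ModuleCat.{u} A) 0).map g).hom (Groth.Agent.Helper8.LD.evHom Z' f')
  obtain ⟨f, rfl⟩ := (Groth.Agent.Helper8.LD.evHom_bijective Z).2 x
  refine ⟨c.1, c.2, f, ?_⟩
  apply (Groth.Agent.Helper8.LD.evHom_bijective Z').1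
  rw [Groth.Agent.Helper8.LD.evHom_comp, map_smul]
  exact hx.symm

/-- vanishing of `Hom(M[0], Z)` for `Z ∈ D^{≥ 1}` -/
theorem hom_inD_eq_zero (M : Type u) [AddCommGroup M] [Module A M] (Z : Dual.D A)
    (hZ : ∀ j : ℤ, j < 1 → IsZero ((homologyFunctor (ModuleCat.{u} A) j).obj Z))
    (f : Dual.inD A M ⟶ Z) : f = 0 := by
  have h1 : Z.IsGE 1 := (isGE_iff Z 1).mpr hZ
  have h2 : (Dual.inD A M).IsLE 0 := by
    show ((singleFunctor (ModuleCat.{u} A) 0).obj (ModuleCat.of A M)).IsLE 0
    infer_instance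
  exact TStructure.t.zero_of_isLE_of_isGE f 0 1 (by omega) h2 h1

/-- the property proved by dévissage -/
def PP (S : Submonoid A) (K : Dual.D A) : Prop :=
  ∀ (a : ℤ) {Z Z' : Dual.D A} (g : Z ⟶ Z'), GoodMor S a g → LI S K g ∧ LS S K g

theorem PP_shift {K : Dual.D A} (h : PP S K) (n : ℤ) : PP S (K⟦n⟧) := by
  intro a Z Z' g hg
  obtain ⟨h1, h2⟩ := h _ _ (hg.shift (-n))
  exact ⟨LI_shift n h1, LS_shift n h2⟩

theorem PP_thickLike : Groth.Agent.Helper11.DC.ThickLike (PP S (A := A)) where
  iso e h := fun a _ _ g hg => ⟨LI_of_iso e (h a g hg).1, LS_of_iso e (h a g hg).2⟩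
  shift K n h := PP_shift h n
  ext T hT h1 h3 := by
    intro a Z Z' g hg
    have hT' := inv_rot_of_distTriang T hT
    have h1s := PP_shift h1 1
    have h3s := PP_shift (PP_shift h3 (-1)) 1
    exact ⟨LI_obj₃ T.invRotate hT' g (h1 a g hg).1 (h1s a g hg).2 (h3s a g hg).1,
      LS_obj₃ T.invRotate hT' g (h1 a g hg).2 (PP_shift h3 (-1) a g hg).1 (h3s a g hg).2⟩
  zero K hK := fun _ _ _ g _ => ⟨LI_of_isZero hK g, LS_of_isZero hK g⟩

theorem PP_inD_self : PP S (Dual.inD A A) :=
  fun _ _ _ _ hg => ⟨LI_inD_self hg, LS_inD_self hg⟩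

/-- the split exact sequence `A → A^{n+1} → A^n` -/
theorem isSES_fin (n : ℕ) : Groth.Agent.Helper8.LC.IsSES
    (LinearMap.single A (fun _ : Fin (n + 1) => A) 0)
    (LinearMap.funLeft A A (Fin.succ : Fin n → Fin (n + 1))) := by
  refine ⟨?_, ?_, ?_⟩
  · intro x y h
    have := congrFun h 0
    simpa using this
  · intro v
    constructor
    · intro h
      refine ⟨v 0, ?_⟩
      funext i
      refine Fin.cases ?_ (fun j => ?_) i
      · simp
      · have := congrFun h j
        simp only [LinearMap.funLeft_apply, Pi.zero_apply] at this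
        simp [this, Fin.succ_ne_zero]
    · rintro ⟨x, rfl⟩
      funext j
      simp [LinearMap.funLeft_apply, Fin.succ_ne_zero]
  · intro w
    refine ⟨Fin.cons 0 w, ?_⟩
    funext j
    simp [LinearMap.funLeft_apply]

theorem PP_fin (n : ℕ) : PP S (Dual.inD A (Fin n → A)) := by
  induction n with
  | zero =>
    apply PP_thickLike.zero
    exact Functor.map_isZero _ (ModuleCat.isZero_of_subsingleton _)
  | succ n ih =>
    exact PP_thickLike.ext _ (isSES_fin n).shortExact.singleTriangle_distinguished PP_inD_self ih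

section Noeth

variable [IsNoetherianRing A]

theorem PP_inD_aux (n : ℕ) : ∀ (a : ℤ) {Z Z' : Dual.D A} (g : Z ⟶ Z'), GoodMor S a g →
    1 - (n : ℤ) ≤ a → ∀ (M : Type u) [AddCommGroup M] [Module A M] [Module.Finite A M],
    LI S (Dual.inD A M) g ∧ LS S (Dual.inD A M) g := by
  induction n with
  | zero =>
    intro a Z Z' g hg ha M _ _ _
    constructor
    · intro f _
      exact ⟨1, S.one_mem, by
        rw [one_smul]
        exact hom_inD_eq_zero M Z (fun j hj => hg.src j (by omega)) f⟩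
    · intro f'
      refine ⟨1, S.one_mem, 0, ?_⟩
      rw [zero_comp, one_smul]
      exact (hom_inD_eq_zero M Z' (fun j hj => hg.tgt j (by omega)) f').symm
  | succ n ih =>
    intro a Z Z' g hg ha
    have hg1 : GoodMor S (a - (-1)) (g⟦(-1 : ℤ)⟧') := hg.shift (-1)
    have ih' := fun (M : Type u) [AddCommGroup M] [Module A M] [Module.Finite A M] =>
      ih _ _ hg1 (by push_cast at ha; omega) M
    have hLI : ∀ (M : Type u) [AddCommGroup M] [Module A M] [Module.Finite A M],
        LI S (Dual.inD A M) g := by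
      intro M _ _ _
      obtain ⟨m, π, hπ⟩ := Module.Finite.exists_fin' A M
      have : IsNoetherian A (Fin m → A) := isNoetherian_of_isNoetherianRing_of_finite A _
      have hses : Groth.Agent.Helper8.LC.IsSES (LinearMap.ker π).subtype π :=
        ⟨Submodule.injective_subtype _, LinearMap.exact_subtype_ker_map π, hπ⟩
      have hT := hses.shortExact.singleTriangle_distinguished
      exact LI_obj₃ _ hT g ((PP_fin m) a g hg).1 ((PP_shift (PP_fin m) 1) a g hg).2
        (LI_shift 1 (ih' (LinearMap.ker π)).1)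
    intro M _ _ _
    refine ⟨hLI M, ?_⟩
    obtain ⟨m, π, hπ⟩ := Module.Finite.exists_fin' A M
    have : IsNoetherian A (Fin m → A) := isNoetherian_of_isNoetherianRing_of_finite A _
    have hses : Groth.Agent.Helper8.LC.IsSES (LinearMap.ker π).subtype π :=
      ⟨Submodule.injective_subtype _, LinearMap.exact_subtype_ker_map π, hπ⟩
    have hT := hses.shortExact.singleTriangle_distinguished
    exact LS_obj₃ _ hT g ((PP_fin m) a g hg).2 (hLI (LinearMap.ker π))
      (LS_shift 1 (ih' (LinearMap.ker π)).2)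

theorem PP_inD (M : Type u) [AddCommGroup M] [Module A M] [Module.Finite A M] :
    PP S (Dual.inD A M) := by
  intro a Z Z' g hg
  exact PP_inD_aux (1 - a).toNat a g hg (by omega) M

/-- **localization of `Hom`**: for `K` bounded with finite cohomology -/
theorem PP_of_bounded (K : Dual.D A) (a b : ℤ)
    (hK : ∀ i : ℤ, (i < a ∨ b < i) → IsZero ((homologyFunctor (ModuleCat.{u} A) i).obj K))
    (hfin : ∀ i : ℤ, Module.Finite A (Dual.HD A K i)) : PP S K := by
  refine PP_thickLike.of_homology K a b hK (fun i => ?_)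
  have := hfin i
  exact PP_inD (Dual.HD A K i)

end Noeth

end Groth.Agent.Helper8.LOC
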