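import Groth.Agent.Lib.Helper8.LOC19
import Groth.Agent.Lib.Lead.LocLoc

/-!
# Openness of the `(S_k)` locus via the dualizing complex (helper8)
-/

set_option autoImplicit false

open CategoryTheory CategoryTheory.Limits Opposite Pretriangulated

universe u

namespace Groth.Agent.Helper8.LOC

open DerivedCategory ChangeOfRings IsLocalRing

attribute [local instance] HasDerivedCategory.standard

section Global

variable {A : Type u} [CommRing A] [IsNoetherianRing A] (ω : Dual.D A)
  (hω : Dual.IsDualizing A ω)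
  (M : Type u) [AddCommGroup M] [Module A M] [Module.Finite A M]

/-- the "bad" points for `(S_k)` with respect to the pair `(i, j)` -/
def BadSk (k : ℕ) (i j : ℤ) : Set (PrimeSpectrum A) :=
  {q | q ∈ Module.support A (Dual.inD A M ⟶ ω⟦i⟧) ∧ q ∈ Module.support A (Dual.inD A M ⟶ ω⟦j⟧) ∧
    ¬ ((((k : ℤ) + i - j).toNat : WithBot ℕ∞) ≤
      Module.supportDim (Localization.AtPrime q.asIdeal)
        (LocalizedModule q.asIdeal.primeCompl M))}

include hω in
theorem hasSkAt_iff_forall_le (k : ℕ) (p : PrimeSpectrum A) :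
    EGA4.HasSkAt k A M p.asIdeal ↔
      ∀ q : PrimeSpectrum A, q ≤ p → ∀ i j : ℤ, j < i → q ∉ BadSk ω M k i j := by
  rw [Groth.Agent.Lead.LocLoc.hasSkAt_iff]
  constructor
  · intro h q hqp i j hji hq
    have h1 := (sk_at_iff ω hω M q k).mp (h q.asIdeal hqp) i j hji hq.1 hq.2.1
    exact hq.2.2 h1
  · intro h q hq hqp
    refine (sk_at_iff ω hω M ⟨q, hq⟩ k).mpr (fun i j hji hi hj => ?_)
    by_contra hcon
    exact h ⟨q, hq⟩ hqp i j hji ⟨hi, hj, hcon⟩

include hω in
/-- the specialization closure of `BadSk` is closed -/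
theorem isClosed_badSk (k : ℕ) (i j : ℤ) :
    IsClosed {p : PrimeSpectrum A | ∃ q : PrimeSpectrum A, q ≤ p ∧ q ∈ BadSk ω M k i j} := by
  have hfin := fun i : ℤ => Groth.Agent.Helper8.LD.finite_hom_inD ω hω M i
  set I : Ideal A := Module.annihilator A (Dual.inD A M ⟶ ω⟦i⟧) ⊔
    Module.annihilator A (Dual.inD A M ⟶ ω⟦j⟧) with hI
  have hmemI : ∀ q : PrimeSpectrum A, I ≤ q.asIdeal ↔
      (q ∈ Module.support A (Dual.inD A M ⟶ ω⟦i⟧) ∧
        q ∈ Module.support A (Dual.inD A M ⟶ ω⟦j⟧)) := by
    intro q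
    rw [Module.mem_support_iff_of_finite, Module.mem_support_iff_of_finite, hI, sup_le_iff]
  let F : Set (PrimeSpectrum A) := {q | q ∈ BadSk ω M k i j ∧ q.asIdeal ∈ I.minimalPrimes}
  have hF : F.Finite := by
    have h1 : (PrimeSpectrum.asIdeal ⁻¹' I.minimalPrimes : Set (PrimeSpectrum A)).Finite :=
      Set.Finite.preimage (fun p _ q _ h => PrimeSpectrum.ext h)
        (Ideal.finite_minimalPrimes_of_isNoetherianRing A I)
    exact h1.subset (fun q hq => hq.2)
  have heq : {p : PrimeSpectrum A | ∃ q : PrimeSpectrum A, q ≤ p ∧ q ∈ BadSk ω M k i j} =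
      ⋃ q ∈ F, PrimeSpectrum.zeroLocus (q.asIdeal : Set A) := by
    ext p
    simp only [Set.mem_ofPred_eq, Set.mem_iUnion, PrimeSpectrum.mem_zeroLocus, exists_prop,
      SetLike.coe_subset_coe]
    constructor
    · rintro ⟨q, hqp, hq⟩
      have hIq : I ≤ q.asIdeal := (hmemI q).mpr ⟨hq.1, hq.2.1⟩
      obtain ⟨q₀, hq₀, hq₀q⟩ := Ideal.exists_minimalPrimes_le hIq
      have hq₀prime : q₀.IsPrime := hq₀.1.1
      have hsupp := (hmemI ⟨q₀, hq₀prime⟩).mp hq₀.1.2
      have hdim := Groth.Agent.Lead.LocLoc.supportDim_localizedModule_le_of_le M q₀ q.asIdeal hq₀q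
      refine ⟨⟨q₀, hq₀prime⟩, ⟨⟨hsupp.1, hsupp.2, fun hle => hq.2.2 (le_trans hle hdim)⟩, hq₀⟩,
        le_trans hq₀q hqp⟩
    · rintro ⟨q, ⟨hq, -⟩, hqp⟩
      exact ⟨q, hqp, hq⟩
  rw [heq]
  exact hF.isClosed_biUnion (fun q _ => PrimeSpectrum.isClosed_zeroLocus _)

include hω in
/-- **the `(S_k)` locus is open** -/
theorem isOpen_skLocus (k : ℕ) :
    IsOpen {p : PrimeSpectrum A | EGA4.HasSkAt k A M p.asIdeal} := by
  obtain ⟨a, b, hab⟩ := hω.finite_injective_dimension
  have hempty : ∀ i : ℤ, (i < a ∨ b < i) → Module.support A (Dual.inD A M ⟶ ω⟦i⟧) = ∅ := by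
    intro i hi
    haveI := hab M i hi
    exact Module.support_eq_empty
  have heq : {p : PrimeSpectrum A | EGA4.HasSkAt k A M p.asIdeal} =
      (⋃ x ∈ ((Finset.Icc a b ×ˢ Finset.Icc a b).filter (fun x : ℤ × ℤ => x.2 < x.1)),
        {p : PrimeSpectrum A | ∃ q : PrimeSpectrum A, q ≤ p ∧ q ∈ BadSk ω M k x.1 x.2})ᶜ := by
    ext p
    simp only [Set.mem_ofPred_eq, Set.mem_compl_iff, Set.mem_iUnion, Finset.mem_filter,
      Finset.mem_product, Finset.mem_Icc, exists_prop, Prod.exists, not_exists, not_and]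
    rw [hasSkAt_iff_forall_le ω hω M k p]
    constructor
    · intro h i j _ q hqp hq
      rename_i hx
      exact h q hqp i j hx.2 hq
    · intro h q hqp i j hji hq
      have hi : a ≤ i ∧ i ≤ b := by
        constructor
        · by_contra hcon
          have := hq.1
          rw [hempty i (Or.inl (by omega))] at this
          exact this
        · by_contra hcon
          have := hq.1
          rw [hempty i (Or.inr (by omega))] at this
          exact this
      have hj : a ≤ j ∧ j ≤ b := by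
        constructor
        · by_contra hcon
          have := hq.2.1
          rw [hempty j (Or.inl (by omega))] at this
          exact this
        · by_contra hcon
          have := hq.2.1
          rw [hempty j (Or.inr (by omega))] at this
          exact this
      exact h i j ⟨⟨hi, hj⟩, hji⟩ q hqp hq
  rw [heq]
  exact (isClosed_biUnion_finset (fun x _ => isClosed_badSk ω hω M k x.1 x.2)).isOpen_compl

end Global

end Groth.Agent.Helper8.LOC
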