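import Groth.Agent.Lib.Helper8.LOC21
import Groth.Agent.Lib.Helper8.DFin3
import Groth.Agent.Lib.Helper8.LD12

/-!
# The dualizing module `H^{-d}(ω)`: depth (helper8)
-/

set_option autoImplicit false

open CategoryTheory CategoryTheory.Limits Opposite Pretriangulated

universe u

namespace Groth.Agent.Helper8.LOC

open DerivedCategory ChangeOfRings IsLocalRing

attribute [local instance] HasDerivedCategory.standard

section Local

variable {B : Type u} [CommRing B] [IsLocalRing B] [IsNoetherianRing B] (ν : Dual.D B)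
  (hν : Dual.IsDualizing B ν) (hn : Dual.IsNormalized B ν)

include hν hn in
/-- a normalized dualizing complex has injective amplitude in `[a, 0]` -/
theorem exists_injAmp_of_normalized : ∃ a : ℤ, DRing.HasInjAmplitudeIn B a 0 ν := by
  obtain ⟨a, b, hab⟩ := hν.finite_injective_dimension
  refine ⟨a, Groth.Agent.Helper11.DC.injAmp_of_hom_quotient_eq_zero ν a 0 (fun I i hi g => ?_)⟩
  rcases hi with hi | hi
  · exact @Subsingleton.elim _ (hab (B ⧸ I) i (Or.inl hi)) g 0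
  · exact @Subsingleton.elim _
      (Groth.Agent.Helper8.LD.subsingleton_hom_of_pos ν hν hn (B ⧸ I) i hi) g 0

include hν hn in
/-- `H^j(ν) = 0` for `j < -dim B` -/
theorem isZero_homology_of_lt_neg_dim (r : ℕ) (hr : ringKrullDim B = r) (j : ℤ)
    (hj : j < -(r : ℤ)) : IsZero ((homologyFunctor (ModuleCat.{u} B) j).obj ν) := by
  have : Subsingleton (Dual.HD B ν j) := by
    by_contra hcon
    rw [not_subsingleton_iff_nontrivial] at hcon
    have h1 : Nontrivial (Dual.inD B B ⟶ ν⟦j⟧) :=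
      (Groth.Agent.Helper8.LD.homSelfEquiv ν j).toEquiv.nontrivial
    have := range_of_nontrivial_hom ν hν hn B r
      (by rw [Module.supportDim_self_eq_ringKrullDim, hr]) j h1
    omega
  exact ModuleCat.isZero_of_subsingleton _

include hν hn in
/-- **`Ext^{-δ}(K_B, ν) = 0` for `δ ≤ 1`, `δ < dim B`**, where `K_B = H^{-dim B}(ν)` -/
theorem subsingleton_hom_dualizingModule (r : ℕ) (hr : ringKrullDim B = r) (δ : ℕ) (hδ1 : δ ≤ 1)
    (hδr : δ < r) :
    Subsingleton (Dual.inD B (Dual.HD B ν (-(r : ℤ))) ⟶ ν⟦-(δ : ℤ)⟧) := by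
  obtain ⟨a, hamp⟩ := exists_injAmp_of_normalized ν hν hn
  obtain ⟨X, Y, f, g, h, hXle, hYge, hT, hfiso, -⟩ :=
    Groth.Agent.Helper8.DFin.exists_trunc_triangle ν (-(r : ℤ))
  have hXge : X.IsGE (-(r : ℤ)) := by
    rw [isGE_iff]
    intro j hj
    have := hfiso j (by omega)
    exact (isZero_homology_of_lt_neg_dim ν hν hn r hr j hj).of_iso
      (asIso ((homologyFunctor (ModuleCat.{u} B) j).map f))
  obtain ⟨K₀, ⟨e⟩⟩ := exists_iso_singleFunctor_obj_of_isGE_of_isLE X (-(r : ℤ))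
  have := hfiso (-(r : ℤ)) le_rfl
  let e' : K₀ ≅ (homologyFunctor (ModuleCat.{u} B) (-(r : ℤ))).obj ν :=
    ((singleFunctorCompHomologyFunctorIso (ModuleCat.{u} B) (-(r : ℤ))).app K₀).symm ≪≫
      (homologyFunctor (ModuleCat.{u} B) (-(r : ℤ))).mapIso e.symm ≪≫
      asIso ((homologyFunctor (ModuleCat.{u} B) (-(r : ℤ))).map f)
  let eX : (Dual.inD B (Dual.HD B ν (-(r : ℤ))))⟦(r : ℤ)⟧ ≅ X :=
    ((singleFunctors (ModuleCat.{u} B)).shiftIso (r : ℤ) (-(r : ℤ)) 0 (by omega)).app _ ≪≫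
      (singleFunctor (ModuleCat.{u} B) (-(r : ℤ))).mapIso e'.symm ≪≫ e.symm
  -- vanishing of `Hom(X, ν⟦s⟧)`
  have key : ∀ s : ℤ, 1 ≤ s → (r : ℤ) - 1 ≤ s → ∀ φ : X ⟶ ν⟦s⟧, φ = 0 := by
    intro s hs1 hs2 φ
    have hT' := inv_rot_of_distTriang _ hT
    haveI : (Y⟦(-1 : ℤ)⟧).IsGE (-(r : ℤ) + 2) :=
      TStructure.t.isGE_shift Y (-(r : ℤ) + 1) (-1) (-(r : ℤ) + 2) (by omega)
    have h0 : (Triangle.mk f g h).invRotate.mor₁ ≫ φ = 0 :=
      Groth.Agent.Helper8.DFin.hom_shift_eq_zero_of_isGE_of_injAmp (Y⟦(-1 : ℤ)⟧) ν a 0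
        (-(r : ℤ) + 2) s hamp (by omega) _
    obtain ⟨g', hg'⟩ := Triangle.yoneda_exact₂ _ hT' φ h0
    have hsub := hν.ext_self_subsingleton s (by omega)
    have hg0 : g' = 0 := @Subsingleton.elim (ν ⟶ ν⟦s⟧) hsub g' 0
    rw [hg', hg0]
    exact comp_zero
  refine ⟨fun x y => ?_⟩
  have hzero : ∀ ψ : Dual.inD B (Dual.HD B ν (-(r : ℤ))) ⟶ ν⟦-(δ : ℤ)⟧, ψ = 0 := by
    intro ψ
    apply (shiftFunctor (Dual.D B) (r : ℤ)).map_injective
    rw [Functor.map_zero]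
    let c : (ν⟦-(δ : ℤ)⟧)⟦(r : ℤ)⟧ ≅ ν⟦(r : ℤ) - δ⟧ :=
      ((shiftFunctorAdd' (Dual.D B) (-(δ : ℤ)) (r : ℤ) ((r : ℤ) - δ) (by omega)).app ν).symm
    have h1 := key ((r : ℤ) - δ) (by omega) (by omega)
      (eX.inv ≫ (shiftFunctor (Dual.D B) (r : ℤ)).map ψ ≫ c.hom)
    rw [← cancel_epi eX.inv, ← cancel_mono c.hom, Category.assoc, h1, comp_zero, zero_comp]
  rw [hzero x, hzero y]

end Local

end Groth.Agent.Helper8.LOC
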