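import Groth.Agent.Lib.Helper8.LOC22
import Groth.Agent.Lib.Helper8.LOC17
import Groth.Agent.Lib.Helper8.LCDepth

/-!
# The dualizing module `H^{-d}(ω)`: support and `(S_2)` (helper8)
-/

set_option autoImplicit false

open CategoryTheory CategoryTheory.Limits Opposite Pretriangulated

universe u

namespace Groth.Agent.Helper8.LOC

open DerivedCategory ChangeOfRings IsLocalRing

attribute [local instance] HasDerivedCategory.standard

section General

variable {A : Type u} [CommRing A] [IsNoetherianRing A] (ω : Dual.D A)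
  (hω : Dual.IsDualizing A ω)

/-- the localization of a cohomology module of `ω` in terms of the normalized complex `ν_p` -/
noncomputable def locHomologyIso (p : Ideal A) [p.IsPrime] (i j : ℤ)
    (hij : degAt ω hω p + j = i) :
    ModuleCat.of (Localization.AtPrime p) (LocalizedModule p.primeCompl (Dual.HD A ω i)) ≅
      (homologyFunctor (ModuleCat.{u} (Localization.AtPrime p)) j).obj (nuAt ω hω p) :=
  (homologyLdLocIso p.primeCompl ω i).symm ≪≫
    (((homologyFunctor (ModuleCat.{u} (Localization.AtPrime p)) 0).shiftIso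
      (degAt ω hω p) j i hij).app (omegaAt ω p)).symm

include hω in
/-- at a minimal prime `q` of the support of `M`, `q ∈ Supp Ext^{δ(q)}(M, ω)` -/
theorem mem_support_hom_degAt_of_minimal (M : Type u) [AddCommGroup M] [Module A M]
    [Module.Finite A M] (q : PrimeSpectrum A)
    (hq : q.asIdeal ∈ (Module.annihilator A M).minimalPrimes) :
    q ∈ Module.support A (Dual.inD A M ⟶ ω⟦degAt ω hω q.asIdeal⟧) := by
  have hB : IsNoetherianRing (Localization.AtPrime q.asIdeal) :=
    IsLocalization.isNoetherianRing q.asIdeal.primeCompl _ inferInstance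
  have hd := Groth.Agent.Helper8.LDual.supportDim_localized_of_mem_minimalPrimes M q.asIdeal hq
  have hqsupp : q ∈ Module.support A M := Module.mem_support_iff_of_finite.mpr hq.1.2
  haveI : Nontrivial (LocalizedModule q.asIdeal.primeCompl M) := Module.mem_support_iff.mp hqsupp
  have hnt := Groth.Agent.Helper8.LD.nontrivial_hom_supportDim (nuAt ω hω q.asIdeal)
    (isDualizing_nuAt ω hω q.asIdeal) (isNormalized_nuAt ω hω q.asIdeal)
    (LocalizedModule q.asIdeal.primeCompl M) 0 (by exact_mod_cast hd)
  exact (mem_support_hom_iff_loc ω hω M q (LocalizedModule.mkLinearMap q.asIdeal.primeCompl M)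
    _ (-((0 : ℕ) : ℤ)) (by simp)).mpr hnt

end General

section Local

variable {A : Type u} [CommRing A] [IsLocalRing A] [IsNoetherianRing A] (ω : Dual.D A)
  (hω : Dual.IsDualizing A ω) (hn : Dual.IsNormalized A ω)

include hω hn in
/-- `dim A_p + dim A/p ≤ dim A` -/
theorem dim_loc_le (p : PrimeSpectrum A) (d r : ℕ) (hd : ringKrullDim A = d)
    (hr : ringKrullDim (Localization.AtPrime p.asIdeal) = r) :
    (r : ℤ) ≤ d + degAt ω hω p.asIdeal := by
  have hB : IsNoetherianRing (Localization.AtPrime p.asIdeal) :=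
    IsLocalization.isNoetherianRing p.asIdeal.primeCompl _ inferInstance
  have hnt := Groth.Agent.Helper8.LD.nontrivial_hom_supportDim (nuAt ω hω p.asIdeal)
    (isDualizing_nuAt ω hω p.asIdeal) (isNormalized_nuAt ω hω p.asIdeal)
    (Localization.AtPrime p.asIdeal) r (by rw [Module.supportDim_self_eq_ringKrullDim, hr])
  have h1 : p ∈ Module.support A (Dual.inD A A ⟶ ω⟦degAt ω hω p.asIdeal - r⟧) :=
    (mem_support_hom_iff_loc ω hω A p (Algebra.linearMap A (Localization.AtPrime p.asIdeal))
      _ (-(r : ℤ)) (by omega)).mpr hnt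
  have h2 := (range_of_mem_support_hom ω hω hn A d
    (by rw [Module.supportDim_self_eq_ringKrullDim, hd]) _ p h1).1
  omega

include hω hn in
/-- **the dualizing module satisfies `(S_2)`** -/
theorem hasSk_two_dualizingModule (d : ℕ) (hd : ringKrullDim A = d) :
    LocCoh.HasSk 2 A (Dual.HD A ω (-(d : ℤ))) := by
  intro p hp
  have hB : IsNoetherianRing (Localization.AtPrime p) :=
    IsLocalization.isNoetherianRing p.primeCompl _ inferInstance
  haveI := hω.finite_cohomology (-(d : ℤ))
  by_cases hsub : Subsingleton (LocalizedModule p.primeCompl (Dual.HD A ω (-(d : ℤ))))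
  · rw [Module.supportDim_eq_bot_of_subsingleton, min_eq_right bot_le]
    exact bot_le
  rw [not_subsingleton_iff_nontrivial] at hsub
  -- the dimension of `A_p`
  obtain ⟨r, hr⟩ : ∃ r : ℕ, ringKrullDim (Localization.AtPrime p) = r := by
    obtain ⟨r, hr⟩ := Groth.Agent.Helper8.LC.exists_nat_supportDim_eq
      (R := Localization.AtPrime p) (Localization.AtPrime p)
    exact ⟨r, by rw [← Module.supportDim_self_eq_ringKrullDim, hr]⟩
  have hν := isDualizing_nuAt ω hω p
  have hnn := isNormalized_nuAt ω hω p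
  have h1 := dim_loc_le ω hω hn ⟨p, hp⟩ d r hd hr
  -- `-d - n = -r`
  have h2 : degAt ω hω p + -(r : ℤ) = -(d : ℤ) := by
    by_contra hne
    have hlt : -(d : ℤ) - degAt ω hω p < -(r : ℤ) := by
      have h1' : (r : ℤ) ≤ d + degAt ω hω p := h1
      omega
    have hz := isZero_homology_of_lt_neg_dim (nuAt ω hω p) hν hnn r hr _ hlt
    have hz' := hz.of_iso (locHomologyIso ω hω p (-(d : ℤ)) (-(d : ℤ) - degAt ω hω p) (by omega))
    have := ModuleCat.subsingleton_of_isZero hz'
    exact (not_subsingleton_iff_nontrivial.mpr hsub) this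
  let e := locHomologyIso ω hω p (-(d : ℤ)) (-(r : ℤ)) h2
  -- the depth estimate
  have hdepth : ((min 2 r : ℕ) : ℕ∞) ≤ LocCoh.depth (Localization.AtPrime p)
      (LocalizedModule p.primeCompl (Dual.HD A ω (-(d : ℤ)))) := by
    rw [LocCoh.depth, Groth.Agent.Helper8.LC.le_idealDepth_iff_H']
    intro i hi
    rw [Groth.Agent.Helper8.LD.subsingleton_H_iff (nuAt ω hω p) hν hnn]
    have h3 := subsingleton_hom_dualizingModule (nuAt ω hω p) hν hnn r hr i (by omega) (by omega)
    exact (Iso.homCongr ((DerivedCategory.singleFunctor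
      (ModuleCat.{u} (Localization.AtPrime p)) 0).mapIso e) (Iso.refl _)).subsingleton_congr.mpr h3
  have hdim : Module.supportDim (Localization.AtPrime p)
      (LocalizedModule p.primeCompl (Dual.HD A ω (-(d : ℤ)))) ≤ (r : WithBot ℕ∞) := by
    rw [← hr]
    exact Module.supportDim_le_ringKrullDim _ _
  have h4 : min (2 : WithBot ℕ∞) (Module.supportDim (Localization.AtPrime p)
      (LocalizedModule p.primeCompl (Dual.HD A ω (-(d : ℤ))))) ≤
        (((min 2 r : ℕ) : ℕ∞) : WithBot ℕ∞) := by
    have h5 : (((min 2 r : ℕ) : ℕ∞) : WithBot ℕ∞) = min (2 : WithBot ℕ∞) (r : WithBot ℕ∞) := by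
      rcases le_total 2 r with h | h
      · rw [min_eq_left h, min_eq_left (by exact_mod_cast h)]
        rfl
      · rw [min_eq_right h, min_eq_right (by exact_mod_cast h)]
        rfl
    rw [h5]
    exact min_le_min le_rfl hdim
  exact le_trans h4 (WithBot.coe_le_coe.mpr hdepth)

include hω hn in
/-- **the support of the dualizing module** -/
theorem support_dualizingModule (d : ℕ) (hd : ringKrullDim A = d) :
    Module.support A (Dual.HD A ω (-(d : ℤ))) =
      {p : PrimeSpectrum A | ∃ q ∈ minimalPrimes A, q ≤ p.asIdeal ∧ ringKrullDim (A ⧸ q) = d} := by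
  rw [← (Groth.Agent.Helper8.LD.homSelfEquiv ω (-(d : ℤ))).support_eq]
  have hann : Module.annihilator A A = ⊥ := Module.annihilator_eq_bot.mpr inferInstance
  have hdegle : ∀ q : PrimeSpectrum A, -(d : ℤ) ≤ degAt ω hω q.asIdeal := by
    intro q
    have h1 := ringKrullDim_quotient_eq_neg_degAt ω hω hn q
    have h2 := ringKrullDim_quotient_le q.asIdeal
    rw [h1, hd] at h2
    have h3 : (-degAt ω hω q.asIdeal).toNat ≤ d := by exact_mod_cast h2
    omega
  ext p
  simp only [Set.mem_ofPred_eq]
  constructor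
  · intro hp
    have hB : IsNoetherianRing (Localization.AtPrime p.asIdeal) :=
      IsLocalization.isNoetherianRing p.asIdeal.primeCompl _ inferInstance
    obtain ⟨r, hr⟩ : ∃ r : ℕ, ringKrullDim (Localization.AtPrime p.asIdeal) = r := by
      obtain ⟨r, hr⟩ := Groth.Agent.Helper8.LC.exists_nat_supportDim_eq
        (R := Localization.AtPrime p.asIdeal) (Localization.AtPrime p.asIdeal)
      exact ⟨r, by rw [← Module.supportDim_self_eq_ringKrullDim, hr]⟩
    rw [mem_support_hom_iff_loc ω hω A p (Algebra.linearMap A (Localization.AtPrime p.asIdeal))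
      (-(d : ℤ)) (-(d : ℤ) - degAt ω hω p.asIdeal) (by omega)] at hp
    have h1 := (range_of_nontrivial_hom (nuAt ω hω p.asIdeal) (isDualizing_nuAt ω hω p.asIdeal)
      (isNormalized_nuAt ω hω p.asIdeal) (Localization.AtPrime p.asIdeal) r
      (by rw [Module.supportDim_self_eq_ringKrullDim, hr]) _ hp).1
    -- a chain of length `r` ending at `p`
    have hht : Order.height p = (r : ℕ∞) := by
      rw [← PrimeSpectrum.height_eq_orderHeight]
      have h2 := IsLocalization.AtPrime.ringKrullDim_eq_height p.asIdeal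
        (Localization.AtPrime p.asIdeal)
      rw [hr] at h2
      exact_mod_cast h2.symm
    obtain ⟨s, hs1, hs2⟩ := Order.exists_series_of_height_eq_coe p hht
    have h3 := degAt_series ω hω s (Fin.last _)
    have h4 : s (Fin.last _) = p := hs1
    rw [h4] at h3
    simp only [Fin.val_last] at h3
    have hlen : (s.length : ℤ) = (r : ℤ) := by exact_mod_cast hs2
    have h5 := hdegle (s 0)
    have h6 : degAt ω hω (s 0).asIdeal = -(d : ℤ) := by omega
    refine ⟨(s 0).asIdeal, ?_, ?_, ?_⟩
    · refine ⟨⟨(s 0).isPrime, bot_le⟩, ?_⟩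
      rintro q' ⟨hq'prime, -⟩ hle
      by_contra hcon
      have hlt : (⟨q', hq'prime⟩ : PrimeSpectrum A) < s 0 := lt_of_le_not_ge hle hcon
      have h7 := degAt_lt_of_lt ω hω _ _ hlt
      have h8 := hdegle ⟨q', hq'prime⟩
      omega
    · have h7 : s 0 ≤ s (Fin.last _) := s.monotone (Fin.zero_le _)
      rw [h4] at h7
      exact h7
    · rw [ringKrullDim_quotient_eq_neg_degAt ω hω hn (s 0), h6]
      simp
  · rintro ⟨q, hq, hqp, hdq⟩
    have hqprime : q.IsPrime := hq.1.1
    let q' : PrimeSpectrum A := ⟨q, hqprime⟩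
    have h1 := ringKrullDim_quotient_eq_neg_degAt ω hω hn q'
    have h2 := degAt_nonpos ω hω hn q'
    have h3 : degAt ω hω q'.asIdeal = -(d : ℤ) := by
      have h4 : (((-degAt ω hω q'.asIdeal).toNat : ℕ) : WithBot ℕ∞) = ((d : ℕ) : WithBot ℕ∞) :=
        h1.symm.trans hdq
      have h5 : (-degAt ω hω q'.asIdeal).toNat = d := by exact_mod_cast h4
      omega
    have h6 := mem_support_hom_degAt_of_minimal ω hω A q' (by rw [hann]; exact hq)
    rw [h3] at h6
    exact Module.mem_support_mono hqp h6

end Local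

end Groth.Agent.Helper8.LOC
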