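import Groth.Agent.Lib.Helper8.LOC24
import Groth.Agent.Lib.Helper8.Gor5
import Groth.Agent.Lib.Helper8.LD8
import Groth.Agent.Lib.Helper1.InjHullLib

/-!
# The Gorenstein locus via the dualizing complex (helper8)
-/

set_option autoImplicit false

open CategoryTheory CategoryTheory.Limits Opposite Pretriangulated

universe u

namespace Groth.Agent.Helper8.LOC

open DerivedCategory ChangeOfRings IsLocalRing TensorProduct

attribute [local instance] HasDerivedCategory.standard

section Dual

variable {A : Type u} [CommRing A] [IsLocalRing A] [IsNoetherianRing A]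
  {E : Type u} [AddCommGroup E] [Module A E] {f : ResidueField A →ₗ[A] E}
  (hf : InjHull.IsInjectiveHull f)
  (N : Type u) [AddCommGroup N] [Module A N] [Module.Finite A N]

include hf in
/-- if the Matlis dual of a finite module is injective, the module is free -/
theorem free_of_injective_dual (h : Module.Injective A (N →ₗ[A] E)) : Module.Free A N := by
  haveI : Module.FinitePresentation A N := Module.finitePresentation_of_finite A N
  apply Module.free_of_maximalIdeal_rTensor_injective
  rw [injective_iff_map_eq_zero]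
  intro x hx
  by_contra hx0
  obtain ⟨φ, hφ⟩ := Groth.Agent.Helper8.LD.exists_dual_ne_zero hf x hx0
  let φ' : maximalIdeal A →ₗ[A] (N →ₗ[A] E) := TensorProduct.curry φ
  obtain ⟨Φ', hΦ'⟩ := Module.Injective.extension_property A (N →ₗ[A] E) (maximalIdeal A) A
    (maximalIdeal A).subtype Subtype.val_injective φ'
  let Φ : A ⊗[A] N →ₗ[A] E := TensorProduct.lift Φ'
  have hcomp : Φ ∘ₗ ((maximalIdeal A).subtype.rTensor N) = φ := by
    apply TensorProduct.ext'
    intro a n
    rw [LinearMap.comp_apply, LinearMap.rTensor_tmul, TensorProduct.lift.tmul]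
    have := LinearMap.congr_fun hΦ' a
    rw [LinearMap.comp_apply] at this
    rw [this]
    rfl
  apply hφ
  rw [← hcomp, LinearMap.comp_apply, hx, map_zero]

include hf in
/-- the Matlis dual of a finite free module is injective -/
theorem injective_dual_of_free [Module.Free A N] : Module.Injective A (N →ₗ[A] E) := by
  have hE := hf.isInjective
  let b := Module.Free.chooseBasis A N
  exact Groth.Agent.Helper1.injective_of_linearEquiv (b.constr A)
    (inferInstance : Module.Injective A (Module.Free.ChooseBasisIndex A N → E))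

end Dual

section Local

variable {B : Type u} [CommRing B] [IsLocalRing B] [IsNoetherianRing B] (ν : Dual.D B)
  (hν : Dual.IsDualizing B ν) (hn : Dual.IsNormalized B ν)

include hν hn in
/-- **Gorenstein ⇔ `ν` is a free module placed in one degree** -/
theorem gorenstein_iff_free :
    LocCoh.IsGorensteinLocalRing B ↔ ∃ d : ℕ,
      (∀ i : ℕ, i ≠ d → Subsingleton (Dual.HD B ν (-(i : ℤ)))) ∧
        Module.Free B (Dual.HD B ν (-(d : ℤ))) := by
  obtain ⟨E, _, _, f, hf⟩ := Groth.Agent.Helper1.exists_injectiveHull (R := B) (ResidueField B)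
  have hfin := fun i : ℤ => hν.finite_cohomology i
  have e : ∀ i : ℕ, Nonempty (LocCoh.H (maximalIdeal B) i B ≃ₗ[B]
      (Dual.HD B ν (-(i : ℤ)) →ₗ[B] E)) := by
    intro i
    obtain ⟨e1⟩ := Groth.Agent.Helper8.LD.nonempty_localDuality ν hν hn hf B i
    exact ⟨e1.trans (LinearEquiv.arrowCongr
      (Groth.Agent.Helper8.LD.homSelfEquiv ν (-(i : ℤ))) (LinearEquiv.refl B E))⟩
  rw [Groth.Agent.Helper8.Gor.gorenstein_iff_H]
  constructor
  · rintro ⟨d, hvan, hinj⟩
    refine ⟨d, fun i hi => ?_, ?_⟩
    · obtain ⟨ei⟩ := e i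
      have := hvan i hi
      have h1 : Subsingleton (Dual.HD B ν (-(i : ℤ)) →ₗ[B] E) := ei.symm.toEquiv.subsingleton
      exact (Groth.Agent.Helper8.LD.subsingleton_dual_iff' hf _).mp h1
    · obtain ⟨ed⟩ := e d
      haveI := hfin (-(d : ℤ))
      exact free_of_injective_dual hf _
        (Groth.Agent.Helper1.injective_of_linearEquiv ed hinj)
  · rintro ⟨d, hvan, hfree⟩
    refine ⟨d, fun i hi => ?_, ?_⟩
    · obtain ⟨ei⟩ := e i
      have := hvan i hi
      exact ei.toEquiv.subsingleton
    · obtain ⟨ed⟩ := e d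
      haveI := hfin (-(d : ℤ))
      exact Groth.Agent.Helper1.injective_of_linearEquiv ed.symm (injective_dual_of_free hf _)

include hν hn in
/-- `H^j(ν) = 0` for `j > 0` -/
theorem subsingleton_HD_of_pos (j : ℤ) (hj : 0 < j) : Subsingleton (Dual.HD B ν j) :=
  have := Groth.Agent.Helper8.LD.subsingleton_hom_of_pos ν hν hn B j hj
  (Groth.Agent.Helper8.LD.homSelfEquiv ν j).symm.toEquiv.subsingleton

end Local

section Global

variable {A : Type u} [CommRing A] [IsNoetherianRing A] (ω : Dual.D A)
  (hω : Dual.IsDualizing A ω)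

/-- the localization of a cohomology module of `ω`, as a linear equivalence -/
noncomputable def locHomologyEquiv (p : Ideal A) [p.IsPrime] (i j : ℤ)
    (hij : degAt ω hω p + j = i) :
    LocalizedModule p.primeCompl (Dual.HD A ω i) ≃ₗ[Localization.AtPrime p]
      Dual.HD (Localization.AtPrime p) (nuAt ω hω p) j :=
  (locHomologyIso ω hω p i j hij).toLinearEquiv

include hω in
/-- **Gorenstein at `p`** in terms of the cohomology modules of `ω` -/
theorem gorenstein_at_iff (p : PrimeSpectrum A) :
    LocCoh.IsGorensteinLocalRing (Localization.AtPrime p.asIdeal) ↔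
      ∃ i : ℤ, (∀ j : ℤ, j ≠ i → p ∉ Module.support A (Dual.HD A ω j)) ∧
        p ∈ Module.freeLocus A (Dual.HD A ω i) := by
  have hB : IsNoetherianRing (Localization.AtPrime p.asIdeal) :=
    IsLocalization.isNoetherianRing p.asIdeal.primeCompl _ inferInstance
  have hν := isDualizing_nuAt ω hω p.asIdeal
  have hnn := isNormalized_nuAt ω hω p.asIdeal
  have hsupp : ∀ i j : ℤ, degAt ω hω p.asIdeal + j = i →
      (p ∉ Module.support A (Dual.HD A ω i) ↔
        Subsingleton (Dual.HD (Localization.AtPrime p.asIdeal) (nuAt ω hω p.asIdeal) j)) := by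
    intro i j hij
    rw [Module.mem_support_iff, not_nontrivial_iff_subsingleton]
    exact (locHomologyEquiv ω hω p.asIdeal i j hij).toEquiv.subsingleton_congr
  rw [gorenstein_iff_free (nuAt ω hω p.asIdeal) hν hnn]
  constructor
  · rintro ⟨d, hvan, hfree⟩
    refine ⟨degAt ω hω p.asIdeal - d, fun j hj => ?_, ?_⟩
    · rw [hsupp j (j - degAt ω hω p.asIdeal) (by omega)]
      rcases lt_or_ge 0 (j - degAt ω hω p.asIdeal) with h | h
      · exact subsingleton_HD_of_pos _ hν hnn _ h
      · obtain ⟨k, hk⟩ : ∃ k : ℕ, j - degAt ω hω p.asIdeal = -(k : ℤ) :=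
          ⟨(-(j - degAt ω hω p.asIdeal)).toNat, by omega⟩
        rw [hk]
        exact hvan k (by omega)
    · rw [Module.mem_freeLocus]
      exact Module.Free.of_equiv
        (locHomologyEquiv ω hω p.asIdeal _ (-(d : ℤ)) (by omega)).symm
  · rintro ⟨i, hvan, hfree⟩
    obtain ⟨r, hr⟩ := Groth.Agent.Helper8.LC.exists_nat_supportDim_eq
      (R := Localization.AtPrime p.asIdeal) (Localization.AtPrime p.asIdeal)
    have hnt := Groth.Agent.Helper8.LD.nontrivial_hom_supportDim (nuAt ω hω p.asIdeal) hν hnn
      (Localization.AtPrime p.asIdeal) r hr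
    have hnt' : Nontrivial (Dual.HD (Localization.AtPrime p.asIdeal) (nuAt ω hω p.asIdeal)
        (-(r : ℤ))) :=
      (Groth.Agent.Helper8.LD.homSelfEquiv (nuAt ω hω p.asIdeal) _).symm.toEquiv.nontrivial
    have hir : i = degAt ω hω p.asIdeal - r := by
      by_contra hne
      have h1 := (hsupp (degAt ω hω p.asIdeal - r) (-(r : ℤ)) (by omega)).mp
        (hvan _ (Ne.symm hne))
      exact (not_subsingleton_iff_nontrivial.mpr hnt') h1
    refine ⟨r, fun k hk => ?_, ?_⟩
    · exact (hsupp (degAt ω hω p.asIdeal - k) (-(k : ℤ)) (by omega)).mp (hvan _ (by omega))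
    · rw [Module.mem_freeLocus] at hfree
      exact Module.Free.of_equiv
        (locHomologyEquiv ω hω p.asIdeal i (-(r : ℤ)) (by omega))

include hω in
/-- **the Gorenstein locus is open** -/
theorem isOpen_gorensteinLocus :
    IsOpen {p : PrimeSpectrum A |
      LocCoh.IsGorensteinLocalRing (Localization.AtPrime p.asIdeal)} := by
  obtain ⟨a, b, hab⟩ := exists_isZero_homology ω hω
  have hfin := fun i : ℤ => hω.finite_cohomology i
  have hclosed : ∀ j : ℤ, IsClosed (Module.support A (Dual.HD A ω j)) := by
    intro j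
    haveI := hfin j
    rw [Module.support_eq_zeroLocus]
    exact PrimeSpectrum.isClosed_zeroLocus _
  have hempty : ∀ j : ℤ, (j < a ∨ b < j) → Module.support A (Dual.HD A ω j) = ∅ := by
    intro j hj
    haveI : Subsingleton (Dual.HD A ω j) := ModuleCat.subsingleton_of_isZero (hab j hj)
    exact Module.support_eq_empty
  have heq : {p : PrimeSpectrum A |
      LocCoh.IsGorensteinLocalRing (Localization.AtPrime p.asIdeal)} =
      ⋃ i : ℤ, ((⋃ j ∈ (Finset.Icc a b).filter (fun j => j ≠ i),
        Module.support A (Dual.HD A ω j))ᶜ ∩ Module.freeLocus A (Dual.HD A ω i)) := by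
    ext p
    simp only [Set.mem_ofPred_eq, Set.mem_iUnion, Set.mem_inter_iff, Set.mem_compl_iff,
      Finset.mem_filter, Finset.mem_Icc, exists_prop, not_exists, not_and]
    rw [gorenstein_at_iff ω hω p]
    constructor
    · rintro ⟨i, hvan, hfree⟩
      exact ⟨i, fun j hj => hvan j hj.2, hfree⟩
    · rintro ⟨i, hvan, hfree⟩
      refine ⟨i, fun j hj hmem => ?_, hfree⟩
      by_cases hjab : a ≤ j ∧ j ≤ b
      · exact hvan j ⟨hjab, hj⟩ hmem
      · rw [hempty j (by omega)] at hmem
        exact hmem
  rw [heq]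
  refine isOpen_iUnion (fun i => IsOpen.inter ?_ ?_)
  · exact (isClosed_biUnion_finset (fun j _ => hclosed j)).isOpen_compl
  · haveI := hfin i
    haveI : Module.FinitePresentation A (Dual.HD A ω i) :=
      Module.finitePresentation_of_finite A _
    exact Module.isOpen_freeLocus

end Global

end Groth.Agent.Helper8.LOC
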