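import Groth.Agent.Lib.Helper8.LOC20
import Groth.Agent.Lib.Helper8.LOC21
import Groth.Agent.Lib.Lead.FinRes1
import Groth.Agent.Lib.Helper8.LD8

/-!
# Finiteness of the set of points of depth `k` which are not Cohen–Macaulay, for `(S_k)` modules
(helper8)
-/

set_option autoImplicit false

open CategoryTheory CategoryTheory.Limits Opposite Pretriangulated

universe u

namespace Groth.Agent.Helper8.LOC

open DerivedCategory ChangeOfRings IsLocalRing

attribute [local instance] HasDerivedCategory.standard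

section Global

variable {A : Type u} [CommRing A] [IsNoetherianRing A] (ω : Dual.D A)
  (hω : Dual.IsDualizing A ω)
  (M : Type u) [AddCommGroup M] [Module A M] [Module.Finite A M]

omit [IsNoetherianRing A] [Module.Finite A M] in
/-- the dimension of the localization strictly increases along the support -/
theorem supportDim_localizedModule_lt_of_lt (p' p : PrimeSpectrum A) (h : p' < p)
    (hp' : p' ∈ Module.support A M) (d : ℕ)
    (hd : Module.supportDim (Localization.AtPrime p.asIdeal)
      (LocalizedModule p.asIdeal.primeCompl M) = d) :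
    Module.supportDim (Localization.AtPrime p'.asIdeal)
      (LocalizedModule p'.asIdeal.primeCompl M) < d := by
  have hp : p ∈ Module.support A M := Module.mem_support_mono h.le hp'
  rw [Groth.Agent.Lead.FinRes.supportDim_localizedModule_eq_height p hp] at hd
  rw [Groth.Agent.Lead.FinRes.supportDim_localizedModule_eq_height p' hp']
  have hlt : (⟨p', hp'⟩ : Module.support A M) < ⟨p, hp⟩ := h
  have h1 : Order.height (⟨p, hp⟩ : Module.support A M) = (d : ℕ∞) := by
    exact_mod_cast hd
  have h2 : Order.height (⟨p', hp'⟩ : Module.support A M) < ⊤ := by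
    refine lt_of_le_of_lt (Order.height_mono hlt.le) ?_
    rw [h1]
    exact ENat.natCast_lt_top d
  have h3 := Order.height_strictMono hlt h2
  rw [h1] at h3
  exact_mod_cast h3

include hω in
/-- **finiteness of the points of depth `k` and dimension `> k`** for an `(S_k)` module -/
theorem finite_depth_eq_of_hasSk (k : ℕ) (hM : LocCoh.HasSk k A M) :
    Set.Finite {p : PrimeSpectrum A |
      LocCoh.depth (Localization.AtPrime p.asIdeal) (LocalizedModule p.asIdeal.primeCompl M) = k ∧
      (k : WithBot ℕ∞) < Module.supportDim (Localization.AtPrime p.asIdeal)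
        (LocalizedModule p.asIdeal.primeCompl M)} := by
  obtain ⟨a, b, hab⟩ := hω.finite_injective_dimension
  have hfin := fun i : ℤ => Groth.Agent.Helper8.LD.finite_hom_inD ω hω M i
  have hempty : ∀ i : ℤ, (i < a ∨ b < i) → Module.support A (Dual.inD A M ⟶ ω⟦i⟧) = ∅ := by
    intro i hi
    haveI := hab M i hi
    exact Module.support_eq_empty
  have hSk := (hasSk_iff ω hω M k).mp hM
  -- the finite set of generic points of the `Supp E^i ∩ Supp E^j`
  let I : ℤ × ℤ → Ideal A := fun x =>
    Module.annihilator A (Dual.inD A M ⟶ ω⟦x.1⟧) ⊔ Module.annihilator A (Dual.inD A M ⟶ ω⟦x.2⟧)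
  have hmemI : ∀ (x : ℤ × ℤ) (q : PrimeSpectrum A), I x ≤ q.asIdeal ↔
      (q ∈ Module.support A (Dual.inD A M ⟶ ω⟦x.1⟧) ∧
        q ∈ Module.support A (Dual.inD A M ⟶ ω⟦x.2⟧)) := by
    intro x q
    rw [Module.mem_support_iff_of_finite, Module.mem_support_iff_of_finite, sup_le_iff]
  let F : Set (PrimeSpectrum A) :=
    ⋃ x ∈ (Finset.Icc a b ×ˢ Finset.Icc a b), PrimeSpectrum.asIdeal ⁻¹' (I x).minimalPrimes
  have hF : F.Finite := by
    refine Set.Finite.biUnion (Finset.finite_toSet _) (fun x _ => ?_)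
    exact Set.Finite.preimage (fun p _ q _ h => PrimeSpectrum.ext h)
      (Ideal.finite_minimalPrimes_of_isNoetherianRing A (I x))
  refine hF.subset ?_
  rintro p ⟨hdepth, hdim⟩
  have hB : IsNoetherianRing (Localization.AtPrime p.asIdeal) :=
    IsLocalization.isNoetherianRing p.asIdeal.primeCompl _ inferInstance
  have hν := isDualizing_nuAt ω hω p.asIdeal
  have hnn := isNormalized_nuAt ω hω p.asIdeal
  -- `M_p ≠ 0`
  haveI hnt : Nontrivial (LocalizedModule p.asIdeal.primeCompl M) := by
    by_contra hcon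
    rw [not_nontrivial_iff_subsingleton] at hcon
    rw [Module.supportDim_eq_bot_of_subsingleton] at hdim
    exact not_lt_bot hdim
  obtain ⟨d, hd⟩ := Groth.Agent.Helper8.LC.exists_nat_supportDim_eq
    (R := Localization.AtPrime p.asIdeal) (LocalizedModule p.asIdeal.primeCompl M)
  have hkd : k < d := by
    rw [hd] at hdim
    exact_mod_cast hdim
  have h1 := ((Groth.Agent.Helper8.LD.depth_eq_iff (nuAt ω hω p.asIdeal) hν hnn
    (LocalizedModule p.asIdeal.primeCompl M) k).mp hdepth).2
  have h2 := Groth.Agent.Helper8.LD.nontrivial_hom_supportDim (nuAt ω hω p.asIdeal) hν hnn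
    (LocalizedModule p.asIdeal.primeCompl M) d hd
  set n := degAt ω hω p.asIdeal with hn
  have hi : p ∈ Module.support A (Dual.inD A M ⟶ ω⟦n - k⟧) :=
    (mem_support_hom_iff_loc ω hω M p (LocalizedModule.mkLinearMap p.asIdeal.primeCompl M)
      _ (-(k : ℤ)) (by omega)).mpr h1
  have hj : p ∈ Module.support A (Dual.inD A M ⟶ ω⟦n - d⟧) :=
    (mem_support_hom_iff_loc ω hω M p (LocalizedModule.mkLinearMap p.asIdeal.primeCompl M)
      _ (-(d : ℤ)) (by omega)).mpr h2
  have hpM : p ∈ Module.support A M := Module.mem_support_iff.mpr hnt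
  have hrange : ∀ i : ℤ, p ∈ Module.support A (Dual.inD A M ⟶ ω⟦i⟧) → a ≤ i ∧ i ≤ b := by
    intro i hi
    constructor
    · by_contra hcon
      rw [hempty i (Or.inl (by omega))] at hi
      exact hi
    · by_contra hcon
      rw [hempty i (Or.inr (by omega))] at hi
      exact hi
  simp only [F, Set.mem_iUnion, Set.mem_preimage, Finset.mem_product, Finset.mem_Icc,
    exists_prop, Prod.exists]
  refine ⟨n - k, n - d, ⟨hrange _ hi, hrange _ hj⟩, ?_⟩
  -- `p` is minimal over `I (n - k, n - d)`
  refine ⟨⟨p.isPrime, (hmemI (n - k, n - d) p).mpr ⟨hi, hj⟩⟩, ?_⟩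
  rintro q' ⟨hq'prime, hIq'⟩ hle
  by_contra hcon
  have hlt : (⟨q', hq'prime⟩ : PrimeSpectrum A) < p := lt_of_le_not_ge hle hcon
  obtain ⟨hi', hj'⟩ := (hmemI (n - k, n - d) ⟨q', hq'prime⟩).mp hIq'
  have h3 := hSk (n - k) (n - d) (by omega) ⟨q', hq'prime⟩ hi' hj'
  have hq'M : (⟨q', hq'prime⟩ : PrimeSpectrum A) ∈ Module.support A M :=
    mem_support_of_mem_support_hom ω hω M _ _ hi'
  have h4 := supportDim_localizedModule_lt_of_lt M ⟨q', hq'prime⟩ p hlt hq'M d hd
  have h5 : ((((k : ℤ) + (n - k) - (n - d)).toNat : ℕ) : WithBot ℕ∞) < ((d : ℕ) : WithBot ℕ∞) :=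
    lt_of_le_of_lt h3 h4
  have h6 : ((k : ℤ) + (n - k) - (n - d)).toNat < d := by exact_mod_cast h5
  omega

end Global

end Groth.Agent.Helper8.LOC
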