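import Groth.Agent.Lib.Helper8.LOC2

/-!
# Localization of `Hom` in the derived category, part 3: the derived adjunction (helper8)

For a flat ring map `φ : A → B`, the adjunction `L ⊣ Rd` between
`L = (extendScalars φ).mapDerivedCategory` and `Rd = (restrictScalars φ).mapDerivedCategory`,
and the semilinearity of both functors.
-/

set_option autoImplicit false

open CategoryTheory CategoryTheory.Limits Opposite Pretriangulated

universe u

namespace Groth.Agent.Helper8.LOC

open DerivedCategory

attribute [local instance] HasDerivedCategory.standard

section General

universe w₁ w₂ v₁ v₂ u₁ u₂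

variable {C₁ : Type u₁} [Category.{v₁} C₁] [Abelian C₁]
  {C₂ : Type u₂} [Category.{v₂} C₂] [Abelian C₂]
  {F : C₁ ⥤ C₂} {G : C₂ ⥤ C₁} [F.Additive] [G.Additive] (adj : F ⊣ G)

/-- An adjunction between additive functors induces an adjunction on complexes. -/
noncomputable def mapHCAdj {ι : Type*} (c : ComplexShape ι) :
    F.mapHomologicalComplex c ⊣ G.mapHomologicalComplex c :=
  Adjunction.mkOfUnitCounit
    { unit :=
        { app := fun K =>
            { f := fun i => adj.unit.app (K.X i)
              comm' := fun i j _ => by
                simp only [Functor.id_obj, Functor.comp_obj, Functor.mapHomologicalComplex_obj_d]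
                exact (adj.unit.naturality (K.d i j)).symm }
          naturality := fun K L φ => by
            ext i
            simp only [Functor.id_obj, Functor.comp_obj, Functor.id_map, HomologicalComplex.comp_f,
              Functor.comp_map, Functor.mapHomologicalComplex_map_f]
            exact adj.unit.naturality (φ.f i) }
      counit :=
        { app := fun K =>
            { f := fun i => adj.counit.app (K.X i)
              comm' := fun i j _ => by
                simp only [Functor.id_obj, Functor.comp_obj, Functor.mapHomologicalComplex_obj_d]
                exact (adj.counit.naturality (K.d i j)).symm }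
          naturality := fun K L φ => by
            ext i
            simp only [Functor.id_obj, Functor.comp_obj, Functor.id_map, HomologicalComplex.comp_f,
              Functor.comp_map, Functor.mapHomologicalComplex_map_f]
            exact adj.counit.naturality (φ.f i) }
      left_triangle := by
        ext K i
        simp
        exact adj.left_triangle_components (K.X i)
      right_triangle := by
        ext K i
        simp
        exact adj.right_triangle_components (K.X i) }

@[simp]
theorem mapHCAdj_unit_app_f {ι : Type*} (c : ComplexShape ι) (K : HomologicalComplex C₁ c)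
    (i : ι) : ((mapHCAdj adj c).unit.app K).f i = adj.unit.app (K.X i) := rfl

variable [HasDerivedCategory.{w₁} C₁] [HasDerivedCategory.{w₂} C₂]
  [PreservesFiniteLimits F] [PreservesFiniteColimits F]
  [PreservesFiniteLimits G] [PreservesFiniteColimits G]

/-- The induced adjunction on derived categories. -/
noncomputable def derivedAdj : F.mapDerivedCategory ⊣ G.mapDerivedCategory := by
  letI : CatCommSq (F.mapHomologicalComplex (ComplexShape.up ℤ)) DerivedCategory.Q
      DerivedCategory.Q F.mapDerivedCategory := ⟨F.mapDerivedCategoryFactors.symm⟩
  letI : CatCommSq (G.mapHomologicalComplex (ComplexShape.up ℤ)) DerivedCategory.Q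
      DerivedCategory.Q G.mapDerivedCategory := ⟨G.mapDerivedCategoryFactors.symm⟩
  exact (mapHCAdj adj (ComplexShape.up ℤ)).localization DerivedCategory.Q
    (HomologicalComplex.quasiIso C₁ (ComplexShape.up ℤ)) DerivedCategory.Q
    (HomologicalComplex.quasiIso C₂ (ComplexShape.up ℤ)) F.mapDerivedCategory G.mapDerivedCategory

theorem derivedAdj_unit_app (X : CochainComplex C₁ ℤ) :
    (derivedAdj adj).unit.app (DerivedCategory.Q.obj X) =
      DerivedCategory.Q.map ((mapHCAdj adj (ComplexShape.up ℤ)).unit.app X) ≫
        G.mapDerivedCategoryFactors.inv.app _ ≫
          G.mapDerivedCategory.map (F.mapDerivedCategoryFactors.inv.app X) := by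
  letI : CatCommSq (F.mapHomologicalComplex (ComplexShape.up ℤ)) DerivedCategory.Q
      DerivedCategory.Q F.mapDerivedCategory := ⟨F.mapDerivedCategoryFactors.symm⟩
  letI : CatCommSq (G.mapHomologicalComplex (ComplexShape.up ℤ)) DerivedCategory.Q
      DerivedCategory.Q G.mapDerivedCategory := ⟨G.mapDerivedCategoryFactors.symm⟩
  exact Adjunction.localization_unit_app (mapHCAdj adj (ComplexShape.up ℤ)) DerivedCategory.Q
    (HomologicalComplex.quasiIso C₁ (ComplexShape.up ℤ)) DerivedCategory.Q
    (HomologicalComplex.quasiIso C₂ (ComplexShape.up ℤ)) F.mapDerivedCategory
    G.mapDerivedCategory X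

end General

end Groth.Agent.Helper8.LOC
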