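import Groth.Agent.Lib.Helper8.LOC8
import Groth.Agent.Lib.Helper8.LD10

/-!
# Localization of dualizing complexes, part 9: the dimension function (helper8)
-/

set_option autoImplicit false

open CategoryTheory CategoryTheory.Limits Opposite Pretriangulated

universe u

namespace Groth.Agent.Helper8.LOC

open DerivedCategory ChangeOfRings IsLocalRing

attribute [local instance] HasDerivedCategory.standard

instance instPreservesFiniteLimitsEfunLocalization {A : Type u} [CommRing A] (S : Submonoid A) :
    PreservesFiniteLimits (Efun (algebraMap A (Localization S))) :=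
  preservesFiniteLimits_Efun S (Localization S)

section Residue

variable {A : Type u} [CommRing A] (p : Ideal A) [p.IsPrime]

theorem localized'_eq_maximalIdeal :
    Submodule.localized' (Localization.AtPrime p) p.primeCompl
      (Algebra.linearMap A (Localization.AtPrime p)) p =
      maximalIdeal (Localization.AtPrime p) := by
  rw [Ideal.localized'_eq_map, Localization.AtPrime.map_eq_maximalIdeal]

/-- the localization map `A/p → κ(p)` -/
noncomputable def resMap : (A ⧸ p) →ₗ[A]
    (Localization.AtPrime p ⧸ maximalIdeal (Localization.AtPrime p)) :=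
  ((Submodule.quotEquivOfEq _ _ (localized'_eq_maximalIdeal p)).restrictScalars A).toLinearMap ∘ₗ
    (Submodule.toLocalizedQuotient' (Localization.AtPrime p) p.primeCompl
      (Algebra.linearMap A (Localization.AtPrime p)) p)

instance : IsLocalizedModule p.primeCompl (resMap p) := by
  unfold resMap
  infer_instance

end Residue

section Shift

variable {A : Type u} [CommRing A]

/-- `(ω⟦n⟧)⟦i⟧ ≅ ω⟦k⟧` for `n + i = k` -/
noncomputable def shiftShiftIso' (ω : Dual.D A) (n i k : ℤ) (h : n + i = k) : (ω⟦n⟧)⟦i⟧ ≅ ω⟦k⟧ :=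
  ((shiftFunctorAdd' (Dual.D A) n i k h).app ω).symm

end Shift

section Deg

variable {A : Type u} [CommRing A] [IsNoetherianRing A] (ω : Dual.D A)
  (hω : Dual.IsDualizing A ω)

/-- the localization of `ω` at `p` -/
noncomputable abbrev omegaAt (p : Ideal A) [p.IsPrime] : Dual.D (Localization.AtPrime p) :=
  (Ld (algebraMap A (Localization.AtPrime p))).obj ω

include hω in
theorem isDualizing_omegaAt (p : Ideal A) [p.IsPrime] :
    Dual.IsDualizing (Localization.AtPrime p) (omegaAt ω p) :=
  isDualizing_Ld p.primeCompl (Localization.AtPrime p) ω hω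

include hω in
theorem exists_degAt (p : Ideal A) [p.IsPrime] :
    ∃ n : ℤ, ∀ i : ℤ, Nontrivial (Dual.inD (Localization.AtPrime p)
      (Localization.AtPrime p ⧸ maximalIdeal (Localization.AtPrime p)) ⟶ (omegaAt ω p)⟦i⟧) ↔
        i = n := by
  have hB : IsNoetherianRing (Localization.AtPrime p) :=
    IsLocalization.isNoetherianRing p.primeCompl _ inferInstance
  obtain ⟨n, h1, ⟨e⟩⟩ := Groth.Agent.Helper8.BiDual.exists_unique_ext_residue (omegaAt ω p)
    (isDualizing_omegaAt ω hω p) (maximalIdeal (Localization.AtPrime p))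
  refine ⟨n, fun i => ⟨fun h => ?_, fun h => ?_⟩⟩
  · by_contra hne
    have := h1 i hne
    exact (not_subsingleton_iff_nontrivial.mpr h) this
  · subst h
    haveI : Nontrivial (Localization.AtPrime p ⧸ maximalIdeal (Localization.AtPrime p)) :=
      Ideal.Quotient.nontrivial_iff.mpr (maximalIdeal.isMaximal _).ne_top
    exact e.toEquiv.nontrivial

/-- the unique degree `n` with `Hom(κ(p), ω_p⟦n⟧) ≠ 0` -/
noncomputable def degAt (p : Ideal A) [p.IsPrime] : ℤ := (exists_degAt ω hω p).choose

theorem degAt_spec (p : Ideal A) [p.IsPrime] (i : ℤ) :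
    Nontrivial (Dual.inD (Localization.AtPrime p)
      (Localization.AtPrime p ⧸ maximalIdeal (Localization.AtPrime p)) ⟶ (omegaAt ω p)⟦i⟧) ↔
        i = degAt ω hω p :=
  (exists_degAt ω hω p).choose_spec i

/-- the normalized dualizing complex at `p` -/
noncomputable abbrev nuAt (p : Ideal A) [p.IsPrime] : Dual.D (Localization.AtPrime p) :=
  (omegaAt ω p)⟦degAt ω hω p⟧

theorem isDualizing_nuAt (p : Ideal A) [p.IsPrime] :
    Dual.IsDualizing (Localization.AtPrime p) (nuAt ω hω p) :=
  isDualizing_shift _ (isDualizing_omegaAt ω hω p) _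

theorem isNormalized_nuAt (p : Ideal A) [p.IsPrime] :
    Dual.IsNormalized (Localization.AtPrime p) (nuAt ω hω p) := by
  intro i hi
  rw [← not_nontrivial_iff_subsingleton]
  intro hnt
  have h1 : Nontrivial (Dual.inD (Localization.AtPrime p)
      (Localization.AtPrime p ⧸ maximalIdeal (Localization.AtPrime p)) ⟶
        (omegaAt ω p)⟦degAt ω hω p + i⟧) := by
    have h2 : Nontrivial (Dual.inD (Localization.AtPrime p)
      (Localization.AtPrime p ⧸ maximalIdeal (Localization.AtPrime p)) ⟶
        (nuAt ω hω p)⟦i⟧) := hnt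
    rw [← not_subsingleton_iff_nontrivial] at h2 ⊢
    exact fun h => h2 ((subsingleton_hom_iff_of_iso (Iso.refl _)
      (shiftShiftIso' (omegaAt ω p) (degAt ω hω p) i _ rfl)).mpr h)
  have := (degAt_spec ω hω p _).mp h1
  omega

/-- localization of `Hom(M[0], ω⟦i⟧)` at a prime, in terms of the normalized complex -/
theorem subsingleton_locHom_nuAt_iff (p : Ideal A) [p.IsPrime] {M M' : Type u} [AddCommGroup M]
    [Module A M] [Module.Finite A M] [AddCommGroup M'] [Module A M']
    [Module (Localization.AtPrime p) M'] [IsScalarTower A (Localization.AtPrime p) M']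
    (f : M →ₗ[A] M') [IsLocalizedModule p.primeCompl f] (i j : ℤ) (hij : degAt ω hω p + j = i) :
    Subsingleton (LocalizedModule p.primeCompl (Dual.inD A M ⟶ ω⟦i⟧)) ↔
      Subsingleton (Dual.inD (Localization.AtPrime p) M' ⟶ (nuAt ω hω p)⟦j⟧) := by
  obtain ⟨a, b, hab⟩ := exists_isZero_homology ω hω
  rw [subsingleton_locHom_iff p.primeCompl (Localization.AtPrime p) f ω a
    (fun j hj => hab j (Or.inl hj)) i]
  exact (subsingleton_hom_iff_of_iso (Iso.refl _)
    (shiftShiftIso' (omegaAt ω p) (degAt ω hω p) j i hij)).symm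

/-- the defining property of `degAt` in terms of `A` -/
theorem nontrivial_locHom_quot_iff (p : Ideal A) [p.IsPrime] (i : ℤ) :
    Nontrivial (LocalizedModule p.primeCompl (Dual.inD A (A ⧸ p) ⟶ ω⟦i⟧)) ↔
      i = degAt ω hω p := by
  obtain ⟨a, b, hab⟩ := exists_isZero_homology ω hω
  rw [← degAt_spec ω hω p i, ← not_subsingleton_iff_nontrivial, ← not_subsingleton_iff_nontrivial,
    subsingleton_locHom_iff p.primeCompl (Localization.AtPrime p) (resMap p) ω a
      (fun j hj => hab j (Or.inl hj)) i]

end Deg

end Groth.Agent.Helper8.LOC
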