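import Groth.Agent.Lib.Helper8.Canon11
import Groth.Agent.Lib.Helper8.Gor3
import Groth.Agent.Lib.Helper8.LCAnn
import Groth.Agent.Lib.Lead.Bass3

/-!
# Ext vanishing for maximal Cohen–Macaulay modules over a Gorenstein local ring (helper8)
-/

set_option autoImplicit false
universe u

namespace Groth.Agent.Helper8.Link

open TensorProduct IsLocalRing CategoryTheory Groth.Agent.Helper8 Groth.Agent.Helper8.LC
open Groth.Agent.Helper8.Canon
open scoped Pointwise

section E

variable (A : Type u) [CommRing A] [LocCoh.IsGorensteinLocalRing A]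

/-- over a Gorenstein local ring `A` of dimension `n`, `Ext^j(N, A) = 0` for `j ≥ 1` and `N` a
finite module of depth `≥ n` -/
theorem ext_self_subsingleton_of_mcm (n : ℕ) (hn : ringKrullDim A = n)
    (N : Type u) [AddCommGroup N] [Module A N] [Module.Finite A N]
    (hdepth : (n : ℕ∞) ≤ LocCoh.depth A N) (j : ℕ) (hj : 1 ≤ j) :
    Subsingleton (Abelian.Ext (ModuleCat.of A N) (ModuleCat.of A A) j) := by
  haveI hCM := Groth.Agent.Lead.Depth.isCohenMacaulayLocalRing_of_isGorensteinLocalRing A
  have hhi := Groth.Agent.Lead.Depth.gorenstein_ext_residueField_subsingleton (R := A) n hn (n + 1)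
    le_rfl
  obtain ⟨g, hg⟩ := Groth.Agent.Helper8.Gor.exists_isInjectiveHull_H hn hhi
  let eK : (A →ₗ[A] LocCoh.H (maximalIdeal A) n A) ≃ₗ[A] LocCoh.H (maximalIdeal A) n A :=
    LinearMap.ringLmapEquivSelf A A _
  by_cases hjn : j ≤ n
  · obtain ⟨e⟩ := local_duality_aux hn hg eK j (n - j) (by omega) N
    have hlt : ((n - j : ℕ) : ℕ∞) < LocCoh.idealDepth (maximalIdeal A) N := by
      have h1 : ((n - j : ℕ) : ℕ∞) < (n : ℕ∞) := by
        exact_mod_cast (by omega : n - j < n)
      exact lt_of_lt_of_le h1 hdepth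
    haveI := H_subsingleton_of_lt_idealDepth (maximalIdeal A) N (n - j) hlt
    have h2 : Subsingleton (Abelian.Ext (ModuleCat.of A N) (ModuleCat.of A A) j →ₗ[A]
        LocCoh.H (maximalIdeal A) n A) := e.symm.toEquiv.subsingleton
    exact subsingleton_of_dual_subsingleton hg _ h2
  · haveI := hasInjectiveDimensionLT_canon hn hg eK
    exact HasInjectiveDimensionLT.subsingleton (ModuleCat.of A A) (n + 1) j (by omega) _

end E

end Groth.Agent.Helper8.Link
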