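import Groth.Agent.Lib.Helper8.Link1

/-!
# Ext vanishing modulo a regular sequence, extension of maps from an ideal (helper8)
-/

set_option autoImplicit false
universe u

namespace Groth.Agent.Helper8.Link

open IsLocalRing CategoryTheory Abelian Groth.Agent.Helper8 Groth.Agent.Helper8.LC
open Groth.Agent.Helper8.Canon
open scoped Pointwise

section Ek

variable {R : Type u} [CommRing R]

theorem ext_subsingleton_congr {X Y Y' : ModuleCat.{u} R} (e : Y ≅ Y') (j : ℕ)
    (h : Subsingleton (Ext X Y' j)) : Subsingleton (Ext X Y j) := by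
  have key : ∀ c : Ext X Y j, c = 0 := by
    intro c
    have h1 : c = (c.comp (Ext.mk₀ e.hom) (add_zero j)).comp (Ext.mk₀ e.inv) (add_zero j) := by
      rw [Ext.comp_assoc_of_third_deg_zero, Ext.mk₀_comp_mk₀, e.hom_inv_id, Ext.comp_mk₀_id]
    rw [h1, h.elim (c.comp _ _) 0, Ext.zero_comp]
  exact ⟨fun a b => by rw [key a, key b]⟩

theorem ext_subsingleton_of_linearEquiv {N T T' : Type u} [AddCommGroup N] [Module R N]
    [AddCommGroup T] [Module R T] [AddCommGroup T'] [Module R T'] (e : T ≃ₗ[R] T') (j : ℕ)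
    (h : Subsingleton (Ext (ModuleCat.of R N) (ModuleCat.of R T') j)) :
    Subsingleton (Ext (ModuleCat.of R N) (ModuleCat.of R T) j) :=
  ext_subsingleton_congr e.toModuleIso j h

/-- one step: vanishing of `Ext^j` and `Ext^{j+1}` into `T` gives vanishing of `Ext^j` into
`T/xT` for `x` regular on `T` -/
theorem ext_quotSMulTop_subsingleton (N T : Type u) [AddCommGroup N] [Module R N]
    [AddCommGroup T] [Module R T] (x : R) (hx : IsSMulRegular T x) (j : ℕ)
    (h0 : Subsingleton (Ext (ModuleCat.of R N) (ModuleCat.of R T) j))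
    (h1 : Subsingleton (Ext (ModuleCat.of R N) (ModuleCat.of R T) (j + 1))) :
    Subsingleton (Ext (ModuleCat.of R N) (ModuleCat.of R (QuotSMulTop x T)) j) := by
  have hx' : IsSMulRegular (ModuleCat.of R T) x := hx
  have hS := hx'.smulShortComplex_shortExact
  have key : ∀ a : Ext (ModuleCat.of R N) (ModuleCat.of R (QuotSMulTop x T)) j, a = 0 := by
    intro a
    have ha : a.comp hS.extClass (rfl : j + 1 = j + 1) = 0 := h1.elim _ _
    obtain ⟨x₂, hx₂⟩ := Ext.covariant_sequence_exact₃ (ModuleCat.of R N) hS a rfl ha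
    have : x₂ = 0 := h0.elim _ _
    rw [← hx₂, this]
    exact Ext.zero_comp (ModuleCat.of R N) j _ _ _
  exact ⟨fun a b => by rw [key a, key b]⟩

theorem ext_quot_subsingleton (N : Type u) [AddCommGroup N] [Module R N] :
    ∀ (rs : List R) (T : Type u) [AddCommGroup T] [Module R T],
    RingTheory.Sequence.IsWeaklyRegular T rs →
    (∀ j, 1 ≤ j → Subsingleton (Ext (ModuleCat.of R N) (ModuleCat.of R T) j)) →
    ∀ j, 1 ≤ j → Subsingleton (Ext (ModuleCat.of R N)
      (ModuleCat.of R (T ⧸ (Ideal.ofList rs • ⊤ : Submodule R T))) j) := by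
  intro rs
  induction rs with
  | nil =>
    intro T _ _ _ hvan j hj
    have h0 : (Ideal.ofList ([] : List R) • ⊤ : Submodule R T) = ⊥ := by
      rw [Ideal.ofList_nil, Submodule.bot_smul]
    exact ext_subsingleton_of_linearEquiv (Submodule.quotEquivOfEqBot _ h0) j (hvan j hj)
  | cons x rs ih =>
    intro T _ _ hreg hvan j hj
    rw [RingTheory.Sequence.isWeaklyRegular_cons_iff] at hreg
    have hvan' : ∀ j, 1 ≤ j →
        Subsingleton (Ext (ModuleCat.of R N) (ModuleCat.of R (QuotSMulTop x T)) j) :=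
      fun j hj => ext_quotSMulTop_subsingleton N T x hreg.1 j (hvan j hj)
        (hvan (j + 1) (by omega))
    have h2 := ih (QuotSMulTop x T) hreg.2 hvan' j hj
    exact ext_subsingleton_of_linearEquiv
      (Submodule.quotOfListConsSMulTopEquivQuotSMulTopInner T x rs) j h2

end Ek

section S

variable {A : Type u} [CommRing A]

/-- a map from an ideal `I` into `T` is given by an element of `T` when `Ext¹(A/I, T) = 0` -/
theorem exists_eq_smul_of_ext_one (I : Ideal A) (T : Type u) [AddCommGroup T] [Module A T]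
    (h : Subsingleton (Ext (ModuleCat.of A (A ⧸ I)) (ModuleCat.of A T) 1))
    (ψ : I →ₗ[A] T) : ∃ t : T, ∀ i : I, ψ i = (i : A) • t := by
  have hS : IsSES (Submodule.subtype I) (Submodule.mkQ I) := isSES_subtype_mkQ I
  have hex := homδ_exact hS T
  obtain ⟨v, hv⟩ := (hex ψ).mp (h.elim _ _)
  refine ⟨v 1, fun i => ?_⟩
  rw [← hv]
  change v (i : A) = _
  rw [← map_smul, smul_eq_mul, mul_one]

end S

end Groth.Agent.Helper8.Link
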