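import Groth.Agent.Lib.Helper8.Link2

/-!
# Regular sequences on `A/(0:I)` (helper8)

If every map from `I` into `A/(r_1,…,r_k)` is multiplication by an element, a weakly regular
sequence on `A` is weakly regular on `A/(0 : I)`.
-/

set_option autoImplicit false
universe u

namespace Groth.Agent.Helper8.Link

open IsLocalRing CategoryTheory Groth.Agent.Helper8
open scoped Pointwise

section L

variable {A : Type u} [CommRing A]

theorem factor_through_smul {K X : Type u} [AddCommGroup K] [Module A K] [AddCommGroup X]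
    [Module A X] (r : A) (hr : IsSMulRegular K r) (g : X →ₗ[A] K)
    (hg : ∀ x, ∃ y, g x = r • y) : ∃ g' : X →ₗ[A] K, ∀ x, g x = r • g' x := by
  have hinj : Function.Injective (r • (LinearMap.id : K →ₗ[A] K)) := hr
  let e := LinearEquiv.ofInjective (r • (LinearMap.id : K →ₗ[A] K)) hinj
  have hmem : ∀ x, g x ∈ LinearMap.range (r • (LinearMap.id : K →ₗ[A] K)) := by
    intro x
    obtain ⟨y, hy⟩ := hg x
    exact ⟨y, hy.symm⟩
  refine ⟨e.symm.toLinearMap ∘ₗ g.codRestrict _ hmem, fun x => ?_⟩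
  have h1 : (e (e.symm (g.codRestrict _ hmem x)) : K) = g x := by
    rw [LinearEquiv.apply_symm_apply]; rfl
  rw [← h1]
  rfl

variable (I : Ideal A) (rs : List A)

/-- the colon ideal `((r_1,…,r_k) : I)` equals `(r_1,…,r_k) + (0 : I)` -/
theorem colon_le (hreg : RingTheory.Sequence.IsWeaklyRegular A rs)
    (hS : ∀ k, ∀ ψ : I →ₗ[A] (A ⧸ (Ideal.ofList (rs.take k) • ⊤ : Submodule A A)),
      ∃ t, ∀ i : I, ψ i = (i : A) • t) :
    ∀ k, k ≤ rs.length → ∀ a : A, (∀ i ∈ I, a * i ∈ Ideal.ofList (rs.take k)) →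
      a ∈ Ideal.ofList (rs.take k) ⊔ Submodule.annihilator I := by
  intro k
  induction k with
  | zero =>
    intro _ a ha
    refine Submodule.mem_sup_right ?_
    rw [Submodule.mem_annihilator]
    intro i hi
    have := ha i hi
    rw [List.take_zero, Ideal.ofList_nil] at this
    exact this
  | succ k ih =>
    intro hk a ha
    have hk' : k < rs.length := hk
    set 𝔞 : Ideal A := Ideal.ofList (rs.take k) with h𝔞
    have htake : Ideal.ofList (rs.take (k + 1)) = 𝔞 ⊔ Ideal.span {rs[k]} := by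
      rw [List.take_succ_eq_append_getElem hk', Ideal.ofList_append, Ideal.ofList_singleton]
    rw [htake] at ha ⊢
    have htop : (𝔞 • ⊤ : Submodule A A) = 𝔞 := Ideal.mul_top _
    have hr : IsSMulRegular (A ⧸ (𝔞 • ⊤ : Submodule A A)) rs[k] :=
      hreg.regular_mod_prev k hk'
    -- the map `i ↦ [a i]`
    let μ : I →ₗ[A] (A ⧸ (𝔞 • ⊤ : Submodule A A)) :=
      (Submodule.mkQ (𝔞 • ⊤ : Submodule A A)).comp ((LinearMap.lsmul A A a).comp I.subtype)
    have hμ : ∀ x : I, ∃ y, μ x = rs[k] • y := by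
      intro x
      obtain ⟨u, hu, w, hw, huw⟩ := Submodule.mem_sup.mp (ha x x.2)
      obtain ⟨c, rfl⟩ := Ideal.mem_span_singleton'.mp hw
      refine ⟨Submodule.Quotient.mk c, ?_⟩
      change Submodule.Quotient.mk (a * (x : A)) = _
      rw [← huw, Submodule.Quotient.mk_add, ← Submodule.Quotient.mk_smul, smul_eq_mul,
        mul_comm c]
      have h0 : (Submodule.Quotient.mk u : A ⧸ (𝔞 • ⊤ : Submodule A A)) = 0 := by
        rw [Submodule.Quotient.mk_eq_zero, htop]
        exact hu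
      rw [h0, zero_add]
      rfl
    obtain ⟨ψ, hψ⟩ := factor_through_smul rs[k] hr μ hμ
    obtain ⟨t, ht⟩ := hS k ψ
    obtain ⟨b, rfl⟩ := Submodule.Quotient.mk_surjective _ t
    have hab : a - rs[k] * b ∈ 𝔞 ⊔ Submodule.annihilator I := by
      refine ih (le_of_lt hk') _ ?_
      intro i hi
      have h1 := hψ ⟨i, hi⟩
      rw [ht ⟨i, hi⟩] at h1
      change Submodule.Quotient.mk (a * i) = rs[k] • (i • Submodule.Quotient.mk b) at h1
      rw [← Submodule.Quotient.mk_smul, ← Submodule.Quotient.mk_smul, Submodule.Quotient.eq,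
        htop] at h1
      have h2 : (a - rs[k] * b) * i = a * i - rs[k] • i • b := by
        simp only [smul_eq_mul]; ring
      rw [h2]
      exact h1
    have h3 : a = (a - rs[k] * b) + rs[k] * b := by ring
    rw [h3]
    refine Submodule.add_mem _ ?_ ?_
    · exact (sup_le_sup_right le_sup_left _ : 𝔞 ⊔ Submodule.annihilator I ≤ _) hab
    · refine Submodule.mem_sup_left (Submodule.mem_sup_right ?_)
      exact Ideal.mul_mem_right _ _ (Ideal.subset_span rfl)

/-- membership in `𝔞 • ⊤ ⊆ A/J` -/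
theorem mk_mem_smul_top_iff (J 𝔞 : Ideal A) (a : A) :
    (Ideal.Quotient.mk J a) ∈ (𝔞 • ⊤ : Submodule A (A ⧸ J)) ↔ a ∈ 𝔞 ⊔ J := by
  constructor
  · intro h
    have key : ∀ z ∈ (𝔞 • ⊤ : Submodule A (A ⧸ J)), ∃ a' ∈ 𝔞, Ideal.Quotient.mk J a' = z := by
      intro z hz
      refine Submodule.smul_induction_on hz ?_ ?_
      · intro u hu y _
        obtain ⟨y', rfl⟩ := Ideal.Quotient.mk_surjective y
        exact ⟨u * y', Ideal.mul_mem_right _ _ hu, by rw [map_mul]; rfl⟩
      · rintro x y ⟨x', hx', rfl⟩ ⟨y', hy', rfl⟩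
        exact ⟨x' + y', Ideal.add_mem _ hx' hy', map_add _ _ _⟩
    obtain ⟨a', ha', haa⟩ := key _ h
    have h1 : a - a' ∈ J := by
      rw [← Ideal.Quotient.eq, haa]
    have h2 : a = a' + (a - a') := by ring
    rw [h2]
    exact Submodule.add_mem _ (Submodule.mem_sup_left ha') (Submodule.mem_sup_right h1)
  · intro h
    obtain ⟨u, hu, w, hw, rfl⟩ := Submodule.mem_sup.mp h
    have h1 : Ideal.Quotient.mk J (u + w) = u • (Ideal.Quotient.mk J 1) := by
      rw [map_add, Ideal.Quotient.eq_zero_iff_mem.mpr hw, add_zero]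
      change _ = Ideal.Quotient.mk J (u • 1)
      rw [smul_eq_mul, mul_one]
    rw [h1]
    exact Submodule.smul_mem_smul hu Submodule.mem_top

/-- a weakly regular sequence on `A` is weakly regular on `A/(0 : I)` -/
theorem isWeaklyRegular_quot_annihilator (hreg : RingTheory.Sequence.IsWeaklyRegular A rs)
    (hS : ∀ k, ∀ ψ : I →ₗ[A] (A ⧸ (Ideal.ofList (rs.take k) • ⊤ : Submodule A A)),
      ∃ t, ∀ i : I, ψ i = (i : A) • t) :
    RingTheory.Sequence.IsWeaklyRegular (A ⧸ (Submodule.annihilator I : Ideal A)) rs := by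
  refine ⟨fun k hk => ?_⟩
  set J : Ideal A := Submodule.annihilator I with hJ
  set 𝔞 : Ideal A := Ideal.ofList (rs.take k) with h𝔞
  rw [isSMulRegular_quotient_iff_mem_of_smul_mem]
  intro x hx
  obtain ⟨a, rfl⟩ := Ideal.Quotient.mk_surjective x
  have hx' : Ideal.Quotient.mk J (rs[k] * a) ∈ (𝔞 • ⊤ : Submodule A (A ⧸ J)) := by
    have : rs[k] • (Ideal.Quotient.mk J a) = Ideal.Quotient.mk J (rs[k] * a) := by
      rw [map_mul]; rfl
    rw [← this]
    exact hx
  rw [mk_mem_smul_top_iff] at hx' ⊢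
  have htop : (𝔞 • ⊤ : Submodule A A) = 𝔞 := Ideal.mul_top _
  have hr : IsSMulRegular (A ⧸ (𝔞 • ⊤ : Submodule A A)) rs[k] := hreg.regular_mod_prev k hk
  rw [isSMulRegular_quotient_iff_mem_of_smul_mem] at hr
  refine colon_le I rs hreg hS k (le_of_lt hk) a ?_
  intro i hi
  -- `r a i ∈ 𝔞`
  obtain ⟨u, hu, w, hw, huw⟩ := Submodule.mem_sup.mp hx'
  have hwi : w * i = 0 := by
    have := (Submodule.mem_annihilator.mp hw) i hi
    simpa [smul_eq_mul] using this
  have h1 : rs[k] • (a * i) ∈ (𝔞 • ⊤ : Submodule A A) := by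
    rw [htop, smul_eq_mul]
    have h2 : rs[k] * (a * i) = u * i := by
      have : rs[k] * (a * i) = (rs[k] * a) * i := by ring
      rw [this, ← huw, add_mul, hwi, add_zero]
    rw [h2]
    exact Ideal.mul_mem_right _ _ hu
  have h3 := hr (a * i) h1
  rw [htop] at h3
  exact h3

end L

end Groth.Agent.Helper8.Link
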