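import Groth.Agent.Lib.Helper8.Link3
import Groth.Agent.Lib.Lead.Miracle
import Groth.Agent.Lib.Lead.Depth21

/-!
# Linkage over a regular base: flatness of `A/I` and `A/(0:I)` (helper8)
-/

set_option autoImplicit false
set_option linter.style.haveILetI false
universe u

namespace Groth.Agent.Helper8.Link

open TensorProduct IsLocalRing CategoryTheory RingTheory.Sequence Groth.Agent.Helper8
open scoped Pointwise

section F

/-- a finite module over a local algebra over a regular local ring `R` on which a generating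
sequence of `m_R` is weakly regular is flat over `R` -/
theorem flat_of_isWeaklyRegular (R A : Type u) [CommRing R] [CommRing A]
    [IsRegularLocalRing R] [IsNoetherianRing A] [IsLocalRing A] [Algebra R A]
    [IsLocalHom (algebraMap R A)]
    (M : Type u) [AddCommGroup M] [Module A M] [Module R M] [IsScalarTower R A M]
    [Module.Finite A M] (xs : List R) (hI : Ideal.ofList xs = maximalIdeal R)
    (hreg : IsWeaklyRegular M xs) : Module.Flat R M := by
  have H1 : Function.Injective ((Ideal.ofList xs).subtype.rTensor M) :=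
    Groth.Agent.Lead.NFReg.rTensor_injective_of_isWeaklyRegular xs hreg
  rw [hI] at H1
  letI : Field (R ⧸ maximalIdeal R) := Ideal.Quotient.field (maximalIdeal R)
  haveI : Module.Flat (R ⧸ maximalIdeal R) ((R ⧸ maximalIdeal R) ⊗[R] M) := inferInstance
  refine Groth.Agent.Helper1.flat_of_flat_quotient_pow (R := R) (S := A) (M := M)
    (maximalIdeal R) ?_
    (fun n _ => Groth.Agent.Helper1.flat_quotient_pow (maximalIdeal R) H1 n)
  rw [IsLocalRing.jacobson_eq_maximalIdeal ⊥ bot_ne_top]
  exact IsLocalRing.map_maximalIdeal_le (algebraMap R A)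

end F

section Main

variable (R A : Type u) [CommRing R] [IsRegularLocalRing R] [CommRing A] [Algebra R A]
  [LocCoh.IsGorensteinLocalRing A] [IsLocalHom (algebraMap R A)] [Module.Flat R A]

theorem main (I : Ideal A) (hI : ringKrullDim (A ⧸ I) = ringKrullDim A)
    [hB : LocCoh.IsCohenMacaulayLocalRing (A ⧸ I)] :
    Module.Flat R (A ⧸ I) ∧ Module.Flat R (A ⧸ (Submodule.annihilator I : Ideal A)) := by
  -- generators of the maximal ideal of `R`
  obtain ⟨x, hx⟩ := Groth.Agent.Lead.Hom.exists_generators_maximalIdeal (R := R)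
  obtain ⟨xs, hxs⟩ : ∃ xs : List R, xs = List.ofFn x := ⟨_, rfl⟩
  have hIxs : Ideal.ofList xs = maximalIdeal R := by
    rw [hxs]
    refine Eq.trans ?_ hx
    unfold Ideal.ofList
    congr 1
    ext z
    simp only [Set.mem_setOf_eq, List.mem_ofFn, Set.mem_range]
  have hregR : IsWeaklyRegular R xs := by
    rw [hxs]
    exact Groth.Agent.Lead.RLR.isWeaklyRegular_aux _ R x rfl hx
  obtain ⟨ys, hys⟩ : ∃ ys : List A, ys = xs.map (algebraMap R A) := ⟨_, rfl⟩
  have hregA : IsWeaklyRegular A ys := by
    rw [hys]
    exact hregR.of_flat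
  have hJ : Ideal.ofList ys = (maximalIdeal R).map (algebraMap R A) := by
    rw [hys, ← Ideal.map_ofList, hIxs]
  have hymem : ∀ r ∈ ys, r ∈ maximalIdeal A := by
    intro r hr
    have h1 : r ∈ Ideal.ofList ys := Ideal.subset_span hr
    rw [hJ] at h1
    exact IsLocalRing.map_maximalIdeal_le (algebraMap R A) h1
  -- `A/I` is a Cohen–Macaulay `A`-module of dimension `dim A`
  haveI : IsLocalRing (A ⧸ I) := hB.toIsLocalRing
  have hsM : Module.supportDim A (A ⧸ I) = ringKrullDim A := by
    rw [Module.supportDim_quotient_eq_ringKrullDim, hI]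
  have hdep : LocCoh.depth A (A ⧸ I) = LocCoh.depth (A ⧸ I) (A ⧸ I) :=
    Groth.Agent.Lead.Depth.depth_eq_of_surjective (R₁ := A) (R₂ := A ⧸ I)
      Ideal.Quotient.mk_surjective (A ⧸ I)
  have hCM : LocCoh.IsCohenMacaulayModule A (A ⧸ I) := by
    unfold LocCoh.IsCohenMacaulayModule
    rw [hdep, ← hB.supportDim_eq_depth, Module.supportDim_self_eq_ringKrullDim,
      Module.supportDim_quotient_eq_ringKrullDim]
  constructor
  · -- Goal 1
    have hregA' : IsRegular A ys := IsRegular.of_isWeaklyRegular_of_mem_maximalIdeal A hymem hregA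
    have h1 := Module.supportDim_add_length_eq_supportDim_of_isRegular ys hregA'
    rw [Module.supportDim_self_eq_ringKrullDim] at h1
    -- surjection `A/(ys) → (A/I)/(ys)`
    let f : A →ₗ[A] A ⧸ I := Submodule.mkQ I
    have hle : (Ideal.ofList ys • ⊤ : Submodule A A) ≤
        Submodule.comap f (Ideal.ofList ys • ⊤ : Submodule A (A ⧸ I)) := by
      rw [Submodule.smul_le]
      intro r hr n _
      rw [Submodule.mem_comap, map_smul]
      exact Submodule.smul_mem_smul hr Submodule.mem_top
    let g := Submodule.mapQ _ _ f hle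
    have hg : Function.Surjective g := by
      intro z
      obtain ⟨w, rfl⟩ := Submodule.Quotient.mk_surjective _ z
      obtain ⟨a, rfl⟩ := Submodule.Quotient.mk_surjective _ w
      exact ⟨Submodule.Quotient.mk a, rfl⟩
    have h2 := Module.supportDim_le_of_surjective g hg
    have h3 := Groth.Agent.Lead.Miracle.supportDim_le_add_length ys (A ⧸ I) hymem
    have hdim' : Module.supportDim A ((A ⧸ I) ⧸ (Ideal.ofList ys • ⊤ : Submodule A (A ⧸ I))) +
        (ys.length : WithBot ℕ∞) = Module.supportDim A (A ⧸ I) := by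
      refine le_antisymm ?_ h3
      rw [hsM, ← h1]
      exact add_le_add_left h2 _
    have hregM : IsWeaklyRegular (A ⧸ I) ys :=
      Groth.Agent.Lead.Miracle.isWeaklyRegular_of_supportDim_drop ys (A ⧸ I) hCM hymem hdim'
    have hregMR : IsWeaklyRegular (A ⧸ I) xs := by
      rw [hys] at hregM
      exact (isWeaklyRegular_map_algebraMap_iff A (A ⧸ I) xs).mp hregM
    exact flat_of_isWeaklyRegular R A (A ⧸ I) xs hIxs hregMR
  · -- Goal 2
    obtain ⟨n, hn⟩ := Groth.Agent.Lead.Depth.exists_nat_ringKrullDim (R := A)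
    have hdepth : (n : ℕ∞) ≤ LocCoh.depth A (A ⧸ I) := by
      have h1 : ((LocCoh.depth A (A ⧸ I) : ℕ∞) : WithBot ℕ∞) = ((n : ℕ∞) : WithBot ℕ∞) := by
        rw [← hCM, hsM, hn]
        rfl
      exact le_of_eq (WithBot.coe_injective h1).symm
    have hE := ext_self_subsingleton_of_mcm A n hn (A ⧸ I) hdepth
    have hS : ∀ k, ∀ ψ : I →ₗ[A] (A ⧸ (Ideal.ofList (ys.take k) • ⊤ : Submodule A A)),
        ∃ t, ∀ i : I, ψ i = (i : A) • t := by
      intro k ψ
      have hk : IsWeaklyRegular A (ys.take k) := by
        have := hregA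
        rw [← List.take_append_drop k ys, isWeaklyRegular_append_iff] at this
        exact this.1
      exact exists_eq_smul_of_ext_one I _
        (ext_quot_subsingleton (A ⧸ I) (ys.take k) A hk hE 1 le_rfl) ψ
    have hW := isWeaklyRegular_quot_annihilator I ys hregA hS
    have hWR : IsWeaklyRegular (A ⧸ (Submodule.annihilator I : Ideal A)) xs := by
      rw [hys] at hW
      exact (isWeaklyRegular_map_algebraMap_iff A (A ⧸ (Submodule.annihilator I : Ideal A))
        xs).mp hW
    exact flat_of_isWeaklyRegular R A _ xs hIxs hWR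

end Main

end Groth.Agent.Helper8.Link
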