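import Groth.Prelude.Def_Wider
import Mathlib.RingTheory.Length
import Mathlib.RingTheory.FiniteLength
import Mathlib.RingTheory.SimpleModule.Basic
import Mathlib.Algebra.Module.Injective
import Mathlib.RingTheory.LocalRing.ResidueField.Basic

set_option autoImplicit false
universe u

namespace Groth.Agent.Helper8.Matlis

open IsLocalRing

variable {A : Type u} [CommRing A] [IsLocalRing A] {E : Type u} [AddCommGroup E] [Module A E]
  {f : ResidueField A →ₗ[A] E}

/-- the socle of an essential extension of the residue field is the residue field. -/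
theorem mem_range_of_maximalIdeal_smul_eq_zero (hf : InjHull.IsEssentialInj f) (e : E)
    (he : ∀ a ∈ maximalIdeal A, a • e = 0) : e ∈ LinearMap.range f := by
  by_cases h0 : e = 0
  · rw [h0]; exact zero_mem _
  have hN : Submodule.span A {e} ≠ ⊥ := by
    rw [Ne, Submodule.span_singleton_eq_bot]; exact h0
  have h1 := hf.essential _ hN
  obtain ⟨y, hy, hy0⟩ := (Submodule.ne_bot_iff _).1 h1
  obtain ⟨a, rfl⟩ := Submodule.mem_span_singleton.1 hy.1
  have ha : IsUnit a := by
    by_contra hna
    exact hy0 (he a ((mem_maximalIdeal a).2 hna))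
  obtain ⟨u, rfl⟩ := ha
  have : e = (↑u⁻¹ : A) • ((u : A) • e) := by rw [smul_smul, Units.inv_mul, one_smul]
  rw [this]
  exact Submodule.smul_mem _ _ hy.2

theorem residue_smul_eq_zero (a : A) (ha : a ∈ maximalIdeal A) (x : ResidueField A) :
    a • x = 0 := by
  rw [Algebra.smul_def]
  have : algebraMap A (ResidueField A) a = 0 := (residue_eq_zero_iff a).2 ha
  rw [this, zero_mul]

/-- `k → Hom(k, E)`, `c ↦ f (c * ·)`. -/
noncomputable def Ψ (f : ResidueField A →ₗ[A] E) : ResidueField A →ₗ[A] (ResidueField A →ₗ[A] E) :=
  (LinearMap.mul A (ResidueField A)).compr₂ f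

theorem Ψ_apply (c x : ResidueField A) : Ψ f c x = f (c * x) := rfl

theorem Ψ_bijective (hf : InjHull.IsEssentialInj f) : Function.Bijective (Ψ f) := by
  constructor
  · rw [injective_iff_map_eq_zero]
    intro c hc
    have := LinearMap.congr_fun hc 1
    rw [Ψ_apply, mul_one, LinearMap.zero_apply] at this
    exact (injective_iff_map_eq_zero f).1 hf.injective c this
  · intro φ
    have hmem : φ 1 ∈ LinearMap.range f := by
      apply mem_range_of_maximalIdeal_smul_eq_zero hf
      intro a ha
      rw [← map_smul, residue_smul_eq_zero a ha, map_zero]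
    obtain ⟨c, hc⟩ := hmem
    refine ⟨c, ?_⟩
    ext x
    obtain ⟨a, rfl⟩ := residue_surjective x
    have hx : residue A a = a • (1 : ResidueField A) := by
      rw [Algebra.smul_def, mul_one]; rfl
    rw [Ψ_apply, hx, mul_smul_comm, mul_one, map_smul, map_smul, hc]

instance : IsSimpleModule A (ResidueField A) :=
  isSimpleModule_iff_quot_maximal.2 ⟨maximalIdeal A, inferInstance, ⟨LinearEquiv.refl _ _⟩⟩

theorem length_hom_residueField (hf : InjHull.IsEssentialInj f) :
    Module.length A (ResidueField A →ₗ[A] E) = 1 := by
  rw [← (LinearEquiv.ofBijective (Ψ f) (Ψ_bijective hf)).length_eq]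
  exact Module.length_eq_one A (ResidueField A)

theorem length_hom_simple (hf : InjHull.IsEssentialInj f) (S : Type u) [AddCommGroup S] [Module A S]
    [IsSimpleModule A S] : Module.length A (S →ₗ[A] E) = 1 := by
  obtain ⟨I, hI, ⟨e⟩⟩ := isSimpleModule_iff_quot_maximal.1 (inferInstance : IsSimpleModule A S)
  obtain rfl : I = maximalIdeal A := IsLocalRing.eq_maximalIdeal hI
  have e' : (S →ₗ[A] E) ≃ₗ[A] (ResidueField A →ₗ[A] E) :=
    LinearEquiv.arrowCongr e (LinearEquiv.refl A E)
  rw [e'.length_eq]
  exact length_hom_residueField hf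

section Exact

variable {M : Type u} [AddCommGroup M] [Module A M] (N : Submodule A M)

omit [IsLocalRing A] in
theorem length_hom_eq_add [Module.Injective A E] :
    Module.length A (M →ₗ[A] E) =
      Module.length A ((M ⧸ N) →ₗ[A] E) + Module.length A (N →ₗ[A] E) := by
  refine Module.length_eq_add_of_exact (LinearMap.lcomp A E N.mkQ) (LinearMap.lcomp A E N.subtype)
    ?_ ?_ ?_
  · intro g g' h
    ext x
    exact LinearMap.congr_fun h x
  · intro g
    obtain ⟨h, hh⟩ := Module.Injective.out (R := A) (Q := E) N.subtype N.injective_subtype g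
    exact ⟨h, LinearMap.ext hh⟩
  · intro g
    constructor
    · intro hg
      have hle : N ≤ LinearMap.ker g := by
        intro x hx
        exact LinearMap.congr_fun hg ⟨x, hx⟩
      exact ⟨N.liftQ g hle, by ext x; rfl⟩
    · rintro ⟨g', rfl⟩
      ext x
      change g' (N.mkQ x) = 0
      rw [Submodule.mkQ_apply, (Submodule.Quotient.mk_eq_zero N).2 x.2, map_zero]

end Exact

/-- Matlis duality preserves length. -/
theorem length_hom (hf : InjHull.IsInjectiveHull f) (M : Type u) [AddCommGroup M] [Module A M]
    (hM : IsFiniteLength A M) : Module.length A (M →ₗ[A] E) = Module.length A M := by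
  have := hf.isInjective
  induction hM with
  | of_subsingleton =>
    rw [Module.length_eq_zero, Module.length_eq_zero]
  | @of_simple_quotient M _ _ N _ hN ih =>
    rw [length_hom_eq_add N, ih, length_hom_simple hf.toIsEssentialInj (M ⧸ N)]
    rw [Module.length_eq_add_of_exact N.subtype N.mkQ N.injective_subtype (Submodule.mkQ_surjective N)
      (LinearMap.exact_subtype_mkQ N), Module.length_eq_one A (M ⧸ N), add_comm]

/-- an injective linear map between modules of the same finite length is bijective. -/
theorem bijective_of_injective_of_length_eq {R : Type u} [CommRing R] {M N : Type u}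
    [AddCommGroup M] [Module R M] [AddCommGroup N] [Module R N] (g : M →ₗ[R] N)
    (hg : Function.Injective g) (hlen : Module.length R N = Module.length R M)
    (hfin : Module.length R M ≠ ⊤) : Function.Bijective g := by
  refine ⟨hg, ?_⟩
  have h1 := Module.length_eq_add_of_exact g (LinearMap.range g).mkQ hg
    (Submodule.mkQ_surjective _) (LinearMap.exact_map_mkQ_range g)
  rw [hlen] at h1
  have h2 : Module.length R (N ⧸ LinearMap.range g) = 0 := by
    have h3 : Module.length R M + 0 = Module.length R M + Module.length R (N ⧸ LinearMap.range g) := by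
      rw [add_zero]; exact h1
    exact ((ENat.add_right_injective_of_ne_top hfin) h3).symm
  rw [Module.length_eq_zero_iff, Submodule.Quotient.subsingleton_iff] at h2
  exact LinearMap.range_eq_top.1 h2

/-- enough maps to `E`: the evaluation map is injective. -/
theorem applyₗ_injective (hf : InjHull.IsInjectiveHull f) (M : Type u) [AddCommGroup M]
    [Module A M] : Function.Injective (LinearMap.applyₗ : M →ₗ[A] (M →ₗ[A] E) →ₗ[A] E) := by
  have := hf.isInjective
  rw [injective_iff_map_eq_zero]
  intro x hx
  by_contra hx0
  let t : A →ₗ[A] M := LinearMap.toSpanSingleton A M x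
  have hker : LinearMap.ker t ≤ (maximalIdeal A : Submodule A A) := by
    apply IsLocalRing.le_maximalIdeal
    intro htop
    have : (1 : A) ∈ LinearMap.ker t := by
      rw [show LinearMap.ker t = (⊤ : Ideal A) from htop]; trivial
    rw [LinearMap.mem_ker, LinearMap.toSpanSingleton_apply, one_smul] at this
    exact hx0 this
  let q : (A ⧸ LinearMap.ker t) →ₗ[A] ResidueField A :=
    (LinearMap.ker t).liftQ (Algebra.linearMap A (ResidueField A)) (by
      intro a ha
      rw [LinearMap.mem_ker, Algebra.linearMap_apply]
      exact (residue_eq_zero_iff a).2 (hker ha))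
  let ψ : LinearMap.range t →ₗ[A] E := f ∘ₗ q ∘ₗ (t.quotKerEquivRange.symm : _ →ₗ[A] _)
  obtain ⟨h, hh⟩ := Module.Injective.out (R := A) (Q := E) (LinearMap.range t).subtype
    (LinearMap.range t).injective_subtype ψ
  have h1 : h x = f 1 := by
    have hx1 : t 1 = x := by rw [LinearMap.toSpanSingleton_apply, one_smul]
    have := hh ⟨t 1, LinearMap.mem_range_self t 1⟩
    rw [Submodule.subtype_apply] at this
    rw [← hx1, this]
    simp only [ψ, LinearMap.comp_apply, LinearEquiv.coe_coe]
    rw [LinearMap.quotKerEquivRange_symm_apply_image]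
    rfl
  have h2 : h x = 0 := LinearMap.congr_fun hx h
  rw [h2] at h1
  have h3 : (1 : ResidueField A) = 0 :=
    (injective_iff_map_eq_zero f).1 hf.injective 1 h1.symm
  exact one_ne_zero h3

/-- Matlis duality for modules of finite length: the evaluation map is bijective. -/
theorem applyₗ_bijective (hf : InjHull.IsInjectiveHull f) (M : Type u) [AddCommGroup M]
    [Module A M] (hM : IsFiniteLength A M) :
    Function.Bijective (LinearMap.applyₗ : M →ₗ[A] (M →ₗ[A] E) →ₗ[A] E) := by
  have h1 : Module.length A (M →ₗ[A] E) = Module.length A M := length_hom hf M hM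
  have hfin : Module.length A M ≠ ⊤ := Module.length_ne_top_iff.2 hM
  have hM' : IsFiniteLength A (M →ₗ[A] E) := Module.length_ne_top_iff.1 (h1 ▸ hfin)
  have h2 : Module.length A ((M →ₗ[A] E) →ₗ[A] E) = Module.length A (M →ₗ[A] E) :=
    length_hom hf _ hM'
  exact bijective_of_injective_of_length_eq _ (applyₗ_injective hf M) (h2.trans h1) hfin

end Groth.Agent.Helper8.Matlis
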