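import Groth.Agent.Lib.Helper8.Matlis5
import Mathlib.RingTheory.SimpleModule.InjectiveProjective

set_option autoImplicit false
universe u

namespace Groth.Agent.Helper8.Matlis

open IsLocalRing CategoryTheory

section General

variable {A B : Type u} [CommRing A] [IsLocalRing A] [CommRing B] [IsLocalRing B]
  [Algebra A B] {E : Type u} [AddCommGroup E] [Module A E] {f : ResidueField A →ₗ[A] E}

/-- version of `socle_cyclic` with the finiteness of the residue field as a hypothesis. -/
theorem socle_cyclic' (hV : IsFiniteLength A (ResidueField B)) (hf : InjHull.IsInjectiveHull f)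
    (φ' φ : Coext A B E) (hφ' : ∀ b ∈ maximalIdeal B, b • φ' = 0)
    (hφ : ∀ b ∈ maximalIdeal B, b • φ = 0) (hne : φ' ≠ 0) : ∃ b : B, φ = b • φ' := by
  let π : B →ₗ[A] ResidueField B := (IsScalarTower.toAlgHom A B (ResidueField B)).toLinearMap
  have hπ : Function.Surjective π := IsLocalRing.residue_surjective
  have hπa : ∀ t, π t = residue B t := fun t => rfl
  have hker : ∀ ψ : Coext A B E, (∀ b ∈ maximalIdeal B, b • ψ = 0) →
      LinearMap.ker π ≤ LinearMap.ker (Coext.toLin ψ) := by
    intro ψ hψ t ht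
    rw [LinearMap.mem_ker, hπa, residue_eq_zero_iff] at ht
    rw [LinearMap.mem_ker, Coext.toLin_apply]
    have := hψ t ht
    have h2 : (t • ψ) (1 : B) = ψ t := by rw [Coext.smul_apply, one_mul]
    rw [← h2, this, Coext.zero_apply]
  let desc : ∀ ψ : Coext A B E, (∀ b ∈ maximalIdeal B, b • ψ = 0) → (ResidueField B →ₗ[A] E) :=
    fun ψ hψ => ((LinearMap.ker π).liftQ (Coext.toLin ψ) (hker ψ hψ)).comp
      (π.quotKerEquivOfSurjective hπ).symm.toLinearMap
  have hdesc : ∀ ψ hψ t, desc ψ hψ (π t) = ψ t := by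
    intro ψ hψ t
    have h1 : (π.quotKerEquivOfSurjective hπ).symm (π t) = (LinearMap.ker π).mkQ t := by
      rw [LinearEquiv.symm_apply_eq]
      rfl
    change ((LinearMap.ker π).liftQ (Coext.toLin ψ) (hker ψ hψ))
      ((π.quotKerEquivOfSurjective hπ).symm (π t)) = ψ t
    rw [h1]
    rfl
  have hsimple : IsSimpleModule B (ResidueField B) :=
    isSimpleModule_iff_quot_maximal.2 ⟨maximalIdeal B, inferInstance, ⟨LinearEquiv.refl _ _⟩⟩
  have hne' : desc φ' hφ' ≠ 0 := by
    intro h0
    apply hne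
    apply Coext.ext'
    intro t
    rw [← hdesc φ' hφ' t, h0, LinearMap.zero_apply, Coext.zero_apply]
  obtain ⟨b, hb⟩ := dual_cyclic hf (B := B) (ResidueField B) hV
    (desc φ' hφ') (desc φ hφ) hne'
  refine ⟨b, Coext.ext' fun t => ?_⟩
  rw [Coext.smul_apply, ← hdesc φ hφ t, hb, ← hdesc φ' hφ' (t * b)]
  congr 1
  rw [hπa, hπa, Algebra.smul_def, ResidueField.algebraMap_eq, ← map_mul, mul_comm]

end General

section Field

variable (k₀ : Type u) [Field k₀]

theorem field_socle (b : k₀) (hb : b ∈ maximalIdeal k₀) : b • (1 : k₀) = 0 := by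
  rw [IsLocalRing.maximalIdeal_eq_bot, Ideal.mem_bot] at hb
  rw [hb, zero_smul]

/-- over a field `k₀`, the module `k₀` is an injective hull of the residue field. -/
theorem field_isInjectiveHull :
    InjHull.IsInjectiveHull (ofSocle (A := k₀) (E := k₀) 1 (field_socle k₀)) := by
  apply isInjectiveHull_of_socle_cyclic (Module.injective_of_isSemisimpleRing k₀ k₀)
  · intro x
    refine ⟨1, fun a ha => ?_⟩
    rw [pow_one, IsLocalRing.maximalIdeal_eq_bot, Ideal.mem_bot] at ha
    rw [ha, zero_smul]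
  · exact one_ne_zero
  · intro e' _ hne
    exact ⟨e'⁻¹, by rw [smul_eq_mul, inv_mul_cancel₀ hne]⟩

theorem isFiniteLength_of_finite_field (V : Type u) [AddCommGroup V] [Module k₀ V]
    [Module.Finite k₀ V] : IsFiniteLength k₀ V :=
  isFiniteLength_iff_isNoetherian_isArtinian.2 ⟨inferInstance, inferInstance⟩

end Field

end Groth.Agent.Helper8.Matlis
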