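import Groth.Agent.Lib.Helper8.Matlis6
import Mathlib.RingTheory.Ideal.MinimalPrime.Noetherian

set_option autoImplicit false
universe u

namespace Groth.Agent.Helper8.Matlis

open IsLocalRing CategoryTheory

section MaxGeneral

variable {B : Type u} [CommRing B] (n : Ideal B) [hn : n.IsMaximal] {Y : Type u} [AddCommGroup Y]
  [Module B Y]

omit hn in
/-- the map `B/n → Y` sending `1` to an element killed by `n`. -/
noncomputable def ofSocleM (e' : Y) (he' : ∀ b ∈ n, b • e' = 0) : (B ⧸ n) →ₗ[B] Y :=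
  (n : Submodule B B).liftQ (LinearMap.toSpanSingleton B Y e') (by
    intro b hb
    rw [LinearMap.mem_ker, LinearMap.toSpanSingleton_apply]
    exact he' b hb)

omit hn in
theorem ofSocleM_one (e' : Y) (he' : ∀ b ∈ n, b • e' = 0) : ofSocleM n e' he' 1 = e' := by
  change LinearMap.toSpanSingleton B Y e' (1 : B) = e'
  rw [LinearMap.toSpanSingleton_apply, one_smul]

omit hn in
theorem exists_socle_memM (htors : LocCoh.IsPowerTorsion n Y) (N : Submodule B Y)
    (hN : N ≠ ⊥) : ∃ e' ∈ N, e' ≠ 0 ∧ ∀ b ∈ n, b • e' = 0 := by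
  classical
  obtain ⟨e, heN, he0⟩ := (Submodule.ne_bot_iff _).1 hN
  have hex := htors e
  let k := Nat.find hex
  have hk : ∀ a ∈ n ^ k, a • e = 0 := Nat.find_spec hex
  have hk0 : k ≠ 0 := by
    intro h0
    have := hk 1 (by rw [h0, pow_zero, Ideal.one_eq_top]; trivial)
    rw [one_smul] at this
    exact he0 this
  obtain ⟨k', hk'⟩ := Nat.exists_eq_succ_of_ne_zero hk0
  have hmin : ¬ ∀ a ∈ n ^ k', a • e = 0 := Nat.find_min hex (by omega)
  push Not at hmin
  obtain ⟨a, ha, hae⟩ := hmin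
  refine ⟨a • e, N.smul_mem a heN, hae, fun b hb => ?_⟩
  rw [smul_smul]
  apply hk
  rw [hk', pow_succ']
  exact Ideal.mul_mem_mul hb ha

theorem isInjectiveHull_of_socle_cyclicM (hinj : Module.Injective B Y)
    (htors : LocCoh.IsPowerTorsion n Y)
    (e₀ : Y) (he₀ : ∀ b ∈ n, b • e₀ = 0) (hne : e₀ ≠ 0)
    (hcyc : ∀ e' : Y, (∀ b ∈ n, b • e' = 0) → e' ≠ 0 → ∃ b : B, e₀ = b • e') :
    InjHull.IsInjectiveHull (ofSocleM n e₀ he₀) := by
  have hsimple : IsSimpleModule B (B ⧸ n) :=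
    isSimpleModule_iff_quot_maximal.2 ⟨n, hn, ⟨LinearEquiv.refl _ _⟩⟩
  have hφ : ofSocleM n e₀ he₀ ≠ 0 := by
    intro h
    apply hne
    rw [← ofSocleM_one n e₀ he₀, h, LinearMap.zero_apply]
  have hφinj : Function.Injective (ofSocleM n e₀ he₀) := by
    rw [← LinearMap.ker_eq_bot]
    rcases eq_bot_or_eq_top (LinearMap.ker (ofSocleM n e₀ he₀)) with h | h
    · exact h
    · exact absurd (LinearMap.ker_eq_top.1 h) hφ
  refine ⟨⟨hφinj, ?_⟩, hinj⟩
  intro N hN
  obtain ⟨e', he'N, he'0, he'⟩ := exists_socle_memM n htors N hN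
  obtain ⟨b, hb⟩ := hcyc e' he' he'0
  rw [Submodule.ne_bot_iff]
  refine ⟨e₀, ⟨?_, ⟨1, ofSocleM_one n e₀ he₀⟩⟩, hne⟩
  rw [hb]
  exact N.smul_mem b he'N

end MaxGeneral

section SemiLocal

variable {A B : Type u} [CommRing A] [IsLocalRing A] [CommRing B] [Algebra A B] [Module.Finite A B]
  {E : Type u} [AddCommGroup E] [Module A E] {f : ResidueField A →ₗ[A] E}

theorem comap_eq_maximalIdeal (n : Ideal B) [n.IsMaximal] :
    n.comap (algebraMap A B) = maximalIdeal A := by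
  have : Algebra.IsIntegral A B := Algebra.IsIntegral.of_finite A B
  exact IsLocalRing.eq_maximalIdeal
    (Ideal.isMaximal_comap_of_isIntegral_of_isMaximal (R := A) n)

theorem isMaximal_of_map_le (P : Ideal B) [hP : P.IsPrime]
    (hle : Ideal.map (algebraMap A B) (maximalIdeal A) ≤ P) : P.IsMaximal := by
  have : Algebra.IsIntegral A B := Algebra.IsIntegral.of_finite A B
  have h1 : maximalIdeal A ≤ P.comap (algebraMap A B) := Ideal.map_le_iff_le_comap.1 hle
  have h2 : P.comap (algebraMap A B) ≠ ⊤ := (Ideal.comap_isPrime _ P).ne_top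
  have h3 : maximalIdeal A = P.comap (algebraMap A B) :=
    (IsLocalRing.maximalIdeal.isMaximal A).eq_of_le h2 h1
  apply Ideal.isMaximal_of_isIntegral_of_isMaximal_comap (R := A) P
  rw [← h3]
  infer_instance

theorem isFiniteLength_quotient_maximal [IsNoetherianRing A] (n : Ideal B) [n.IsMaximal] :
    IsFiniteLength A (B ⧸ n) := by
  rw [Groth.Agent.Helper5.HS.isFiniteLength_iff_support]
  intro p hp
  rw [Module.support_eq_zeroLocus] at hp
  have hp' : Module.annihilator A (B ⧸ n) ≤ p.asIdeal := hp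
  have h1 : maximalIdeal A ≤ Module.annihilator A (B ⧸ n) := by
    intro a ha
    rw [Module.mem_annihilator]
    intro v
    obtain ⟨t, rfl⟩ := Ideal.Quotient.mk_surjective v
    rw [Algebra.smul_def, IsScalarTower.algebraMap_apply A B (B ⧸ n)]
    have : algebraMap B (B ⧸ n) (algebraMap A B a) = 0 := by
      rw [Ideal.Quotient.algebraMap_eq, Ideal.Quotient.eq_zero_iff_mem, ← Ideal.mem_comap,
        comap_eq_maximalIdeal]
      exact ha
    rw [this, zero_mul]
  have h2 : maximalIdeal A = p.asIdeal :=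
    (IsLocalRing.maximalIdeal.isMaximal A).eq_of_le p.2.ne_top (h1.trans hp')
  rw [← h2]
  infer_instance

theorem exists_map_pow_le_torsionOf [IsNoetherianRing A] (hf : InjHull.IsInjectiveHull f)
    (φ : Coext A B E) :
    ∃ k : ℕ, Ideal.map (algebraMap A B) (maximalIdeal A) ^ k ≤ Ideal.torsionOf B _ φ := by
  have hfg : (LinearMap.range (Coext.toLin φ)).FG := by
    rw [LinearMap.range_eq_map]
    exact Submodule.FG.map _ (Module.Finite.fg_top)
  obtain ⟨k, hk⟩ := exists_pow_smul_eq_zero_of_fg (isPowerTorsion hf.toIsEssentialInj) _ hfg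
  refine ⟨k, ?_⟩
  rw [← Ideal.map_pow, Ideal.map_le_iff_le_comap]
  intro a ha
  rw [Ideal.mem_comap, Ideal.mem_torsionOf_iff]
  apply Coext.ext'
  intro t
  rw [Coext.smul_apply, Coext.zero_apply]
  have h1 : t * algebraMap A B a = a • t := by rw [Algebra.smul_def, mul_comm]
  rw [h1, ← Coext.toLin_apply, map_smul]
  exact hk a ha _ ⟨t, rfl⟩

theorem socle_cyclicM [IsNoetherianRing A] (hf : InjHull.IsInjectiveHull f)
    (n : Ideal B) [hn : n.IsMaximal]
    (φ' φ : Coext A B E) (hφ' : ∀ b ∈ n, b • φ' = 0)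
    (hφ : ∀ b ∈ n, b • φ = 0) (hne : φ' ≠ 0) : ∃ b : B, φ = b • φ' := by
  let π : B →ₗ[A] (B ⧸ n) := (IsScalarTower.toAlgHom A B (B ⧸ n)).toLinearMap
  have hπ : Function.Surjective π := Ideal.Quotient.mk_surjective
  have hπa : ∀ t, π t = Ideal.Quotient.mk n t := fun t => rfl
  have hker : ∀ ψ : Coext A B E, (∀ b ∈ n, b • ψ = 0) →
      LinearMap.ker π ≤ LinearMap.ker (Coext.toLin ψ) := by
    intro ψ hψ t ht
    rw [LinearMap.mem_ker, hπa, Ideal.Quotient.eq_zero_iff_mem] at ht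
    rw [LinearMap.mem_ker, Coext.toLin_apply]
    have := hψ t ht
    have h2 : (t • ψ) (1 : B) = ψ t := by rw [Coext.smul_apply, one_mul]
    rw [← h2, this, Coext.zero_apply]
  let desc : ∀ ψ : Coext A B E, (∀ b ∈ n, b • ψ = 0) → ((B ⧸ n) →ₗ[A] E) :=
    fun ψ hψ => ((LinearMap.ker π).liftQ (Coext.toLin ψ) (hker ψ hψ)).comp
      (π.quotKerEquivOfSurjective hπ).symm.toLinearMap
  have hdesc : ∀ ψ hψ t, desc ψ hψ (π t) = ψ t := by
    intro ψ hψ t
    have h1 : (π.quotKerEquivOfSurjective hπ).symm (π t) = (LinearMap.ker π).mkQ t := by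
      rw [LinearEquiv.symm_apply_eq]
      rfl
    change ((LinearMap.ker π).liftQ (Coext.toLin ψ) (hker ψ hψ))
      ((π.quotKerEquivOfSurjective hπ).symm (π t)) = ψ t
    rw [h1]
    rfl
  have hsimple : IsSimpleModule B (B ⧸ n) :=
    isSimpleModule_iff_quot_maximal.2 ⟨n, hn, ⟨LinearEquiv.refl _ _⟩⟩
  have hne' : desc φ' hφ' ≠ 0 := by
    intro h0
    apply hne
    apply Coext.ext'
    intro t
    rw [← hdesc φ' hφ' t, h0, LinearMap.zero_apply, Coext.zero_apply]
  obtain ⟨b, hb⟩ := dual_cyclic hf (B := B) (B ⧸ n) (isFiniteLength_quotient_maximal n)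
    (desc φ' hφ') (desc φ hφ) hne'
  refine ⟨b, Coext.ext' fun t => ?_⟩
  rw [Coext.smul_apply, ← hdesc φ hφ t, hb, ← hdesc φ' hφ' (t * b)]
  congr 1
  rw [hπa, hπa, Algebra.smul_def, Ideal.Quotient.algebraMap_eq, ← map_mul, mul_comm]

theorem exists_socle_coext [IsNoetherianRing A] (hf : InjHull.IsInjectiveHull f)
    (n : Ideal B) [hn : n.IsMaximal] :
    ∃ φ₀ : Coext A B E, φ₀ ≠ 0 ∧ ∀ b ∈ n, b • φ₀ = 0 := by
  have : Nontrivial (B ⧸ n) := Ideal.Quotient.nontrivial_iff.2 hn.ne_top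
  have h1 := applyₗ_injective hf (B ⧸ n)
  have h2 : (LinearMap.applyₗ (1 : B ⧸ n) : ((B ⧸ n) →ₗ[A] E) →ₗ[A] E) ≠ 0 := by
    intro h0
    exact one_ne_zero (h1 (by rw [h0, map_zero]))
  obtain ⟨χ, hχ⟩ : ∃ χ : (B ⧸ n) →ₗ[A] E, χ 1 ≠ 0 := by
    by_contra hno
    push Not at hno
    apply h2
    ext χ
    exact hno χ
  let π : B →ₗ[A] (B ⧸ n) := (IsScalarTower.toAlgHom A B (B ⧸ n)).toLinearMap
  have hπa : ∀ t, π t = Ideal.Quotient.mk n t := fun t => rfl
  refine ⟨Coext.ofLin (χ.comp π), ?_, ?_⟩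
  · intro h0
    apply hχ
    have h4 : (Coext.ofLin (χ.comp π) : Coext A B E) (1 : B) = χ 1 := by
      rw [Coext.ofLin_apply, LinearMap.comp_apply, hπa, map_one]
    rw [← h4, h0, Coext.zero_apply]
  · intro b hb
    apply Coext.ext'
    intro t
    rw [Coext.smul_apply, Coext.zero_apply, Coext.ofLin_apply, LinearMap.comp_apply, hπa]
    have : Ideal.Quotient.mk n (t * b) = 0 := by
      rw [Ideal.Quotient.eq_zero_iff_mem]
      exact Ideal.mul_mem_left _ _ hb
    rw [this, map_zero]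

end SemiLocal

end Groth.Agent.Helper8.Matlis
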