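import Groth.Agent.Lib.Helper8.Matlis5
import Groth.Agent.Lib.Helper8.Canon13
import Mathlib.RingTheory.AdicCompletion.Functoriality

/-!
# Matlis duality: the double dual of a finite module is its completion (helper8)
-/

set_option autoImplicit false

universe u

namespace Groth.Agent.Helper8.Matlis

open IsLocalRing

variable {A : Type u} [CommRing A] [IsLocalRing A] [IsNoetherianRing A]
  {E : Type u} [AddCommGroup E] [Module A E] {f : ResidueField A →ₗ[A] E}
  (N : Type u) [AddCommGroup N] [Module A N] [Module.Finite A N]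

section DD

variable (E)

/-- the double dual of a linear map -/
noncomputable def dd {X Y : Type u} [AddCommGroup X] [Module A X] [AddCommGroup Y] [Module A Y]
    (g : X →ₗ[A] Y) : ((X →ₗ[A] E) →ₗ[A] E) →ₗ[A] ((Y →ₗ[A] E) →ₗ[A] E) :=
  LinearMap.lcomp A E (LinearMap.lcomp A E g)

theorem dd_apply {X Y : Type u} [AddCommGroup X] [Module A X] [AddCommGroup Y] [Module A Y]
    (g : X →ₗ[A] Y) (φ : (X →ₗ[A] E) →ₗ[A] E) (h : Y →ₗ[A] E) :
    dd E g φ h = φ (h.comp g) := rfl

end DD

/-- the quotients `N / m^n N` -/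
abbrev Qn (A : Type u) [CommRing A] [IsLocalRing A] (N : Type u) [AddCommGroup N] [Module A N]
    (n : ℕ) : Type u := N ⧸ (maximalIdeal A ^ n • ⊤ : Submodule A N)

variable (hf : InjHull.IsInjectiveHull f)

/-- Matlis duality for `N / m^n N` -/
noncomputable def eN (n : ℕ) : Qn A N n ≃ₗ[A] ((Qn A N n →ₗ[A] E) →ₗ[A] E) :=
  LinearEquiv.ofBijective LinearMap.applyₗ (applyₗ_bijective hf (Qn A N n)
    (Groth.Agent.Helper8.Uniq.isFiniteLength_quotient_maximalIdeal_pow N n))

theorem eN_apply (n : ℕ) (x : Qn A N n) (h : Qn A N n →ₗ[A] E) : eN N hf n x h = h x := rfl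

/-- the components of the comparison map -/
noncomputable def psiN (n : ℕ) : ((N →ₗ[A] E) →ₗ[A] E) →ₗ[A] Qn A N n :=
  (eN N hf n).symm.toLinearMap ∘ₗ dd E (Submodule.mkQ _)

theorem psiN_spec (n : ℕ) (φ : (N →ₗ[A] E) →ₗ[A] E) (h : Qn A N n →ₗ[A] E) :
    h (psiN N hf n φ) = φ (h.comp (Submodule.mkQ _)) := by
  have h1 : eN N hf n (psiN N hf n φ) = dd E (Submodule.mkQ _) φ := by
    unfold psiN
    simp
  have h2 := congrArg (fun t => t h) h1
  simpa [eN_apply, dd_apply] using h2

theorem psiN_compat {k n : ℕ} (hkn : k ≤ n) :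
    AdicCompletion.transitionMap (maximalIdeal A) N hkn ∘ₗ psiN N hf n = psiN N hf k := by
  ext φ
  apply (eN N hf k).injective
  ext h
  rw [eN_apply, eN_apply, psiN_spec]
  have h1 : h ((AdicCompletion.transitionMap (maximalIdeal A) N hkn ∘ₗ psiN N hf n) φ) =
      (h.comp (AdicCompletion.transitionMap (maximalIdeal A) N hkn)) (psiN N hf n φ) := rfl
  rw [h1, psiN_spec]
  congr 1

/-- the comparison map `N^∨∨ → N^` -/
noncomputable def PsiN : ((N →ₗ[A] E) →ₗ[A] E) →ₗ[A] AdicCompletion (maximalIdeal A) N :=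
  AdicCompletion.lift (maximalIdeal A) (psiN N hf) (fun hle => psiN_compat N hf hle)

theorem PsiN_val (φ : (N →ₗ[A] E) →ₗ[A] E) (n : ℕ) : (PsiN N hf φ).val n = psiN N hf n φ := rfl

include hf in
/-- every functional on `N` kills `m^n N` for some `n` -/
theorem exists_pow_le_ker (g : N →ₗ[A] E) :
    ∃ n : ℕ, (maximalIdeal A ^ n • ⊤ : Submodule A N) ≤ LinearMap.ker g := by
  have htors := isPowerTorsion (A := A) hf.toIsEssentialInj
  have hfg : (LinearMap.range g).FG := by
    rw [LinearMap.range_eq_map]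
    exact (Module.Finite.fg_top).map g
  obtain ⟨n, hn⟩ := exists_pow_smul_eq_zero_of_fg htors (LinearMap.range g) hfg
  refine ⟨n, ?_⟩
  rw [Submodule.smul_le]
  intro a ha x _
  rw [LinearMap.mem_ker, map_smul]
  exact hn a ha (g x) ⟨x, rfl⟩

theorem PsiN_injective : Function.Injective (PsiN N hf) := by
  rw [injective_iff_map_eq_zero]
  intro φ hφ
  ext g
  obtain ⟨n, hn⟩ := exists_pow_le_ker N hf g
  have h1 : psiN N hf n φ = 0 := by
    rw [← PsiN_val, hφ]
    rfl
  have h2 := psiN_spec N hf n φ ((maximalIdeal A ^ n • ⊤ : Submodule A N).liftQ g hn)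
  rw [h1, map_zero] at h2
  have h3 : ((maximalIdeal A ^ n • ⊤ : Submodule A N).liftQ g hn).comp (Submodule.mkQ _) = g :=
    Submodule.liftQ_mkQ _ g hn
  rw [h3] at h2
  rw [← h2]
  rfl

section Surj

variable (y : AdicCompletion (maximalIdeal A) N)

/-- the value of the functional attached to `y` on `g`, computed at level `n` -/
noncomputable def valAt (g : N →ₗ[A] E) (n : ℕ)
    (hn : (maximalIdeal A ^ n • ⊤ : Submodule A N) ≤ LinearMap.ker g) : E :=
  (maximalIdeal A ^ n • ⊤ : Submodule A N).liftQ g hn (y.val n)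

theorem valAt_le (g : N →ₗ[A] E) {k n : ℕ} (hkn : k ≤ n)
    (hk : (maximalIdeal A ^ k • ⊤ : Submodule A N) ≤ LinearMap.ker g)
    (hn : (maximalIdeal A ^ n • ⊤ : Submodule A N) ≤ LinearMap.ker g) :
    valAt N y g n hn = valAt N y g k hk := by
  unfold valAt
  have h1 : y.val k = AdicCompletion.transitionMap (maximalIdeal A) N hkn (y.val n) :=
    (y.2 hkn).symm
  rw [h1]
  have h2 : ((maximalIdeal A ^ k • ⊤ : Submodule A N).liftQ g hk).comp
      (AdicCompletion.transitionMap (maximalIdeal A) N hkn) =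
      (maximalIdeal A ^ n • ⊤ : Submodule A N).liftQ g hn := by
    apply Submodule.linearMap_qext
    ext x
    simp [AdicCompletion.transitionMap, Submodule.factorPow, Submodule.factor_mk]
  rw [← h2]
  rfl

theorem valAt_eq (g : N →ₗ[A] E) {k n : ℕ}
    (hk : (maximalIdeal A ^ k • ⊤ : Submodule A N) ≤ LinearMap.ker g)
    (hn : (maximalIdeal A ^ n • ⊤ : Submodule A N) ≤ LinearMap.ker g) :
    valAt N y g n hn = valAt N y g k hk := by
  have hmax : (maximalIdeal A ^ (max k n) • ⊤ : Submodule A N) ≤ LinearMap.ker g :=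
    le_trans (Submodule.smul_mono_left (Ideal.pow_le_pow_right (le_max_left k n))) hk
  rw [← valAt_le N y g (le_max_right k n) hn hmax, ← valAt_le N y g (le_max_left k n) hk hmax]

include hf in
theorem exists_common_ker (g g' : N →ₗ[A] E) :
    ∃ n : ℕ, (maximalIdeal A ^ n • ⊤ : Submodule A N) ≤ LinearMap.ker g ∧
      (maximalIdeal A ^ n • ⊤ : Submodule A N) ≤ LinearMap.ker g' := by
  obtain ⟨n, hn⟩ := exists_pow_le_ker N hf g
  obtain ⟨n', hn'⟩ := exists_pow_le_ker N hf g'
  exact ⟨max n n',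
    le_trans (Submodule.smul_mono_left (Ideal.pow_le_pow_right (le_max_left n n'))) hn,
    le_trans (Submodule.smul_mono_left (Ideal.pow_le_pow_right (le_max_right n n'))) hn'⟩

/-- the functional attached to `y` -/
noncomputable def phiOf : (N →ₗ[A] E) →ₗ[A] E where
  toFun g := valAt N y g (exists_pow_le_ker N hf g).choose (exists_pow_le_ker N hf g).choose_spec
  map_add' g g' := by
    obtain ⟨n, hn, hn'⟩ := exists_common_ker N hf g g'
    have hs : (maximalIdeal A ^ n • ⊤ : Submodule A N) ≤ LinearMap.ker (g + g') := by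
      intro x hx
      rw [LinearMap.mem_ker, LinearMap.add_apply, LinearMap.mem_ker.mp (hn hx),
        LinearMap.mem_ker.mp (hn' hx), add_zero]
    rw [valAt_eq N y (g + g') hs _, valAt_eq N y g hn _, valAt_eq N y g' hn' _]
    unfold valAt
    obtain ⟨x, hx⟩ := Submodule.mkQ_surjective _ (y.val n)
    rw [← hx]
    simp
  map_smul' c g := by
    obtain ⟨n, hn⟩ := exists_pow_le_ker N hf g
    have hs : (maximalIdeal A ^ n • ⊤ : Submodule A N) ≤ LinearMap.ker (c • g) := by
      intro x hx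
      rw [LinearMap.mem_ker, LinearMap.smul_apply, LinearMap.mem_ker.mp (hn hx), smul_zero]
    rw [valAt_eq N y (c • g) hs _, valAt_eq N y g hn _]
    unfold valAt
    obtain ⟨x, hx⟩ := Submodule.mkQ_surjective _ (y.val n)
    rw [← hx]
    simp

theorem phiOf_apply (g : N →ₗ[A] E) (n : ℕ)
    (hn : (maximalIdeal A ^ n • ⊤ : Submodule A N) ≤ LinearMap.ker g) :
    phiOf N hf y g = valAt N y g n hn :=
  valAt_eq N y g hn (exists_pow_le_ker N hf g).choose_spec

theorem PsiN_phiOf : PsiN N hf (phiOf N hf y) = y := by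
  apply AdicCompletion.ext
  intro n
  rw [PsiN_val]
  apply (eN N hf n).injective
  ext h
  rw [eN_apply, eN_apply, psiN_spec]
  have hn : (maximalIdeal A ^ n • ⊤ : Submodule A N) ≤
      LinearMap.ker (h.comp (Submodule.mkQ (maximalIdeal A ^ n • ⊤ : Submodule A N))) := by
    intro x hx
    rw [LinearMap.mem_ker, LinearMap.comp_apply]
    have : Submodule.mkQ (maximalIdeal A ^ n • ⊤ : Submodule A N) x = 0 :=
      (Submodule.Quotient.mk_eq_zero _).mpr hx
    rw [this, map_zero]
  rw [phiOf_apply N hf y _ n hn]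
  unfold valAt
  congr 1
  apply Submodule.linearMap_qext
  ext x
  simp

end Surj

theorem PsiN_bijective : Function.Bijective (PsiN N hf) :=
  ⟨PsiN_injective N hf, fun y => ⟨phiOf N hf y, PsiN_phiOf N hf y⟩⟩

/-- **Matlis**: the double dual of a finite module is its completion -/
noncomputable def bidualEquivCompletion :
    ((N →ₗ[A] E) →ₗ[A] E) ≃ₗ[A] AdicCompletion (maximalIdeal A) N :=
  LinearEquiv.ofBijective (PsiN N hf) (PsiN_bijective N hf)

end Groth.Agent.Helper8.Matlis
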