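import Mathlib
import Groth.Prelude.Def_ShStab
import Groth.Agent.Lib.Lead.ShStabHom
import Groth.Agent.Lib.Lead.ShStabPure

/-!
# Morphisms between slope-semistable pure sheaves (S18965)

Parametrised by the strict positivity hypothesis `Lead.ShStabPure.SPHyp` (the leading Hilbert
coefficient of a coherent module whose support has dimension `d` is positive).
-/

set_option autoImplicit false
universe u

open CategoryTheory CategoryTheory.Limits AlgebraicGeometry Polynomial

namespace Groth.Agent.Helper8.MuHom

open StabCat Groth.Agent.Lead.StabPoly Groth.Agent.Helper25.ShStabFormal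
  Groth.Agent.Lead.ShStabHom

/-- from a subobject to the quotient, for `hatSlope` -/
theorem hatSlope_quot (n : ℕ) (pF pK pI : ℚ[X]) (hI : pI = pF - pK) (hK : 0 < alpha n pK)
    (hIpos : 0 < alpha n pI) (h : hatSlope n pK ≤ hatSlope n pF) :
    hatSlope n pF ≤ hatSlope n pI := by
  have e1 : alpha n pI = alpha n pF - alpha n pK := by rw [hI, alpha_sub]
  have e2 : alpha (n - 1) pI = alpha (n - 1) pF - alpha (n - 1) pK := by rw [hI, alpha_sub]
  have hF : 0 < alpha n pF := by linarith
  unfold hatSlope at *
  rw [div_le_div_iff₀ hK hF] at h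
  rw [div_le_div_iff₀ hF hIpos, e2, e1]
  nlinarith

variable (k : Type u) [Field k] (X : Scheme.{u}) [X.Over (Spec (CommRingCat.of k))]
  [IsProper (X ↘ Spec (CommRingCat.of k))]

theorem main18965 (L : X.Modules) (hL : CohB1.IsAmple L)
    (hSP : Groth.Agent.Lead.ShStabPure.SPHyp k X L)
    (n : ℕ) (hn : 1 ≤ n) (hX : topologicalKrullDim X = (n : WithBot ℕ∞))
    (F G : X.Modules) (hFt : ShStab.IsPure X F n) (hGt : ShStab.IsPure X G n)
    (hF : ShStab.IsMuSemistable k X L F n) (hG : ShStab.IsMuSemistable k X L G n)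
    (pF pG : ℚ[X]) (hpF : ShStab.IsHilbPoly k X L F pF) (hpG : ShStab.IsHilbPoly k X L G pG)
    (hlt : StabCat.hatSlope n pG < StabCat.hatSlope n pF) (φ : F ⟶ G) : φ = 0 := by
  by_contra hφ
  obtain ⟨hFc, hFnz, hFd, hFns, hFss⟩ := hF
  obtain ⟨hGc, hGnz, hGd, hGns, hGss⟩ := hG
  obtain ⟨pK, pI, hIeq, hpK, hpI, hKc, hIc, aK, aI, aG, nF, nG, nI⟩ :=
    skeleton k X L hL n F G hFc hGc hFt hGt pF pG hpF hpG φ
  -- the coimage has positive multiplicity
  have hInz := not_isZero_coimage φ hφ
  have hIdim := hGt _ (Abelian.factorThruCoimage φ) inferInstance hIc hInz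
  have hIpos : 0 < alpha n pI := hSP _ n hIc hIdim pI hpI
  -- step 1
  have h1 : hatSlope n pF ≤ hatSlope n pI := by
    by_cases hz : IsZero (kernel φ)
    · have h0 : pK = 0 := hilbPoly_eq_zero_of_isZero k X L _ hz pK hpK
      rw [hIeq, h0, sub_zero]
    · have hKdim := hFt _ (kernel.ι φ) inferInstance hKc hz
      have hKpos : 0 < alpha n pK := hSP _ n hKc hKdim pK hpK
      have hlt' : alpha n pK < alpha n pF := by
        have : alpha n pF = alpha n pI + alpha n pK := by rw [hIeq, alpha_sub]; ring
        linarith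
      have hle := hFss (kernel φ) (kernel.ι φ) inferInstance hKc pK pF hpK hpF hKpos hlt'
      exact hatSlope_quot n pF pK pI hIeq hKpos hIpos hle
  -- step 2
  have h2 : hatSlope n pI ≤ hatSlope n pG := by
    obtain ⟨hQc, hpQ⟩ := Groth.Agent.Helper6.HilbDeg.isHilbPoly_cokernel k X L hL.1 hIc hGc
      (Abelian.factorThruCoimage φ) pI pG hpI hpG
    have hQdim : topologicalKrullDim
        (CohB1.support (cokernel (Abelian.factorThruCoimage φ))) ≤ (n : WithBot ℕ∞) := by
      rw [← hX]
      exact topologicalKrullDim_subspace_le _ _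
    obtain ⟨pQ, dQ⟩ := pdata_of_dim_le k X L hL _ hQc n hQdim
    have e : pQ = pG - pI := hilbPoly_unique k X L _ _ _ dQ.hp hpQ
    have aQ : alpha n pG = alpha n pI + alpha n pQ := by rw [e, alpha_sub]; ring
    have hQa := dQ.alpha
    rcases lt_or_eq_of_le (show alpha n pI ≤ alpha n pG by linarith) with hlt' | heq
    · exact hGss _ (Abelian.factorThruCoimage φ) inferInstance hIc pI pG hpI hpG hIpos hlt'
    · have hQ0 : alpha n pQ = 0 := by linarith
      have hc : pQ.coeff n = 0 := by
        unfold alpha at hQ0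
        rcases mul_eq_zero.mp hQ0 with h | h
        · exact absurd h (by positivity)
        · exact h
      have hdeg : pQ.natDegree ≤ n - 1 := by
        rw [Polynomial.natDegree_le_iff_coeff_eq_zero]
        intro N hN
        rcases Nat.lt_or_ge n N with h | h
        · exact coeff_eq_zero_of_natDegree_lt (lt_of_le_of_lt dQ.deg h)
        · have hNn : N = n := by omega
          rw [hNn]; exact hc
      have hnn := coeff_nonneg_of_eventually_nonneg pQ (n - 1) hdeg dQ.enn
      have hle : alpha (n - 1) pI ≤ alpha (n - 1) pG := by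
        have h3 : alpha (n - 1) pG = alpha (n - 1) pI + alpha (n - 1) pQ := by
          rw [e, alpha_sub]; ring
        have h4 : 0 ≤ alpha (n - 1) pQ := mul_nonneg (Nat.cast_nonneg _) hnn
        linarith
      unfold hatSlope
      rw [← heq]
      exact div_le_div_of_nonneg_right hle hIpos.le
  exact absurd (lt_of_lt_of_le hlt (h1.trans h2)) (lt_irrefl _)

end Groth.Agent.Helper8.MuHom
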