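import Mathlib
import Groth.Prelude.Def_ShStab
import Groth.Agent.Lib.Lead.ShStabHom
import Groth.Agent.Lib.Lead.ShStabPure
import Groth.Agent.Lib.Helper8.MuHom

/-!
# Nonzero morphisms between slope-stable pure sheaves (Hilbert polynomial half of S18966)

Parametrised by the strict positivity hypothesis `Lead.ShStabPure.SPHyp`.
-/

set_option autoImplicit false
universe u

open CategoryTheory CategoryTheory.Limits AlgebraicGeometry Polynomial

namespace Groth.Agent.Helper8.MuIso

open StabCat Groth.Agent.Lead.StabPoly Groth.Agent.Helper25.ShStabFormal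
  Groth.Agent.Lead.ShStabHom

/-- from a subobject to the quotient, for `hatSlope`, strict form -/
theorem hatSlope_quot_lt (n : ℕ) (pF pK pI : ℚ[X]) (hI : pI = pF - pK) (hK : 0 < alpha n pK)
    (hIpos : 0 < alpha n pI) (h : hatSlope n pK < hatSlope n pF) :
    hatSlope n pF < hatSlope n pI := by
  have e1 : alpha n pI = alpha n pF - alpha n pK := by rw [hI, alpha_sub]
  have e2 : alpha (n - 1) pI = alpha (n - 1) pF - alpha (n - 1) pK := by rw [hI, alpha_sub]
  have hF : 0 < alpha n pF := by linarith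
  unfold hatSlope at *
  rw [div_lt_div_iff₀ hK hF] at h
  rw [div_lt_div_iff₀ hF hIpos, e2, e1]
  nlinarith

variable (k : Type u) [Field k] (X : Scheme.{u}) [X.Over (Spec (CommRingCat.of k))]
  [IsProper (X ↘ Spec (CommRingCat.of k))]

/-- a coherent subobject of a slope-stable `G` (with positive multiplicity) has `hatSlope` at most
that of `G`; if moreover the multiplicities differ, strictly smaller. -/
theorem hatSlope_sub_le (L : X.Modules) (hL : CohB1.IsAmple L)
    (n : ℕ) (hX : topologicalKrullDim X = (n : WithBot ℕ∞))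
    (I G : X.Modules) (hIc : Coh.IsCoh I) (hGc : Coh.IsCoh G)
    (hGss : StabCat.IsMuSt Coh.IsCoh (ShStab.IsHilbPoly k X L) n G)
    (ι : I ⟶ G) [Mono ι] (pI pG : ℚ[X]) (hpI : ShStab.IsHilbPoly k X L I pI)
    (hpG : ShStab.IsHilbPoly k X L G pG) (hIpos : 0 < alpha n pI) :
    (alpha n pI < alpha n pG ∧ hatSlope n pI < hatSlope n pG) ∨
      (alpha n pI = alpha n pG ∧ alpha (n - 1) pI ≤ alpha (n - 1) pG ∧
        (pG - pI).natDegree ≤ n) := by
  obtain ⟨hQc, hpQ⟩ := Groth.Agent.Helper6.HilbDeg.isHilbPoly_cokernel k X L hL.1 hIc hGc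
    ι pI pG hpI hpG
  have hQdim : topologicalKrullDim (CohB1.support (cokernel ι)) ≤ (n : WithBot ℕ∞) := by
    rw [← hX]
    exact topologicalKrullDim_subspace_le _ _
  obtain ⟨pQ, dQ⟩ := pdata_of_dim_le k X L hL _ hQc n hQdim
  have e : pQ = pG - pI := hilbPoly_unique k X L _ _ _ dQ.hp hpQ
  have aQ : alpha n pG = alpha n pI + alpha n pQ := by rw [e, alpha_sub]; ring
  have hQa := dQ.alpha
  rcases lt_or_eq_of_le (show alpha n pI ≤ alpha n pG by linarith) with hlt' | heq
  · exact Or.inl ⟨hlt', hGss _ ι inferInstance hIc pI pG hpI hpG hIpos hlt'⟩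
  · right
    have hQ0 : alpha n pQ = 0 := by linarith
    have hc : pQ.coeff n = 0 := by
      unfold alpha at hQ0
      rcases mul_eq_zero.mp hQ0 with h | h
      · exact absurd h (by positivity)
      · exact h
    have hdeg : pQ.natDegree ≤ n - 1 := by
      rw [Polynomial.natDegree_le_iff_coeff_eq_zero]
      intro N hN
      rcases Nat.lt_or_ge n N with h | h
      · exact coeff_eq_zero_of_natDegree_lt (lt_of_le_of_lt dQ.deg h)
      · have hNn : N = n := by omega
        rw [hNn]; exact hc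
    have hnn := coeff_nonneg_of_eventually_nonneg pQ (n - 1) hdeg dQ.enn
    refine ⟨heq, ?_, e ▸ dQ.deg⟩
    have h3 : alpha (n - 1) pG = alpha (n - 1) pI + alpha (n - 1) pQ := by
      rw [e, alpha_sub]; ring
    have h4 : 0 ≤ alpha (n - 1) pQ := mul_nonneg (Nat.cast_nonneg _) hnn
    linarith

theorem core18966 (L : X.Modules) (hL : CohB1.IsAmple L)
    (hSP : Groth.Agent.Lead.ShStabPure.SPHyp k X L)
    (n : ℕ) (hn : 1 ≤ n) (hX : topologicalKrullDim X = (n : WithBot ℕ∞))
    (F G : X.Modules) (hFt : ShStab.IsPure X F n) (hGt : ShStab.IsPure X G n)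
    (hF : ShStab.IsMuStable k X L F n) (hG : ShStab.IsMuStable k X L G n)
    (pF pG : ℚ[X]) (hpF : ShStab.IsHilbPoly k X L F pF) (hpG : ShStab.IsHilbPoly k X L G pG)
    (hle : StabCat.hatSlope n pG ≤ StabCat.hatSlope n pF) (φ : F ⟶ G) (hφ : φ ≠ 0) :
    Mono φ ∧ Coh.IsCoh (cokernel φ) ∧ ShStab.IsHilbPoly k X L (cokernel φ) (pG - pF) ∧
      (pG - pF).natDegree ≤ n ∧ ∀ i, n - 1 ≤ i → (pG - pF).coeff i = 0 := by
  obtain ⟨hFc, hFnz, hFd, hFns, hFss⟩ := hF
  obtain ⟨hGc, hGnz, hGd, hGns, hGss⟩ := hG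
  obtain ⟨pK, pI, hIeq, hpK, hpI, hKc, hIc, aK, aI, aG, nF, nG, nI⟩ :=
    skeleton k X L hL n F G hFc hGc hFt hGt pF pG hpF hpG φ
  have hInz := not_isZero_coimage φ hφ
  have hIdim := hGt _ (Abelian.factorThruCoimage φ) inferInstance hIc hInz
  have hIpos : 0 < alpha n pI := hSP _ n hIc hIdim pI hpI
  -- the coimage compared with `G`
  have h2 : hatSlope n pI ≤ hatSlope n pG := by
    rcases hatSlope_sub_le k X L hL n hX _ G hIc hGc hGss (Abelian.factorThruCoimage φ)
      pI pG hpI hpG hIpos with ⟨-, h⟩ | ⟨heq, hle', -⟩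
    · exact h.le
    · unfold hatSlope
      rw [← heq]
      exact div_le_div_of_nonneg_right hle' hIpos.le
  -- the kernel vanishes
  have hKz : IsZero (kernel φ) := by
    by_contra hz
    have hKdim := hFt _ (kernel.ι φ) inferInstance hKc hz
    have hKpos : 0 < alpha n pK := hSP _ n hKc hKdim pK hpK
    have hlt' : alpha n pK < alpha n pF := by
      have : alpha n pF = alpha n pI + alpha n pK := by rw [hIeq, alpha_sub]; ring
      linarith
    have hlt := hFss (kernel φ) (kernel.ι φ) inferInstance hKc pK pF hpK hpF hKpos hlt'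
    have h1 := hatSlope_quot_lt n pF pK pI hIeq hKpos hIpos hlt
    exact absurd (lt_of_lt_of_le h1 (h2.trans hle)) (lt_irrefl _)
  haveI hmono : Mono φ := Preadditive.mono_of_isZero_kernel φ hKz
  have hFpos : 0 < alpha n pF := hSP F n hFc hFd pF hpF
  obtain ⟨hQc, hpQ⟩ := Groth.Agent.Helper6.HilbDeg.isHilbPoly_cokernel k X L hL.1 hFc hGc
    φ pF pG hpF hpG
  refine ⟨hmono, hQc, hpQ, ?_⟩
  rcases hatSlope_sub_le k X L hL n hX F G hFc hGc hGss φ pF pG hpF hpG hFpos with
    ⟨-, h⟩ | ⟨heq, hle', hdeg⟩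
  · exact absurd (lt_of_lt_of_le h hle) (lt_irrefl _)
  · refine ⟨hdeg, fun i hi => ?_⟩
    have hGpos : 0 < alpha n pG := heq ▸ hFpos
    -- the two top coefficients of `pG - pF` vanish
    have hn0 : alpha n (pG - pF) = 0 := by rw [alpha_sub]; linarith
    have hn1 : alpha (n - 1) (pG - pF) = 0 := by
      rw [alpha_sub]
      have h5 : alpha (n - 1) pG ≤ alpha (n - 1) pF := by
        unfold hatSlope at hle
        rw [← heq] at hle
        exact (div_le_div_iff_of_pos_right hFpos).mp hle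
      linarith
    have c0 : ∀ j, alpha j (pG - pF) = 0 → (pG - pF).coeff j = 0 := by
      intro j hj
      unfold alpha at hj
      rcases mul_eq_zero.mp hj with h | h
      · exact absurd h (by positivity)
      · exact h
    rcases Nat.lt_or_ge n i with h | h
    · exact coeff_eq_zero_of_natDegree_lt (lt_of_le_of_lt hdeg h)
    · rcases Nat.eq_or_lt_of_le h with h' | h'
      · rw [h']; exact c0 n hn0
      · have : i = n - 1 := by omega
        rw [this]; exact c0 (n - 1) hn1

end Groth.Agent.Helper8.MuIso
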