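import Mathlib
import Groth.Prelude.Def_ShStab
import Groth.Agent.Lib.Lead.ShStabHom
import Groth.Agent.Lib.Lead.ShStabPure
import Groth.Agent.Lib.Helper13.QCohStalk
import Groth.Agent.Lib.Helper8.MuIso

/-!
# The cokernel of a nonzero morphism of slope-stable pure sheaves has small support (for S18966)
-/

set_option autoImplicit false
universe u

open CategoryTheory CategoryTheory.Limits AlgebraicGeometry Polynomial

namespace Groth.Agent.Helper8.MuIso

open StabCat

/-- a nonempty subspace of a space of dimension `n` has a natural number as dimension -/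
theorem exists_nat_dim {T : Type*} [TopologicalSpace T] (S : Set T) (hS : S.Nonempty) (n : ℕ)
    (hT : topologicalKrullDim T = (n : WithBot ℕ∞)) :
    ∃ d' : ℕ, topologicalKrullDim ↥S = (d' : WithBot ℕ∞) ∧ d' ≤ n := by
  have hle : topologicalKrullDim ↥S ≤ (n : WithBot ℕ∞) := by
    rw [← hT]
    exact topologicalKrullDim_subspace_le _ _
  obtain ⟨x, hx⟩ := hS
  haveI : Nonempty (TopologicalSpace.IrreducibleCloseds ↥S) :=
    ⟨⟨closure {(⟨x, hx⟩ : ↥S)}, isIrreducible_singleton.closure, isClosed_closure⟩⟩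
  have hge : 0 ≤ topologicalKrullDim ↥S := Order.krullDim_nonneg
  generalize topologicalKrullDim ↥S = v at hle hge
  induction v using WithBot.recBotCoe with
  | bot => exact absurd hge (by simp)
  | coe e =>
    have h1 : e ≤ (n : ℕ∞) := by exact_mod_cast hle
    obtain ⟨d', rfl, hd'⟩ := ENat.le_natCast_iff.mp h1
    exact ⟨d', rfl, hd'⟩

variable (k : Type u) [Field k] (X : Scheme.{u}) [X.Over (Spec (CommRingCat.of k))]
  [IsProper (X ↘ Spec (CommRingCat.of k))]

/-- (from SP) if the coefficients of the Hilbert polynomial vanish in degrees `≥ m`, the support has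
dimension `< m`. -/
theorem dim_support_lt_of_coeff_eq_zero (L : X.Modules)
    (hSP : Groth.Agent.Lead.ShStabPure.SPHyp k X L) (Q : X.Modules) (hQc : Coh.IsCoh Q)
    (pQ : ℚ[X]) (hpQ : ShStab.IsHilbPoly k X L Q pQ) (m : ℕ)
    (hc : ∀ i, m ≤ i → pQ.coeff i = 0) (d' : ℕ)
    (hd' : topologicalKrullDim (CohB1.support Q) = (d' : WithBot ℕ∞)) : d' < m := by
  by_contra h
  rw [not_lt] at h
  have hpos := hSP Q d' hQc hd' pQ hpQ
  unfold StabCat.alpha at hpos
  rw [hc d' h, mul_zero] at hpos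
  exact lt_irrefl _ hpos

theorem support_nonempty_of_not_isZero (Q : X.Modules) (hQ : ¬ IsZero Q) :
    (CohB1.support Q).Nonempty := by
  by_contra hne
  apply hQ
  rw [Groth.Agent.Helper13.QCoh.isZero_iff_stalk]
  intro x
  by_contra hx
  exact hne ⟨x, hx⟩

/-- S18966, Hilbert polynomial half: a nonzero morphism `φ : F ⟶ G` of slope-stable pure sheaves
with `μ(G) ≤ μ(F)` is a monomorphism whose cokernel is zero or has support of dimension `≤ n - 2`. -/
theorem mono_and_cokernel_small (L : X.Modules) (hL : CohB1.IsAmple L)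
    (hSP : Groth.Agent.Lead.ShStabPure.SPHyp k X L)
    (n : ℕ) (hn : 1 ≤ n) (hX : topologicalKrullDim X = (n : WithBot ℕ∞))
    (F G : X.Modules) (hFt : ShStab.IsPure X F n) (hGt : ShStab.IsPure X G n)
    (hF : ShStab.IsMuStable k X L F n) (hG : ShStab.IsMuStable k X L G n)
    (pF pG : ℚ[X]) (hpF : ShStab.IsHilbPoly k X L F pF) (hpG : ShStab.IsHilbPoly k X L G pG)
    (hle : StabCat.hatSlope n pG ≤ StabCat.hatSlope n pF) (φ : F ⟶ G) (hφ : φ ≠ 0) :
    Mono φ ∧ Coh.IsCoh (cokernel φ) ∧
      (IsZero (cokernel φ) ∨ ∃ d' : ℕ,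
        topologicalKrullDim (CohB1.support (cokernel φ)) = (d' : WithBot ℕ∞) ∧ d' + 2 ≤ n) := by
  obtain ⟨hm, hQc, hpQ, -, hc⟩ :=
    core18966 k X L hL hSP n hn hX F G hFt hGt hF hG pF pG hpF hpG hle φ hφ
  refine ⟨hm, hQc, ?_⟩
  by_cases hz : IsZero (cokernel φ)
  · exact Or.inl hz
  · right
    obtain ⟨d', hd', -⟩ := exists_nat_dim (CohB1.support (cokernel φ))
      (support_nonempty_of_not_isZero X _ hz) n hX
    have hlt := dim_support_lt_of_coeff_eq_zero k X L hSP _ hQc _ hpQ (n - 1) hc d' hd'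
    exact ⟨d', hd', by omega⟩

end Groth.Agent.Helper8.MuIso
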