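import Mathlib.RingTheory.Etale.StandardEtale
import Mathlib.Algebra.TrivSqZeroExt.Ideal
import Mathlib.RingTheory.Unramified.Basic

/-!
# `μ_n = Spec A[X]/(X^n-1)` is étale iff `n` is a unit
-/

namespace Groth.Agent.Helper8.MuN

open Polynomial

variable {A : Type*} [CommRing A]

/-- The standard étale pair `(X^n - 1, 1)` when `n` is invertible. -/
noncomputable def pair (n : ℕ) (hn : 1 ≤ n) (u : A) (hu : (n : A) * u = 1) :
    StandardEtalePair A where
  f := X ^ n - 1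
  monic_f := by
    have := monic_X_pow_sub_C (1 : A) (by omega : n ≠ 0)
    simpa using this
  g := 1
  cond := by
    refine ⟨C u * X, -1, 0, ?_⟩
    obtain ⟨m, rfl⟩ : ∃ m, n = m + 1 := ⟨n - 1, by omega⟩
    simp only [derivative_sub, derivative_X_pow, derivative_one, sub_zero, pow_zero,
      Nat.add_sub_cancel]
    have : (C ((m + 1 : ℕ) : A) : A[X]) * C u = 1 := by rw [← C_mul, hu, C_1]
    calc C ((m + 1 : ℕ) : A) * X ^ m * (C u * X) + (X ^ (m + 1) - 1) * -1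
        = (C ((m + 1 : ℕ) : A) * C u) * X ^ (m + 1) - X ^ (m + 1) + 1 := by ring
      _ = 1 := by rw [this]; ring

theorem etale_of_isUnit (n : ℕ) (hn : 1 ≤ n) (h : IsUnit ((n : ℕ) : A)) :
    Algebra.Etale A (AdjoinRoot ((X : A[X]) ^ n - 1)) := by
  obtain ⟨u, hu⟩ := h.exists_right_inv
  let P := pair n hn u hu
  have hunit : IsUnit (AdjoinRoot.mk P.f P.g) := by
    show IsUnit (AdjoinRoot.mk P.f 1)
    rw [map_one]; exact isUnit_one
  let e1 : P.Ring ≃ₐ[A] Localization.Away (AdjoinRoot.mk P.f P.g) := P.equivAwayAdjoinRoot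
  let e2 : AdjoinRoot P.f ≃ₐ[A] Localization.Away (AdjoinRoot.mk P.f P.g) :=
    (IsLocalization.atUnit (AdjoinRoot P.f) (Localization.Away (AdjoinRoot.mk P.f P.g))
      (AdjoinRoot.mk P.f P.g) hunit).restrictScalars A
  exact Algebra.Etale.of_equiv (e1.trans e2.symm)

end Groth.Agent.Helper8.MuN

namespace Groth.Agent.Helper8.MuN

open Polynomial

variable {A : Type*} [CommRing A]

theorem root_pow (n : ℕ) : (AdjoinRoot.root ((X : A[X]) ^ n - 1)) ^ n = 1 := by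
  have h := AdjoinRoot.eval₂_root ((X : A[X]) ^ n - 1)
  simp only [eval₂_sub, eval₂_X_pow, eval₂_one] at h
  exact sub_eq_zero.mp h

theorem isUnit_of_formallyUnramified (n : ℕ) (hn : 1 ≤ n)
    [Algebra.FormallyUnramified A (AdjoinRoot ((X : A[X]) ^ n - 1))] :
    IsUnit ((n : ℕ) : A) := by
  set f : A[X] := X ^ n - 1 with hf
  let I : Ideal (AdjoinRoot f) := Ideal.span {((n : ℕ) : AdjoinRoot f)}
  let x : AdjoinRoot f ⧸ I := Ideal.Quotient.mk I (AdjoinRoot.root f)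
  have hxn : x ^ n = 1 := by
    rw [← map_pow, root_pow, map_one]
  have hnq : ((n : ℕ) : AdjoinRoot f ⧸ I) = 0 := by
    rw [← map_natCast (Ideal.Quotient.mk I)]
    exact Ideal.Quotient.eq_zero_iff_mem.mpr (Ideal.subset_span rfl)
  have h1 : eval₂ (Algebra.ofId A (TrivSqZeroExt (AdjoinRoot f ⧸ I) (AdjoinRoot f ⧸ I))).toRingHom
      (TrivSqZeroExt.inl x : TrivSqZeroExt (AdjoinRoot f ⧸ I) (AdjoinRoot f ⧸ I)) f = 0 := by
    simp only [hf, eval₂_sub, eval₂_X_pow, eval₂_one]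
    rw [TrivSqZeroExt.inl_pow, hxn, TrivSqZeroExt.inl_one, sub_self]
  have h2 : eval₂ (Algebra.ofId A (TrivSqZeroExt (AdjoinRoot f ⧸ I) (AdjoinRoot f ⧸ I))).toRingHom
      (TrivSqZeroExt.inl x + TrivSqZeroExt.inr x :
        TrivSqZeroExt (AdjoinRoot f ⧸ I) (AdjoinRoot f ⧸ I)) f = 0 := by
    simp only [hf, eval₂_sub, eval₂_X_pow, eval₂_one]
    apply TrivSqZeroExt.ext
    · simp [TrivSqZeroExt.fst_pow, hxn]
    · simp only [TrivSqZeroExt.snd_sub, TrivSqZeroExt.snd_pow, TrivSqZeroExt.snd_one,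
        TrivSqZeroExt.snd_zero, sub_zero]
      rw [← Nat.cast_smul_eq_nsmul (AdjoinRoot f ⧸ I), hnq, zero_smul]
  let g₁ : AdjoinRoot f →ₐ[A] TrivSqZeroExt (AdjoinRoot f ⧸ I) (AdjoinRoot f ⧸ I) :=
    AdjoinRoot.liftAlgHom f (Algebra.ofId A (TrivSqZeroExt (AdjoinRoot f ⧸ I) (AdjoinRoot f ⧸ I)))
      (TrivSqZeroExt.inl x) h1
  let g₂ : AdjoinRoot f →ₐ[A] TrivSqZeroExt (AdjoinRoot f ⧸ I) (AdjoinRoot f ⧸ I) :=
    AdjoinRoot.liftAlgHom f (Algebra.ofId A (TrivSqZeroExt (AdjoinRoot f ⧸ I) (AdjoinRoot f ⧸ I)))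
      (TrivSqZeroExt.inl x + TrivSqZeroExt.inr x) h2
  have hker : IsNilpotent (RingHom.ker
      (TrivSqZeroExt.fstHom (AdjoinRoot f ⧸ I) (AdjoinRoot f ⧸ I) (AdjoinRoot f ⧸ I)).toRingHom) :=
    ⟨2, TrivSqZeroExt.kerIdeal_sq _ _⟩
  have hcomp : ((TrivSqZeroExt.fstHom A (AdjoinRoot f ⧸ I) (AdjoinRoot f ⧸ I)).comp g₁) =
      ((TrivSqZeroExt.fstHom A (AdjoinRoot f ⧸ I) (AdjoinRoot f ⧸ I)).comp g₂) := by
    apply AdjoinRoot.algHom_ext
    simp [g₁, g₂]
  have heq : g₁ = g₂ := Algebra.FormallyUnramified.ext' _ hker g₁ g₂ (fun b => by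
    have := DFunLike.congr_fun hcomp b
    simpa using this)
  have hroot := DFunLike.congr_fun heq (AdjoinRoot.root f)
  simp only [g₁, g₂, AdjoinRoot.liftAlgHom_root] at hroot
  have hx0 : x = 0 := by
    have := congrArg TrivSqZeroExt.snd hroot
    simpa using this.symm
  have h10 : (1 : AdjoinRoot f ⧸ I) = 0 := by rw [← hxn, hx0, zero_pow (by omega)]
  have hmem : (1 : AdjoinRoot f) ∈ I := by
    rw [← Ideal.Quotient.eq_zero_iff_mem, map_one, h10]
  obtain ⟨b, hb⟩ := Ideal.mem_span_singleton'.mp hmem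
  -- retraction to A
  have h3 : eval₂ (Algebra.ofId A A).toRingHom (1 : A) f = 0 := by
    simp [hf]
  let ε := AdjoinRoot.liftAlgHom f (Algebra.ofId A A) 1 h3
  have := congrArg ε hb
  rw [map_mul, map_natCast, map_one] at this
  exact IsUnit.of_mul_eq_one _ (by rw [mul_comm]; exact this)

end Groth.Agent.Helper8.MuN
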