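import Groth.Agent.Lib.Helper8.DualMod2
import Groth.Agent.Lib.Helper1.InjHullIndec
import Groth.Agent.Lib.Helper11.DCInjAmp

/-!
# Injective dimension of `A[X] ⊗ E` over `A[X]` (helper8)
-/

set_option autoImplicit false
universe u

namespace Groth.Agent.Helper8.PolyInj

open CategoryTheory Abelian Polynomial

variable {A : Type u} [CommRing A]

/-- the ring map `A → A[X]` -/
noncomputable abbrev fC (A : Type u) [CommRing A] : A →+* A[X] := algebraMap A A[X]

/-- `Hom_A(A[X], N)` as an `A[X]`-module. -/
noncomputable abbrev coext (N : ModuleCat.{u} A[X]) : ModuleCat.{u} A[X] :=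
  (ModuleCat.coextendScalars (fC A)).obj ((ModuleCat.restrictScalars (fC A)).obj N)

/-- `N → Hom_A(A[X], N)` -/
noncomputable def ι (N : ModuleCat.{u} A[X]) : N ⟶ coext N :=
  (ModuleCat.restrictCoextendScalarsAdj (fC A)).unit.app N

/-- the differential `φ ↦ (s ↦ X φ(s) - φ(s X))` -/
noncomputable def d (N : ModuleCat.{u} A[X]) : coext N ⟶ coext N :=
  (ModuleCat.coextendScalars (fC A)).map
    ((ModuleCat.restrictScalars (fC A)).map ((X : A[X]) • 𝟙 N)) - (X : A[X]) • 𝟙 (coext N)

/-- evaluation of an element of `Hom_A(A[X], N)` -/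
noncomputable def ev (N : ModuleCat.{u} A[X]) (φ : coext N) (s : A[X]) : N :=
  (ModuleCat.CoextendScalars.equiv (fC A) _ φ) s

theorem ev_ι (N : ModuleCat.{u} A[X]) (m : N) (s : A[X]) :
    ev N (ι N m) s = s • m := rfl

theorem ev_d (N : ModuleCat.{u} A[X]) (φ : coext N) (s : A[X]) :
    ev N (d N φ) s = (X : A[X]) • ev N φ s - ev N φ (s * X) := rfl

theorem ev_add (N : ModuleCat.{u} A[X]) (φ : coext N) (s t : A[X]) :
    ev N φ (s + t) = ev N φ s + ev N φ t :=
  map_add (ModuleCat.CoextendScalars.equiv (fC A) _ φ) s t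

theorem ev_C_mul (N : ModuleCat.{u} A[X]) (φ : coext N) (a : A) (t : A[X]) :
    ev N φ (C a * t) = (C a : A[X]) • ev N φ t :=
  LinearMap.map_smul (ModuleCat.CoextendScalars.equiv (fC A) _ φ) a t

theorem coext_ext (N : ModuleCat.{u} A[X]) (φ ψ : coext N)
    (h : ∀ s : A[X], ev N φ s = ev N ψ s) : φ = ψ := by
  apply ModuleCat.CoextendScalars.ext
  apply LinearMap.ext
  intro s
  exact h s

theorem ι_d (N : ModuleCat.{u} A[X]) : ι N ≫ d N = 0 := by
  apply ModuleCat.hom_ext
  apply LinearMap.ext
  intro m
  apply coext_ext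
  intro s
  show ev N (d N (ι N m)) s = 0
  rw [ev_d, ev_ι, ev_ι, smul_smul, mul_comm, sub_self]

theorem ι_injective (N : ModuleCat.{u} A[X]) : Function.Injective (ι N) := by
  intro m m' h
  have h1 : ev N (ι N m) (1 : A[X]) = ev N (ι N m') (1 : A[X]) := by rw [h]
  rw [ev_ι, ev_ι, one_smul, one_smul] at h1
  exact h1

theorem exists_of_d_eq_zero (N : ModuleCat.{u} A[X]) (φ : coext N) (h : d N φ = 0) :
    ∃ m : N, ι N m = φ := by
  refine ⟨ev N φ (1 : A[X]), ?_⟩
  have hX : ∀ s : A[X], (X : A[X]) • ev N φ s = ev N φ (s * X) := by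
    intro s
    have h1 := ev_d N φ s
    rw [h] at h1
    exact (sub_eq_zero.mp h1.symm)
  apply coext_ext
  intro s
  rw [ev_ι]
  induction s using Polynomial.induction_on' with
  | add p q hp hq =>
    rw [ev_add, add_smul, hp, hq]
  | monomial n a =>
    induction n with
    | zero =>
      rw [Polynomial.monomial_zero_left]
      have h1 := ev_C_mul N φ a 1
      rw [mul_one] at h1
      exact h1.symm
    | succ n ih =>
      have h1 : (monomial (n + 1) a : A[X]) = monomial n a * X := by
        rw [Polynomial.monomial_mul_X]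
      rw [h1, ← hX (monomial n a), mul_comm, mul_smul, ih]


/-- the recursive sequence -/
noncomputable def cSeq (N : ModuleCat.{u} A[X]) (ψ : coext N) : ℕ → N
  | 0 => 0
  | (n + 1) => (X : A[X]) • cSeq N ψ n - ev N ψ (monomial n 1)

/-- the recursive sequence, in the restricted module -/
noncomputable def cSeq' (N : ModuleCat.{u} A[X]) (ψ : coext N) :
    ℕ → ((ModuleCat.restrictScalars (fC A)).obj N) := cSeq N ψ

/-- the `A`-linear map underlying the preimage -/
noncomputable def preimL (N : ModuleCat.{u} A[X]) (ψ : coext N) :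
    A[X] →ₗ[A] ((ModuleCat.restrictScalars (fC A)).obj N) :=
  (Polynomial.basisMonomials A).constr A (cSeq' N ψ)

/-- the preimage under `d` -/
noncomputable def preim (N : ModuleCat.{u} A[X]) (ψ : coext N) : coext N :=
  (ModuleCat.CoextendScalars.equiv (fC A) _).symm
    { toFun := fun s => preimL N ψ s
      map_add' := fun s t => map_add (preimL N ψ) s t
      map_smul' := fun a s => by
        have h1 : (a • s : ((ModuleCat.restrictScalars (fC A)).obj (ModuleCat.of A[X] A[X]))) =
          ((a • (show A[X] from s) : A[X])) := by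
          show (C a * (show A[X] from s) : A[X]) = _
          rw [Polynomial.smul_eq_C_mul]
        rw [h1]
        exact map_smul (preimL N ψ) a (show A[X] from s) }

theorem ev_preim_monomial (N : ModuleCat.{u} A[X]) (ψ : coext N) (n : ℕ) :
    ev N (preim N ψ) (monomial n 1) = cSeq N ψ n := by
  show preimL N ψ (monomial n 1) = _
  have h1 : (monomial n (1 : A) : A[X]) = Polynomial.basisMonomials A n := by
    rw [Polynomial.coe_basisMonomials]
  rw [h1, preimL, Module.Basis.constr_basis]
  rfl

theorem d_preim (N : ModuleCat.{u} A[X]) (ψ : coext N) : d N (preim N ψ) = ψ := by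
  apply coext_ext
  intro s
  induction s using Polynomial.induction_on' with
  | add p q hp hq => rw [ev_add, ev_add, hp, hq]
  | monomial n a =>
    have h1 : (monomial n a : A[X]) = C a * monomial n 1 := by
      rw [Polynomial.C_mul_monomial, mul_one]
    rw [h1, ev_C_mul, ev_C_mul]
    congr 1
    rw [ev_d, Polynomial.monomial_mul_X, ev_preim_monomial, ev_preim_monomial]
    show (X : A[X]) • cSeq N ψ n - ((X : A[X]) • cSeq N ψ n - ev N ψ (monomial n 1)) = _
    abel


end Groth.Agent.Helper8.PolyInj
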