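import Groth.Agent.Lib.Helper8.LOC13

/-!
# Pointwise dualizing complexes, part 1: the dimension function (helper8)

`R` is a bounded below object of `D(A)` whose localizations at all primes are dualizing.
We redo the construction of the dimension function of `LOC9`/`LOC10` in this generality.
-/

set_option autoImplicit false

open CategoryTheory CategoryTheory.Limits Opposite Pretriangulated

universe u

namespace Groth.Agent.Helper8.PtD

open DerivedCategory ChangeOfRings IsLocalRing Groth.Agent.Helper8.LOC

attribute [local instance] HasDerivedCategory.standard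

section Deg

variable {A : Type u} [CommRing A] [IsNoetherianRing A] (R : Dual.D A)
  (hpt : ∀ (p : Ideal A) [p.IsPrime], Dual.IsDualizing (Localization.AtPrime p) (omegaAt R p))

include hpt in
theorem exists_pdeg (p : Ideal A) [p.IsPrime] :
    ∃ n : ℤ, ∀ i : ℤ, Nontrivial (Dual.inD (Localization.AtPrime p)
      (Localization.AtPrime p ⧸ maximalIdeal (Localization.AtPrime p)) ⟶ (omegaAt R p)⟦i⟧) ↔
        i = n := by
  have hB : IsNoetherianRing (Localization.AtPrime p) :=
    IsLocalization.isNoetherianRing p.primeCompl _ inferInstance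
  obtain ⟨n, h1, ⟨e⟩⟩ := Groth.Agent.Helper8.BiDual.exists_unique_ext_residue (omegaAt R p)
    (hpt p) (maximalIdeal (Localization.AtPrime p))
  refine ⟨n, fun i => ⟨fun h => ?_, fun h => ?_⟩⟩
  · by_contra hne
    have := h1 i hne
    exact (not_subsingleton_iff_nontrivial.mpr h) this
  · subst h
    haveI : Nontrivial (Localization.AtPrime p ⧸ maximalIdeal (Localization.AtPrime p)) :=
      Ideal.Quotient.nontrivial_iff.mpr (maximalIdeal.isMaximal _).ne_top
    exact e.toEquiv.nontrivial

/-- the unique degree `n` with `Hom(κ(p), R_p⟦n⟧) ≠ 0` -/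
noncomputable def pdeg (p : Ideal A) [p.IsPrime] : ℤ := (exists_pdeg R hpt p).choose

theorem pdeg_spec (p : Ideal A) [p.IsPrime] (i : ℤ) :
    Nontrivial (Dual.inD (Localization.AtPrime p)
      (Localization.AtPrime p ⧸ maximalIdeal (Localization.AtPrime p)) ⟶ (omegaAt R p)⟦i⟧) ↔
        i = pdeg R hpt p :=
  (exists_pdeg R hpt p).choose_spec i

/-- the normalized dualizing complex at `p` -/
noncomputable abbrev pnu (p : Ideal A) [p.IsPrime] : Dual.D (Localization.AtPrime p) :=
  (omegaAt R p)⟦pdeg R hpt p⟧

theorem isDualizing_pnu (p : Ideal A) [p.IsPrime] :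
    Dual.IsDualizing (Localization.AtPrime p) (pnu R hpt p) :=
  isDualizing_shift _ (hpt p) _

theorem isNormalized_pnu (p : Ideal A) [p.IsPrime] :
    Dual.IsNormalized (Localization.AtPrime p) (pnu R hpt p) := by
  intro i hi
  rw [← not_nontrivial_iff_subsingleton]
  intro hnt
  have h1 : Nontrivial (Dual.inD (Localization.AtPrime p)
      (Localization.AtPrime p ⧸ maximalIdeal (Localization.AtPrime p)) ⟶
        (omegaAt R p)⟦pdeg R hpt p + i⟧) := by
    have h2 : Nontrivial (Dual.inD (Localization.AtPrime p)
      (Localization.AtPrime p ⧸ maximalIdeal (Localization.AtPrime p)) ⟶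
        (pnu R hpt p)⟦i⟧) := hnt
    rw [← not_subsingleton_iff_nontrivial] at h2 ⊢
    exact fun h => h2 ((subsingleton_hom_iff_of_iso (Iso.refl _)
      (shiftShiftIso' (omegaAt R p) (pdeg R hpt p) i _ rfl)).mpr h)
  have := (pdeg_spec R hpt p _).mp h1
  omega

variable (a : ℤ)
  (hlow : ∀ j : ℤ, j < a → IsZero ((homologyFunctor (ModuleCat.{u} A) j).obj R))

include hlow in
/-- localization of `Hom(M[0], R⟦i⟧)` at a prime, in terms of the normalized complex -/
theorem subsingleton_locHom_pnu_iff (p : Ideal A) [p.IsPrime] {M M' : Type u} [AddCommGroup M]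
    [Module A M] [Module.Finite A M] [AddCommGroup M'] [Module A M']
    [Module (Localization.AtPrime p) M'] [IsScalarTower A (Localization.AtPrime p) M']
    (f : M →ₗ[A] M') [IsLocalizedModule p.primeCompl f] (i j : ℤ) (hij : pdeg R hpt p + j = i) :
    Subsingleton (LocalizedModule p.primeCompl (Dual.inD A M ⟶ R⟦i⟧)) ↔
      Subsingleton (Dual.inD (Localization.AtPrime p) M' ⟶ (pnu R hpt p)⟦j⟧) := by
  rw [subsingleton_locHom_iff p.primeCompl (Localization.AtPrime p) f R a hlow i]
  exact (subsingleton_hom_iff_of_iso (Iso.refl _)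
    (shiftShiftIso' (omegaAt R p) (pdeg R hpt p) j i hij)).symm

include hlow in
/-- the defining property of `pdeg` in terms of `A` -/
theorem nontrivial_locHom_quot_iff' (p : Ideal A) [p.IsPrime] (i : ℤ) :
    Nontrivial (LocalizedModule p.primeCompl (Dual.inD A (A ⧸ p) ⟶ R⟦i⟧)) ↔
      i = pdeg R hpt p := by
  rw [← pdeg_spec R hpt p i, ← not_subsingleton_iff_nontrivial, ← not_subsingleton_iff_nontrivial,
    subsingleton_locHom_iff p.primeCompl (Localization.AtPrime p) (resMap p) R a hlow i]

include hlow in
/-- **`pdeg` is a dimension function** -/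
theorem pdeg_eq_of_covBy (p q : PrimeSpectrum A) (h : p ⋖ q) :
    pdeg R hpt p.asIdeal = pdeg R hpt q.asIdeal - 1 := by
  have hpq : p.asIdeal ≤ q.asIdeal := h.le
  have hB : IsNoetherianRing (Localization.AtPrime q.asIdeal) :=
    IsLocalization.isNoetherianRing q.asIdeal.primeCompl _ inferInstance
  have hdisj : Disjoint (q.asIdeal.primeCompl : Set A) (p.asIdeal : Set A) :=
    Set.disjoint_left.mpr fun x hx hxp => hx (hpq hxp)
  have hPprime : (p.asIdeal.map (algebraMap A (Localization.AtPrime q.asIdeal))).IsPrime :=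
    IsLocalization.isPrime_of_isPrime_disjoint q.asIdeal.primeCompl _ _ p.isPrime hdisj
  have hunder : (p.asIdeal.map (algebraMap A (Localization.AtPrime q.asIdeal))).under A =
      p.asIdeal :=
    IsLocalization.under_map_of_isPrime_disjoint q.asIdeal.primeCompl _ p.isPrime hdisj
  have hP : p.asIdeal.map (algebraMap A (Localization.AtPrime q.asIdeal)) ≠
      maximalIdeal (Localization.AtPrime q.asIdeal) := by
    intro heq
    have h1 := hunder
    rw [heq, Localization.AtPrime.under_maximalIdeal] at h1
    exact h.lt.ne (PrimeSpectrum.ext h1.symm)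
  have hcov : ∀ x : Ideal (Localization.AtPrime q.asIdeal), x.IsPrime →
      p.asIdeal.map (algebraMap A (Localization.AtPrime q.asIdeal)) ≤ x →
      x = p.asIdeal.map (algebraMap A (Localization.AtPrime q.asIdeal)) ∨
        x = maximalIdeal (Localization.AtPrime q.asIdeal) := by
    intro x hx hPx
    have hxp : (x.under A).IsPrime := Ideal.IsPrime.under A x
    have h1 : p.asIdeal ≤ x.under A := by
      rw [← hunder]
      exact Ideal.comap_mono hPx
    have h2 : x.under A ≤ q.asIdeal := by
      have := Ideal.comap_mono (f := algebraMap A (Localization.AtPrime q.asIdeal))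
        (IsLocalRing.le_maximalIdeal hx.ne_top)
      rwa [← Ideal.under_def, ← Ideal.under_def, Localization.AtPrime.under_maximalIdeal] at this
    have h3 := h.eq_or_eq (c := ⟨x.under A, hxp⟩) h1 h2
    have h4 := IsLocalization.map_under q.asIdeal.primeCompl (Localization.AtPrime q.asIdeal) x
    rcases h3 with h3 | h3
    · left
      rw [← h4, show x.under A = p.asIdeal from congrArg PrimeSpectrum.asIdeal h3]
    · right
      rw [← h4, show x.under A = q.asIdeal from congrArg PrimeSpectrum.asIdeal h3,
        Localization.AtPrime.map_eq_maximalIdeal]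
  have h1 : Nontrivial (LocalizedModule p.asIdeal.primeCompl
      (Dual.inD A (A ⧸ p.asIdeal) ⟶ R⟦pdeg R hpt p.asIdeal⟧)) :=
    (nontrivial_locHom_quot_iff' R hpt a hlow p.asIdeal _).mpr rfl
  have h2 := nontrivial_localizedModule_of_le hpq _ h1
  rw [← not_subsingleton_iff_nontrivial, subsingleton_locHom_pnu_iff R hpt a hlow q.asIdeal
    (quotLocMap q.asIdeal.primeCompl (Localization.AtPrime q.asIdeal) p.asIdeal)
    (pdeg R hpt p.asIdeal) (pdeg R hpt p.asIdeal - pdeg R hpt q.asIdeal) (by omega),
    not_subsingleton_iff_nontrivial] at h2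
  have h3 := eq_neg_one_of_nontrivial_hom (pnu R hpt q.asIdeal) (isDualizing_pnu R hpt q.asIdeal)
    (isNormalized_pnu R hpt q.asIdeal) _ hP hcov _ h2
  omega

end Deg

end Groth.Agent.Helper8.PtD
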