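import Mathlib
import Groth.Agent.Lib.Helper2.CIField2
import Groth.Agent.Lib.Helper20.Link4
import Groth.Agent.Lib.Helper20.GorFlat3
import Groth.Agent.Lib.Helper12.GorField

/-!
# A local complete intersection algebra over a field is Gorenstein (helper8)
-/

set_option autoImplicit false
set_option linter.style.haveILetI false
set_option linter.unusedSectionVars false
universe u

namespace Groth.Agent.Helper8.QFOm

/-- a complete intersection local ring over a field is Gorenstein -/
theorem isGorensteinLocalRing_of_isCIOver (k S : Type u) [Field k] [CommRing S] [Algebra k S]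
    [IsLocalRing S] (h : Synt.IsCIOver k S) : LocCoh.IsGorensteinLocalRing S := by
  obtain ⟨R, _, hR, _, -, rs, hmem, hreg, ⟨e⟩⟩ := h
  haveI : LocCoh.IsGorensteinLocalRing R :=
    Groth.Agent.Lead.Depth.isGorensteinLocalRing_of_isRegularLocalRing R
  haveI h1 := Groth.Agent.Helper20.Link.gor_quot_ofList rs.length R rs rfl hmem hreg.toIsWeaklyRegular
  exact Groth.Agent.Helper20.GorFlat.isGorensteinLocalRing_of_ringEquiv e.symm.toRingEquiv

/-- a local complete intersection algebra over a field is Gorenstein -/
theorem isGorensteinRing_of_isLCIOver (k S : Type u) [Field k] [CommRing S] [Algebra k S]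
    (h : Synt.IsLCIOver k S) : LocCoh.IsGorensteinRing S := by
  haveI : Algebra.FiniteType k S := h.1
  haveI : IsNoetherianRing S := Algebra.FiniteType.isNoetherianRing k S
  refine { isGorensteinLocalRing_localization := fun q _ => ?_ }
  exact isGorensteinLocalRing_of_isCIOver k _
    (Groth.Agent.Helper2.CIField.isCIOver_atPrime_of_lciOver k S h q)

end Groth.Agent.Helper8.QFOm
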