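import Groth.Agent.Lib.Helper8.RelDz5
import Groth.Agent.Lib.Helper8.ShF4
import Groth.Agent.Lib.Helper11.FlatPc6

/-!
# `ω_{A/R}` for `A` flat of finite type with fibre dimensions `≤ d` and `pd_{R[x]}(A) ≤ e`:
cohomology and tor amplitude in `[-d, e - n]` (helper8)
-/

set_option autoImplicit false
universe u

open CategoryTheory Limits DerivedCategory TensorProduct AlgebraicGeometry

attribute [local instance] HasDerivedCategory.standard
attribute [local instance] MvPolynomial.algebraMvPolynomial Algebra.TensorProduct.rightAlgebra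

namespace Groth.Agent.Helper8.RelDz

open Dual2 Groth.Agent.Helper11.DC Groth.Agent.Helper11.TA Groth.Agent.Helper11.LDer
  Groth.Agent.Helper11.Shr

section PdBC

variable (R R' A : Type u) [CommRing R] [CommRing R'] [CommRing A] [IsNoetherianRing R]
  [Algebra R R'] [Algebra R A] [Module.Flat R A] (n : ℕ)
  (ψ : MvPolynomial (Fin n) R →ₐ[R] A)

/-- the projective dimension over the polynomial ring does not go up under base change -/
theorem pdLT_baseChange (e : ℕ)
    (hpd : letI : Algebra (MvPolynomial (Fin n) R) A := ψ.toRingHom.toAlgebra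
      HasProjectiveDimensionLT (ModuleCat.of (MvPolynomial (Fin n) R) A) (e + 1)) :
    letI : Algebra (MvPolynomial (Fin n) R') (R' ⊗[R] A) :=
      (psiBC (R' := R') ψ).toRingHom.toAlgebra
    HasProjectiveDimensionLT (ModuleCat.of (MvPolynomial (Fin n) R') (R' ⊗[R] A)) (e + 1) := by
  letI algPA : Algebra (MvPolynomial (Fin n) R) A := ψ.toRingHom.toAlgebra
  haveI t1 : IsScalarTower R (MvPolynomial (Fin n) R) A :=
    IsScalarTower.of_algebraMap_eq (fun r => (ψ.commutes r).symm)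
  letI algP'A' : Algebra (MvPolynomial (Fin n) R') (R' ⊗[R] A) :=
    (psiBC (R' := R') ψ).toRingHom.toAlgebra
  haveI t2 : IsScalarTower R' (MvPolynomial (Fin n) R') (R' ⊗[R] A) :=
    IsScalarTower.of_algebraMap_eq (fun r => ((psiBC (R' := R') ψ).commutes r).symm)
  letI algPA' : Algebra (MvPolynomial (Fin n) R) (R' ⊗[R] A) :=
    ((algebraMap A (R' ⊗[R] A)).comp (algebraMap (MvPolynomial (Fin n) R) A)).toAlgebra
  haveI t3 : IsScalarTower (MvPolynomial (Fin n) R) A (R' ⊗[R] A) :=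
    IsScalarTower.of_algebraMap_eq (fun x => rfl)
  haveI t4 : IsScalarTower (MvPolynomial (Fin n) R) (MvPolynomial (Fin n) R') (R' ⊗[R] A) := by
    refine IsScalarTower.of_algebraMap_eq (fun x => ?_)
    show (1 : R') ⊗ₜ[R] ψ x = psiBC (R' := R') ψ (MvPolynomial.map (algebraMap R R') x)
    rw [← Groth.Agent.Helper8.ShF.betaBC_eq_map, psiBC_betaBC]
  haveI t5 : IsScalarTower R (MvPolynomial (Fin n) R') (R' ⊗[R] A) := by
    refine IsScalarTower.of_algebraMap_eq (fun r => ?_)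
    rw [IsScalarTower.algebraMap_apply R R' (R' ⊗[R] A),
      IsScalarTower.algebraMap_apply R R' (MvPolynomial (Fin n) R'),
      ← IsScalarTower.algebraMap_apply R' (MvPolynomial (Fin n) R') (R' ⊗[R] A)]
  haveI hpo : Algebra.IsPushout (MvPolynomial (Fin n) R) A (MvPolynomial (Fin n) R') (R' ⊗[R] A) :=
    (Algebra.IsPushout.comp_iff R (MvPolynomial (Fin n) R) R' (MvPolynomial (Fin n) R')
      (T := A) (T' := R' ⊗[R] A)).mp inferInstance
  haveI hpo' : Algebra.IsPushout (MvPolynomial (Fin n) R) (MvPolynomial (Fin n) R') A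
      (R' ⊗[R] A) := hpo.symm
  have hM : Module.Flat R ((ModuleCat.restrictScalars.{u}
      (algebraMap R (MvPolynomial (Fin n) R))).obj (ModuleCat.of (MvPolynomial (Fin n) R) A)) :=
    Groth.Agent.Helper11.FlatPc.flat_rs_of_flat R (MvPolynomial (Fin n) R) A
  have h1 := Groth.Agent.Helper11.FlatPc.pdLT_es_of_flat R R' (MvPolynomial (Fin n) R)
    (MvPolynomial (Fin n) R') (ModuleCat.of (MvPolynomial (Fin n) R) A) hM e hpd
  haveI := h1
  let e1 : (Groth.Agent.Helper11.TA.es (algebraMap (MvPolynomial (Fin n) R)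
      (MvPolynomial (Fin n) R'))).obj (ModuleCat.of (MvPolynomial (Fin n) R) A) ≅
      ModuleCat.of (MvPolynomial (Fin n) R') (R' ⊗[R] A) :=
    ((Groth.Agent.Helper11.FlatPc.esEquiv (R := MvPolynomial (Fin n) R)
      (S := MvPolynomial (Fin n) R') (ModuleCat.of (MvPolynomial (Fin n) R) A)).trans
      (Algebra.IsPushout.equiv (MvPolynomial (Fin n) R) (MvPolynomial (Fin n) R') A
        (R' ⊗[R] A)).toLinearEquiv).toModuleIso
  exact hasProjectiveDimensionLT_of_iso e1 (e + 1)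

end PdBC

section Upper

variable (R A : Type u) [CommRing R] [CommRing A] [IsNoetherianRing R] [IsNoetherianRing A]
  [Algebra R A] (n : ℕ) (ψ : MvPolynomial (Fin n) R →ₐ[R] A) (hψ : Function.Surjective ψ)
  [DRing.HasLBaseChange (algebraMap R (MvPolynomial (Fin n) R))]
  (Rψ : Dual.D (MvPolynomial (Fin n) R) ⥤ Dual.D A) (adj : DRing.restrictD ψ.toRingHom ⊣ Rψ)

include adj in
/-- upper bound from a bound on the projective dimension -/
theorem subsingleton_HD_shriekVia_of_pdLT (e : ℕ)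
    (hpd : letI : Algebra (MvPolynomial (Fin n) R) A := ψ.toRingHom.toAlgebra
      HasProjectiveDimensionLT (ModuleCat.of (MvPolynomial (Fin n) R) A) (e + 1))
    (i : ℤ) (hi : (e : ℤ) - n < i) :
    Subsingleton (Dual.HD A (Dual2.shriekVia n Rψ (Dual.inD R R)) i) := by
  letI algPA : Algebra (MvPolynomial (Fin n) R) A := ψ.toRingHom.toAlgebra
  obtain ⟨ι⟩ := Groth.Agent.Helper8.ShG.nonempty_LBaseChange_unit_iso R (MvPolynomial (Fin n) R)
  have hsub := subsingleton_HD_rightAdj_of_pdLT Rψ adj _ ι (e + 1) hpd ((n : ℤ) + i)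
    (by push_cast; omega)
  let σ := Groth.Agent.Helper8.RFin.sigma'
    (Rψ.obj ((DRing.LBaseChange (algebraMap R (MvPolynomial (Fin n) R))).obj (Dual.inD R R)))
    (n : ℤ) i ((n : ℤ) + i) rfl
  exact (σ.toLinearEquiv (R := A)).toEquiv.subsingleton

end Upper

section BC

variable (R A R' : Type u) [CommRing R] [CommRing A] [CommRing R'] [IsNoetherianRing R]
  [IsNoetherianRing A] [IsNoetherianRing R'] [Algebra R A] [Algebra R R'] [Module.Flat R A]
  (n : ℕ) (ψ : MvPolynomial (Fin n) R →ₐ[R] A) (hψ : Function.Surjective ψ)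
  [DRing.HasLBaseChange (algebraMap R (MvPolynomial (Fin n) R))]
  (Rψ : Dual.D (MvPolynomial (Fin n) R) ⥤ Dual.D A) (adj : DRing.restrictD ψ.toRingHom ⊣ Rψ)

include hψ adj in
/-- the cohomology of `ω_{A/R} ⊗^L_R R'` vanishes outside `[-d, e - n]` -/
theorem isZero_HD_LBaseChange_restrict' (d : ℕ)
    (hd : ∀ q : PrimeSpectrum A, FlatMor.fibreDimAt
      (Spec.map (CommRingCat.ofHom (algebraMap R A))) q ≤ (d : WithBot ℕ∞))
    (e : ℕ)
    (hpd : letI : Algebra (MvPolynomial (Fin n) R) A := ψ.toRingHom.toAlgebra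
      HasProjectiveDimensionLT (ModuleCat.of (MvPolynomial (Fin n) R) A) (e + 1))
    [DRing.HasLBaseChange (algebraMap R R')] (i : ℤ) (hi : i < -(d : ℤ) ∨ (e : ℤ) - n < i) :
    IsZero ((homologyFunctor (ModuleCat.{u} R') i).obj
      ((DRing.LBaseChange (algebraMap R R')).obj
        ((DRing.restrictD (algebraMap R A)).obj (Dual2.shriekVia n Rψ (Dual.inD R R))))) := by
  classical
  haveI : Algebra.FiniteType R A := Algebra.FiniteType.of_surjective ψ hψ
  haveI : DRing.HasLBaseChange (algebraMap R' (MvPolynomial (Fin n) R')) :=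
    Groth.Agent.Helper3.KP.hasLeftDerivedFunctor _
  haveI : DRing.HasLBaseChange
      (Algebra.TensorProduct.includeRight : A →ₐ[R] R' ⊗[R] A).toRingHom :=
    Groth.Agent.Helper3.KP.hasLeftDerivedFunctor _
  have hψ' : Function.Surjective (Groth.Agent.Helper11.Shr.psiBC (R' := R') ψ) :=
    Groth.Agent.Helper11.Shr.psiBC_surjective ψ hψ
  haveI : IsNoetherianRing (R' ⊗[R] A) :=
    isNoetherianRing_of_surjective _ _ (Groth.Agent.Helper11.Shr.psiBC (R' := R') ψ).toRingHom hψ'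
  obtain ⟨Rψ', ⟨adj'⟩⟩ := Groth.Agent.Helper11.Shr.exists_rightAdj
    (Groth.Agent.Helper11.Shr.psiBC (R' := R') ψ).toRingHom
  obtain ⟨i1⟩ := Groth.Agent.S1807.result R R' A n ψ hψ Rψ adj n
    (Groth.Agent.Helper11.Shr.psiBC (R' := R') ψ) hψ' Rψ' adj' (Dual.inD R R)
  obtain ⟨i2⟩ := Groth.Agent.Helper8.ShG.nonempty_LBaseChange_unit_iso R R'
  let ω := Dual2.shriekVia n Rψ (Dual.inD R R)
  let ω' := Dual2.shriekVia n Rψ' (Dual.inD R' R')
  let i3 : (DRing.LBaseChange
      (Algebra.TensorProduct.includeRight : A →ₐ[R] R' ⊗[R] A).toRingHom).obj ω ≅ ω' :=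
    i1 ≪≫ (CategoryTheory.shiftFunctor _ (n : ℤ)).mapIso (Rψ'.mapIso
      ((DRing.LBaseChange (algebraMap R' (MvPolynomial (Fin n) R'))).mapIso i2))
  have hd' := fibreDimAt_baseChange_le R A R' d hd
  have hpd' := pdLT_baseChange R R' A n ψ e hpd
  have hvan : Subsingleton (Dual.HD (R' ⊗[R] A) ω' i) := by
    rcases hi with hi | hi
    · exact subsingleton_HD_shriekVia_of_lt R' (R' ⊗[R] A) n
        (Groth.Agent.Helper11.Shr.psiBC (R' := R') ψ) hψ' Rψ' adj' d hd' i hi
    · exact subsingleton_HD_shriekVia_of_pdLT R' (R' ⊗[R] A) n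
        (Groth.Agent.Helper11.Shr.psiBC (R' := R') ψ) Rψ' adj' e hpd' i hi
  have h : (algebraMap A (R' ⊗[R] A)).comp (algebraMap R A) =
      (algebraMap R' (R' ⊗[R] A)).comp (algebraMap R R') := by
    rw [← IsScalarTower.algebraMap_eq, ← IsScalarTower.algebraMap_eq]
  let adjρ := Groth.Agent.Helper3.KP.adjD (algebraMap R R')
  let adjα := Groth.Agent.Helper3.KP.adjD (algebraMap A (R' ⊗[R] A))
  haveI hpo : Algebra.IsPushout R A R' (R' ⊗[R] A) := TensorProduct.isPushout'
  have htor : ∀ q : ℕ, IsZero (((Tor (ModuleCat.{u} R) (q + 1)).obj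
      (Groth.Agent.Helper11.LDer.Bm (algebraMap R R'))).obj
      (Groth.Agent.Helper11.LDer.Bm (algebraMap R A))) := by
    intro q
    haveI : Module.Flat R (Groth.Agent.Helper11.LDer.Bm (algebraMap R A)) :=
      Module.Flat.of_linearEquiv (Groth.Agent.Helper3.BC.BmIso R A).toLinearEquiv
    exact Groth.Agent.Helper6.TorFlat.isZero_tor_succ_of_flat_right _ q _
  haveI hc : IsIso (TrivBC.cmp adjρ adjα h ω) :=
    Groth.Agent.Helper3.TB.isIso_cmp
      (fun M => Groth.Agent.Helper3.TB.isIso_sqτ₀ R A R' (R' ⊗[R] A) M h)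
      (Groth.Agent.Helper3.TB.quasiIso_ext_π' _ _ htor) adjρ adjα ω
  let e1 := asIso (TrivBC.cmp adjρ adjα h ω)
  refine IsZero.of_iso ?_ ((homologyFunctor (ModuleCat.{u} R') i).mapIso
    (e1 ≪≫ (DRing.restrictD (algebraMap R' (R' ⊗[R] A))).mapIso i3) ≪≫
    Groth.Agent.Helper11.DC.homologyRestrictIso (algebraMap R' (R' ⊗[R] A)) ω' i)
  exact (ModuleCat.restrictScalars.{u} (algebraMap R' (R' ⊗[R] A))).map_isZero
    (ModuleCat.isZero_of_subsingleton _)

end BC

section Main

variable (R A : Type u) [CommRing R] [CommRing A] [IsNoetherianRing R]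
  [IsNoetherianRing A] [Algebra R A] [Module.Flat R A]
  (n : ℕ) (ψ : MvPolynomial (Fin n) R →ₐ[R] A) (hψ : Function.Surjective ψ)
  [DRing.HasLBaseChange (algebraMap R (MvPolynomial (Fin n) R))]
  (Rψ : Dual.D (MvPolynomial (Fin n) R) ⥤ Dual.D A) (adj : DRing.restrictD ψ.toRingHom ⊣ Rψ)

include hψ adj in
theorem cycVanCx_of_fibreDim' (d : ℕ)
    (hd : ∀ q : PrimeSpectrum A, FlatMor.fibreDimAt
      (Spec.map (CommRingCat.ofHom (algebraMap R A))) q ≤ (d : WithBot ℕ∞))
    (e : ℕ)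
    (hpd : letI : Algebra (MvPolynomial (Fin n) R) A := ψ.toRingHom.toAlgebra
      HasProjectiveDimensionLT (ModuleCat.of (MvPolynomial (Fin n) R) A) (e + 1))
    (G : DRing.Cx R) (a' b' : ℤ) (hG : DRing.VanishesOutside G a' b')
    (hGf : ∀ i, Module.Flat R (G.X i))
    (e0 : Q.obj G ≅ (DRing.restrictD (algebraMap R A)).obj
      (Dual2.shriekVia n Rψ (Dual.inD R R))) :
    CycVanCx (-(d : ℤ)) ((e : ℤ) - n) G := by
  intro I i hi
  haveI : DRing.HasLBaseChange (algebraMap R (R ⧸ I)) :=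
    Groth.Agent.Helper3.KP.hasLeftDerivedFunctor _
  have h1 := isZero_HD_LBaseChange_restrict' R A (R ⧸ I) n ψ hψ Rψ adj d hd e hpd i hi
  have hGa : DRing.VanishesAbove G b' := fun j hj => hG j (Or.inr hj)
  obtain ⟨e2⟩ := nonempty_LBaseChange_iso_of_flat (algebraMap R (R ⧸ I)) G b' hGa hGf
    (hasProjRes_of_bounded G a' b' hG)
  have h2 : IsZero ((homologyFunctor (ModuleCat.{u} (R ⧸ I)) i).obj
      (Q.obj ((esC (algebraMap R (R ⧸ I))).obj G))) :=
    h1.of_iso ((homologyFunctor (ModuleCat.{u} (R ⧸ I)) i).mapIso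
      (e2.symm ≪≫ (DRing.LBaseChange (algebraMap R (R ⧸ I))).mapIso e0))
  have h3 : IsZero (((esC (Ideal.Quotient.mk I)).obj G).homology i) :=
    h2.of_iso ((homologyFunctorFactors (ModuleCat.{u} (R ⧸ I)) i).app _).symm
  rw [← Groth.Agent.Helper11.Dev.isZero_homology_tens_quot_iff] at h3
  exact h3.of_iso ((homologyFunctorFactors (ModuleCat.{u} R) i).app _)

include hψ adj in
/-- `ω_{A/R}`, as a complex of `R`-modules, has tor amplitude in `[-d, e - n]` -/
theorem hasTorAmplitudeIn_shriekVia' (d : ℕ)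
    (hd : ∀ q : PrimeSpectrum A, FlatMor.fibreDimAt
      (Spec.map (CommRingCat.ofHom (algebraMap R A))) q ≤ (d : WithBot ℕ∞))
    (e : ℕ)
    (hpd : letI : Algebra (MvPolynomial (Fin n) R) A := ψ.toRingHom.toAlgebra
      HasProjectiveDimensionLT (ModuleCat.of (MvPolynomial (Fin n) R) A) (e + 1)) :
    DRing.HasTorAmplitudeIn R (-(d : ℤ)) ((e : ℤ) - n)
      ((DRing.restrictD (algebraMap R A)).obj (Dual2.shriekVia n Rψ (Dual.inD R R))) := by
  classical
  letI algPA : Algebra (MvPolynomial (Fin n) R) A := ψ.toRingHom.toAlgebra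
  haveI t1 : IsScalarTower R (MvPolynomial (Fin n) R) A :=
    IsScalarTower.of_algebraMap_eq (fun r => (ψ.commutes r).symm)
  haveI : Module.Finite (MvPolynomial (Fin n) R) A :=
    Module.Finite.of_surjective (Algebra.linearMap (MvPolynomial (Fin n) R) A) hψ
  obtain ⟨ι⟩ := Groth.Agent.Helper8.ShG.nonempty_LBaseChange_unit_iso R (MvPolynomial (Fin n) R)
  have hperf := Groth.Agent.Helper8.ShF.isPerfectModule_of_flat R n A
  have hres := Groth.Agent.Helper8.ShG.isPerfect_res_rightAdj hperf Rψ adj _ ι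
  obtain ⟨a', b', G, hG, hGf, ⟨e0⟩⟩ :=
    Groth.Agent.Helper8.ShG.hasFiniteTorDimCx_res_shift R _ hres (n : ℤ)
  refine hasTorAmplitudeIn_of_cycVan G a' b' hG hGf e0 (fun i hi => ?_)
    (cycVanCx_of_fibreDim' R A n ψ hψ Rψ adj d hd e hpd G a' b' hG hGf e0)
  have hsub : Subsingleton (Dual.HD A (Dual2.shriekVia n Rψ (Dual.inD R R)) i) := by
    rcases hi with hi | hi
    · exact subsingleton_HD_shriekVia_of_lt R A n ψ hψ Rψ adj d hd i hi
    · exact subsingleton_HD_shriekVia_of_pdLT R A n ψ Rψ adj e hpd i hi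
  refine IsZero.of_iso ?_ (Groth.Agent.Helper11.DC.homologyRestrictIso (algebraMap R A)
    (Dual2.shriekVia n Rψ (Dual.inD R R)) i)
  exact (ModuleCat.restrictScalars.{u} (algebraMap R A)).map_isZero
    (ModuleCat.isZero_of_subsingleton _)

end Main

end Groth.Agent.Helper8.RelDz
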