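import Groth.Agent.Lib.Helper11.FlatPc6
import Groth.Agent.Lib.Helper11.PerfHom
import Groth.Agent.Lib.Helper8.ShD5
import Groth.Agent.Lib.Helper8.ShG4
import Groth.Agent.Lib.Helper8.DualMod3

/-!
# `pd_{R[x₁..xₙ]}(A) ≤ n` for `A` flat of finite type over Noetherian `R`; vanishing of
`H^j(RHom_P(A, P))` for `j > n` (helper8)
-/

set_option autoImplicit false
universe u

open CategoryTheory Limits DerivedCategory TensorProduct

attribute [local instance] HasDerivedCategory.standard

namespace Groth.Agent.Helper8.RelDz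

/-- the fibres of a polynomial ring in `n` variables have global dimension `≤ n` (other order of the
tensor factors than helper11's `hgl_poly`) -/
theorem hgl_poly' (A : Type u) [CommRing A] (n : ℕ) (p : PrimeSpectrum A) (M : Type u)
    [AddCommGroup M]
    [Module (MvPolynomial (Fin n) A ⊗[A] p.asIdeal.ResidueField) M] :
    HasProjectiveDimensionLT
      (ModuleCat.of (MvPolynomial (Fin n) A ⊗[A] p.asIdeal.ResidueField) M)
      (n + 1) := by
  let e : MvPolynomial (Fin n) p.asIdeal.ResidueField ≃+*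
      (MvPolynomial (Fin n) A ⊗[A] p.asIdeal.ResidueField) :=
    ((MvPolynomial.algebraTensorAlgEquiv (σ := Fin n) A p.asIdeal.ResidueField).symm.toRingEquiv).trans
      (Algebra.TensorProduct.comm A p.asIdeal.ResidueField (MvPolynomial (Fin n) A)).toRingEquiv
  have : IsRegularRing (MvPolynomial (Fin n) A ⊗[A] p.asIdeal.ResidueField) :=
    IsRegularRing.of_ringEquiv e
  refine Groth.Agent.Helper11.DC.glDim_of_isRegularRing n ?_ _
  rw [← ringKrullDim_eq_of_ringEquiv e, MvPolynomial.ringKrullDim_of_isNoetherianRing,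
    ringKrullDim_eq_zero_of_field, Nat.card_fin, zero_add]

/-- a flat algebra of finite type over a Noetherian ring has projective dimension `≤ n` over a
polynomial ring in `n` variables presenting it -/
theorem pdLT_of_flat (R : Type u) [CommRing R] [IsNoetherianRing R] (n : ℕ)
    (A : Type u) [CommRing A] [Algebra R A] [Algebra (MvPolynomial (Fin n) R) A]
    [IsScalarTower R (MvPolynomial (Fin n) R) A] [Module.Flat R A]
    [Module.Finite (MvPolynomial (Fin n) R) A] :
    HasProjectiveDimensionLT (ModuleCat.of (MvPolynomial (Fin n) R) A) (n + 1) := by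
  haveI : Module.FinitePresentation (MvPolynomial (Fin n) R) A :=
    Module.finitePresentation_of_finite _ _
  exact Groth.Agent.Helper11.FlatPc.pdLT_of_pdLT_fibres R (MvPolynomial (Fin n) R) A (n + 1)
    (fun p => hgl_poly' R n p _)

section Upper

variable {P A : Type u} [CommRing P] [CommRing A] [Algebra P A]

open Groth.Agent.Helper8.ShD

/-- vanishing of `H^j(RHom_P(A, P))` above the projective dimension of `A` -/
theorem subsingleton_HD_rightAdj_of_pdLT
    (Rψ : Dual.D P ⥤ Dual.D A) (adj : DRing.restrictD (algebraMap P A) ⊣ Rψ)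
    (W : Dual.D P) (ι : W ≅ Dual.inD P P) (c : ℕ)
    (hpd : HasProjectiveDimensionLT (ModuleCat.of P A) c) (j : ℤ) (hj : (c : ℤ) ≤ j) :
    Subsingleton ((homologyFunctor (ModuleCat.{u} A) j).obj (Rψ.obj W)) := by
  obtain ⟨k, rfl⟩ := Int.eq_ofNat_of_zero_le (le_trans (Int.natCast_nonneg c) hj)
  have hk : c ≤ k := by exact_mod_cast hj
  haveI := hpd
  haveI h1 : Subsingleton (Abelian.Ext (ModuleCat.of P A) (ModuleCat.of P P) k) :=
    HasProjectiveDimensionLT.subsingleton (ModuleCat.of P A) c k hk (ModuleCat.of P P)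
  haveI h2 : Subsingleton (Dual.inD P A ⟶ (Dual.inD P P)⟦(k : ℤ)⟧) :=
    (Groth.Agent.Helper8.DualMod.homInDEquivExt P A P k).symm.subsingleton
  refine ⟨fun y y' => ?_⟩
  have key : ∀ y : (homologyFunctor (ModuleCat.{u} A) (k : ℤ)).obj (Rψ.obj W), y = 0 := by
    intro y
    obtain ⟨g, hg⟩ := exists_hom_of_HD Rψ adj W (k : ℤ) y
    let εF : (DRing.restrictD (algebraMap P A)).obj
        ((singleFunctor (ModuleCat.{u} A) 0).obj (ModuleCat.of A A)) ≅ Dual.inD P A :=
      ((ModuleCat.restrictScalars.{u} (algebraMap P A)).mapDerivedCategorySingleFunctor 0).app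
        (ModuleCat.of A A) ≪≫ (singleFunctor (ModuleCat.{u} P) 0).mapIso restrictSelfIso
    let ιj : W⟦(k : ℤ)⟧ ≅ (Dual.inD P P)⟦(k : ℤ)⟧ := (shiftFunctor _ (k : ℤ)).mapIso ι
    have h0 : εF.inv ≫ g ≫ ιj.hom = 0 := Subsingleton.elim _ _
    have h1 : g = εF.hom ≫ (εF.inv ≫ g ≫ ιj.hom) ≫ ιj.inv := by simp
    have hg0 : g = 0 := by rw [h1, h0, zero_comp, comp_zero]
    have := hg 1 (by rw [one_smul, hg0])
    rwa [map_one, one_smul] at this
  rw [key y, key y']

end Upper

end Groth.Agent.Helper8.RelDz
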