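import Mathlib
import Groth.Agent.Lib.Helper8.RelDz7
import Groth.Agent.Lib.Helper17.EL5
import Groth.Agent.Lib.Lead.Hom17
import Groth.Agent.Lib.Lead.PD3
import Groth.Agent.Lib.Lead.Depth5
import Groth.Agent.Lib.Helper16.Sch.FibCodepth1
import Groth.Agent.Lib.Helper8.RelDz2

/-!
# Cohen–Macaulay equidimensional fibres and `Ext_P(B, P)` for a flat quotient `B` of a polynomial
ring `P = A[t_1..t_N]` (helper8)
-/

set_option autoImplicit false
set_option linter.style.haveILetI false
set_option linter.unusedSectionVars false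
universe u

open CategoryTheory TensorProduct AlgebraicGeometry IsLocalRing Abelian

namespace Groth.Agent.Helper8.RelDz

open Groth.Agent.Lead.Fib Groth.Agent.Lead.PD Groth.Agent.Helper14 Groth.Agent.Helper16.RingFibDim

section LocalPd

variable {R : Type u} [CommRing R] [IsNoetherianRing R]

/-- if `Ext^j(M, R) = 0` for `j ≠ g` and `M` has finite projective dimension, then at every prime
of the support of `M` the local projective dimension is exactly `g` -/
theorem mem_pdLocus_iff_of_ext_vanishing (M : Type u) [AddCommGroup M] [Module R M]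
    [Module.Finite R M] (g c : ℕ)
    (hc : HasProjectiveDimensionLT (ModuleCat.of R M) (c + 1))
    (hvan : ∀ j : ℕ, j ≠ g → Subsingleton (Ext (ModuleCat.of R M) (ModuleCat.of R R) j))
    (Q : PrimeSpectrum R) (hQ : Nontrivial (LocalizedModule Q.asIdeal.primeCompl M)) (e : ℕ) :
    Q ∈ pdLocus e (ModuleCat.of R M) ↔ g ≤ e := by
  constructor
  · intro hmem
    by_contra hlt
    rw [not_le] at hlt
    have h1 : HasProjectiveDimensionLE (ModuleCat.of (Localization Q.asIdeal.primeCompl)
        (LocalizedModule Q.asIdeal.primeCompl M)) e := (pd_plain_iff _ M e).mpr hmem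
    have hExt : ∀ j : ℕ, Subsingleton (Ext
        (ModuleCat.of (Localization Q.asIdeal.primeCompl) (LocalizedModule Q.asIdeal.primeCompl M))
        (ModuleCat.of (Localization Q.asIdeal.primeCompl) (Localization Q.asIdeal.primeCompl)) j) := by
      intro j
      by_cases hj : j = g
      · subst hj
        exact HasProjectiveDimensionLT.subsingleton _ (e + 1) j (by omega) _
      · haveI := hvan j hj
        refine (Groth.Agent.Helper17.EL.ext_localization_iff Q.asIdeal.primeCompl
          (Localization Q.asIdeal.primeCompl)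
          (Algebra.linearMap R (Localization Q.asIdeal.primeCompl)) j M
          (LocalizedModule Q.asIdeal.primeCompl M)
          (LocalizedModule.mkLinearMap Q.asIdeal.primeCompl M)).mp ?_
        intro x
        exact ⟨1, by rw [Subsingleton.elim x 0, smul_zero]⟩
    haveI : Module.Finite (Localization Q.asIdeal.primeCompl)
        (LocalizedModule Q.asIdeal.primeCompl M) :=
      Module.Finite.of_isLocalizedModule Q.asIdeal.primeCompl
        (LocalizedModule.mkLinearMap Q.asIdeal.primeCompl M)
    haveI : IsNoetherianRing (Localization Q.asIdeal.primeCompl) :=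
      IsLocalization.isNoetherianRing Q.asIdeal.primeCompl _ inferInstance
    have h2 : HasProjectiveDimensionLT (ModuleCat.of (Localization Q.asIdeal.primeCompl)
        (LocalizedModule Q.asIdeal.primeCompl M)) (0 + 1) :=
      Groth.Agent.Lead.Hom.hasProjectiveDimensionLT_of_ext_ring _ 0 e h1 (fun i _ => hExt i)
    rw [zero_add, ← projective_iff_hasProjectiveDimensionLT_one, ← IsProjective.iff_projective] at h2
    haveI := h2
    haveI : IsLocalRing (Localization Q.asIdeal.primeCompl) :=
      inferInstanceAs (IsLocalRing (Localization.AtPrime Q.asIdeal))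
    haveI := Groth.Agent.Lead.Hom.ext_zero_nontrivial_of_projective
      (A := Localization Q.asIdeal.primeCompl) (LocalizedModule Q.asIdeal.primeCompl M)
    exact not_subsingleton _ (hExt 0)
  · intro hge
    have h1 : HasProjectiveDimensionLT (ModuleCat.of R M) (g + 1) :=
      Groth.Agent.Lead.Hom.hasProjectiveDimensionLT_of_ext_ring M g c hc
        (fun i hi => hvan i (by omega))
    haveI : HasProjectiveDimensionLE (ModuleCat.of R M) g := h1
    have h2 := ModuleCat.localizedModule_hasProjectiveDimensionLE g Q.asIdeal.primeCompl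
      (ModuleCat.of R M)
    exact pdLocus_mono _ hge h2

end LocalPd


section Main

open Groth.Agent.Helper16.FibPD

variable {A B : Type u} [CommRing A] [CommRing B] [Algebra A B] [IsNoetherianRing A]
  [Module.Flat A B] (N : ℕ) [Algebra (MvPolynomial (Fin N) A) B]
  [IsScalarTower A (MvPolynomial (Fin N) A) B]
  (hsurj : Function.Surjective (algebraMap (MvPolynomial (Fin N) A) B))

include hsurj in
theorem nontrivial_localizedModule_comap (q : PrimeSpectrum B) :
    Nontrivial (LocalizedModule
      (PrimeSpectrum.comap (algebraMap (MvPolynomial (Fin N) A) B) q).asIdeal.primeCompl B) := by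
  rw [← not_subsingleton_iff_nontrivial, LocalizedModule.subsingleton_iff]
  intro h
  obtain ⟨r, hr, h0⟩ := h (1 : B)
  apply hr
  show algebraMap (MvPolynomial (Fin N) A) B r ∈ q.asIdeal
  rw [Algebra.smul_def, mul_one] at h0
  rw [h0]
  exact zero_mem _

include hsurj in
/-- `Ext^j_P(B, P) = 0` for `j ≠ N - n` forces Cohen–Macaulay fibres, equidimensional of
dimension `n` -/
theorem fib_of_ext_vanishing (n : ℕ) (hnN : n ≤ N)
    (hvan : ∀ j : ℕ, j ≠ N - n → Subsingleton (Ext (ModuleCat.of (MvPolynomial (Fin N) A) B)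
      (ModuleCat.of (MvPolynomial (Fin N) A) (MvPolynomial (Fin N) A)) j))
    (p : Ideal A) [p.IsPrime] : FibCM A B p ∧ FibEquidim A B p n := by
  haveI hft := finiteType_of_surj N hsurj
  haveI : Module.Finite (MvPolynomial (Fin N) A) B :=
    Module.Finite.of_surjective (Algebra.linearMap (MvPolynomial (Fin N) A) B) hsurj
  have hpdN : HasProjectiveDimensionLT (ModuleCat.of (MvPolynomial (Fin N) A) B) (N + 1) :=
    pdLT_of_flat A N B
  -- the numerical data at each point
  have key : ∀ (q : PrimeSpectrum B) (d : ℕ),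
      FlatMor.fibreDimAt (specMap A B) q = (d : WithBot ℕ∞) →
      ∃ D c nq : ℕ,
        LocCoh.depth (FL (q.asIdeal.under A) q.asIdeal) (FL (q.asIdeal.under A) q.asIdeal) = D ∧
        ringKrullDim (FL (q.asIdeal.under A) q.asIdeal) = (c : WithBot ℕ∞) ∧
        nq + D = n ∧ d = c + nq ∧ D ≤ c ∧
        Algebra.trdeg (A ⧸ q.asIdeal.under A) (B ⧸ q.asIdeal) = nq := by
    intro q d hd
    obtain ⟨e₀, D, c, nq, hpd, hD, hc, hN, hdc, -, htr⟩ := pointwise N hsurj q d hd
    have hloc := mem_pdLocus_iff_of_ext_vanishing B (N - n) N hpdN hvan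
      (PrimeSpectrum.comap (algebraMap (MvPolynomial (Fin N) A) B) q)
      (nontrivial_localizedModule_comap N hsurj q)
    have he₀ : e₀ = N - n := by
      apply le_antisymm
      · exact (hpd (N - n)).mp ((hloc (N - n)).mpr le_rfl)
      · exact (hloc e₀).mp ((hpd e₀).mpr le_rfl)
    refine ⟨D, c, nq, hD, hc, by omega, hdc, ?_, htr⟩
    -- depth ≤ dim
    haveI : IsNoetherianRing B := Algebra.FiniteType.isNoetherianRing A B
    have h1 := Groth.Agent.Lead.Depth.depth_le_supportDim
      (R := FL (q.asIdeal.under A) q.asIdeal) (FL (q.asIdeal.under A) q.asIdeal)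
    rw [Module.supportDim_self_eq_ringKrullDim, hc, hD] at h1
    exact_mod_cast h1
  -- equidimensionality
  have hEq : ∀ (p : Ideal A) [p.IsPrime], FibEquidim A B p n := by
    intro p _ q hq hlo hmin
    obtain ⟨z, m, hzq, hfz, hzmax, hm, hdim⟩ :=
      EquidimAt.exists_maximal_trdeg_eq_fibreDimAt (specMap A B)
        ((⟨q, hq⟩ : PrimeSpectrum B) : Spec (CommRingCat.of B))
    have hzp : (PrimeSpectrum.asIdeal z).under A = p := by
      have h1 : (PrimeSpectrum.asIdeal z).under A = q.under A :=
        congrArg PrimeSpectrum.asIdeal hfz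
      rw [h1]
      exact hlo.over.symm
    have hzle : PrimeSpectrum.asIdeal z ≤ q :=
      (PrimeSpectrum.le_iff_specializes (z : PrimeSpectrum B) (⟨q, hq⟩ : PrimeSpectrum B)).mpr hzq
    have hzq' : q ≤ PrimeSpectrum.asIdeal z :=
      hmin (b := ⟨PrimeSpectrum.asIdeal z, ⟨(z : PrimeSpectrum B).isPrime, ⟨hzp.symm⟩⟩⟩) hzle
    have hz : z = (⟨q, hq⟩ : PrimeSpectrum B) := PrimeSpectrum.ext (le_antisymm hzle hzq')
    subst hz
    haveI : (PrimeSpectrum.asIdeal (⟨q, hq⟩ : PrimeSpectrum B)).LiesOver p := hlo
    have htd := Groth.Agent.Helper16.SpecFib.trdeg_residueField_eq A B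
      ((⟨q, hq⟩ : PrimeSpectrum B) : Spec (CommRingCat.of B)) p
    rw [htd] at hm
    obtain ⟨D, c, nq, hD, hc, hsum, hdc, hDc, htr⟩ := key ⟨q, hq⟩ m hdim
    have hp : p = q.under A := hlo.over
    subst hp
    have h1 : Algebra.trdeg (A ⧸ q.under A) (B ⧸ q) = (nq : Cardinal.{u}) := htr
    have h2 : Algebra.trdeg (A ⧸ q.under A) (B ⧸ q) = (m : Cardinal.{u}) := hm
    have h3 : nq = m := by
      have := h1.symm.trans h2
      exact_mod_cast this
    have h4 : nq = n := by omega
    rw [h1, h4]
  refine ⟨?_, hEq p⟩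
  intro r hr hlo
  have hp : p = r.under A := hlo.over
  subst hp
  have hfd := fibreDimAt_eq_of_fibEquidim A B n ⟨r, hr⟩ (hEq (r.under A))
  obtain ⟨D, c, nq, hD, hc, hsum, hdc, hDc, htr⟩ := key ⟨r, hr⟩ n hfd
  have hcD : c = D := by omega
  have h1 := IsLocalRing.maximalIdeal_height_eq_ringKrullDim (R := FL (r.under A) r)
  rw [hc] at h1
  have h2 : (maximalIdeal (FL (r.under A) r)).height = (c : ℕ∞) := by exact_mod_cast h1
  rw [h2, hD, hcD]

include hsurj in
/-- Cohen–Macaulay fibres, equidimensional of dimension `n`: fibre dimension `n` everywhere and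
`pd_P(B) ≤ N - n` -/
theorem pd_of_fib (n : ℕ)
    (hfib : ∀ (p : Ideal A) [p.IsPrime], FibCM A B p ∧ FibEquidim A B p n) :
    (haveI := finiteType_of_surj N hsurj
      ∀ q : PrimeSpectrum B, FlatMor.fibreDimAt (specMap A B) q = (n : WithBot ℕ∞)) ∧
      HasProjectiveDimensionLT (ModuleCat.of (MvPolynomial (Fin N) A) B) (N - n + 1) := by
  haveI hft := finiteType_of_surj N hsurj
  haveI : Module.Finite (MvPolynomial (Fin N) A) B :=
    Module.Finite.of_surjective (Algebra.linearMap (MvPolynomial (Fin N) A) B) hsurj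
  have hfd : ∀ q : PrimeSpectrum B, FlatMor.fibreDimAt (specMap A B) q = (n : WithBot ℕ∞) :=
    fun q => fibreDimAt_eq_of_fibEquidim A B n q (hfib (q.asIdeal.under A)).2
  refine ⟨hfd, ?_⟩
  have hloc : ∀ Q : PrimeSpectrum (MvPolynomial (Fin N) A),
      HasProjectiveDimensionLE ((ModuleCat.of (MvPolynomial (Fin N) A) B).localizedModule
        Q.asIdeal.primeCompl) (N - n) := by
    intro Q
    by_cases hQ : RingHom.ker (algebraMap (MvPolynomial (Fin N) A) B) ≤ Q.asIdeal
    · haveI hqp : (Q.asIdeal.map (algebraMap (MvPolynomial (Fin N) A) B)).IsPrime :=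
        Ideal.map_isPrime_of_surjective hsurj hQ
      let q : PrimeSpectrum B := ⟨Q.asIdeal.map (algebraMap (MvPolynomial (Fin N) A) B), hqp⟩
      have hcomap : PrimeSpectrum.comap (algebraMap (MvPolynomial (Fin N) A) B) q = Q := by
        apply PrimeSpectrum.ext
        show (Q.asIdeal.map (algebraMap (MvPolynomial (Fin N) A) B)).comap _ = Q.asIdeal
        rw [Ideal.comap_map_of_surjective' _ hsurj]
        exact sup_eq_left.mpr hQ
      obtain ⟨e₀, D, c, nq, hpd, hD, hc, hN, hdc, hdN, htr⟩ := pointwise N hsurj q n (hfd q)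
      have hCM := (hfib (q.asIdeal.under A)).1 q.asIdeal
      have h1 := IsLocalRing.maximalIdeal_height_eq_ringKrullDim
        (R := FL (q.asIdeal.under A) q.asIdeal)
      rw [hc, hCM, hD] at h1
      have hcD : D = c := by exact_mod_cast h1
      have hmem := (hpd (N - n)).mpr (by omega)
      rw [hcomap] at hmem
      exact hmem
    · obtain ⟨s, hs, hsQ⟩ := SetLike.not_le_iff_exists.mp hQ
      haveI : Subsingleton (LocalizedModule Q.asIdeal.primeCompl B) := by
        rw [LocalizedModule.subsingleton_iff]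
        intro b
        refine ⟨s, hsQ, ?_⟩
        rw [Algebra.smul_def, (RingHom.mem_ker).mp hs, zero_mul]
      have h0 : HasProjectiveDimensionLE (ModuleCat.of (Localization Q.asIdeal.primeCompl)
          (LocalizedModule Q.asIdeal.primeCompl B)) (N - n) := by
        haveI := (ModuleCat.isZero_of_subsingleton (ModuleCat.of (Localization Q.asIdeal.primeCompl)
          (LocalizedModule Q.asIdeal.primeCompl B))).hasProjectiveDimensionLT_zero
        exact hasProjectiveDimensionLT_of_ge _ 0 (N - n + 1) (by omega)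
      exact (pd_plain_iff _ B (N - n)).mp h0
  exact (ModuleCat.hasProjectiveDimensionLE_iff_forall_primeSpectrum (N - n)
    (ModuleCat.of (MvPolynomial (Fin N) A) B)).mpr hloc

end Main

end Groth.Agent.Helper8.RelDz
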