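import Mathlib
import Groth.Agent.Lib.Helper8.RelDz6
import Groth.Agent.Lib.Helper8.RelDz8
import Groth.Agent.Lib.Helper8.GF7
import Groth.Agent.Lib.Helper8.ShG4
import Groth.Agent.Lib.Helper11.Shr11
import Groth.Agent.Lib.Helper3.KP2

/-!
# Tor amplitude `[a, a]`: flat cohomology; `Ext_P(B, P)` of a flat quotient with Cohen–Macaulay
equidimensional fibres (helper8)
-/

set_option autoImplicit false
set_option linter.style.haveILetI false
set_option linter.unusedSectionVars false
universe u

open CategoryTheory Limits DerivedCategory TensorProduct AlgebraicGeometry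

attribute [local instance] HasDerivedCategory.standard

namespace Groth.Agent.Helper8.RelDz

section Amp

variable (R : Type u) [CommRing R]

/-- tor amplitude in `[a, a]`: the cohomology is flat and concentrated in degree `a` -/
theorem flat_HD_of_hasTorAmplitudeIn (a : ℤ) (K : Dual.D R)
    (h : DRing.HasTorAmplitudeIn R a a K) :
    Module.Flat R ((homologyFunctor (ModuleCat.{u} R) a).obj K) ∧
      ∀ i : ℤ, i ≠ a → IsZero ((homologyFunctor (ModuleCat.{u} R) i).obj K) := by
  obtain ⟨E, hE, hEf, ⟨e⟩⟩ := h
  have hiso : ∀ i : ℤ, (homologyFunctor (ModuleCat.{u} R) i).obj K ≅ E.homology i := fun i =>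
    (homologyFunctor (ModuleCat.{u} R) i).mapIso e.symm ≪≫
      (homologyFunctorFactors (ModuleCat.{u} R) i).app E
  constructor
  · have hf : (E.sc a).f = 0 := (hE _ (Or.inl (by simp))).eq_of_src _ _
    have hg : (E.sc a).g = 0 := (hE _ (Or.inr (by simp))).eq_of_tgt _ _
    let hd := ShortComplex.HomologyData.ofZeros (E.sc a) hf hg
    let e1 : E.homology a ≅ E.X a := hd.left.homologyIso
    haveI := hEf a
    exact Module.Flat.of_linearEquiv (hiso a ≪≫ e1).toLinearEquiv
  · intro i hi
    refine IsZero.of_iso ?_ (hiso i)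
    have hz : IsZero (E.X i) := hE i (by omega)
    exact (E.exactAt_iff_isZero_homology i).mp (ShortComplex.exact_of_isZero_X₂ _ hz)

end Amp

end Groth.Agent.Helper8.RelDz
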