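import Groth.Agent.Lib.Helper8.RMod4

/-!
# `RHom_A(B, ω)` is a dualizing complex for `B` (helper8)
-/

set_option autoImplicit false

open CategoryTheory CategoryTheory.Limits

universe u

namespace Groth.Agent.Helper8.RMod

open DerivedCategory Groth.Agent.Helper8.BiDual Groth.Agent.Helper3.HT

attribute [local instance] HasDerivedCategory.standard

section Transfer

variable {B : Type u} [CommRing B]

theorem toEnd_bijective_of_iso {W W' : Dual.D B} (ι : W ≅ W')
    (h : Function.Bijective (fun x : B => x • 𝟙 W)) :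
    Function.Bijective (fun x : B => x • 𝟙 W') := by
  have hconj : ∀ x : B, x • 𝟙 W' = ι.inv ≫ (x • 𝟙 W) ≫ ι.hom := by
    intro x
    rw [Linear.smul_comp, Linear.comp_smul, Category.id_comp, ι.inv_hom_id]
  constructor
  · intro x y hxy
    have hxy' : x • 𝟙 W' = y • 𝟙 W' := hxy
    rw [hconj, hconj] at hxy'
    have h1 := (cancel_epi ι.inv).mp hxy'
    have h2 := (cancel_mono ι.hom).mp h1
    exact h.1 h2
  · intro f
    obtain ⟨x, hx⟩ := h.2 (ι.hom ≫ f ≫ ι.inv)
    refine ⟨x, ?_⟩
    have hx' : x • 𝟙 W = ι.hom ≫ f ≫ ι.inv := hx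
    show x • 𝟙 W' = f
    rw [hconj, hx']
    simp

theorem hom_shift_eq_zero_of_iso {W W' : Dual.D B} (ι : W ≅ W') (i : ℤ)
    (h : ∀ f : W ⟶ W⟦i⟧, f = 0) (f : W' ⟶ W'⟦i⟧) : f = 0 := by
  have h0 := h (ι.hom ≫ f ≫ (shiftFunctor (Dual.D B) i).map ι.inv)
  have h1 := (cancel_epi ι.hom).mp (h0.trans comp_zero.symm)
  exact (cancel_mono _).mp (h1.trans zero_comp.symm)

end Transfer

section Main

variable {A B : Type u} [CommRing A] [CommRing B] (φ : A →+* B)
  (R : Dual.D A ⥤ Dual.D B) (adj : DRing.restrictD φ ⊣ R)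
  [IsNoetherianRing A] (J : DRing.Cx A) (a b : ℤ)
  (hvan : DRing.VanishesOutside J a b) (hinj : DRing.TermwiseInjective J)
  (hend : Function.Bijective (fun x : A => x • 𝟙 (Q.obj J)))
  (hext : ∀ i : ℤ, i ≠ 0 → ∀ f : Q.obj J ⟶ (Q.obj J)⟦i⟧, f = 0)
  (hfin : Module.Finite A (BA φ))

include adj hvan hinj hend hext hfin in
theorem ext_W_eq_zero (i : ℤ) (hi : i ≠ 0)
    (f : Q.obj ((coC φ).obj J) ⟶ (Q.obj ((coC φ).obj J))⟦i⟧) : f = 0 := by
  have hJ : ∀ n : ℤ, Injective (J.X n) := fun n =>
    (Module.injective_iff_injective_object A (J.X n)).mp (hinj n)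
  have hP := P_BA φ J a b hvan hinj hend hext hfin
  have hψ := isIso_psi φ R adj J a (fun i hi => hvan i (Or.inl hi)) hJ
  have h1 : f ≫ (shiftFunctor (Dual.D B) i).map (psi φ R adj J) = 0 := by
    apply hom_shift_R_eq_zero φ R adj _ (Q.obj J) i
    intro s
    have h2 : (alphaD φ J).inv ≫ s = 0 := hP.1 i hi _
    have h3 : s = (alphaD φ J).hom ≫ (alphaD φ J).inv ≫ s := by rw [Iso.hom_inv_id_assoc]
    rw [h3, h2, comp_zero]
  exact (cancel_mono _).mp (h1.trans zero_comp.symm)

end Main

section Dualizing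

variable {A B : Type u} [CommRing A] [CommRing B] [Algebra A B] [IsNoetherianRing A]
  [IsNoetherianRing B] [Module.Finite A B]
  (R : Dual.D A ⥤ Dual.D B) (adj : DRing.restrictD (algebraMap A B) ⊣ R)

include adj in
/-- `R(ω) = RHom_A(B, ω)` is a dualizing complex for `B` -/
theorem isDualizing_R (ω : Dual.D A) (hω : Dual.IsDualizing A ω) :
    Dual.IsDualizing B (R.obj ω) := by
  obtain ⟨J, a, b, ⟨e⟩, hvan, hinj, hend, hext, hfinH⟩ :
      ∃ (J : DRing.Cx A) (a b : ℤ), Nonempty (Q.obj J ≅ ω) ∧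
        DRing.VanishesOutside J a b ∧ DRing.TermwiseInjective J ∧
        Function.Bijective (fun x : A => x • 𝟙 (Q.obj J)) ∧
        (∀ i : ℤ, i ≠ 0 → ∀ f : Q.obj J ⟶ (Q.obj J)⟦i⟧, f = 0) ∧
        ∀ i : ℤ, Module.Finite A ((homologyFunctor (ModuleCat.{u} A) i).obj (Q.obj J)) := by
    obtain ⟨J, a, b, e, h1, h2, h3, h4, h5⟩ := exists_model ω hω
    exact ⟨J, a, b, ⟨e⟩, h1, h2, h3, h4, h5⟩
  have hfinB : Module.Finite A (BA (algebraMap A B)) :=
    Groth.Agent.Helper8.RFin.finite_restrictScalars_self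
  have hJ : ∀ n : ℤ, Injective (J.X n) := fun n =>
    (Module.injective_iff_injective_object A (J.X n)).mp (hinj n)
  let ι : Q.obj ((coC (algebraMap A B)).obj J) ≅ R.obj ω :=
    psiIso (algebraMap A B) R adj J a (fun i hi => hvan i (Or.inl hi)) hJ ≪≫ R.mapIso e
  refine ⟨inferInstance, ?_, ?_, ?_, ?_⟩
  · obtain ⟨a', b', hab⟩ := hω.finite_injective_dimension
    refine ⟨a', b', fun N _ _ i hi => ⟨fun t t' => ?_⟩⟩
    have key : ∀ t : Dual.inD B N ⟶ (R.obj ω)⟦i⟧, t = 0 := by
      intro t
      apply hom_shift_R_eq_zero (algebraMap A B) R adj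
      intro s
      let σ := ((resF (algebraMap A B)).mapDerivedCategorySingleFunctor 0).app (ModuleCat.of B N)
      have hsub := hab ((resF (algebraMap A B)).obj (ModuleCat.of B N)) i hi
      have h2 : σ.inv ≫ s = 0 := @Subsingleton.elim _ hsub _ _
      have h3 : s = σ.hom ≫ σ.inv ≫ s := by rw [Iso.hom_inv_id_assoc]
      rw [h3, h2, comp_zero]
    rw [key t, key t']
  · intro i
    have hGE : (Q.obj J).IsGE a := by
      have : J.IsStrictlyGE a := by
        rw [CochainComplex.isStrictlyGE_iff]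
        intro i hi
        exact hvan i (Or.inl hi)
      infer_instance
    refine Groth.Agent.Helper8.RFin.finite_HD_rightAdjoint R adj ω a (fun j hj => ?_)
      hω.finite_cohomology i
    exact (isZero_of_isGE (Q.obj J) a j hj).of_iso
      ((homologyFunctor (ModuleCat.{u} A) j).mapIso e.symm)
  · exact toEnd_bijective_of_iso ι
      (end_bijective (algebraMap A B) J a b hvan hinj hend hext hfinB)
  · intro i hi
    refine ⟨fun f g => ?_⟩
    have h0 := ext_W_eq_zero (algebraMap A B) R adj J a b hvan hinj hend hext hfinB i hi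
    rw [hom_shift_eq_zero_of_iso ι i h0 f, hom_shift_eq_zero_of_iso ι i h0 g]

include adj in
/-- `R(ω)` is normalized when `ω` is, for a finite homomorphism of local rings -/
theorem isNormalized_R [IsLocalRing A] [IsLocalRing B] (ω : Dual.D A)
    (hn : Dual.IsNormalized A ω) : Dual.IsNormalized B (R.obj ω) := by
  intro i hi
  refine ⟨fun t t' => ?_⟩
  have key : ∀ t : Dual.inD B (IsLocalRing.ResidueField B) ⟶ (R.obj ω)⟦i⟧, t = 0 := by
    intro t
    apply hom_shift_R_eq_zero (algebraMap A B) R adj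
    intro s
    let σ := ((resF (algebraMap A B)).mapDerivedCategorySingleFunctor 0).app
      (ModuleCat.of B (IsLocalRing.ResidueField B))
    have hfl : IsFiniteLength A
        ((resF (algebraMap A B)).obj (ModuleCat.of B (IsLocalRing.ResidueField B))) := by
      have h0 := Groth.Agent.Helper8.Matlis.isFiniteLength_residueField (A := A) (B := B)
      let e' : IsLocalRing.ResidueField B ≃ₗ[A]
          ↑((resF (algebraMap A B)).obj (ModuleCat.of B (IsLocalRing.ResidueField B))) :=
        { toFun := fun x => x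
          invFun := fun x => x
          map_add' := fun _ _ => rfl
          map_smul' := fun a x => by
            have h3 : ∀ y : IsLocalRing.ResidueField B, a • y = (algebraMap A B a) • y :=
              fun y => (algebraMap_smul B a y).symm
            exact h3 x
          left_inv := fun _ => rfl
          right_inv := fun _ => rfl }
      rw [← Module.length_ne_top_iff] at h0 ⊢
      rwa [← e'.length_eq]
    have h2 : σ.inv ≫ s = 0 :=
      Groth.Agent.Helper8.FLD.hom_shift_eq_zero_of_isFiniteLength ω hn i hi _ hfl _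
    have h3 : s = σ.hom ≫ σ.inv ≫ s := by rw [Iso.hom_inv_id_assoc]
    rw [h3, h2, comp_zero]
  rw [key t, key t']

end Dualizing

end Groth.Agent.Helper8.RMod
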