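import Groth.Agent.Lib.Helper8.ShG1
import Groth.Agent.Lib.Helper8.RMod5
import Groth.Agent.Lib.Helper8.CoR2

/-!
# Endomorphisms of `RHom_A(B, J)` from biduality of `B` (helper8)

Variants of `RMod.end_bijective` / `RMod.ext_W_eq_zero` which only assume that `J` is a bounded below
complex of injectives and that `B` (as an `A`-module) satisfies biduality with respect to `J`.
-/

set_option autoImplicit false

open CategoryTheory CategoryTheory.Limits

universe u

namespace Groth.Agent.Helper8.ShG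

open DerivedCategory Groth.Agent.Helper8.BiDual Groth.Agent.Helper3.HT Groth.Agent.Helper8.RMod

attribute [local instance] HasDerivedCategory.standard

variable {A B : Type u} [CommRing A] [CommRing B] (φ : A →+* B)

section End

variable (J : DRing.Cx A) (a : ℤ)
  (hvan : ∀ i : ℤ, i < a → IsZero (J.X i)) (hinj : DRing.TermwiseInjective J)
  (hP : P J (BA φ))

include hvan hinj hP in
/-- `B ≃ End(Hom_A(B, J))` -/
theorem end_bijective_of_P :
    Function.Bijective (fun x : B => x • 𝟙 (Q.obj ((coC φ).obj J))) := by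
  have hJ : ∀ n : ℤ, Injective (J.X n) := fun n =>
    (Module.injective_iff_injective_object A (J.X n)).mp (hinj n)
  have hΘ := Theta_bijective_Q φ J a hvan hJ ((coC φ).obj J)
  let ev : B → (Z J (BA φ) ⟶ Q.obj J) := fun x => evD J (M := BA φ) x
  have hev : Function.Bijective ev := hP.2
  have ev_nat : ∀ x y : B, ev (y * x) = Zmap J (mulB φ x) ≫ ev y :=
    fun x y => evD_nat J (mulB φ x) (y : BA φ)
  obtain ⟨β, hβ⟩ := hev.2 ((alphaD φ J).inv ≫ counitD φ J)
  have hβ' : counitD φ J = (alphaD φ J).hom ≫ ev β := by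
    rw [hβ, Iso.hom_inv_id_assoc]
  have key1 : ∀ x : B, Theta φ J _ (x • 𝟙 (Q.obj ((coC φ).obj J))) =
      (alphaD φ J).hom ≫ ev (β * x) := by
    intro x
    unfold Theta
    rw [hβ', ← Category.assoc, alphaD_smul, Category.assoc, ev_nat]
  obtain ⟨g₀, hg₀⟩ := hΘ.2 ((alphaD φ J).hom ≫ ev 1)
  let gt : Z J (BA φ) ⟶ Z J (BA φ) :=
    (alphaD φ J).inv ≫ (DRing.restrictD φ).map g₀ ≫ (alphaD φ J).hom
  have hcomm : gt ≫ Zmap J (mulB φ β) = Zmap J (mulB φ β) ≫ gt := by
    have h1 : g₀ ≫ (β • 𝟙 (Q.obj ((coC φ).obj J))) = (β • 𝟙 (Q.obj ((coC φ).obj J))) ≫ g₀ := by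
      rw [Linear.comp_smul, Linear.smul_comp, Category.comp_id, Category.id_comp]
    have h2 := congrArg (DRing.restrictD φ).map h1
    rw [Functor.map_comp, Functor.map_comp] at h2
    have h3 : Zmap J (mulB φ β) = (alphaD φ J).inv ≫
        (DRing.restrictD φ).map (β • 𝟙 (Q.obj ((coC φ).obj J))) ≫ (alphaD φ J).hom := by
      rw [alphaD_smul, Iso.inv_hom_id_assoc]
    rw [h3]
    show ((alphaD φ J).inv ≫ (DRing.restrictD φ).map g₀ ≫ (alphaD φ J).hom) ≫ _ =
      _ ≫ ((alphaD φ J).inv ≫ (DRing.restrictD φ).map g₀ ≫ (alphaD φ J).hom)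
    simp only [Category.assoc, Iso.hom_inv_id_assoc]
    rw [← Category.assoc ((DRing.restrictD φ).map g₀), h2, Category.assoc]
  obtain ⟨γ, hγ⟩ := hev.2 (gt ≫ ev 1)
  have hunit : γ * β = 1 := by
    apply hev.1
    have e2 : ev β = Zmap J (mulB φ β) ≫ ev 1 := by
      rw [← ev_nat, one_mul]
    have e3 : Theta φ J _ g₀ = (alphaD φ J).hom ≫ gt ≫ ev β := by
      unfold Theta
      rw [hβ']
      show _ = (alphaD φ J).hom ≫ ((alphaD φ J).inv ≫ (DRing.restrictD φ).map g₀ ≫
        (alphaD φ J).hom) ≫ ev β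
      simp only [Category.assoc, Iso.hom_inv_id_assoc]
    rw [hg₀] at e3
    have e4 := (cancel_epi (alphaD φ J).hom).mp e3
    calc ev (γ * β) = Zmap J (mulB φ β) ≫ ev γ := ev_nat β γ
      _ = Zmap J (mulB φ β) ≫ gt ≫ ev 1 := by rw [hγ]
      _ = (gt ≫ Zmap J (mulB φ β)) ≫ ev 1 := by rw [hcomm]; exact (Category.assoc _ _ _).symm
      _ = gt ≫ ev β := by rw [Category.assoc, ← e2]
      _ = ev 1 := e4.symm
  have hunit' : β * γ = 1 := by rw [mul_comm]; exact hunit
  constructor
  · intro x y hxy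
    have hxy' : x • 𝟙 (Q.obj ((coC φ).obj J)) = y • 𝟙 (Q.obj ((coC φ).obj J)) := hxy
    have h1 := congrArg (Theta φ J _) hxy'
    rw [key1, key1] at h1
    have h3 : β * x = β * y := hev.1 ((cancel_epi (alphaD φ J).hom).mp h1)
    calc x = (γ * β) * x := by rw [hunit, one_mul]
      _ = γ * (β * x) := mul_assoc _ _ _
      _ = γ * (β * y) := by rw [h3]
      _ = (γ * β) * y := (mul_assoc _ _ _).symm
      _ = y := by rw [hunit, one_mul]
  · intro g
    obtain ⟨c, hc⟩ := hev.2 ((alphaD φ J).inv ≫ Theta φ J _ g)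
    refine ⟨γ * c, ?_⟩
    apply hΘ.1
    show Theta φ J _ ((γ * c) • 𝟙 (Q.obj ((coC φ).obj J))) = Theta φ J _ g
    rw [key1, ← mul_assoc, hunit', one_mul, hc, Iso.hom_inv_id_assoc]

variable (R : Dual.D A ⥤ Dual.D B) (adj : DRing.restrictD φ ⊣ R)

include adj hvan hinj hP in
theorem ext_W_eq_zero_of_P (i : ℤ) (hi : i ≠ 0)
    (f : Q.obj ((coC φ).obj J) ⟶ (Q.obj ((coC φ).obj J))⟦i⟧) : f = 0 := by
  have hJ : ∀ n : ℤ, Injective (J.X n) := fun n =>
    (Module.injective_iff_injective_object A (J.X n)).mp (hinj n)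
  have hψ := isIso_psi φ R adj J a hvan hJ
  have h1 : f ≫ (shiftFunctor (Dual.D B) i).map (psi φ R adj J) = 0 := by
    apply hom_shift_R_eq_zero φ R adj _ (Q.obj J) i
    intro s
    have h2 : (alphaD φ J).inv ≫ s = 0 := hP.1 i hi _
    have h3 : s = (alphaD φ J).hom ≫ (alphaD φ J).inv ≫ s := by rw [Iso.hom_inv_id_assoc]
    rw [h3, h2, comp_zero]
  exact (cancel_mono _).mp (h1.trans zero_comp.symm)

end End

section Main

variable {A B : Type u} [CommRing A] [CommRing B] [Algebra A B] [IsNoetherianRing A]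
  [Module.Finite A B]
  (R : Dual.D A ⥤ Dual.D B) (adj : DRing.restrictD (algebraMap A B) ⊣ R)

include adj in
/-- for `B` a finite `A`-algebra of finite projective dimension, `R(A) = RHom_A(B, A)` has
endomorphism ring `B` and no self-extensions -/
theorem end_R_unit (d : ℕ) (hd : HasProjectiveDimensionLT (ModuleCat.of A B) (d + 1))
    (W : Dual.D A) (ι : W ≅ Dual.inD A A) :
    Function.Bijective (fun x : B => x • 𝟙 (R.obj W)) ∧
      ∀ i : ℤ, i ≠ 0 → ∀ f : R.obj W ⟶ (R.obj W)⟦i⟧, f = 0 := by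
  haveI : (Dual.inD A A).IsGE 0 := inferInstance
  obtain ⟨J, hvan, hinj, ⟨e⟩⟩ := Groth.Agent.Helper8.CoR.exists_injective_model (Dual.inD A A) 0
  have hJ : ∀ n : ℤ, Injective (J.X n) := fun n =>
    (Module.injective_iff_injective_object A (J.X n)).mp (hinj n)
  have hend : Function.Bijective (fun x : A => x • 𝟙 (Q.obj J)) :=
    toEnd_bijective_of_iso e.symm (Groth.Agent.Helper8.DualMod.toEnd_inD_self_bijective A)
  have hext : ∀ i : ℤ, i ≠ 0 → ∀ f : Q.obj J ⟶ (Q.obj J)⟦i⟧, f = 0 := by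
    intro i hi
    refine hom_shift_eq_zero_of_iso e.symm i (fun f => ?_)
    rcases lt_or_gt_of_ne hi with hi | hi
    · exact @Subsingleton.elim _
        (Groth.Agent.Helper8.DualMod.subsingleton_hom_inD_shift_of_neg A A A i hi) _ _
    · obtain ⟨m, rfl⟩ : ∃ m : ℕ, i = ((m + 1 : ℕ) : ℤ) := ⟨i.toNat - 1, by omega⟩
      haveI : Projective (ModuleCat.of A A) :=
        (IsProjective.iff_projective (R := A) A).mp inferInstance
      haveI : Subsingleton (Abelian.Ext (ModuleCat.of A A) (ModuleCat.of A A) (m + 1)) :=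
        ⟨fun x y => (Abelian.Ext.eq_zero_of_projective x).trans
          (Abelian.Ext.eq_zero_of_projective y).symm⟩
      exact @Subsingleton.elim _
        (Groth.Agent.Helper8.DualMod.homInDEquivExt A A A (m + 1)).symm.subsingleton _ _
  have hfinB : Module.Finite A (BA (algebraMap A B)) :=
    Groth.Agent.Helper8.RFin.finite_restrictScalars_self
  let e' : B ≃ₗ[A] ↑(BA (algebraMap A B)) :=
    { toFun := fun x => x
      invFun := fun x => x
      map_add' := fun _ _ => rfl
      map_smul' := fun a x => by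
        have h3 : ∀ y : B, a • y = (algebraMap A B a) • y := fun y => by
          rw [Algebra.smul_def]
          rfl
        exact h3 x
      left_inv := fun _ => rfl
      right_inv := fun _ => rfl }
  have hd' : HasProjectiveDimensionLT (ModuleCat.of A ↑(BA (algebraMap A B))) (d + 1) :=
    hasProjectiveDimensionLT_of_iso e'.toModuleIso (d + 1)
  have hP : P J (BA (algebraMap A B)) :=
    P_of_pdLT J hJ hend hext d ↑(BA (algebraMap A B)) hd'
  let ι' : Q.obj ((coC (algebraMap A B)).obj J) ≅ R.obj W :=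
    psiIso (algebraMap A B) R adj J 0 hvan hJ ≪≫ R.mapIso (e ≪≫ ι.symm)
  refine ⟨toEnd_bijective_of_iso ι' (end_bijective_of_P (algebraMap A B) J 0 hvan hinj hP),
    fun i hi => ?_⟩
  exact hom_shift_eq_zero_of_iso ι' i
    (ext_W_eq_zero_of_P (algebraMap A B) J 0 hvan hinj hP R adj i hi)

end Main

end Groth.Agent.Helper8.ShG
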