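import Groth.Agent.Lib.Helper11.FlatPc4
import Groth.Agent.Lib.Helper8.ShF3

/-!
# Perfect modules have finite projective dimension (helper8)
-/

set_option autoImplicit false

open CategoryTheory

universe u

namespace Groth.Agent.Helper8.ShG

attribute [local instance] HasDerivedCategory.standard

theorem exists_pdLT_of_isPerfectModule {A : Type u} [CommRing A] (M : Type u) [AddCommGroup M]
    [Module A M] (h : DRing.IsPerfectModule A M) :
    ∃ d : ℕ, HasProjectiveDimensionLT (ModuleCat.of A M) (d + 1) := by
  obtain ⟨E, a, b, hvan, htfp, ⟨e⟩⟩ := h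
  have hPA : Groth.Agent.Helper11.DC.ProjAmp a b
      ((DerivedCategory.singleFunctor (ModuleCat.{u} A) 0).obj (ModuleCat.of A M)) :=
    ⟨E, hvan, fun i => (htfp i).2, ⟨e⟩⟩
  refine ⟨(-a).toNat, Groth.Agent.Helper11.FlatPc.pdLT_of_extVan (ModuleCat.of A M) (-a).toNat
    (fun j hj => ?_)⟩
  exact Groth.Agent.Helper11.DC.extVan_of_projAmp _ a b hPA j (Or.inr (by omega))

/-- a flat algebra of finite type over a Noetherian ring has finite projective dimension over a
polynomial ring presenting it -/
theorem exists_pdLT_of_flat (R : Type u) [CommRing R] [IsNoetherianRing R] (n : ℕ)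
    (A : Type u) [CommRing A] [Algebra R A] [Algebra (MvPolynomial (Fin n) R) A]
    [IsScalarTower R (MvPolynomial (Fin n) R) A] [Module.Flat R A]
    [Module.Finite (MvPolynomial (Fin n) R) A] :
    ∃ d : ℕ, HasProjectiveDimensionLT (ModuleCat.of (MvPolynomial (Fin n) R) A) (d + 1) :=
  exists_pdLT_of_isPerfectModule A (Groth.Agent.Helper8.ShF.isPerfectModule_of_flat R n A)

end Groth.Agent.Helper8.ShG
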