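import Groth.Agent.Lib.Helper3.TN7
import Groth.Agent.Lib.Helper3.BC8

/-!
# `RHom_P(A, P)` restricted to `P` is a perfect complex, for `A` a perfect `P`-module (helper8)
-/

set_option autoImplicit false

open CategoryTheory CategoryTheory.Limits CochainComplex HomComplex MonoidalCategory

universe u

namespace Groth.Agent.Helper8.ShG

open DerivedCategory

attribute [local instance] HasDerivedCategory.standard

section Dual

variable {P : Type u} [CommRing P] (E : DRing.Cx P)

/-- terms of `Hom(E, P[0])` -/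
noncomputable def homUnitLin (p n : ℤ) (h : p + n = 0) :
    (DRing.homCx E (𝟙_ (DRing.Cx P))).X n ≃ₗ[P] Module.Dual P (E.X p) :=
  (Groth.Agent.Helper3.TN.toSingleLin E (ModuleCat.of P P) p n h).trans
    (ModuleCat.homLinearEquiv (S := P) (M := E.X p) (N := ModuleCat.of P P))

theorem homUnit_termwise (a b : ℤ) (hvan : DRing.VanishesOutside E a b)
    (htfp : DRing.TermwiseFiniteProjective E) :
    DRing.VanishesOutside (DRing.homCx E (𝟙_ (DRing.Cx P))) (-b) (-a) ∧
      DRing.TermwiseFiniteProjective (DRing.homCx E (𝟙_ (DRing.Cx P))) := by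
  constructor
  · intro i hi
    have hz : IsZero (E.X (-i)) := hvan (-i) (by omega)
    haveI : Subsingleton (E.X (-i)) := ModuleCat.subsingleton_of_isZero hz
    haveI : Subsingleton (Module.Dual P (E.X (-i))) :=
      ⟨fun f g => LinearMap.ext fun x => by rw [Subsingleton.elim x 0, map_zero, map_zero]⟩
    haveI : Subsingleton ((DRing.homCx E (𝟙_ (DRing.Cx P))).X i) :=
      (homUnitLin E (-i) i (by omega)).toEquiv.subsingleton
    exact ModuleCat.isZero_of_subsingleton _
  · intro i
    haveI := (htfp (-i)).1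
    haveI := (htfp (-i)).2
    exact ⟨Module.Finite.equiv (homUnitLin E (-i) i (by omega)).symm,
      Module.Projective.of_equiv (homUnitLin E (-i) i (by omega)).symm⟩

end Dual

section Main

variable {P A : Type u} [CommRing P] [CommRing A] [Algebra P A]

theorem isPerfect_res_rightAdj (hperf : DRing.IsPerfectModule P A)
    (Rψ : Dual.D P ⥤ Dual.D A) (adj : DRing.restrictD (algebraMap P A) ⊣ Rψ)
    (W : Dual.D P) (ι : W ≅ Dual.inD P P) :
    DRing.IsPerfect P ((DRing.restrictD (algebraMap P A)).obj (Rψ.obj W)) := by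
  obtain ⟨E, a, b, hvan, htfp, ⟨e⟩⟩ := hperf
  haveI : DRing.HasLBaseChange (algebraMap P A) := Groth.Agent.Helper3.KP.hasLeftDerivedFunctor _
  haveI : DTen.HasLBase (algebraMap P A) :=
    ⟨(Groth.Agent.Helper3.KP.adjD (algebraMap P A)).isRightAdjoint⟩
  haveI : E.IsKProjective := Groth.Agent.Helper3.TH.isKProjective_of_bounded E a b hvan htfp
  obtain ⟨p, hp⟩ := Groth.Agent.Helper11.DC.exists_lift_of_isKProjective E
    (Groth.Agent.Helper3.BC.SB (algebraMap P A)) (e.hom ≫ (Groth.Agent.Helper3.BC.eSB P A).inv)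
  haveI : IsIso (Q.map p) := by
    rw [hp]
    infer_instance
  haveI : QuasiIso p := (DerivedCategory.isIso_Q_map_iff_quasiIso (φ := p)).mp inferInstance
  obtain ⟨i1⟩ := Groth.Agent.Helper3.TN.nonempty_res_iso_homCx (algebraMap P A) adj p
    (𝟙_ (DRing.Cx P))
  let e0 : Dual.inD P P ≅ Q.obj (𝟙_ (DRing.Cx P)) :=
    (singleFunctorIsoCompQ (ModuleCat.{u} P) 0).app (ModuleCat.of P P)
  obtain ⟨h1, h2⟩ := homUnit_termwise E a b hvan htfp
  exact ⟨DRing.homCx E (𝟙_ (DRing.Cx P)), -b, -a, h1, h2,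
    ⟨i1.symm ≪≫ (DRing.restrictD (algebraMap P A)).mapIso (Rψ.mapIso (ι ≪≫ e0).symm)⟩⟩

end Main

end Groth.Agent.Helper8.ShG
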