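import Groth.Agent.Lib.Helper3.TN7
import Groth.Agent.Lib.Helper11.RelPerfBC
import Groth.Agent.Lib.Helper11.Shr1
import Groth.Agent.Lib.Helper11.DCCone2

/-!
# Objects of `D(A)` whose restriction to `P` is perfect: bounded cohomology and finite tor dimension
over a base `R` over which `P` is flat (helper8)
-/

set_option autoImplicit false

open CategoryTheory CategoryTheory.Limits

universe u

namespace Groth.Agent.Helper8.ShG

open DerivedCategory

attribute [local instance] HasDerivedCategory.standard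

section Bounded

variable {P A : Type u} [CommRing P] [CommRing A] [Algebra P A]

theorem bounded_HD_shift_of_isPerfect_res (X : Dual.D A)
    (hX : DRing.IsPerfect P ((DRing.restrictD (algebraMap P A)).obj X)) (n : ℤ) :
    ∃ a b : ℤ, ∀ i : ℤ, (i < a ∨ b < i) → Subsingleton (Dual.HD A (X⟦n⟧) i) := by
  obtain ⟨F, a, b, hvan, -, ⟨e⟩⟩ := hX
  haveI : F.IsStrictlyGE a := by
    rw [CochainComplex.isStrictlyGE_iff]
    intro i hi
    exact hvan i (Or.inl hi)
  haveI : F.IsStrictlyLE b := by
    rw [CochainComplex.isStrictlyLE_iff]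
    intro i hi
    exact hvan i (Or.inr hi)
  haveI h1 : (Q.obj F).IsGE a := (isGE_Q_obj_iff F a).mpr inferInstance
  haveI h2 : (Q.obj F).IsLE b := (isLE_Q_obj_iff F b).mpr inferInstance
  haveI h3 : ((DRing.restrictD (algebraMap P A)).obj X).IsGE a :=
    DerivedCategory.TStructure.t.isGE_of_iso e a
  haveI h4 : ((DRing.restrictD (algebraMap P A)).obj X).IsLE b :=
    DerivedCategory.TStructure.t.isLE_of_iso e b
  haveI h5 : X.IsGE a := (Groth.Agent.Helper3.TN.isGE_restrictD_iff (algebraMap P A) X a).mp h3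
  haveI h6 : X.IsLE b := (Groth.Agent.Helper3.TN.isLE_restrictD_iff (algebraMap P A) X b).mp h4
  haveI h7 : (X⟦n⟧).IsGE (a - n) :=
    DerivedCategory.TStructure.t.isGE_shift X a n (a - n) (by omega)
  haveI h8 : (X⟦n⟧).IsLE (b - n) :=
    DerivedCategory.TStructure.t.isLE_shift X b n (b - n) (by omega)
  refine ⟨a - n, b - n, fun i hi => ?_⟩
  rcases hi with hi | hi
  · exact ModuleCat.subsingleton_of_isZero (isZero_of_isGE (X⟦n⟧) (a - n) i hi)
  · exact ModuleCat.subsingleton_of_isZero (isZero_of_isLE (X⟦n⟧) (b - n) i hi)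

end Bounded

section Tor

variable (R : Type u) {P A : Type u} [CommRing R] [CommRing P] [CommRing A] [Algebra R P]
  [Algebra P A] [Algebra R A] [IsScalarTower R P A] [Module.Flat R P]

theorem hasFiniteTorDimCx_res_shift (X : Dual.D A)
    (hX : DRing.IsPerfect P ((DRing.restrictD (algebraMap P A)).obj X)) (n : ℤ) :
    DRing.HasFiniteTorDimCx R ((DRing.restrictD (algebraMap R A)).obj (X⟦n⟧)) := by
  obtain ⟨F, a, b, hvan, htfp, ⟨e⟩⟩ := hX
  let G₀ : DRing.Cx R := (DTen.resCx (algebraMap R P)).obj F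
  let G : DRing.Cx R := G₀⟦n⟧
  have hcomp : algebraMap R A = (algebraMap P A).comp (algebraMap R P) :=
    IsScalarTower.algebraMap_eq R P A
  let i1 : (DRing.restrictD (algebraMap R A)).obj X ≅ Q.obj G₀ :=
    (Groth.Agent.Helper11.Shr.resDComp (algebraMap R P) (algebraMap P A) (algebraMap R A)
        hcomp).app X ≪≫
      (DRing.restrictD (algebraMap R P)).mapIso e.symm ≪≫
      (DTen.resFactors (algebraMap R P)).app F
  let i2 : Q.obj G ≅ (DRing.restrictD (algebraMap R A)).obj (X⟦n⟧) :=
    Groth.Agent.Helper11.DC.shiftRepIso G₀ _ i1.symm n ≪≫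
      (((DRing.restrictD (algebraMap R A)).commShiftIso n).app X).symm
  refine ⟨a - n, b - n, G, fun i hi => ?_, fun i => ?_, ⟨i2⟩⟩
  · have hz : IsZero (F.X (i + n)) := hvan (i + n) (by omega)
    exact (ModuleCat.restrictScalars.{u} (algebraMap R P)).map_isZero hz
  · haveI := (htfp (i + n)).2
    exact Groth.Agent.Helper11.RPBC.flat_restrictScalars R P (F.X (i + n))

end Tor

end Groth.Agent.Helper8.ShG
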