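import Groth.Agent.S1790
import Groth.Agent.S8953
import Groth.Agent.S1786
import Groth.Agent.Lib.Helper8.RelDz9
import Groth.Agent.Lib.Helper8.GF7
import Groth.Agent.Lib.Helper8.QFOm1
import Groth.Agent.Lib.Helper16.Sch.FibMap2

/-!
# The relative dualizing module of a flat quasi-finite map is invertible iff the fibres are
Gorenstein (helper8)
-/

set_option autoImplicit false
set_option linter.style.haveILetI false
set_option linter.unusedSectionVars false
universe u

open CategoryTheory AlgebraicGeometry TensorProduct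

attribute [local instance] HasDerivedCategory.standard

namespace Groth.Agent.Helper8.QFOm

theorem invertible_omega_iff_gorenstein_fibres (A B' B : Type u) [CommRing A] [CommRing B']
    [CommRing B] [IsNoetherianRing A] [IsNoetherianRing B] [Algebra A B'] [Algebra B' B]
    [Algebra A B] [IsScalarTower A B' B] [Module.Flat A B] [hfinB' : Module.Finite A B']
    (hopen : IsOpenImmersion (Spec.map (CommRingCat.ofHom (algebraMap B' B)))) :
    Module.Invertible B (B ⊗[B'] Disc.Omega A B') ↔
      ∀ p : PrimeSpectrum A, LocCoh.IsGorensteinRing (B ⊗[A] p.asIdeal.ResidueField) := by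
  classical
  haveI hoi : IsOpenImmersion (Spec.map (CommRingCat.ofHom (algebraMap B' B))) := hopen
  have hft : (algebraMap B' B).FiniteType := by
    have h1 : LocallyOfFiniteType (Spec.map (CommRingCat.ofHom (algebraMap B' B))) := inferInstance
    rw [HasRingHomProperty.Spec_iff (P := @LocallyOfFiniteType)] at h1
    exact h1
  haveI : Algebra.FiniteType B' B := RingHom.finiteType_algebraMap.mp hft
  haveI : Algebra.FiniteType A B' := inferInstance
  haveI : Algebra.FiniteType A B := Algebra.FiniteType.trans (R := A) (S := B') (A := B)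
    inferInstance inferInstance
  obtain ⟨n, ψ, hψ⟩ := Algebra.FiniteType.iff_quotient_mvPolynomial''.mp
    (inferInstance : Algebra.FiniteType A B)
  haveI hLB : DRing.HasLBaseChange (algebraMap A (MvPolynomial (Fin n) A)) :=
    Groth.Agent.Helper3.KP.hasLeftDerivedFunctor _
  obtain ⟨Rψ, ⟨adj⟩⟩ := Groth.Agent.Helper11.Shr.exists_rightAdj ψ.toRingHom
  obtain ⟨e⟩ := Groth.Agent.S8953.result A B B' hopen n ψ hψ Rψ adj
  haveI hfin : IsFinite (Spec.map (CommRingCat.ofHom (algebraMap A B'))) := by
    rw [IsFinite.SpecMap_iff]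
    exact RingHom.finite_algebraMap.mpr inferInstance
  haveI hqf : LocallyQuasiFinite (Spec.map (CommRingCat.ofHom (algebraMap A B))) := by
    have h1 : Spec.map (CommRingCat.ofHom (algebraMap A B)) =
        Spec.map (CommRingCat.ofHom (algebraMap B' B)) ≫
          Spec.map (CommRingCat.ofHom (algebraMap A B')) := by
      rw [← Spec.map_comp, ← CommRingCat.ofHom_comp, ← IsScalarTower.algebraMap_eq]
    rw [h1]
    infer_instance
  haveI hlft : LocallyOfFiniteType (Spec.map (CommRingCat.ofHom (algebraMap A B))) :=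
    Groth.Agent.Helper8.RelDz.lft_SpecMap A B
  have hd : ∀ q : PrimeSpectrum B, FlatMor.fibreDimAt
      (Spec.map (CommRingCat.ofHom (algebraMap A B))) q ≤ ((0 : ℕ) : WithBot ℕ∞) := by
    intro q
    exact (Groth.Agent.Helper16.FibMap.locallyQuasiFinite_iff_fibreDimAt _).mp hqf q
  have hamp := (Groth.Agent.S1790.result A B n ψ hψ Rψ adj 0).2 hd
  have hamp' : DRing.HasTorAmplitudeIn A 0 0 ((DRing.restrictD (algebraMap A B)).obj
      (Dual2.shriekVia n Rψ (Dual.inD A A))) := by simpa using hamp
  obtain ⟨-, hz⟩ := Groth.Agent.Helper8.RelDz.flat_HD_of_hasTorAmplitudeIn A 0 _ hamp'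
  have hiso := fun i : ℤ => Groth.Agent.Helper11.DC.homologyRestrictIso
    (algebraMap A B) (Dual2.shriekVia n Rψ (Dual.inD A A)) i
  have hvan : ∀ i : ℤ, i ≠ 0 → Subsingleton (Dual.HD B
      (Dual2.shriekVia n Rψ (Dual.inD A A)) i) := by
    intro i hi
    have h1 := (hz i hi).of_iso (hiso i).symm
    have h2 : Subsingleton ((ModuleCat.restrictScalars.{u} (algebraMap A B)).obj
        ((DerivedCategory.homologyFunctor (ModuleCat.{u} B) i).obj
          (Dual2.shriekVia n Rψ (Dual.inD A A)))) := ModuleCat.subsingleton_of_isZero h1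
    exact h2
  haveI hL : ∀ f : B, DRing.HasLBaseChange (algebraMap B (Localization.Away f)) :=
    fun f => Groth.Agent.Helper3.KP.hasLeftDerivedFunctor _
  have key := Groth.Agent.S1786.result A B n ψ hψ Rψ adj
  rw [key, ← Groth.Agent.Helper8.GF.invertible_iff_locally_shift _ 0 hvan]
  exact ⟨fun h => Module.Invertible.congr e.symm, fun h => Module.Invertible.congr e⟩

/-- over a field, the fibre ring over the unique point is the ring itself -/
theorem gorenstein_fibre_field_iff (k C : Type u) [Field k] [CommRing C] [Algebra k C]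
    (p : PrimeSpectrum k) :
    LocCoh.IsGorensteinRing (C ⊗[k] p.asIdeal.ResidueField) ↔ LocCoh.IsGorensteinRing C := by
  haveI := p.isPrime
  have hp : p.asIdeal = ⊥ := by
    rcases Ideal.eq_bot_or_top p.asIdeal with h | h
    · exact h
    · exact absurd h p.isPrime.ne_top
  haveI : p.asIdeal.IsMaximal := by
    rw [hp]
    exact Ideal.bot_isMaximal
  have hbij : Function.Bijective (algebraMap k p.asIdeal.ResidueField) := by
    have h1 := Ideal.bijective_algebraMap_quotient_residueField p.asIdeal
    have h2 : Function.Bijective (Ideal.Quotient.mk p.asIdeal) := by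
      refine ⟨?_, Ideal.Quotient.mk_surjective⟩
      rw [injective_iff_map_eq_zero]
      intro x hx
      rw [Ideal.Quotient.eq_zero_iff_mem, hp] at hx
      exact hx
    have h3 : algebraMap k p.asIdeal.ResidueField =
        (algebraMap (k ⧸ p.asIdeal) p.asIdeal.ResidueField).comp (Ideal.Quotient.mk p.asIdeal) :=
      IsScalarTower.algebraMap_eq k (k ⧸ p.asIdeal) p.asIdeal.ResidueField
    rw [h3]
    exact h1.comp h2
  let e₀ : k ≃ₐ[k] p.asIdeal.ResidueField :=
    AlgEquiv.ofBijective (Algebra.ofId k p.asIdeal.ResidueField) hbij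
  let e : C ⊗[k] p.asIdeal.ResidueField ≃ₐ[k] C :=
    (Algebra.TensorProduct.congr (AlgEquiv.refl : C ≃ₐ[k] C) e₀.symm).trans
      (Algebra.TensorProduct.rid k k C)
  exact ⟨fun h => Groth.Agent.Helper12.GorField.isGorensteinRing_of_ringEquiv e.toRingEquiv h,
    fun h => Groth.Agent.Helper12.GorField.isGorensteinRing_of_ringEquiv e.symm.toRingEquiv h⟩

end Groth.Agent.Helper8.QFOm
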