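import Groth.Agent.Lib.Helper8.QFOm2

/-!
# Invertibility of the relative dualizing module of a fibre (helper8)
-/

set_option autoImplicit false
set_option linter.style.haveILetI false
set_option linter.unusedSectionVars false
universe u

open CategoryTheory AlgebraicGeometry TensorProduct

namespace Groth.Agent.Helper8.QFOm

theorem finiteType_of_qf (A B' B : Type u) [CommRing A] [CommRing B']
    [CommRing B] [Algebra A B'] [Algebra B' B]
    [Algebra A B] [IsScalarTower A B' B] [hfinB' : Module.Finite A B']
    (hopen : IsOpenImmersion (Spec.map (CommRingCat.ofHom (algebraMap B' B)))) :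
    Algebra.FiniteType A B := by
  haveI hoi : IsOpenImmersion (Spec.map (CommRingCat.ofHom (algebraMap B' B))) := hopen
  have hft : (algebraMap B' B).FiniteType := by
    have h1 : LocallyOfFiniteType (Spec.map (CommRingCat.ofHom (algebraMap B' B))) := inferInstance
    rw [HasRingHomProperty.Spec_iff (P := @LocallyOfFiniteType)] at h1
    exact h1
  haveI : Algebra.FiniteType B' B := RingHom.finiteType_algebraMap.mp hft
  haveI : Algebra.FiniteType A B' := inferInstance
  exact Algebra.FiniteType.trans (R := A) (S := B') (A := B) inferInstance inferInstance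

theorem invertible_omega_fibre_iff (A B' B : Type u) [CommRing A] [CommRing B'] [CommRing B]
    [IsNoetherianRing A] [IsNoetherianRing B] [Algebra A B'] [Algebra B' B] [Algebra A B]
    [IsScalarTower A B' B] [Module.Flat A B] [hfinB' : Module.Finite A B']
    (hopen : IsOpenImmersion (Spec.map (CommRingCat.ofHom (algebraMap B' B))))
    (p : Ideal A) [p.IsPrime] (B'₁ B₁ : Type u) [CommRing B'₁] [CommRing B₁] [Algebra B' B'₁]
    [Algebra p.ResidueField B'₁] [Algebra A B'₁] [IsScalarTower A p.ResidueField B'₁]
    [IsScalarTower A B' B'₁] [Algebra B B₁] [Algebra p.ResidueField B₁] [Algebra A B₁]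
    [IsScalarTower A p.ResidueField B₁] [IsScalarTower A B B₁] [Algebra B'₁ B₁] [Algebra B' B₁]
    [IsScalarTower B' B'₁ B₁] [IsScalarTower B' B B₁] [IsScalarTower p.ResidueField B'₁ B₁]
    (h' : Algebra.IsPushout A p.ResidueField B' B'₁) (hB : Algebra.IsPushout A p.ResidueField B B₁) :
    Module.Invertible B₁ (QFDual.omega p.ResidueField B'₁ B₁) ↔
      LocCoh.IsGorensteinRing (B ⊗[A] p.ResidueField) := by
  haveI := h'
  haveI := hB
  haveI hftAB : Algebra.FiniteType A B := finiteType_of_qf A B' B hopen
  -- `B₁` is of finite type over the residue field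
  let eB : p.ResidueField ⊗[A] B ≃ₐ[p.ResidueField] B₁ := Algebra.IsPushout.equiv A p.ResidueField B B₁
  let eB' : p.ResidueField ⊗[A] B' ≃ₐ[p.ResidueField] B'₁ :=
    Algebra.IsPushout.equiv A p.ResidueField B' B'₁
  haveI : Algebra.FiniteType p.ResidueField B₁ := Algebra.FiniteType.equiv inferInstance eB
  haveI : IsNoetherianRing B₁ := Algebra.FiniteType.isNoetherianRing p.ResidueField B₁
  haveI : Module.Finite p.ResidueField B'₁ := Module.Finite.equiv eB'.toLinearEquiv
  -- the right-hand square is a pushout
  haveI tw : IsScalarTower A B'₁ B₁ := IsScalarTower.of_algebraMap_eq fun a => by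
    rw [IsScalarTower.algebraMap_apply A p.ResidueField B₁,
      IsScalarTower.algebraMap_apply p.ResidueField B'₁ B₁,
      ← IsScalarTower.algebraMap_apply A p.ResidueField B'₁]
  haveI hs1 : Algebra.IsPushout A B' p.ResidueField B'₁ := h'.symm
  have hs2 : Algebra.IsPushout A B p.ResidueField B₁ := hB.symm
  have h3 : Algebra.IsPushout B' B B'₁ B₁ :=
    (Algebra.IsPushout.comp_iff (R := A) (S := B') (T := B) (R' := p.ResidueField) (S' := B'₁)
      (T' := B₁)).mp hs2
  haveI := h3
  have hpo := CommRingCat.isPushout_of_isPushout B' B B'₁ B₁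
  have hpb := isPullback_SpecMap_of_isPushout _ _ _ _ hpo
  have hopen₁ : IsOpenImmersion (Spec.map (CommRingCat.ofHom (algebraMap B'₁ B₁))) :=
    MorphismProperty.of_isPullback (P := @IsOpenImmersion) hpb hopen
  have key := invertible_omega_iff_gorenstein_fibres p.ResidueField B'₁ B₁ hopen₁
  change Module.Invertible B₁ (B₁ ⊗[B'₁] Disc.Omega p.ResidueField B'₁) ↔ _
  rw [key]
  have e2 : B₁ ≃+* B ⊗[A] p.ResidueField :=
    eB.symm.toRingEquiv.trans (Algebra.TensorProduct.comm A p.ResidueField B).toRingEquiv
  constructor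
  · intro h
    have h1 := (gorenstein_fibre_field_iff p.ResidueField B₁ ⟨⊥, Ideal.bot_prime⟩).mp
      (h ⟨⊥, Ideal.bot_prime⟩)
    exact Groth.Agent.Helper12.GorField.isGorensteinRing_of_ringEquiv e2 h1
  · intro h P
    exact (gorenstein_fibre_field_iff p.ResidueField B₁ P).mpr
      (Groth.Agent.Helper12.GorField.isGorensteinRing_of_ringEquiv e2.symm h)

end Groth.Agent.Helper8.QFOm
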