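import Groth.Agent.S18708
import Groth.Agent.Lib.Helper8.LCDT
import Groth.Agent.Lib.Helper8.LCDepth
import Groth.Agent.Lib.Helper8.LCFin

/-!
# Deformation step for kernels of `u ⊗ Q` (helper8)

Setting of `QGor` four-term sequences `0 → F → E⁰ → E¹ → G → 0` (lead's `S18708`): for an `A`-module
`Q` put `K(Q) = ker (u ⊗ Q)`.  For a short exact sequence `0 → Q' → Q → Q'' → 0`, the map
`K(Q) → K(Q'')` is surjective as soon as `H²_J(K(Q')) = 0`, `H¹_J(K(Q)) = 0`, `H⁰_J(K(Q'')) = 0`.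
-/

set_option autoImplicit false
set_option linter.style.haveILetI false
set_option linter.unusedSectionVars false
set_option linter.unusedVariables false
universe u

namespace Groth.Agent.Helper8.QGDef

open TensorProduct Function IsLocalRing Groth.Agent.S18708 Groth.Agent.Helper8.LC

section General

variable {A B : Type u} [CommRing A] [CommRing B] [Algebra A B]

section lT

variable (B) (X : Type u) [AddCommGroup X] [Module B X] [Module A X] [IsScalarTower A B X]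
  {Q Q' Q'' : Type u} [AddCommGroup Q] [Module A Q] [AddCommGroup Q'] [Module A Q']
  [AddCommGroup Q''] [Module A Q'']

/-- `X ⊗ φ`, `B`-linearly. -/
noncomputable abbrev lT (φ : Q →ₗ[A] Q') : X ⊗[A] Q →ₗ[B] X ⊗[A] Q' :=
  AlgebraTensorModule.lTensor B X φ

theorem lT_eq (φ : Q →ₗ[A] Q') (y : X ⊗[A] Q) : lT B X φ y = φ.lTensor X y := rfl

theorem lT_injective_of_flat [Module.Flat A X] (φ : Q →ₗ[A] Q') (hφ : Injective φ) :
    Injective (lT B X φ) := by
  intro a b hab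
  exact Module.Flat.lTensor_preserves_injective_linearMap φ hφ hab

theorem lT_surjective (φ : Q →ₗ[A] Q') (hφ : Surjective φ) : Surjective (lT B X φ) := by
  intro y
  obtain ⟨x, hx⟩ := LinearMap.lTensor_surjective X hφ y
  exact ⟨x, hx⟩

theorem lT_exact (φ : Q →ₗ[A] Q') (ψ : Q' →ₗ[A] Q'') (h : Function.Exact φ ψ)
    (hψ : Surjective ψ) : Function.Exact (lT B X φ) (lT B X ψ) := by
  intro y
  exact lTensor_exact X h hψ y

end lT

section sq

variable {X Y : Type u} [AddCommGroup X] [Module B X] [Module A X] [IsScalarTower A B X]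
  [AddCommGroup Y] [Module B Y] [Module A Y] [IsScalarTower A B Y]
  {Q Q' : Type u} [AddCommGroup Q] [Module A Q] [AddCommGroup Q'] [Module A Q']

theorem rT_lT (g : X →ₗ[B] Y) (φ : Q →ₗ[A] Q') (y : X ⊗[A] Q) :
    rT A Q' g (lT B X φ y) = lT B Y φ (rT A Q g y) := by
  induction y using TensorProduct.induction_on with
  | zero => simp only [map_zero]
  | tmul a c => rfl
  | add a b ha hb => simp only [map_add, ha, hb]

end sq

end General

section Four

variable {A B : Type u} [CommRing A] [CommRing B] [IsNoetherianRing B] [Algebra A B] (J : Ideal B)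
  {F E0 E1 G : Type u}
  [AddCommGroup F] [Module B F] [Module A F] [IsScalarTower A B F]
  [AddCommGroup E0] [Module B E0] [Module A E0] [IsScalarTower A B E0]
  [AddCommGroup E1] [Module B E1] [Module A E1] [IsScalarTower A B E1]
  [AddCommGroup G] [Module B G] [Module A G] [IsScalarTower A B G]
  (f : F →ₗ[B] E0) (u : E0 →ₗ[B] E1) (v : E1 →ₗ[B] G)
  (I : Submodule B E1) (π : E0 →ₗ[B] ↥I)

variable (A) in
/-- `K(Q) = ker (u ⊗ Q)`. -/
noncomputable abbrev Kq (Q : Type u) [AddCommGroup Q] [Module A Q] : Submodule B (E0 ⊗[A] Q) :=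
  LinearMap.ker (rT A Q u)

variable {Q Q' Q'' : Type u} [AddCommGroup Q] [Module A Q] [AddCommGroup Q'] [Module A Q']
  [AddCommGroup Q''] [Module A Q'']

variable (A) in
/-- The map `K(Q) → K(Q')` induced by `φ : Q → Q'`. -/
noncomputable def Kmap (φ : Q →ₗ[A] Q') : ↥(Kq A u Q) →ₗ[B] ↥(Kq A u Q') :=
  (lT B E0 φ).restrict (p := Kq A u Q) (q := Kq A u Q') (fun y hy => by
    rw [LinearMap.mem_ker] at hy ⊢
    rw [rT_lT, hy, map_zero])

theorem Kmap_coe (φ : Q →ₗ[A] Q') (y : ↥(Kq A u Q)) :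
    ((Kmap A u φ y : ↥(Kq A u Q')) : E0 ⊗[A] Q') = lT B E0 φ (y : E0 ⊗[A] Q) := rfl

theorem rT_f_mem (hfπ : Function.Exact f π) (hπ : Surjective π) (hιπ : I.subtype ∘ₗ π = u)
    (z : F ⊗[A] Q) : rT A Q f z ∈ Kq A u Q := by
  rw [LinearMap.mem_ker, ← hιπ, ← rT_comp, (rT_exact Q f π hfπ hπ).apply_apply_eq_zero, map_zero]

/-- An element of `K(Q)` multiplied by a power of `J` comes from `F ⊗ Q`. -/
theorem exists_pow_smul_mem_range
    (hfπ : Function.Exact f π) (hπ : Surjective π) (hιv : Function.Exact I.subtype v)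
    (hv : Surjective v) (hιπ : I.subtype ∘ₗ π = u)
    (hGU : ∀ q : PrimeSpectrum B, ¬ J ≤ q.asIdeal →
      Module.Flat A (LocalizedModule q.asIdeal.primeCompl G))
    (y : E0 ⊗[A] Q) (hy : rT A Q u y = 0) :
    ∃ n : ℕ, ∀ b ∈ J ^ n, ∃ z : F ⊗[A] Q, rT A Q f z = b • y := by
  have hx : rT A Q I.subtype (rT A Q π y) = 0 := by
    rw [rT_comp, hιπ]
    exact hy
  obtain ⟨n, hn⟩ := exists_pow_smul_eq_zero_of_exact J I.subtype v
    (Submodule.injective_subtype I) hιv hv hGU Q (rT A Q π y) hx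
  refine ⟨n, fun b hb => ?_⟩
  have h1 : rT A Q π (b • y) = 0 := by rw [map_smul, hn b hb]
  exact (rT_exact Q f π hfπ hπ (b • y)).mp h1

/-- The cokernel of `K(Q) → K(Q'')` is `J`-power torsion, for `Q → Q''` surjective. -/
theorem exists_pow_smul_mem_range_Kmap
    (hfπ : Function.Exact f π) (hπ : Surjective π) (hιv : Function.Exact I.subtype v)
    (hv : Surjective v) (hιπ : I.subtype ∘ₗ π = u)
    (hGU : ∀ q : PrimeSpectrum B, ¬ J ≤ q.asIdeal →
      Module.Flat A (LocalizedModule q.asIdeal.primeCompl G))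
    (p : Q →ₗ[A] Q'') (hp : Surjective p) (y : ↥(Kq A u Q'')) :
    ∃ n : ℕ, ∀ b ∈ J ^ n, b • y ∈ LinearMap.range (Kmap A u p) := by
  obtain ⟨n, hn⟩ := exists_pow_smul_mem_range J f u v I π hfπ hπ hιv hv hιπ hGU
    (y : E0 ⊗[A] Q'') (LinearMap.mem_ker.mp y.2)
  refine ⟨n, fun b hb => ?_⟩
  obtain ⟨z'', hz''⟩ := hn b hb
  obtain ⟨z, rfl⟩ := lT_surjective B F p hp z''
  refine ⟨⟨rT A Q f z, rT_f_mem f u I π hfπ hπ hιπ z⟩, ?_⟩
  apply Subtype.ext
  rw [Kmap_coe, Submodule.coe_smul, ← hz'', rT_lT]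

theorem Kmap_injective [Module.Flat A E0] (ι : Q' →ₗ[A] Q) (hι : Injective ι) :
    Injective (Kmap A u ι) := by
  intro a b hab
  apply Subtype.ext
  apply lT_injective_of_flat B E0 ι hι
  rw [← Kmap_coe, ← Kmap_coe, hab]

theorem Kmap_exact [Module.Flat A E1] (ι : Q' →ₗ[A] Q) (p : Q →ₗ[A] Q'') (hι : Injective ι)
    (hιp : Function.Exact ι p) (hp : Surjective p) :
    Function.Exact (Kmap A u ι) (Kmap A u p) := by
  intro y
  constructor
  · intro hy
    have h1 : lT B E0 p (y : E0 ⊗[A] Q) = 0 := by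
      rw [← Kmap_coe, hy]
      rfl
    obtain ⟨w, hw⟩ := (lT_exact B E0 ι p hιp hp (y : E0 ⊗[A] Q)).mp h1
    have hwK : w ∈ Kq A u Q' := by
      rw [LinearMap.mem_ker]
      apply lT_injective_of_flat B E1 ι hι
      rw [← rT_lT, hw, map_zero]
      exact LinearMap.mem_ker.mp y.2
    exact ⟨⟨w, hwK⟩, Subtype.ext hw⟩
  · rintro ⟨w, rfl⟩
    apply Subtype.ext
    rw [Kmap_coe, Kmap_coe]
    exact (lT_exact B E0 ι p hιp hp).apply_apply_eq_zero _

/-- **Deformation step.** -/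
theorem Kmap_surjective [Module.Flat A E0] [Module.Flat A E1]
    (hfπ : Function.Exact f π) (hπ : Surjective π) (hιv : Function.Exact I.subtype v)
    (hv : Surjective v) (hιπ : I.subtype ∘ₗ π = u)
    (hGU : ∀ q : PrimeSpectrum B, ¬ J ≤ q.asIdeal →
      Module.Flat A (LocalizedModule q.asIdeal.primeCompl G))
    (ι : Q' →ₗ[A] Q) (p : Q →ₗ[A] Q'') (hι : Injective ι)
    (hιp : Function.Exact ι p) (hp : Surjective p)
    (hH2 : Subsingleton (H J 2 ↥(Kq A u Q'))) (hH1 : Subsingleton (H J 1 ↥(Kq A u Q)))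
    (hH0 : Subsingleton (H J 0 ↥(Kq A u Q''))) : Surjective (Kmap A u p) := by
  obtain ⟨K', hK'⟩ : ∃ K' : Submodule B ↥(Kq A u Q''), K' = LinearMap.range (Kmap A u p) :=
    ⟨_, rfl⟩
  have hmem : ∀ y, Kmap A u p y ∈ K' := fun y => hK' ▸ LinearMap.mem_range_self _ y
  obtain ⟨ρ, hρ⟩ : ∃ ρ : ↥(Kq A u Q) →ₗ[B] ↥K',
      ∀ y, ((ρ y : ↥K') : ↥(Kq A u Q'')) = Kmap A u p y :=
    ⟨LinearMap.codRestrict K' (Kmap A u p) hmem, fun y => rfl⟩
  have hρ_surj : Surjective ρ := by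
    rintro ⟨w, hw⟩
    rw [hK'] at hw
    obtain ⟨y, hy⟩ := hw
    exact ⟨y, Subtype.ext ((hρ y).trans hy)⟩
  have hex : Function.Exact (Kmap A u ι) ρ := by
    intro y
    rw [← Kmap_exact u ι p hι hιp hp y]
    constructor
    · intro h
      rw [← hρ y, h]
      rfl
    · intro h
      apply Subtype.ext
      rw [hρ y, h]
      rfl
  have hinj : Injective (Kmap A u ι) := Kmap_injective u ι hι
  have hs1 : Groth.Agent.Helper8.LC.IsSES (R := B) (M := ↥(Kq A u Q')) (N := ↥(Kq A u Q))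
      (P := ↥K') (Kmap A u ι) ρ := by
    constructor
    · exact hinj
    · exact hex
    · exact hρ_surj
  haveI : Subsingleton (H J 1 ↥(Kq A u Q)) := hH1
  haveI : Subsingleton (H J (1 + 1) ↥(Kq A u Q')) := hH2
  haveI : Subsingleton (H J 0 ↥(Kq A u Q'')) := hH0
  haveI h1K' : Subsingleton (H J 1 ↥K') := hs1.subsingleton_right J 1
  haveI h1K'' : Subsingleton (H J (0 + 1) ↥K') := h1K'
  have hs2 := isSES_subtype_mkQ K'
  haveI hC0 : Subsingleton (H J 0 (↥(Kq A u Q'') ⧸ K')) := hs2.subsingleton_right J 0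
  have hT : IsTors J (↥(Kq A u Q'') ⧸ K') := by
    intro c
    obtain ⟨y, rfl⟩ := K'.mkQ_surjective c
    obtain ⟨n, hn⟩ := exists_pow_smul_mem_range_Kmap J f u v I π hfπ hπ hιv hv hιπ hGU p hp y
    refine ⟨n, fun b hb => ?_⟩
    rw [← map_smul, Submodule.mkQ_apply, Submodule.Quotient.mk_eq_zero, hK']
    exact hn b hb
  haveI : Subsingleton (↥(Kq A u Q'') ⧸ K') := (hT.H0Equiv J).symm.toEquiv.subsingleton
  have htop : K' = ⊤ := Submodule.Quotient.subsingleton_iff.mp inferInstance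
  intro y
  have hy : y ∈ K' := htop ▸ Submodule.mem_top
  rw [hK'] at hy
  exact hy

end Four

end Groth.Agent.Helper8.QGDef
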