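import Groth.Agent.Lib.Helper8.QGDef1

/-!
# Vanishing of `H²_J(K(Q))` for finite length `Q` and surjectivity of `K(Q) → K(Q'')` (helper8)
-/

set_option autoImplicit false
set_option linter.style.haveILetI false
set_option linter.unusedSectionVars false
set_option linter.unusedVariables false
universe u

namespace Groth.Agent.Helper8.QGDef

open TensorProduct Function IsLocalRing Groth.Agent.S18708 Groth.Agent.Helper8.LC

section Func

variable {A B : Type u} [CommRing A] [CommRing B] [IsNoetherianRing B] [Algebra A B]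
  {E0 E1 : Type u}
  [AddCommGroup E0] [Module B E0] [Module A E0] [IsScalarTower A B E0]
  [AddCommGroup E1] [Module B E1] [Module A E1] [IsScalarTower A B E1]
  (u : E0 →ₗ[B] E1)
  {Q Q' Q'' : Type u} [AddCommGroup Q] [Module A Q] [AddCommGroup Q'] [Module A Q']
  [AddCommGroup Q''] [Module A Q'']

theorem Kmap_comp_apply (φ : Q →ₗ[A] Q') (ψ : Q' →ₗ[A] Q'') (y : ↥(Kq A u Q)) :
    Kmap A u ψ (Kmap A u φ y) = Kmap A u (ψ ∘ₗ φ) y := by
  apply Subtype.ext
  rw [Kmap_coe, Kmap_coe, Kmap_coe, lT_eq, lT_eq, lT_eq, LinearMap.lTensor_comp_apply]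

theorem Kmap_id_apply (y : ↥(Kq A u Q)) : Kmap A u (LinearMap.id : Q →ₗ[A] Q) y = y := by
  apply Subtype.ext
  rw [Kmap_coe, lT_eq, LinearMap.lTensor_id_apply]

/-- `K(Q) ≃ K(Q')` for `Q ≃ Q'`. -/
noncomputable def Kcongr (e : Q ≃ₗ[A] Q') : ↥(Kq A u Q) ≃ₗ[B] ↥(Kq A u Q') :=
  LinearEquiv.ofLinearMap (Kmap A u e.toLinearMap) (Kmap A u e.symm.toLinearMap)
    (by
      ext y
      rw [LinearMap.comp_apply, Kmap_comp_apply]
      have : e.toLinearMap ∘ₗ e.symm.toLinearMap = LinearMap.id := by ext; simp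
      rw [this, Kmap_id_apply]
      rfl)
    (by
      ext y
      rw [LinearMap.comp_apply, Kmap_comp_apply]
      have : e.symm.toLinearMap ∘ₗ e.toLinearMap = LinearMap.id := by ext; simp
      rw [this, Kmap_id_apply]
      rfl)

end Func

section LocalBase

variable {A B : Type u} [CommRing A] [CommRing B] [IsNoetherianRing A] [IsNoetherianRing B]
  [IsLocalRing A] [Algebra A B] (J : Ideal B)
  {F E0 E1 G : Type u}
  [AddCommGroup F] [Module B F] [Module A F] [IsScalarTower A B F]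
  [AddCommGroup E0] [Module B E0] [Module A E0] [IsScalarTower A B E0] [Module.Finite B E0]
  [Module.Flat A E0]
  [AddCommGroup E1] [Module B E1] [Module A E1] [IsScalarTower A B E1] [Module.Finite B E1]
  [Module.Flat A E1]
  [AddCommGroup G] [Module B G] [Module A G] [IsScalarTower A B G]
  (f : F →ₗ[B] E0) (u : E0 →ₗ[B] E1) (v : E1 →ₗ[B] G)
  (I : Submodule B E1) (π : E0 →ₗ[B] ↥I)

theorem finite_Kq (Q : Type u) [AddCommGroup Q] [Module A Q] (hQ : IsFiniteLength A Q) :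
    Module.Finite B ↥(Kq A u Q) := by
  haveI : IsNoetherian A Q := (isFiniteLength_iff_isNoetherian_isArtinian.mp hQ).1
  haveI : Module.Finite B (E0 ⊗[A] Q) := finite_tensor E0 Q
  infer_instance

theorem two_le_idealDepth_Kq
    (hE0 : 2 ≤ LocCoh.idealDepth J (E0 ⊗[A] (A ⧸ maximalIdeal A)))
    (hE1 : 1 ≤ LocCoh.idealDepth J (E1 ⊗[A] (A ⧸ maximalIdeal A)))
    (Q : Type u) [AddCommGroup Q] [Module A Q] (hQ : IsFiniteLength A Q) :
    2 ≤ LocCoh.idealDepth J ↥(Kq A u Q) := by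
  haveI : IsNoetherian A Q := (isFiniteLength_iff_isNoetherian_isArtinian.mp hQ).1
  haveI : Module.Finite B (E0 ⊗[A] Q) := finite_tensor E0 Q
  haveI : Module.Finite B (E1 ⊗[A] Q) := finite_tensor E1 Q
  have hE0Q := le_idealDepth_tensor_of_isFiniteLength J E0 2 hE0 Q hQ
  have hE1Q := le_idealDepth_tensor_of_isFiniteLength J E1 1 hE1 Q hQ
  obtain ⟨Tu, hTu⟩ : ∃ Tu : E0 ⊗[A] Q →ₗ[B] E1 ⊗[A] Q, Tu = rT A Q u := ⟨_, rfl⟩
  obtain ⟨K0, hK0⟩ : ∃ K0 : Submodule B (E0 ⊗[A] Q), K0 = LinearMap.ker Tu := ⟨_, rfl⟩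
  obtain ⟨R0, hR0⟩ : ∃ R0 : Submodule B (E1 ⊗[A] Q), R0 = LinearMap.range Tu := ⟨_, rfl⟩
  have hR0_depth : 1 ≤ LocCoh.idealDepth J ↥R0 :=
    one_le_idealDepth_of_injective J R0.subtype (Submodule.injective_subtype R0) hE1Q
  have hmemR0 : ∀ y, Tu y ∈ R0 := fun y => (le_of_eq hR0.symm) (LinearMap.mem_range_self Tu y)
  obtain ⟨ρ, hρ⟩ : ∃ ρ : E0 ⊗[A] Q →ₗ[B] ↥R0,
      ∀ y, ((ρ y : ↥R0) : E1 ⊗[A] Q) = Tu y :=
    ⟨LinearMap.codRestrict R0 Tu hmemR0, fun y => rfl⟩
  have hρ_surj : Surjective ρ := by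
    rintro ⟨w, hw⟩
    obtain ⟨y, hy⟩ := LinearMap.mem_range.mp ((le_of_eq hR0) hw)
    exact ⟨y, Subtype.ext ((hρ y).trans hy)⟩
  have hKρ : Function.Exact K0.subtype ρ := by
    intro y
    constructor
    · intro h
      have h' : Tu y = 0 := by rw [← hρ y, h, Submodule.coe_zero]
      have hy : y ∈ K0 := (le_of_eq hK0.symm) (LinearMap.mem_ker.mpr h')
      exact ⟨⟨y, hy⟩, rfl⟩
    · rintro ⟨⟨w, hw⟩, rfl⟩
      have hw' : w ∈ LinearMap.ker Tu := (le_of_eq hK0) hw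
      exact Subtype.ext ((hρ w).trans (LinearMap.mem_ker.mp hw'))
  have hK0_depth : 2 ≤ LocCoh.idealDepth J ↥K0 :=
    two_le_of_min hE0Q hR0_depth
      (Groth.Agent.Lead.Depth.idealDepth_shortExact J ↥K0 (E0 ⊗[A] Q) ↥R0
        K0.subtype ρ (Submodule.injective_subtype K0) hρ_surj hKρ).2.2
  subst hK0
  subst hTu
  exact hK0_depth

theorem H_Kq_subsingleton
    (hE0 : 2 ≤ LocCoh.idealDepth J (E0 ⊗[A] (A ⧸ maximalIdeal A)))
    (hE1 : 1 ≤ LocCoh.idealDepth J (E1 ⊗[A] (A ⧸ maximalIdeal A)))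
    (Q : Type u) [AddCommGroup Q] [Module A Q] (hQ : IsFiniteLength A Q) (i : ℕ) (hi : i < 2) :
    Subsingleton (H J i ↥(Kq A u Q)) := by
  haveI := finite_Kq (B := B) u Q hQ
  have h2 := two_le_idealDepth_Kq J u hE0 hE1 Q hQ
  have h2' : ((2 : ℕ) : ℕ∞) ≤ LocCoh.idealDepth J ↥(Kq A u Q) := by exact_mod_cast h2
  exact (le_idealDepth_iff_H' J 2 ↥(Kq A u Q)).mp h2' i hi

/-- `H²_J(K(k)) = 0` if `H²_J(F ⊗ k) = 0`. -/
theorem H2_Kq_residue_subsingleton
    (hf : Injective f) (hfπ : Function.Exact f π) (hπ : Surjective π)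
    (hιv : Function.Exact I.subtype v) (hv : Surjective v) (hιπ : I.subtype ∘ₗ π = u)
    (hGU : ∀ q : PrimeSpectrum B, ¬ J ≤ q.asIdeal →
      Module.Flat A (LocalizedModule q.asIdeal.primeCompl G))
    (hH2 : Subsingleton (H J 2 (F ⊗[A] (A ⧸ maximalIdeal A)))) :
    Subsingleton (H J 2 ↥(Kq A u (A ⧸ maximalIdeal A))) := by
  have hIU : ∀ q : PrimeSpectrum B, ¬ J ≤ q.asIdeal →
      Module.Flat A (LocalizedModule q.asIdeal.primeCompl ↥I) := by
    intro q hq
    haveI : Module.Flat A (LocalizedModule q.asIdeal.primeCompl G) := hGU q hq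
    haveI : Module.Flat A (LocalizedModule q.asIdeal.primeCompl E1) :=
      Groth.Agent.S6918.flat_localizedModule q.asIdeal.primeCompl E1
    exact flat_localizedModule_of_exact I.subtype v (Submodule.injective_subtype I) hιv hv
      q.asIdeal.primeCompl
  obtain ⟨Tf', hTf'⟩ : ∃ Tf' : F ⊗[A] (A ⧸ maximalIdeal A) →ₗ[B]
      ↥(Kq A u (A ⧸ maximalIdeal A)),
      ∀ z, ((Tf' z : ↥(Kq A u (A ⧸ maximalIdeal A))) : E0 ⊗[A] (A ⧸ maximalIdeal A)) =
        rT A (A ⧸ maximalIdeal A) f z :=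
    ⟨LinearMap.codRestrict _ (rT A _ f) (fun z => rT_f_mem f u I π hfπ hπ hιπ z), fun z => rfl⟩
  have hker : IsTors J ↥(LinearMap.ker Tf') := by
    rintro ⟨x, hx⟩
    have hx' : rT A (A ⧸ maximalIdeal A) f x = 0 := by
      rw [← hTf' x, LinearMap.mem_ker.mp hx]
      rfl
    obtain ⟨n, hn⟩ := exists_pow_smul_eq_zero_of_exact J f π hf hfπ hπ hIU
      (A ⧸ maximalIdeal A) x hx'
    exact ⟨n, fun a ha => Subtype.ext (hn a ha)⟩
  have hcoker : IsTors J (↥(Kq A u (A ⧸ maximalIdeal A)) ⧸ LinearMap.range Tf') := by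
    intro c
    obtain ⟨y, rfl⟩ := (LinearMap.range Tf').mkQ_surjective c
    obtain ⟨n, hn⟩ := exists_pow_smul_mem_range J f u v I π hfπ hπ hιv hv hιπ hGU
      (y : E0 ⊗[A] (A ⧸ maximalIdeal A)) (LinearMap.mem_ker.mp y.2)
    refine ⟨n, fun b hb => ?_⟩
    obtain ⟨z, hz⟩ := hn b hb
    rw [← map_smul, Submodule.mkQ_apply, Submodule.Quotient.mk_eq_zero]
    exact ⟨z, Subtype.ext ((hTf' z).trans hz)⟩
  have hbij := Hmap_bijective_of_ker_coker_tors J Tf' hker hcoker 2 le_rfl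
  haveI := hH2
  exact hbij.2.subsingleton

/-- `H²_J(K(Q)) = 0` for all `Q` of finite length. -/
theorem H2_Kq_subsingleton
    (hfπ : Function.Exact f π) (hπ : Surjective π)
    (hιv : Function.Exact I.subtype v) (hv : Surjective v) (hιπ : I.subtype ∘ₗ π = u)
    (hGU : ∀ q : PrimeSpectrum B, ¬ J ≤ q.asIdeal →
      Module.Flat A (LocalizedModule q.asIdeal.primeCompl G))
    (hE0 : 2 ≤ LocCoh.idealDepth J (E0 ⊗[A] (A ⧸ maximalIdeal A)))
    (hE1 : 1 ≤ LocCoh.idealDepth J (E1 ⊗[A] (A ⧸ maximalIdeal A)))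
    (hk : Subsingleton (H J 2 ↥(Kq A u (A ⧸ maximalIdeal A))))
    (Q : Type u) [AddCommGroup Q] [Module A Q] (hQ : IsFiniteLength A Q) :
    Subsingleton (H J 2 ↥(Kq A u Q)) := by
  induction hQ with
  | @of_subsingleton M _ _ _ =>
    have hsub : ∀ z : E0 ⊗[A] M, z = 0 := by
      intro z
      induction z using TensorProduct.induction_on with
      | zero => rfl
      | tmul a c => rw [Subsingleton.elim c 0, tmul_zero]
      | add a b ha hb => rw [ha, hb, add_zero]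
    haveI : Subsingleton ↥(Kq A u M) :=
      ⟨fun a b => Subtype.ext ((hsub a).trans (hsub b).symm)⟩
    exact H_subsingleton_of_subsingleton J 2 _
  | @of_simple_quotient M _ _ N _ hN ih =>
    have hMfl : IsFiniteLength A M := IsFiniteLength.of_simple_quotient hN
    obtain ⟨I', hI', ⟨e⟩⟩ := isSimpleModule_iff_quot_maximal.mp
      (inferInstance : IsSimpleModule A (M ⧸ N))
    obtain rfl := IsLocalRing.eq_maximalIdeal hI'
    have hkfl : IsFiniteLength A (A ⧸ maximalIdeal A) := by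
      have h := isFiniteLength_quot_pow A 1
      rwa [pow_one] at h
    have hMNfl : IsFiniteLength A (M ⧸ N) := e.symm.isFiniteLength hkfl
    have h2N : Subsingleton (H J 2 ↥(Kq A u ↥N)) := ih
    have h2Q : Subsingleton (H J 2 ↥(Kq A u (M ⧸ N))) := by
      haveI := hk
      exact (Hcongr J 2 (Kcongr u e)).toEquiv.subsingleton
    have hsurj := Kmap_surjective J f u v I π hfπ hπ hιv hv hιπ hGU N.subtype N.mkQ
      (Submodule.injective_subtype N) (LinearMap.exact_subtype_mkQ N)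
      (Submodule.mkQ_surjective N) h2N
      (H_Kq_subsingleton J u hE0 hE1 M hMfl 1 (by norm_num))
      (H_Kq_subsingleton J u hE0 hE1 (M ⧸ N) hMNfl 0 (by norm_num))
    have hinj : Injective (Kmap A u N.subtype) :=
      Kmap_injective u N.subtype (Submodule.injective_subtype N)
    have hex : Function.Exact (Kmap A u N.subtype) (Kmap A u N.mkQ) :=
      Kmap_exact u N.subtype N.mkQ (Submodule.injective_subtype N)
        (LinearMap.exact_subtype_mkQ N) (Submodule.mkQ_surjective N)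
    have hs : Groth.Agent.Helper8.LC.IsSES (R := B) (M := ↥(Kq A u ↥N)) (N := ↥(Kq A u M))
        (P := ↥(Kq A u (M ⧸ N))) (Kmap A u N.subtype) (Kmap A u N.mkQ) := by
      constructor
      · exact hinj
      · exact hex
      · exact hsurj
    haveI := h2N
    haveI := h2Q
    exact hs.subsingleton_mid J 2

end LocalBase

end Groth.Agent.Helper8.QGDef
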