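import Groth.Agent.Lib.Helper8.QGDef2

/-!
# `H²_J(F/mF) = 0` forces flatness in a `QGor` four-term sequence (helper8)
-/

set_option autoImplicit false
set_option linter.style.haveILetI false
set_option linter.unusedSectionVars false
set_option linter.unusedVariables false
universe u

namespace Groth.Agent.Helper8.QGDef

open TensorProduct Function IsLocalRing Groth.Agent.S18708 Groth.Agent.Helper8.LC
open Groth.Agent.Lead.FlatDepth

section Local

variable (A B : Type u) [CommRing A] [CommRing B]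
    [IsNoetherianRing A] [IsNoetherianRing B] [IsLocalRing A] [IsLocalRing B] [Algebra A B]
    [IsLocalHom (algebraMap A B)] (J : Ideal B)
    (F E0 E1 G : Type u) [AddCommGroup F] [Module B F] [Module A F] [IsScalarTower A B F]
    [Module.Finite B F]
    [AddCommGroup E0] [Module B E0] [Module A E0] [IsScalarTower A B E0] [Module.Finite B E0]
    [Module.Flat A E0]
    [AddCommGroup E1] [Module B E1] [Module A E1] [IsScalarTower A B E1] [Module.Finite B E1]
    [Module.Flat A E1]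
    [AddCommGroup G] [Module B G] [Module A G] [IsScalarTower A B G] [Module.Finite B G]
    (f : F →ₗ[B] E0) (u : E0 →ₗ[B] E1) (v : E1 →ₗ[B] G)

/-- Artin–Rees: `u x ∈ 𝔫^(c+1) E¹` implies `u x = u x'` with `x' ∈ 𝔫 E⁰`. -/
theorem exists_artinRees (𝔫 : Ideal B) :
    ∃ c : ℕ, ∀ x : E0, u x ∈ 𝔫 ^ (c + 1) • (⊤ : Submodule B E1) →
      ∃ x' ∈ 𝔫 • (⊤ : Submodule B E0), u x' = u x := by
  obtain ⟨c, hc⟩ := Ideal.exists_pow_inf_eq_pow_smul 𝔫 (LinearMap.range u)
  refine ⟨c, fun x hx => ?_⟩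
  have h1 : u x ∈ 𝔫 ^ (c + 1) • (⊤ : Submodule B E1) ⊓ LinearMap.range u :=
    ⟨hx, LinearMap.mem_range_self u x⟩
  rw [hc (c + 1) (Nat.le_succ c), Nat.add_sub_cancel_left, pow_one] at h1
  have h2 : 𝔫 • (𝔫 ^ c • (⊤ : Submodule B E1) ⊓ LinearMap.range u) ≤
      Submodule.map u (𝔫 • (⊤ : Submodule B E0)) := by
    rw [Submodule.map_smul'', Submodule.map_top]
    exact Submodule.smul_mono le_rfl inf_le_right
  obtain ⟨x', hx', hux'⟩ := h2 h1
  exact ⟨x', hx', hux'⟩

/-- **Claim B**: the kernel of `u ⊗ k` is the image of `f ⊗ k`, if `H²_J(F ⊗ k) = 0`. -/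
theorem claimB
    (hf : Injective f) (hfu : Function.Exact f u) (huv : Function.Exact u v) (hv : Surjective v)
    (hGU : ∀ q : PrimeSpectrum B, ¬ J ≤ q.asIdeal →
      Module.Flat A (LocalizedModule q.asIdeal.primeCompl G))
    (hE0 : 2 ≤ LocCoh.idealDepth J (E0 ⊗[A] (A ⧸ maximalIdeal A)))
    (hE1 : 1 ≤ LocCoh.idealDepth J (E1 ⊗[A] (A ⧸ maximalIdeal A)))
    (hH2 : Subsingleton (H J 2 (F ⊗[A] (A ⧸ maximalIdeal A))))
    (y : E0 ⊗[A] (A ⧸ maximalIdeal A)) (hy : rT A (A ⧸ maximalIdeal A) u y = 0) :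
    ∃ z, rT A (A ⧸ maximalIdeal A) f z = y := by
  obtain ⟨I, π, hπ, hfπ, hιv, hιπ⟩ := setup B F E0 E1 G f u v hfu huv
  have hk := H2_Kq_residue_subsingleton J f u v I π hf hfπ hπ hιv hv hιπ hGU hH2
  obtain ⟨c, hc⟩ := exists_artinRees B E0 E1 u ((maximalIdeal A).map (algebraMap A B))
  have hle : maximalIdeal A ^ (c + 1) ≤ maximalIdeal A := Ideal.pow_le_self (Nat.succ_ne_zero c)
  obtain ⟨p, hp1, hp_surj⟩ : ∃ p : (A ⧸ maximalIdeal A ^ (c + 1)) →ₗ[A] (A ⧸ maximalIdeal A),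
      p 1 = 1 ∧ Surjective p := by
    refine ⟨Submodule.mapQ (maximalIdeal A ^ (c + 1)) (maximalIdeal A) LinearMap.id
      (by rw [Submodule.comap_id]; exact hle), rfl, ?_⟩
    intro z
    obtain ⟨a, rfl⟩ := Ideal.Quotient.mk_surjective z
    exact ⟨Ideal.Quotient.mk _ a, rfl⟩
  have hQcfl : IsFiniteLength A (A ⧸ maximalIdeal A ^ (c + 1)) := isFiniteLength_quot_pow A (c + 1)
  have hkfl : IsFiniteLength A (A ⧸ maximalIdeal A) := by
    have h := isFiniteLength_quot_pow A 1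
    rwa [pow_one] at h
  have hkerfl : IsFiniteLength A ↥(LinearMap.ker p) := by
    obtain ⟨h1, h2⟩ := isFiniteLength_iff_isNoetherian_isArtinian.mp hQcfl
    exact isFiniteLength_iff_isNoetherian_isArtinian.mpr ⟨inferInstance, inferInstance⟩
  have h2ker := H2_Kq_subsingleton J f u v I π hfπ hπ hιv hv hιπ hGU hE0 hE1 hk
    ↥(LinearMap.ker p) hkerfl
  have hsurj := Kmap_surjective J f u v I π hfπ hπ hιv hv hιπ hGU (LinearMap.ker p).subtype p
    (Submodule.injective_subtype _) (LinearMap.exact_subtype_ker_map p) hp_surj h2ker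
    (H_Kq_subsingleton J u hE0 hE1 _ hQcfl 1 (by norm_num))
    (H_Kq_subsingleton J u hE0 hE1 _ hkfl 0 (by norm_num))
  obtain ⟨yt, hyt⟩ := hsurj ⟨y, LinearMap.mem_ker.mpr hy⟩
  obtain ⟨x, hx⟩ := toFibre_surjective (S := B) (maximalIdeal A ^ (c + 1)) E0
    (yt : E0 ⊗[A] (A ⧸ maximalIdeal A ^ (c + 1)))
  have hux : u x ∈ ((maximalIdeal A).map (algebraMap A B)) ^ (c + 1) •
      (⊤ : Submodule B E1) := by
    rw [← Ideal.map_pow, ← toFibre_ker (S := B) (maximalIdeal A ^ (c + 1)) E1, LinearMap.mem_ker]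
    have h3 : toFibre (S := B) (maximalIdeal A ^ (c + 1)) E1 (u x) =
        rT A (A ⧸ maximalIdeal A ^ (c + 1)) u
          (toFibre (S := B) (maximalIdeal A ^ (c + 1)) E0 x) := rfl
    rw [h3, hx]
    exact LinearMap.mem_ker.mp yt.2
  obtain ⟨x', hx', hux'⟩ := hc x hux
  have h4 : u (x - x') = 0 := by rw [map_sub, hux', sub_self]
  obtain ⟨z0, hz0⟩ := (hfu (x - x')).mp h4
  refine ⟨toFibre (S := B) (maximalIdeal A) F z0, ?_⟩
  have h5 : rT A (A ⧸ maximalIdeal A) f (toFibre (S := B) (maximalIdeal A) F z0) =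
      toFibre (S := B) (maximalIdeal A) E0 (f z0) := rfl
  have h6 : toFibre (S := B) (maximalIdeal A) E0 x' = 0 := by
    rw [← LinearMap.mem_ker, toFibre_ker]
    exact hx'
  have h7 : toFibre (S := B) (maximalIdeal A) E0 x = y := by
    have h8 := congrArg Subtype.val hyt
    rw [Kmap_coe, ← hx] at h8
    have h8' : lT B E0 p (toFibre (S := B) (maximalIdeal A ^ (c + 1)) E0 x) = y := h8
    rw [← h8']
    change x ⊗ₜ[A] (1 : A ⧸ maximalIdeal A) = x ⊗ₜ[A] p 1
    rw [hp1]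
  rw [h5, hz0, map_sub, h6, sub_zero, h7]

/-- `H²_J(F ⊗ k) = 0` implies that `G` is flat. -/
theorem flat_of_H2
    (hf : Injective f) (hfu : Function.Exact f u) (huv : Function.Exact u v) (hv : Surjective v)
    (hGU : ∀ q : PrimeSpectrum B, ¬ J ≤ q.asIdeal →
      Module.Flat A (LocalizedModule q.asIdeal.primeCompl G))
    (hE0 : 2 ≤ LocCoh.idealDepth J (E0 ⊗[A] (A ⧸ maximalIdeal A)))
    (hE1 : 1 ≤ LocCoh.idealDepth J (E1 ⊗[A] (A ⧸ maximalIdeal A)))
    (hH2 : Subsingleton (H J 2 (F ⊗[A] (A ⧸ maximalIdeal A)))) : Module.Flat A G := by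
  obtain ⟨I, π, hπ_surj, hfπ, hιv, hιπ⟩ := setup B F E0 E1 G f u v hfu huv
  have hKN := claimB A B J F E0 E1 G f u v hf hfu huv hv hGU hE0 hE1 hH2
  have hTπ_surj : Surjective (rT A (A ⧸ maximalIdeal A) π) := rT_surjective _ π hπ_surj
  have hfπT : Function.Exact (rT A (A ⧸ maximalIdeal A) f) (rT A (A ⧸ maximalIdeal A) π) :=
    rT_exact _ f π hfπ hπ_surj
  have hTι_inj : Injective (rT A (A ⧸ maximalIdeal A) I.subtype) := by
    rw [injective_iff_map_eq_zero]
    intro x hx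
    obtain ⟨y, rfl⟩ := hTπ_surj x
    have hy : rT A (A ⧸ maximalIdeal A) u y = 0 := by
      rw [← hιπ, ← rT_comp]
      exact hx
    obtain ⟨z, rfl⟩ := hKN y hy
    exact hfπT.apply_apply_eq_zero z
  have hTι_inj' : Injective ((I.subtype.restrictScalars A).rTensor (A ⧸ maximalIdeal A)) := by
    intro a b hab
    apply hTι_inj
    rw [rT_eq, rT_eq]
    exact hab
  have hinjG : Injective ((maximalIdeal A).subtype.lTensor G) := by
    refine lTensor_injective_of_exact_of_exact_of_rTensor_injective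
      (f₁ := I.subtype.restrictScalars A) (f₂ := v.restrictScalars A)
      (g₁ := (maximalIdeal A).subtype) (g₂ := (maximalIdeal A).mkQ)
      hιv hv (LinearMap.exact_subtype_mkQ _) (Submodule.mkQ_surjective _) hTι_inj' ?_
    exact Module.Flat.lTensor_preserves_injective_linearMap _ (Submodule.injective_subtype _)
  letI : Field (A ⧸ maximalIdeal A) := Ideal.Quotient.field (maximalIdeal A)
  have H1 : Injective ((maximalIdeal A).subtype.rTensor G) := by
    rw [← LinearMap.lTensor_inj_iff_rTensor_inj]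
    exact hinjG
  have hI : (maximalIdeal A).map (algebraMap A B) ≤ Ideal.jacobson ⊥ := by
    rw [IsLocalRing.jacobson_eq_maximalIdeal ⊥ bot_ne_top]
    exact IsLocalRing.map_maximalIdeal_le (algebraMap A B)
  exact Groth.Agent.Helper1.flat_of_flat_quotient_pow (S := B) (maximalIdeal A) hI
    (fun n _ => Groth.Agent.Helper1.flat_quotient_pow (maximalIdeal A) H1 n)

/-- Statement `S18726`. -/
theorem main
    (hf : Function.Injective f) (hfu : Function.Exact f u) (huv : Function.Exact u v)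
    (hv : Function.Surjective v)
    (hGU : ∀ q : PrimeSpectrum B, ¬ J ≤ q.asIdeal → FlatCA.FlatAt A q.asIdeal G)
    (h0 : 2 ≤ LocCoh.idealDepth J (EGA4.FibMod A B E0))
    (h1 : 1 ≤ LocCoh.idealDepth J (EGA4.FibMod A B E1))
    (hH2 : Subsingleton (LocCoh.H J 2 (EGA4.FibMod A B F))) :
    Module.Flat A F ∧ Module.Flat A G ∧ 2 ≤ LocCoh.idealDepth J (EGA4.FibMod A B F) := by
  have hGU' : ∀ q : PrimeSpectrum B, ¬ J ≤ q.asIdeal →
      Module.Flat A (LocalizedModule q.asIdeal.primeCompl G) := fun q hq => hGU q hq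
  have hE0 : 2 ≤ LocCoh.idealDepth J (E0 ⊗[A] (A ⧸ maximalIdeal A)) := by
    rw [← fibMod_depth_iff A B J E0 (maximalIdeal A)]
    exact h0
  have hE1 : 1 ≤ LocCoh.idealDepth J (E1 ⊗[A] (A ⧸ maximalIdeal A)) := by
    rw [← fibMod_depth_iff A B J E1 (maximalIdeal A)]
    exact h1
  have hH2' : Subsingleton (H J 2 (F ⊗[A] (A ⧸ maximalIdeal A))) := by
    haveI : Subsingleton (H J 2 (F ⧸ ((maximalIdeal A).map (algebraMap A B)) •
        (⊤ : Submodule B F))) := hH2
    exact (Hcongr J 2 (fibreEquiv (S := B) (maximalIdeal A) F)).symm.toEquiv.subsingleton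
  have hG : Module.Flat A G :=
    flat_of_H2 A B J F E0 E1 G f u v hf hfu huv hv hGU' hE0 hE1 hH2'
  obtain ⟨h1', _, h3'⟩ :=
    Groth.Agent.S18708.result A B J F E0 E1 G f u v hf hfu huv hv hGU h0 h1
  exact ⟨h3' hG, hG, h1'.mpr hG⟩

end Local

end Groth.Agent.Helper8.QGDef
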