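import Mathlib.LinearAlgebra.RootSystem.Defs
import Mathlib.LinearAlgebra.QuadraticForm.Basic
import Mathlib.LinearAlgebra.Projection

/-!
# Quadratic forms invariant under coreflections, and their extensions from the derived part
-/

set_option autoImplicit false

open RootPairing

namespace Groth.Agent.Helper8.QuadInv

variable {ι R M N : Type*} [CommRing R] [AddCommGroup M] [Module R M]
  [AddCommGroup N] [Module R N] (P : RootPairing ι R M N)

theorem Q_sub_smul (Q : QuadraticMap R N R) (c : R) (y z : N) :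
    Q (y - c • z) = Q y + c ^ 2 * Q z - c * QuadraticMap.polar Q y z := by
  rw [sub_eq_add_neg, ← neg_smul, QuadraticMap.map_add (Q : N → R),
    QuadraticMap.map_smul, QuadraticMap.polar_smul_right, smul_eq_mul, smul_eq_mul]
  ring

theorem Q_corefl (Q : QuadraticMap R N R) (i : ι) (y : N) :
    Q (P.coreflection i y) = Q y + (P.root' i y) ^ 2 * Q (P.coroot i) -
      P.root' i y * QuadraticMap.polar Q y (P.coroot i) := by
  rw [P.coreflection_apply, Q_sub_smul]

theorem polar_coroot_of_inv [IsDomain R] [CharZero R] (Q : QuadraticMap R N R)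
    (D : Submodule R N) (i : ι) (hi : P.coroot i ∈ D)
    (h : ∀ y ∈ D, Q (P.coreflection i y) = Q y) (y : N) (hy : y ∈ D) :
    QuadraticMap.polar Q y (P.coroot i) = P.root' i y * Q (P.coroot i) := by
  have h1 := h y hy
  have h2 := h (y + P.coroot i) (D.add_mem hy hi)
  rw [Q_corefl] at h1 h2
  have e2 : P.root' i (y + P.coroot i) = P.root' i y + 2 := by
    rw [map_add]
    congr 1
    exact P.root_coroot_two i
  rw [e2, QuadraticMap.polar_add_left, QuadraticMap.polar_self] at h2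
  have h3 : (2 : R) * (P.root' i y * Q (P.coroot i) -
      QuadraticMap.polar Q y (P.coroot i)) = 0 := by
    rw [two_nsmul] at h2
    linear_combination h2 - h1
  rcases mul_eq_zero.mp h3 with h4 | h4
  · exact absurd h4 two_ne_zero
  · exact (sub_eq_zero.mp h4).symm

section ext

variable {D Y₀ : Submodule R N} (hc : IsCompl Y₀ D)

/-- projection onto `Y₀` along `D`, as an endomorphism -/
noncomputable def π₀ : N →ₗ[R] N := Y₀.projection D hc

/-- projection onto `D` along `Y₀`, as an endomorphism -/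
noncomputable def πD : N →ₗ[R] N := D.projection Y₀ hc.symm

theorem π₀_add_πD (y : N) : π₀ hc y + πD hc y = y :=
  Submodule.projection_add_projection_eq_self hc y

theorem π₀_mem (y : N) : π₀ hc y ∈ Y₀ := Submodule.projection_apply_mem hc y
theorem πD_mem (y : N) : πD hc y ∈ D := Submodule.projection_apply_mem hc.symm y

theorem π₀_of_mem_D {y : N} (hy : y ∈ D) : π₀ hc y = 0 :=
  (Submodule.projection_apply_eq_zero_iff hc).mpr hy

theorem πD_of_mem_D {y : N} (hy : y ∈ D) : πD hc y = y :=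
  Submodule.projection_apply_of_mem_left hc.symm hy

theorem π₀_of_mem_Y₀ {y : N} (hy : y ∈ Y₀) : π₀ hc y = y :=
  Submodule.projection_apply_of_mem_left hc hy

theorem πD_of_mem_Y₀ {y : N} (hy : y ∈ Y₀) : πD hc y = 0 :=
  (Submodule.projection_apply_eq_zero_iff hc.symm).mpr hy

/-- The quadratic form `y ↦ Q₀ (π₀ y) + Φ (π₀ y) (π_D y) + Qd (π_D y)`. -/
noncomputable def extQ (Q₀ : QuadraticMap R Y₀ R) (Φ : N →ₗ[R] N →ₗ[R] R)
    (Qd : QuadraticMap R N R) : QuadraticMap R N R :=
  Q₀.comp (Y₀.projectionOnto D hc) +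
    (LinearMap.BilinMap.toQuadraticMap (Φ.compl₁₂ (π₀ hc) (πD hc))) + Qd.comp (πD hc)

theorem extQ_apply (Q₀ : QuadraticMap R Y₀ R) (Φ : N →ₗ[R] N →ₗ[R] R)
    (Qd : QuadraticMap R N R) (y : N) :
    extQ hc Q₀ Φ Qd y = Q₀ (Y₀.projectionOnto D hc y) + Φ (π₀ hc y) (πD hc y) +
      Qd (πD hc y) := by
  simp [extQ]

theorem extQ_of_mem_D (Q₀ : QuadraticMap R Y₀ R) (Φ : N →ₗ[R] N →ₗ[R] R)
    (Qd : QuadraticMap R N R) {y : N} (hy : y ∈ D) : extQ hc Q₀ Φ Qd y = Qd y := by
  rw [extQ_apply, π₀_of_mem_D hc hy, πD_of_mem_D hc hy,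
    Submodule.projectionOnto_apply_of_mem_right hc hy]
  simp

theorem extQ_of_mem_Y₀ (Q₀ : QuadraticMap R Y₀ R) (Φ : N →ₗ[R] N →ₗ[R] R)
    (Qd : QuadraticMap R N R) (y : Y₀) : extQ hc Q₀ Φ Qd y = Q₀ y := by
  rw [extQ_apply, πD_of_mem_Y₀ hc y.2, Submodule.projectionOnto_apply_left hc y]
  simp

theorem extQ_corefl [IsDomain R] [CharZero R] (Q₀ : QuadraticMap R Y₀ R)
    (Φ : N →ₗ[R] N →ₗ[R] R) (Qd : QuadraticMap R N R) (i : ι) (hi : P.coroot i ∈ D)
    (hQd : ∀ y ∈ D, Qd (P.coreflection i y) = Qd y)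
    (hΦ : ∀ y₀ ∈ Y₀, Φ y₀ (P.coroot i) = P.root' i y₀ * Qd (P.coroot i)) (y : N) :
    extQ hc Q₀ Φ Qd (P.coreflection i y) = extQ hc Q₀ Φ Qd y := by
  have hproj : Y₀.projectionOnto D hc (P.coreflection i y) =
      Y₀.projectionOnto D hc y := by
    rw [P.coreflection_apply, map_sub, map_smul,
      Submodule.projectionOnto_apply_of_mem_right hc hi, smul_zero, sub_zero]
  have h0 : π₀ hc (P.coreflection i y) = π₀ hc y := by
    rw [P.coreflection_apply, map_sub, map_smul, π₀_of_mem_D hc hi, smul_zero, sub_zero]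
  have hD : πD hc (P.coreflection i y) = πD hc y - P.root' i y • P.coroot i := by
    rw [P.coreflection_apply, map_sub, map_smul, πD_of_mem_D hc hi]
  rw [extQ_apply, extQ_apply, hproj, h0, hD, map_sub, map_smul, Q_sub_smul,
    polar_coroot_of_inv P Qd D i hi hQd _ (πD_mem hc y), hΦ _ (π₀_mem hc y), smul_eq_mul]
  have hsplit : P.root' i y = P.root' i (π₀ hc y) + P.root' i (πD hc y) := by
    rw [← map_add, π₀_add_πD]
  rw [hsplit]
  ring

end ext

end Groth.Agent.Helper8.QuadInv
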