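import Mathlib.Topology.LocallyClosed
import Mathlib.Topology.Constructible
import Mathlib.Topology.NoetherianSpace
import Mathlib.Topology.Sets.Opens
import Mathlib.Topology.Sets.Closeds

set_option autoImplicit false

namespace Groth.Agent.Helper8

variable {X Y : Type*} [TopologicalSpace X] [TopologicalSpace Y]

/-- Set-form quasi-homeomorphism. -/
def QH (f : X → Y) : Prop :=
  (∀ U₁ U₂ : Set Y, IsOpen U₁ → IsOpen U₂ → f ⁻¹' U₁ = f ⁻¹' U₂ → U₁ = U₂) ∧
  (∀ V : Set X, IsOpen V → ∃ U : Set Y, IsOpen U ∧ f ⁻¹' U = V)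

/-- Locally quasi-constructible subsets. -/
def LQC (Z : Set X) : Prop :=
  ∀ x : X, ∃ U : Set X, IsOpen U ∧ x ∈ U ∧
    ∃ T : Set (Set X), T.Finite ∧ (∀ t ∈ T, IsLocallyClosed t) ∧ U ∩ Z = ⋃₀ T

theorem qh_of_bijective (f : X → Y) (hf : Continuous f)
    (hq : Function.Bijective (fun U : TopologicalSpace.Opens Y =>
      (⟨f ⁻¹' (U : Set Y), U.isOpen.preimage hf⟩ : TopologicalSpace.Opens X))) : QH f := by
  obtain ⟨hi, hs⟩ := hq
  refine ⟨?_, ?_⟩
  · intro U V hU hV hUV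
    have := @hi ⟨U, hU⟩ ⟨V, hV⟩ (TopologicalSpace.Opens.ext hUV)
    exact congrArg (fun Z : TopologicalSpace.Opens Y => (Z : Set Y)) this
  · intro V hV
    obtain ⟨U, hU⟩ := hs ⟨V, hV⟩
    exact ⟨U, U.isOpen, congrArg (fun Z : TopologicalSpace.Opens X => (Z : Set X)) hU⟩

theorem bijective_of_qh (f : X → Y) (hf : Continuous f) (hq : QH f) :
    Function.Bijective (fun U : TopologicalSpace.Opens Y =>
      (⟨f ⁻¹' (U : Set Y), U.isOpen.preimage hf⟩ : TopologicalSpace.Opens X)) := by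
  refine ⟨?_, ?_⟩
  · intro U V hUV
    have h1 : f ⁻¹' (U : Set Y) = f ⁻¹' (V : Set Y) :=
      congrArg (fun Z : TopologicalSpace.Opens X => (Z : Set X)) hUV
    exact TopologicalSpace.Opens.ext (hq.1 _ _ U.isOpen V.isOpen h1)
  · intro V
    obtain ⟨U, hU, hUV⟩ := hq.2 V V.isOpen
    exact ⟨⟨U, hU⟩, TopologicalSpace.Opens.ext hUV⟩

theorem isLocallyClosed_sInter {T : Set (Set X)} (hT : T.Finite)
    (h : ∀ t ∈ T, IsLocallyClosed t) : IsLocallyClosed (⋂₀ T) := by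
  induction T, hT using Set.Finite.induction_on with
  | empty => simpa using isOpen_univ.isLocallyClosed
  | insert _ _ ih =>
    rw [Set.sInter_insert]
    exact (h _ (Set.mem_insert _ _)).inter (ih fun t ht => h t (Set.mem_insert_of_mem _ ht))

theorem QH.inter_range_nonempty {f : X → Y} (hq : QH f) {Z : Set Y}
    (hZ : IsLocallyClosed Z) (hne : Z.Nonempty) : (Z ∩ Set.range f).Nonempty := by
  by_contra hem
  rw [Set.not_nonempty_iff_eq_empty] at hem
  obtain ⟨U, C, hU, hC, rfl⟩ := hZ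
  have := hq.1 (U ∩ Cᶜ) U (hU.inter hC.isOpen_compl) hU (by
    ext x
    have h1 : f x ∉ U ∩ C ∩ Set.range f := by rw [hem]; exact Set.notMem_empty _
    simp only [Set.mem_inter_iff, Set.mem_compl_iff, Set.mem_range_self, and_true,
      Set.mem_preimage] at h1 ⊢
    tauto)
  obtain ⟨x, hxU, hxC⟩ := hne
  have hx : x ∈ U ∩ Cᶜ := by rw [this]; exact hxU
  exact hx.2 hxC

theorem IsLocallyClosed.lqc {Z : Set X} (hZ : IsLocallyClosed Z) : LQC Z := by
  intro x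
  refine ⟨Set.univ, isOpen_univ, trivial, {Z}, Set.finite_singleton _, ?_, by simp⟩
  rintro t rfl
  exact hZ

theorem LQC.inter_isOpen {Z : Set X} (hZ : LQC Z) {W : Set X} (hW : IsOpen W) : LQC (W ∩ Z) := by
  intro x
  obtain ⟨U, hU, hxU, T, hT, hTlc, hUZ⟩ := hZ x
  refine ⟨U, hU, hxU, (fun t => W ∩ t) '' T, hT.image _, ?_, ?_⟩
  · rintro _ ⟨t, ht, rfl⟩
    exact hW.isLocallyClosed.inter (hTlc t ht)
  · rw [Set.sUnion_image, ← Set.inter_iUnion₂, ← Set.sUnion_eq_biUnion, ← hUZ]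
    ext y
    simp only [Set.mem_inter_iff]
    tauto

theorem LQC.exists_locallyClosed_sdiff {Z₁ Z₂ : Set X} (h₁ : LQC Z₁) (h₂ : LQC Z₂) {y : X}
    (hy : y ∈ Z₁ \ Z₂) : ∃ t, IsLocallyClosed t ∧ y ∈ t ∧ t ⊆ Z₁ \ Z₂ := by
  obtain ⟨U₁, hU₁, hy₁, T₁, hT₁, hlc₁, he₁⟩ := h₁ y
  obtain ⟨U₂, hU₂, hy₂, T₂, hT₂, hlc₂, he₂⟩ := h₂ y
  have hyt : y ∈ U₁ ∩ Z₁ := ⟨hy₁, hy.1⟩
  rw [he₁] at hyt
  obtain ⟨t₁, ht₁, hyt₁⟩ := hyt
  have ht₁Z : t₁ ⊆ Z₁ := fun x hx => by
    have : x ∈ U₁ ∩ Z₁ := by rw [he₁]; exact ⟨t₁, ht₁, hx⟩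
    exact this.2
  have hynot : ∀ t ∈ T₂, y ∉ t := fun t ht hyt => by
    have : y ∈ U₂ ∩ Z₂ := by rw [he₂]; exact ⟨t, ht, hyt⟩
    exact hy.2 this.2
  -- for each t ∈ T₂ choose a locally closed set containing y and disjoint from t
  have hS : ∀ t ∈ T₂, ∃ S : Set X, IsLocallyClosed S ∧ y ∈ S ∧ Disjoint S t := by
    intro t ht
    obtain ⟨A, C, hA, hC, rfl⟩ := hlc₂ t ht
    by_cases hyA : y ∈ A
    · have hyC : y ∉ C := fun hyC => hynot _ ht ⟨hyA, hyC⟩
      refine ⟨Cᶜ, hC.isOpen_compl.isLocallyClosed, hyC, ?_⟩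
      rw [Set.disjoint_left]
      intro x hx hx'
      exact hx hx'.2
    · refine ⟨Aᶜ, hA.isClosed_compl.isLocallyClosed, hyA, ?_⟩
      rw [Set.disjoint_left]
      intro x hx hx'
      exact hx hx'.1
  choose! S hSlc hyS hSdisj using hS
  refine ⟨t₁ ∩ U₂ ∩ ⋂₀ (S '' T₂), ?_, ?_, ?_⟩
  · refine ((hlc₁ t₁ ht₁).inter hU₂.isLocallyClosed).inter
      (isLocallyClosed_sInter (hT₂.image _) ?_)
    rintro _ ⟨t, ht, rfl⟩
    exact hSlc t ht
  · refine ⟨⟨hyt₁, hy₂⟩, ?_⟩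
    rintro _ ⟨t, ht, rfl⟩
    exact hyS t ht
  · rintro x ⟨⟨hx₁, hx₂⟩, hx₃⟩
    refine ⟨ht₁Z hx₁, fun hxZ₂ => ?_⟩
    have : x ∈ U₂ ∩ Z₂ := ⟨hx₂, hxZ₂⟩
    rw [he₂] at this
    obtain ⟨t, ht, hxt⟩ := this
    exact Set.disjoint_left.mp (hSdisj t ht) (hx₃ _ ⟨t, ht, rfl⟩) hxt

theorem QH.preimage_subset_lqc {f : X → Y} (hq : QH f) {Z₁ Z₂ : Set Y} (h₁ : LQC Z₁)
    (h₂ : LQC Z₂) (h : f ⁻¹' Z₁ ⊆ f ⁻¹' Z₂) : Z₁ ⊆ Z₂ := by
  intro y hy₁
  by_contra hy₂
  obtain ⟨t, htlc, hyt, ht⟩ := h₁.exists_locallyClosed_sdiff h₂ ⟨hy₁, hy₂⟩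
  obtain ⟨_, hzt, x, rfl⟩ := hq.inter_range_nonempty htlc ⟨y, hyt⟩
  exact (ht hzt).2 (h (ht hzt).1)

theorem QH.preimage_injOn_lqc {f : X → Y} (hq : QH f) {Z₁ Z₂ : Set Y} (h₁ : LQC Z₁)
    (h₂ : LQC Z₂) (h : f ⁻¹' Z₁ = f ⁻¹' Z₂) : Z₁ = Z₂ :=
  subset_antisymm (hq.preimage_subset_lqc h₁ h₂ h.subset) (hq.preimage_subset_lqc h₂ h₁ h.symm.subset)

theorem QH.restrictPreimage {f : X → Y} (hq : QH f) {Y' : Set Y} (hY' : LQC Y') :
    QH (Y'.restrictPreimage f) := by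
  refine ⟨?_, ?_⟩
  · intro U₁ U₂ hU₁ hU₂ h
    obtain ⟨W₁, hW₁, rfl⟩ := isOpen_induced_iff.mp hU₁
    obtain ⟨W₂, hW₂, rfl⟩ := isOpen_induced_iff.mp hU₂
    have key : W₁ ∩ Y' = W₂ ∩ Y' := by
      apply hq.preimage_injOn_lqc (hY'.inter_isOpen hW₁) (hY'.inter_isOpen hW₂)
      ext x
      constructor
      · rintro ⟨hx₁, hx₂⟩
        have : (⟨x, hx₂⟩ : ↥(f ⁻¹' Y')) ∈
            Y'.restrictPreimage f ⁻¹' (Subtype.val ⁻¹' W₁) := hx₁
        rw [h] at this
        exact ⟨this, hx₂⟩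
      · rintro ⟨hx₁, hx₂⟩
        have : (⟨x, hx₂⟩ : ↥(f ⁻¹' Y')) ∈
            Y'.restrictPreimage f ⁻¹' (Subtype.val ⁻¹' W₂) := hx₁
        rw [← h] at this
        exact ⟨this, hx₂⟩
    ext ⟨y, hy⟩
    have := Set.ext_iff.mp key y
    simp only [Set.mem_inter_iff, hy, and_true] at this
    exact this
  · intro V hV
    obtain ⟨V₀, hV₀, rfl⟩ := isOpen_induced_iff.mp hV
    obtain ⟨U₀, hU₀, rfl⟩ := hq.2 V₀ hV₀
    exact ⟨Subtype.val ⁻¹' U₀, hU₀.preimage continuous_subtype_val, rfl⟩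

theorem QH.isInducing {f : X → Y} (hq : QH f) (hf : Continuous f) : Topology.IsInducing f := by
  rw [Topology.isInducing_iff, TopologicalSpace.ext_iff]
  intro s
  rw [isOpen_induced_iff]
  constructor
  · intro hso
    obtain ⟨U, hU, hUs⟩ := hq.2 s hso
    exact ⟨U, hU, hUs⟩
  · rintro ⟨t, ht, rfl⟩
    exact ht.preimage hf

theorem QH.preimage_subset {f : X → Y} (hq : QH f) {U V : Set Y} (hU : IsOpen U) (hV : IsOpen V)
    (h : f ⁻¹' U ⊆ f ⁻¹' V) : U ⊆ V := by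
  have : U ∪ V = V := hq.1 _ _ (hU.union hV) hV (by
    rw [Set.preimage_union]; exact Set.union_eq_self_of_subset_left h)
  rw [← this]
  exact Set.subset_union_left

theorem QH.compactSpace_iff {f : X → Y} (hq : QH f) (hf : Continuous f) :
    CompactSpace Y ↔ CompactSpace X := by
  constructor
  · intro hY
    rw [← isCompact_univ_iff, isCompact_iff_finite_subcover]
    intro ι U hU hcov
    have hch : ∀ i, ∃ W : Set Y, IsOpen W ∧ f ⁻¹' W = U i := fun i => hq.2 (U i) (hU i)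
    choose W hW hWU using hch
    have hcovY : (Set.univ : Set Y) ⊆ ⋃ i, W i := by
      apply hq.preimage_subset isOpen_univ (isOpen_iUnion hW)
      rw [Set.preimage_iUnion]
      simp only [hWU]
      simpa using hcov
    obtain ⟨t, ht⟩ := isCompact_univ.elim_finite_subcover W hW hcovY
    refine ⟨t, ?_⟩
    have := Set.preimage_mono (f := f) ht
    simp only [Set.preimage_iUnion, hWU] at this
    simpa using this
  · intro hX
    rw [← isCompact_univ_iff, isCompact_iff_finite_subcover]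
    intro ι U hU hcov
    obtain ⟨t, ht⟩ := isCompact_univ.elim_finite_subcover (fun i => f ⁻¹' U i)
      (fun i => (hU i).preimage hf) (by
        rw [← Set.preimage_iUnion]
        intro x _
        exact hcov trivial)
    refine ⟨t, ?_⟩
    apply hq.preimage_subset isOpen_univ (isOpen_biUnion fun i _ => hU i)
    simpa [Set.preimage_iUnion] using ht

theorem QH.noetherianSpace_iff {f : X → Y} (hq : QH f) (hf : Continuous f) :
    TopologicalSpace.NoetherianSpace Y ↔ TopologicalSpace.NoetherianSpace X := by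
  have hb := bijective_of_qh f hf hq
  let e : TopologicalSpace.Opens Y ≃o TopologicalSpace.Opens X :=
    { toFun := fun U => ⟨f ⁻¹' (U : Set Y), U.isOpen.preimage hf⟩
      invFun := (Equiv.ofBijective _ hb).symm
      left_inv := (Equiv.ofBijective _ hb).left_inv
      right_inv := (Equiv.ofBijective _ hb).right_inv
      map_rel_iff' := by
        intro U V
        constructor
        · intro h
          exact hq.preimage_subset U.isOpen V.isOpen h
        · intro h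
          exact Set.preimage_mono (f := f) (s := (U : Set Y)) (t := (V : Set Y)) h }
  unfold TopologicalSpace.NoetherianSpace
  exact ⟨fun h => e.symm.toOrderEmbedding.wellFoundedGT,
    fun h => e.toOrderEmbedding.wellFoundedGT⟩

theorem QH.continuous_restrictPreimage {f : X → Y} (hf : Continuous f) (Y' : Set Y) :
    Continuous (Y'.restrictPreimage f) :=
  hf.restrictPreimage

theorem QH.isCompact_preimage_iff {f : X → Y} (hq : QH f) (hf : Continuous f) {Y' : Set Y}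
    (hY' : LQC Y') : IsCompact Y' ↔ IsCompact (f ⁻¹' Y') := by
  rw [isCompact_iff_compactSpace, isCompact_iff_compactSpace]
  exact (hq.restrictPreimage hY').compactSpace_iff hf.restrictPreimage

theorem QH.noetherianSpace_preimage_iff {f : X → Y} (hq : QH f) (hf : Continuous f) {Y' : Set Y}
    (hY' : LQC Y') : TopologicalSpace.NoetherianSpace ↥Y' ↔
      TopologicalSpace.NoetherianSpace ↥(f ⁻¹' Y') :=
  (hq.restrictPreimage hY').noetherianSpace_iff hf.restrictPreimage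

end Groth.Agent.Helper8
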