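import Groth.Agent.Lib.Helper8.QuasiHomeo

set_option autoImplicit false

namespace Groth.Agent.Helper8

open Topology

variable {X Y : Type*} [TopologicalSpace X] [TopologicalSpace Y]

/-- Globally quasi-constructible: finite union of locally closed sets. -/
def QC (Z : Set X) : Prop :=
  ∃ T : Set (Set X), T.Finite ∧ (∀ t ∈ T, IsLocallyClosed t) ∧ Z = ⋃₀ T

theorem QC.lqc {Z : Set X} (hZ : QC Z) : LQC Z := by
  intro x
  obtain ⟨T, hT, hlc, rfl⟩ := hZ
  exact ⟨Set.univ, isOpen_univ, trivial, T, hT, hlc, by simp⟩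

theorem IsLocallyClosed.qc {Z : Set X} (hZ : IsLocallyClosed Z) : QC Z :=
  ⟨{Z}, Set.finite_singleton _, by rintro t rfl; exact hZ, by simp⟩

theorem QC.empty : QC (∅ : Set X) := ⟨∅, Set.finite_empty, by simp, by simp⟩

theorem QC.univ : QC (Set.univ : Set X) := IsLocallyClosed.qc isOpen_univ.isLocallyClosed

theorem QC.union {Z₁ Z₂ : Set X} (h₁ : QC Z₁) (h₂ : QC Z₂) : QC (Z₁ ∪ Z₂) := by
  obtain ⟨T₁, hT₁, hlc₁, rfl⟩ := h₁
  obtain ⟨T₂, hT₂, hlc₂, rfl⟩ := h₂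
  refine ⟨T₁ ∪ T₂, hT₁.union hT₂, ?_, (Set.sUnion_union _ _).symm⟩
  rintro t (ht | ht)
  · exact hlc₁ t ht
  · exact hlc₂ t ht

theorem QC.inter {Z₁ Z₂ : Set X} (h₁ : QC Z₁) (h₂ : QC Z₂) : QC (Z₁ ∩ Z₂) := by
  obtain ⟨T₁, hT₁, hlc₁, rfl⟩ := h₁
  obtain ⟨T₂, hT₂, hlc₂, rfl⟩ := h₂
  refine ⟨Set.image2 (· ∩ ·) T₁ T₂, hT₁.image2 _ hT₂, ?_, ?_⟩
  · rintro _ ⟨t₁, ht₁, t₂, ht₂, rfl⟩
    exact (hlc₁ t₁ ht₁).inter (hlc₂ t₂ ht₂)
  · ext x
    simp only [Set.mem_inter_iff, Set.mem_sUnion, Set.mem_image2]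
    constructor
    · rintro ⟨⟨t₁, ht₁, hx₁⟩, ⟨t₂, ht₂, hx₂⟩⟩
      exact ⟨t₁ ∩ t₂, ⟨t₁, ht₁, t₂, ht₂, rfl⟩, hx₁, hx₂⟩
    · rintro ⟨_, ⟨t₁, ht₁, t₂, ht₂, rfl⟩, hx₁, hx₂⟩
      exact ⟨⟨t₁, ht₁, hx₁⟩, ⟨t₂, ht₂, hx₂⟩⟩

theorem QC.sInter {T : Set (Set X)} (hT : T.Finite) (h : ∀ t ∈ T, QC t) : QC (⋂₀ T) := by
  induction T, hT using Set.Finite.induction_on with
  | empty => simpa using QC.univ
  | insert _ _ ih =>
    rw [Set.sInter_insert]
    exact (h _ (Set.mem_insert _ _)).inter (ih fun t ht => h t (Set.mem_insert_of_mem _ ht))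

theorem QC.compl {Z : Set X} (hZ : QC Z) : QC Zᶜ := by
  obtain ⟨T, hT, hlc, rfl⟩ := hZ
  rw [Set.compl_sUnion]
  apply QC.sInter (hT.image _)
  rintro _ ⟨t, ht, rfl⟩
  obtain ⟨U, C, hU, hC, rfl⟩ := hlc t ht
  rw [Set.compl_inter]
  exact (IsLocallyClosed.qc hU.isClosed_compl.isLocallyClosed).union
    (IsLocallyClosed.qc hC.isOpen_compl.isLocallyClosed)

theorem IsConstructible.qc {s : Set X} (hs : IsConstructible s) : QC s := by
  induction hs using IsConstructible.empty_union_induction with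
  | open_retrocompact U hUopen hUcomp => exact IsLocallyClosed.qc hUopen.isLocallyClosed
  | union s hs t ht hs' ht' => exact hs'.union ht'
  | compl s hs hs' => exact hs'.compl

theorem QC.image_val_of_isOpen {U : Set X} (hU : IsOpen U) {s : Set ↥U} (hs : QC s) :
    QC (Subtype.val '' s) := by
  obtain ⟨T, hT, hlc, rfl⟩ := hs
  refine ⟨(fun t => Subtype.val '' t) '' T, hT.image _, ?_, ?_⟩
  · rintro _ ⟨t, ht, rfl⟩
    exact (hlc t ht).image IsInducing.subtypeVal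
      (by rw [Subtype.range_coe]; exact hU.isLocallyClosed)
  · rw [Set.sUnion_image, Set.sUnion_eq_biUnion, Set.image_iUnion₂]

theorem LQC.of_local {Z : Set X} (h : ∀ x, ∃ U : Set X, IsOpen U ∧ x ∈ U ∧ LQC (U ∩ Z)) :
    LQC Z := by
  intro x
  obtain ⟨U, hU, hxU, hUZ⟩ := h x
  obtain ⟨V, hV, hxV, T, hT, hlc, he⟩ := hUZ x
  refine ⟨V ∩ U, hV.inter hU, ⟨hxV, hxU⟩, T, hT, hlc, ?_⟩
  rw [← he, Set.inter_assoc]

theorem IsLocallyConstructible.lqc {s : Set X} (hs : IsLocallyConstructible s) : LQC s := by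
  apply LQC.of_local
  intro x
  obtain ⟨U, hxU, hU, hc⟩ := hs x
  refine ⟨U, hU, mem_of_mem_nhds hxU, ?_⟩
  have := (QC.image_val_of_isOpen hU (IsConstructible.qc hc)).lqc
  rwa [Subtype.image_preimage_coe] at this

theorem QH.glue {f : X → Y} (hq : QH f) {ι : Type*} (U : ι → Set Y) (Z : ι → Set Y)
    (hU : ∀ i, IsOpen (U i)) (hZU : ∀ i, Z i ⊆ U i) (hZ : ∀ i, LQC (Z i))
    (hcompat : ∀ i j, f ⁻¹' (Z i) ∩ f ⁻¹' (U j) = f ⁻¹' (Z j) ∩ f ⁻¹' (U i)) :
    ∀ i, U i ∩ ⋃ j, Z j = Z i := by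
  have key : ∀ i j, U j ∩ Z i = U i ∩ Z j := by
    intro i j
    apply hq.preimage_injOn_lqc ((hZ i).inter_isOpen (hU j)) ((hZ j).inter_isOpen (hU i))
    rw [Set.preimage_inter, Set.preimage_inter, Set.inter_comm, hcompat i j, Set.inter_comm]
  intro i
  ext x
  constructor
  · rintro ⟨hxU, hxZ⟩
    obtain ⟨j, hj⟩ := Set.mem_iUnion.mp hxZ
    have : x ∈ U i ∩ Z j := ⟨hxU, hj⟩
    rw [← key i j] at this
    exact this.2
  · intro hx
    exact ⟨hZU i hx, Set.mem_iUnion.mpr ⟨i, hx⟩⟩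

theorem QH.iUnion_eq_univ {f : X → Y} (hq : QH f) {ι : Type*} (U : ι → Set Y)
    (hU : ∀ i, IsOpen (U i)) (h : ⋃ i, f ⁻¹' (U i) = Set.univ) : ⋃ i, U i = Set.univ := by
  apply hq.1 _ _ (isOpen_iUnion hU) isOpen_univ
  rw [Set.preimage_iUnion, h, Set.preimage_univ]

theorem QH.isRetrocompact_preimage_iff {f : X → Y} (hq : QH f) (hf : Continuous f) {U : Set Y}
    (hU : IsOpen U) : IsRetrocompact (f ⁻¹' U) ↔ IsRetrocompact U := by
  constructor
  · intro h W hWc hWo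
    rw [hq.isCompact_preimage_iff hf (((IsLocallyClosed.lqc hWo.isLocallyClosed).inter_isOpen hU)),
      Set.preimage_inter]
    apply h _ (hWo.preimage hf)
    rwa [← hq.isCompact_preimage_iff hf (IsLocallyClosed.lqc hWo.isLocallyClosed)]
  · intro h V hVc hVo
    obtain ⟨W, hWo, rfl⟩ := hq.2 V hVo
    rw [← Set.preimage_inter,
      ← hq.isCompact_preimage_iff hf (((IsLocallyClosed.lqc hWo.isLocallyClosed).inter_isOpen hU))]
    apply h _ hWo
    rwa [hq.isCompact_preimage_iff hf (IsLocallyClosed.lqc hWo.isLocallyClosed)]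

theorem QH.isConstructible_preimage {f : X → Y} (hq : QH f) (hf : Continuous f) {s : Set Y}
    (hs : IsConstructible s) : IsConstructible (f ⁻¹' s) :=
  hs.preimage hf fun _ hUo hUr => (hq.isRetrocompact_preimage_iff hf hUo).mpr hUr

theorem QH.exists_isConstructible_preimage_eq {f : X → Y} (hq : QH f) (hf : Continuous f)
    {s' : Set X} (hs' : IsConstructible s') : ∃ s, IsConstructible s ∧ f ⁻¹' s = s' := by
  induction hs' using IsConstructible.empty_union_induction with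
  | open_retrocompact V hVopen hVcomp =>
    obtain ⟨U, hU, rfl⟩ := hq.2 V hVopen
    exact ⟨U, ((hq.isRetrocompact_preimage_iff hf hU).mp hVcomp).isConstructible hU, rfl⟩
  | union s hs t ht hs' ht' =>
    obtain ⟨a, ha, rfl⟩ := hs'
    obtain ⟨b, hb, rfl⟩ := ht'
    exact ⟨a ∪ b, ha.union hb, Set.preimage_union⟩
  | compl s hs hs' =>
    obtain ⟨a, ha, rfl⟩ := hs'
    exact ⟨aᶜ, ha.compl, Set.preimage_compl⟩

theorem QH.isLocallyConstructible_preimage {f : X → Y} (hq : QH f) (hf : Continuous f)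
    {s : Set Y} (hs : IsLocallyConstructible s) : IsLocallyConstructible (f ⁻¹' s) := by
  intro x
  obtain ⟨U, hxU, hU, hc⟩ := hs (f x)
  refine ⟨f ⁻¹' U, hf.continuousAt.preimage_mem_nhds hxU, hU.preimage hf, ?_⟩
  have hq' : QH (U.restrictPreimage f) :=
    hq.restrictPreimage (IsLocallyClosed.lqc hU.isLocallyClosed)
  exact hq'.isConstructible_preimage hf.restrictPreimage hc

theorem QH.exists_isLocallyConstructible_preimage_eq {f : X → Y} (hq : QH f) (hf : Continuous f)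
    {s' : Set X} (hs' : IsLocallyConstructible s') :
    ∃ s, IsLocallyConstructible s ∧ f ⁻¹' s = s' := by
  have h1 : ∀ x : X, ∃ (U : Set Y) (S : Set Y), IsOpen U ∧ f x ∈ U ∧ S ⊆ U ∧
      IsConstructible ((Subtype.val : ↥U → Y) ⁻¹' S) ∧ f ⁻¹' S = f ⁻¹' U ∩ s' := by
    intro x
    obtain ⟨V, hxV, hV, hc⟩ := hs' x
    obtain ⟨U, hU, rfl⟩ := hq.2 V hV
    have hq' : QH (U.restrictPreimage f) :=
      hq.restrictPreimage (IsLocallyClosed.lqc hU.isLocallyClosed)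
    obtain ⟨S, hS, hSe⟩ := hq'.exists_isConstructible_preimage_eq hf.restrictPreimage hc
    refine ⟨U, Subtype.val '' S, hU, (mem_of_mem_nhds hxV : x ∈ f ⁻¹' U), ?_, ?_, ?_⟩
    · rintro _ ⟨y, _, rfl⟩
      exact y.2
    · rwa [Set.preimage_image_eq _ Subtype.val_injective]
    · rw [← Set.image_val_preimage_restrictPreimage, hSe, Subtype.image_preimage_coe]
  choose U S hU hxU hSU hSc hSe using h1
  have hSlqc : ∀ x, LQC (S x) := fun x => by
    have := (QC.image_val_of_isOpen (hU x) (IsConstructible.qc (hSc x))).lqc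
    rwa [Subtype.image_preimage_coe, Set.inter_eq_right.mpr (hSU x)] at this
  have hglue := hq.glue U S hU hSU hSlqc (by
    intro i j
    rw [hSe i, hSe j]
    ext y
    simp only [Set.mem_inter_iff]
    tauto)
  have hcov : ⋃ x, U x = Set.univ := hq.iUnion_eq_univ U hU (by
    rw [Set.eq_univ_iff_forall]
    intro x
    exact Set.mem_iUnion.mpr ⟨x, hxU x⟩)
  refine ⟨⋃ x, S x, ?_, ?_⟩
  · intro y
    have hy : y ∈ ⋃ x, U x := by rw [hcov]; trivial
    obtain ⟨x, hx⟩ := Set.mem_iUnion.mp hy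
    refine ⟨U x, (hU x).mem_nhds hx, hU x, ?_⟩
    have : (Subtype.val : ↥(U x) → Y) ⁻¹' (⋃ j, S j) = Subtype.val ⁻¹' (S x) := by
      rw [← hglue x, Set.preimage_inter, Subtype.coe_preimage_self, Set.univ_inter]
    rw [this]
    exact hSc x
  · rw [Set.preimage_iUnion]
    simp only [hSe]
    rw [← Set.iUnion_inter]
    have : ⋃ x, f ⁻¹' (U x) = Set.univ := by
      rw [Set.eq_univ_iff_forall]
      intro x
      exact Set.mem_iUnion.mpr ⟨x, hxU x⟩
    rw [this, Set.univ_inter]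

end Groth.Agent.Helper8
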