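import Groth.Agent.Lib.Helper8.QuasiHomeo2

set_option autoImplicit false

namespace Groth.Agent.Helper8

open Topology

variable {X Y : Type*} [TopologicalSpace X] [TopologicalSpace Y]

theorem qh_subtype_val_of_veryDense (X₀ : Set X)
    (h : ∀ Z : Set X, IsLocallyClosed Z → Z.Nonempty → (Z ∩ X₀).Nonempty) :
    QH (Subtype.val : ↥X₀ → X) := by
  have sub : ∀ U₁ U₂ : Set X, IsOpen U₁ → IsOpen U₂ →
      (Subtype.val : ↥X₀ → X) ⁻¹' U₁ = Subtype.val ⁻¹' U₂ → U₁ ⊆ U₂ := by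
    intro U₁ U₂ h₁ h₂ he x hx₁
    by_contra hx₂
    obtain ⟨y, ⟨hy₁, hy₂⟩, hy₀⟩ := h (U₁ ∩ U₂ᶜ)
      (h₁.isLocallyClosed.inter h₂.isClosed_compl.isLocallyClosed) ⟨x, hx₁, hx₂⟩
    have : (⟨y, hy₀⟩ : ↥X₀) ∈ (Subtype.val : ↥X₀ → X) ⁻¹' U₁ := hy₁
    rw [he] at this
    exact hy₂ this
  refine ⟨fun U₁ U₂ h₁ h₂ he => subset_antisymm (sub U₁ U₂ h₁ h₂ he) (sub U₂ U₁ h₂ h₁ he.symm), ?_⟩
  intro V hV
  obtain ⟨U, hU, rfl⟩ := isOpen_induced_iff.mp hV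
  exact ⟨U, hU, rfl⟩

theorem QH.exists_isLocallyClosed_preimage_eq {f : X → Y} (hq : QH f) {Z' : Set X}
    (hZ' : IsLocallyClosed Z') : ∃ Z, IsLocallyClosed Z ∧ f ⁻¹' Z = Z' := by
  obtain ⟨V, D, hV, hD, rfl⟩ := hZ'
  obtain ⟨U, hU, rfl⟩ := hq.2 V hV
  obtain ⟨E, hE, hED⟩ := hq.2 Dᶜ hD.isOpen_compl
  refine ⟨U ∩ Eᶜ, ⟨U, Eᶜ, hU, hE.isClosed_compl, rfl⟩, ?_⟩
  simp only [Set.preimage_inter, Set.preimage_compl, hED, compl_compl]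

theorem QH.exists_qc_preimage_eq {f : X → Y} (hq : QH f) {Z' : Set X}
    (hZ' : QC Z') : ∃ Z, QC Z ∧ f ⁻¹' Z = Z' := by
  obtain ⟨T, hT, hlc, rfl⟩ := hZ'
  have : ∀ t ∈ T, ∃ Z, IsLocallyClosed Z ∧ f ⁻¹' Z = t :=
    fun t ht => hq.exists_isLocallyClosed_preimage_eq (hlc t ht)
  choose! g hg hge using this
  refine ⟨⋃₀ (g '' T), ⟨g '' T, hT.image _, ?_, rfl⟩, ?_⟩
  · rintro _ ⟨t, ht, rfl⟩
    exact hg t ht
  · rw [Set.sUnion_image, Set.preimage_iUnion₂, Set.sUnion_eq_biUnion]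
    exact Set.iUnion₂_congr fun t ht => hge t ht

theorem QH.exists_lqc_preimage_eq {f : X → Y} (hq : QH f)
    {s' : Set X} (hs' : LQC s') : ∃ s, LQC s ∧ f ⁻¹' s = s' := by
  have h1 : ∀ x : X, ∃ (U : Set Y) (S : Set Y), IsOpen U ∧ f x ∈ U ∧ S ⊆ U ∧
      LQC S ∧ f ⁻¹' S = f ⁻¹' U ∩ s' := by
    intro x
    obtain ⟨V, hV, hxV, T, hT, hlc, he⟩ := hs' x
    obtain ⟨U, hU, rfl⟩ := hq.2 V hV
    obtain ⟨S, hS, hSe⟩ := hq.exists_qc_preimage_eq ⟨T, hT, hlc, rfl⟩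
    refine ⟨U, U ∩ S, hU, hxV, Set.inter_subset_left, hS.lqc.inter_isOpen hU, ?_⟩
    rw [Set.preimage_inter, hSe, ← he, ← Set.inter_assoc, Set.inter_self]
  choose U S hU hxU hSU hSlqc hSe using h1
  have hglue := hq.glue U S hU hSU hSlqc (by
    intro i j
    rw [hSe i, hSe j]
    ext y
    simp only [Set.mem_inter_iff]
    tauto)
  have hcov : ⋃ x, U x = Set.univ := hq.iUnion_eq_univ U hU (by
    rw [Set.eq_univ_iff_forall]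
    intro x
    exact Set.mem_iUnion.mpr ⟨x, hxU x⟩)
  refine ⟨⋃ x, S x, ?_, ?_⟩
  · apply LQC.of_local
    intro y
    have hy : y ∈ ⋃ x, U x := by rw [hcov]; trivial
    obtain ⟨x, hx⟩ := Set.mem_iUnion.mp hy
    refine ⟨U x, hU x, hx, ?_⟩
    rw [hglue x]
    exact hSlqc x
  · rw [Set.preimage_iUnion]
    simp only [hSe]
    rw [← Set.iUnion_inter]
    have : ⋃ x, f ⁻¹' (U x) = Set.univ := by
      rw [Set.eq_univ_iff_forall]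
      intro x
      exact Set.mem_iUnion.mpr ⟨x, hxU x⟩
    rw [this, Set.univ_inter]

theorem LQC.exists_locallyClosed_subset {Z : Set X} (hZ : LQC Z) {y : X} (hy : y ∈ Z) :
    ∃ t, IsLocallyClosed t ∧ y ∈ t ∧ t ⊆ Z := by
  obtain ⟨U, hU, hyU, T, hT, hlc, he⟩ := hZ y
  have hyt : y ∈ U ∩ Z := ⟨hyU, hy⟩
  rw [he] at hyt
  obtain ⟨t, ht, hyt⟩ := hyt
  refine ⟨t, hlc t ht, hyt, fun x hx => ?_⟩
  have : x ∈ U ∩ Z := by rw [he]; exact ⟨t, ht, hx⟩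
  exact this.2

end Groth.Agent.Helper8
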