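import Mathlib
import Groth.Agent.Lib.Lead.Depth7
import Groth.Agent.Lib.Lead.Depth8
import Groth.Agent.Lib.Lead.Depth12
import Groth.Agent.Lib.Lead.Hom17

/-!
# Auslander–Buchsbaum over a regular local ring: `dim R = pd M + depth M`
-/

set_option autoImplicit false
universe u
open CategoryTheory

namespace Groth.Agent.Helper8.RDep

theorem exists_pd_add_depth {R : Type u} [CommRing R] [IsRegularLocalRing R]
    (M : Type u) [AddCommGroup M] [Module R M] [Module.Finite R M] [Nontrivial M] :
    ∃ e : ℕ, projectiveDimension (ModuleCat.of R M) = (e : WithBot ℕ∞) ∧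
      ringKrullDim R = ((((e : ℕ∞) + LocCoh.depth R M : ℕ∞)) : WithBot ℕ∞) := by
  have hpd := Groth.Agent.Lead.Hom.hasProjectiveDimensionLT_spanFinrank (A := R) M
  have hnz : ¬ Limits.IsZero (ModuleCat.of R M) := by
    intro hz
    exact not_subsingleton M (ModuleCat.subsingleton_of_isZero hz)
  obtain ⟨e, he, -⟩ := Groth.Agent.Lead.Depth.exists_nat_projectiveDimension_eq hpd hnz
  refine ⟨e, he, ?_⟩
  have hAB := Groth.Agent.Lead.Depth.auslander_buchsbaum (R := R) M e he
  obtain ⟨n, hn, -⟩ := Groth.Agent.Lead.RLR.exists_nat_of_le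
    (ringKrullDim_nonneg_of_nontrivial (R := R)) (ringKrullDim_le_spanFinrank_maximalIdeal R)
  have hd := Groth.Agent.Lead.Depth.depth_eq_of_isRegularLocalRing (R := R) hn
  rw [hn, ← hAB, hd]
  rfl

end Groth.Agent.Helper8.RDep
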