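import Mathlib
import Groth.Agent.Lib.Lead.PD3

/-!
# Projective dimension of a localized module in terms of any model of the localization
-/

set_option autoImplicit false
universe u
open CategoryTheory

namespace Groth.Agent.Helper8.RDep

attribute [local instance] RingHomInvPair.of_ringEquiv in
/-- projective dimension of `M = (MA)_p` over `R = A_p` for arbitrary models of the
localizations. -/
theorem projectiveDimension_eq_localizedModule {A : Type u} [CommRing A] (p : PrimeSpectrum A)
    {R : Type u} [CommRing R] [Algebra A R] [IsLocalization.AtPrime R p.asIdeal]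
    {MA : Type u} [AddCommGroup MA] [Module A MA] {M : Type u} [AddCommGroup M] [Module A M]
    [Module R M] [IsScalarTower A R M] (f : MA →ₗ[A] M)
    [IsLocalizedModule p.asIdeal.primeCompl f] :
    projectiveDimension ((ModuleCat.of A MA).localizedModule p.asIdeal.primeCompl) =
      projectiveDimension (ModuleCat.of R M) := by
  set S := p.asIdeal.primeCompl with hS
  let e : Localization S ≃ₐ[A] R := IsLocalization.algEquiv S (Localization S) R
  haveI hinst : IsLocalizedModule S ((ModuleCat.of A MA).localizedModuleMkLinearMap S) :=
    ModuleCat.localizedModule_isLocalizedModule (ModuleCat.of A MA) S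
  let g : ((ModuleCat.of A MA).localizedModule S) ≃ₗ[A] M :=
    IsLocalizedModule.linearEquiv S ((ModuleCat.of A MA).localizedModuleMkLinearMap S) f
  have hsl : ∀ (r : Localization S) (x : (ModuleCat.of A MA).localizedModule S),
      g (r • x) = e r • g x := by
    intro r x
    obtain ⟨⟨a, s⟩, h⟩ := IsLocalization.surj S r
    have h' : r * algebraMap A (Localization S) (s : A) = algebraMap A (Localization S) a := h
    have hu : IsUnit (algebraMap A R (s : A)) := IsLocalization.map_units R s
    rw [← hu.smul_left_cancel]
    have h1 : algebraMap A R (s : A) • g (r • x) = a • g x := by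
      rw [algebraMap_smul, ← map_smul, ← algebraMap_smul (Localization S) (s : A) (r • x),
        smul_smul, mul_comm, h', algebraMap_smul, map_smul]
    have h2 : algebraMap A R (s : A) • (e r • g x) = a • g x := by
      rw [smul_smul, ← e.commutes (s : A), ← map_mul, mul_comm, h', e.commutes, algebraMap_smul]
    rw [h1, h2]
  let e' : ((ModuleCat.of A MA).localizedModule S) ≃ₛₗ[RingHomClass.toRingHom e.toRingEquiv]
      (ModuleCat.of R M) :=
    { g.toAddEquiv with
      map_smul' := hsl }
  exact ModuleCat.projectiveDimension_eq_of_semiLinearEquiv e.toRingEquiv e'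

/-- membership in Lead's `pdLocus` via any model of the localization. -/
theorem mem_pdLocus_iff {A : Type u} [CommRing A] (p : PrimeSpectrum A)
    {R : Type u} [CommRing R] [Algebra A R] [IsLocalization.AtPrime R p.asIdeal]
    {MA : Type u} [AddCommGroup MA] [Module A MA] {M : Type u} [AddCommGroup M] [Module A M]
    [Module R M] [IsScalarTower A R M] (f : MA →ₗ[A] M)
    [IsLocalizedModule p.asIdeal.primeCompl f] (n : ℕ) :
    p ∈ Groth.Agent.Lead.PD.pdLocus n (ModuleCat.of A MA) ↔
      projectiveDimension (ModuleCat.of R M) ≤ (n : WithBot ℕ∞) := by
  rw [← projectiveDimension_eq_localizedModule p f, projectiveDimension_le_iff]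
  rfl

end Groth.Agent.Helper8.RDep
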