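import Mathlib
import Groth.Agent.Lib.Helper8.RDep1
import Groth.Agent.Lib.Helper8.RDep3
import Groth.Agent.Lib.Helper16.Alg.FibModAlg1
import Groth.Agent.Lib.Helper16.Alg.FibPD2

/-!
# Auslander–Buchsbaum through a surjection from a regular ring
-/

set_option autoImplicit false
universe u
open CategoryTheory

namespace Groth.Agent.Helper8.RC

/-- Let `C → B` be a surjection from a regular ring, `q` a prime of `B` with contraction `Q`,
`R'` a model of `B_q`, `M` a finite `B`-module and `N` a model of `M_q`, nonzero.  Then the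
projective dimension of `M_Q` over `C_Q` is a natural number `e`, read off from Lead's `pdLocus`,
and `dim C_Q = e + depth_{R'} N`. -/
theorem exists_pd_of_surjective {C B : Type u} [CommRing C] [IsRegularRing C] [CommRing B]
    [Algebra C B] (hsurj : Function.Surjective (algebraMap C B)) (q : PrimeSpectrum B)
    {R' : Type u} [CommRing R'] [IsLocalRing R'] [Algebra B R'] [IsLocalization.AtPrime R' q.asIdeal]
    {M : Type u} [AddCommGroup M] [Module B M] [Module C M] [IsScalarTower C B M]
    [Module.Finite B M]
    {N : Type u} [AddCommGroup N] [Module R' N] [Module B N] [IsScalarTower B R' N]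
    (f : M →ₗ[B] N) [IsLocalizedModule q.asIdeal.primeCompl f] [Nontrivial N] :
    ∃ e : ℕ, (∀ n : ℕ, PrimeSpectrum.comap (algebraMap C B) q ∈
        Groth.Agent.Lead.PD.pdLocus n (ModuleCat.of C M) ↔ e ≤ n) ∧
      ringKrullDim (Localization.AtPrime (PrimeSpectrum.comap (algebraMap C B) q).asIdeal) =
        ((((e : ℕ∞) + LocCoh.depth R' N : ℕ∞)) : WithBot ℕ∞) := by
  set Q : PrimeSpectrum C := PrimeSpectrum.comap (algebraMap C B) q with hQ
  have hQq : Q.asIdeal = q.asIdeal.comap (algebraMap C B) := rfl
  let R := Localization.AtPrime Q.asIdeal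
  haveI : IsRegularLocalRing R := IsRegularRing.isRegularLocalRing_localization Q.asIdeal
  have hle : Q.asIdeal.primeCompl ≤ q.asIdeal.primeCompl.comap (algebraMap C B) := by
    intro c hc
    exact hc
  let ρ : R →+* R' := IsLocalization.map (M := Q.asIdeal.primeCompl) (T := q.asIdeal.primeCompl)
    R' (algebraMap C B) hle
  have hρ : ∀ c : C, ρ (algebraMap C R c) = algebraMap B R' (algebraMap C B c) := fun c =>
    IsLocalization.map_eq hle c
  have hρsurj : Function.Surjective ρ := by
    intro r'
    obtain ⟨b, t, rfl⟩ := IsLocalization.exists_mk'_eq q.asIdeal.primeCompl r'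
    obtain ⟨c, rfl⟩ := hsurj b
    obtain ⟨c', hc'⟩ := hsurj t.1
    have hc'Q : c' ∈ Q.asIdeal.primeCompl := by
      intro hmem
      apply t.2
      rw [← hc']
      exact hmem
    refine ⟨IsLocalization.mk' R c ⟨c', hc'Q⟩, ?_⟩
    rw [IsLocalization.map_mk']
    congr 1
    exact Subtype.ext hc'
  letI algRR' : Algebra R R' := ρ.toAlgebra
  letI modRN : Module R N := Module.compHom N ρ
  haveI : IsScalarTower R R' N := IsScalarTower.of_algebraMap_smul (fun _ _ => rfl)
  letI modCN : Module C N := Module.compHom N (algebraMap C B)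
  haveI : IsScalarTower C B N := IsScalarTower.of_algebraMap_smul (fun _ _ => rfl)
  haveI : IsScalarTower C R N := by
    refine IsScalarTower.of_algebraMap_smul (fun c n => ?_)
    change ρ (algebraMap C R c) • n = algebraMap C B c • n
    rw [hρ, algebraMap_smul]
  -- the localization map over `C`
  haveI hloc : IsLocalizedModule (Algebra.algebraMapSubmonoid B Q.asIdeal.primeCompl) f := by
    rw [Groth.Agent.Helper16.FibPD.algebraMapSubmonoid_primeCompl hsurj Q.asIdeal q.asIdeal hQq]
    infer_instance
  haveI : IsLocalizedModule Q.asIdeal.primeCompl (f.restrictScalars C) :=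
    IsLocalizedModule.restrictScalars Q.asIdeal.primeCompl f
  -- finiteness over `R`
  haveI : Module.Finite R' N := Module.Finite.of_isLocalizedModule q.asIdeal.primeCompl f
  haveI : Module.Finite R R' := Module.Finite.of_surjective (Algebra.linearMap R R') hρsurj
  haveI : Module.Finite R N := Module.Finite.trans R' N
  obtain ⟨e, he, hdim⟩ := Groth.Agent.Helper8.RDep.exists_pd_add_depth (R := R) N
  have hdepth : LocCoh.depth R N = LocCoh.depth R' N :=
    Groth.Agent.Helper16.FibModAlg.depth_eq_of_surjective' hρsurj N
  refine ⟨e, fun n => ?_, ?_⟩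
  · rw [Groth.Agent.Helper8.RDep.mem_pdLocus_iff (R := R) Q (f.restrictScalars C) n, he]
    exact_mod_cast Iff.rfl
  · rw [hdim, hdepth]

end Groth.Agent.Helper8.RC
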