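import Mathlib
import Groth.Agent.Lib.Helper14.EquidimDimFun

/-!
# `dim O_{X,x} + dim cl{x} = dim X` on a biequidimensional Noetherian scheme
-/

set_option autoImplicit false
universe u
open CategoryTheory AlgebraicGeometry TopologicalSpace Algz

namespace Groth.Agent.Helper8.RDep

variable (X : Scheme.{u})

/-- a point that has no proper generization has an irreducible component as closure. -/
theorem closure_mem_irreducibleComponents (ξ : X) (hmax : ∀ η : X, η ⤳ ξ → η = ξ) :
    closure ({ξ} : Set X) ∈ irreducibleComponents (X : Type u) := by
  refine ⟨isIrreducible_singleton.closure, ?_⟩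
  intro s hs hle
  have hs' : IsIrreducible s := hs
  obtain ⟨η, hη⟩ := QuasiSober.sober hs'.closure isClosed_closure
  have hcl : closure ({η} : Set X) = closure s := hη.def
  have h1 : η ⤳ ξ := by
    rw [specializes_iff_mem_closure, hcl]
    exact subset_closure (hle (subset_closure rfl))
  have h2 := hmax η h1
  rw [h2] at hcl
  rw [hcl]
  exact subset_closure

/-- the codimension of `x` in the closure of the end point of a maximal chain of generizations
is the dimension of the local ring. -/
theorem exists_generic_codimPt (x : X) (n : ℕ) (hn : Order.coheight x = (n : ℕ∞)) :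
    ∃ (ξ : X) (h : ξ ⤳ x), (∀ η : X, η ⤳ ξ → η = ξ) ∧ codimPt ξ x h = (n : ℕ∞) := by
  obtain ⟨p, hp, hl⟩ := Order.exists_series_of_le_coheight x (n := n) (le_of_eq hn.symm)
  have hxi : ∀ i, x ≤ p i := by
    intro i
    rw [← hp]
    exact LTSeries.head_le p i
  have hξx : p.last ⤳ x := AlgebraicGeometry.Scheme.le_iff_specializes.mp (hxi _)
  refine ⟨p.last, hξx, ?_, ?_⟩
  · intro η hη
    by_contra hne
    have hlt : p.last < η := by
      rw [lt_iff_le_not_ge]
      refine ⟨AlgebraicGeometry.Scheme.le_iff_specializes.mpr hη, fun h => hne ?_⟩
      exact (Specializes.antisymm hη (AlgebraicGeometry.Scheme.le_iff_specializes.mp h)).eq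
    have h1 := Order.length_le_coheight (x := x) (p := p.snoc η hlt) (by
      rw [RelSeries.head_snoc, hp])
    rw [RelSeries.snoc_length, hl, hn] at h1
    have : n + 1 ≤ n := by exact_mod_cast h1
    omega
  · apply le_antisymm
    · unfold codimPt
      apply Order.height_le
      intro q _
      let f : Set.Ici (Specialization.toEquiv x) → X := fun t => Specialization.ofEquiv t.1
      have hf : StrictMono f := by
        intro a b hab
        have h1 : a.1 < b.1 := hab
        rw [lt_iff_le_not_ge] at h1 ⊢
        constructor
        · exact AlgebraicGeometry.Scheme.le_iff_specializes.mpr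
            (Specialization.ofEquiv_specializes_ofEquiv.mpr h1.1)
        · intro h
          exact h1.2 (Specialization.ofEquiv_specializes_ofEquiv.mp
            (AlgebraicGeometry.Scheme.le_iff_specializes.mp h))
      have h1 := Order.length_le_coheight (x := x) (p := q.map f hf) (by
        rw [LTSeries.head_map]
        exact AlgebraicGeometry.Scheme.le_iff_specializes.mpr
          (Specialization.toEquiv_le_toEquiv.mp (show Specialization.toEquiv x ≤
            Specialization.toEquiv (Specialization.ofEquiv q.head.1) from q.head.2)))
      rw [hn] at h1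
      exact h1
    · unfold codimPt
      let q : LTSeries (Set.Ici (Specialization.toEquiv x)) :=
        { length := p.length
          toFun := fun i => ⟨Specialization.toEquiv (p i),
            Specialization.toEquiv_le_toEquiv.mpr
              (AlgebraicGeometry.Scheme.le_iff_specializes.mp (hxi i))⟩
          step := fun i => by
            have h1 : p i.castSucc < p i.succ := p.step i
            rw [lt_iff_le_not_ge] at h1
            change (⟨Specialization.toEquiv (p i.castSucc), _⟩ :
              Set.Ici (Specialization.toEquiv x)) < ⟨Specialization.toEquiv (p i.succ), _⟩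
            rw [Subtype.mk_lt_mk, lt_iff_le_not_ge]
            exact ⟨Specialization.toEquiv_le_toEquiv.mpr
              (AlgebraicGeometry.Scheme.le_iff_specializes.mp h1.1),
              fun h => h1.2 (AlgebraicGeometry.Scheme.le_iff_specializes.mpr
                (Specialization.toEquiv_le_toEquiv.mp h))⟩ }
      have h1 : (q.length : ℕ∞) ≤ Order.height q.last := Order.length_le_height_last
      have h2 : q.last = ⟨Specialization.toEquiv p.last,
          Specialization.toEquiv_le_toEquiv.mpr hξx⟩ := rfl
      rw [h2] at h1
      have h3 : q.length = n := hl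
      rw [h3] at h1
      exact h1

theorem dim_stalk_add_dim_closure [IsNoetherian X]
    (hfin : topologicalKrullDim X < ⊤)
    (hcomp : ∀ C ∈ irreducibleComponents (X : Type u),
      topologicalKrullDim ↥C = topologicalKrullDim X)
    (hchain : ∀ (y : X) (T : Set X), IsClosed T → IsIrreducible T → y ∈ T →
      topologicalKrullDim ↥T = topologicalKrullDim ↥(closure ({y} : Set X)) +
        topologicalKrullDim ↥{t : X | t ∈ T ∧ t ⤳ y}) (x : X) :
    ringKrullDim (X.presheaf.stalk x) + topologicalKrullDim ↥(closure ({x} : Set X)) =
      topologicalKrullDim X := by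
  have hlt : ringKrullDim (X.presheaf.stalk x) < ⊤ := ringKrullDim_lt_top
  rw [AlgebraicGeometry.ringKrullDim_stalk_eq_coheight] at hlt ⊢
  have hne : Order.coheight x ≠ ⊤ := by
    intro h
    rw [h] at hlt
    exact absurd hlt (by simp)
  obtain ⟨n, hn⟩ := ENat.ne_top_iff_exists.mp hne
  obtain ⟨ξ, h, hmax, hcod⟩ := exists_generic_codimPt X x n hn.symm
  have hC := closure_mem_irreducibleComponents X ξ hmax
  have e := hchain x (closure ({ξ} : Set X)) isClosed_closure isIrreducible_singleton.closure
    (specializes_iff_mem_closure.mp h)
  have hset : {t : X | t ∈ closure ({ξ} : Set X) ∧ t ⤳ x} = {t : X | ξ ⤳ t ∧ t ⤳ x} := by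
    ext t
    simp only [Set.mem_ofPred_eq, specializes_iff_mem_closure]
  rw [hset, Groth.Agent.Helper14.EquidimDimFun.topDim_interval ξ x h, hcod, hcomp _ hC] at e
  rw [e, ← hn, add_comm]

end Groth.Agent.Helper8.RDep
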