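import Mathlib
import Groth.Agent.Lib.Helper8.JD3
import Groth.Agent.Lib.Helper8.RDep2

/-!
# Local constancy of `dim O_{P,Q} + dim cl{Q}` at points with integral local ring, and closures
under embeddings
-/

set_option autoImplicit false
universe u
open CategoryTheory AlgebraicGeometry TopologicalSpace Algz

namespace Groth.Agent.Helper8.RC

open Groth.Agent.Helper14 Groth.Agent.Helper8.JD

/-- a point whose local ring is a domain has a unique maximal generization -/
theorem eq_of_isDomain_stalk (X : Scheme.{u}) (x : X) [IsDomain (X.presheaf.stalk x)]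
    (ξ₁ ξ₂ : X) (h₁ : ξ₁ ⤳ x) (h₂ : ξ₂ ⤳ x) (hm₁ : ∀ η : X, η ⤳ ξ₁ → η = ξ₁)
    (hm₂ : ∀ η : X, η ⤳ ξ₂ → η = ξ₂) : ξ₁ = ξ₂ := by
  have hemb := (X.fromSpecStalk x).isEmbedding
  let b : PrimeSpectrum (X.presheaf.stalk x) := ⟨⊥, Ideal.isPrime_bot⟩
  have key : ∀ ξ : X, ξ ⤳ x → (∀ η : X, η ⤳ ξ → η = ξ) → (X.fromSpecStalk x).base b = ξ := by
    intro ξ hξ hm
    have hr : ξ ∈ Set.range (X.fromSpecStalk x) := by
      rw [Scheme.range_fromSpecStalk]; exact hξ
    obtain ⟨p, rfl⟩ := hr
    apply hm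
    rw [hemb.isInducing.specializes_iff]
    exact (PrimeSpectrum.le_iff_specializes b p).mp (bot_le (a := p.asIdeal))
  rw [← key ξ₁ h₁ hm₁, ← key ξ₂ h₂ hm₂]

variable {P : Scheme.{u}} [IsLocallyNoetherian P] [JacobsonSpace P] (δ : P → ℤ)
  (hδ : Cyc.IsDimFun P δ) (h0 : ∀ s : P, IsClosed ({s} : Set P) → δ s = 0)

include hδ h0 in
/-- `dim O_{P,Q} + dim cl{Q}` through a maximal generization realizing the dimension of the local
ring -/
theorem exists_generic_dim (Q : P) :
    ∃ ξ : P, ξ ⤳ Q ∧ (∀ η : P, η ⤳ ξ → η = ξ) ∧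
      ringKrullDim (P.presheaf.stalk Q) + topologicalKrullDim ↥(closure ({Q} : Set P)) =
        (((δ ξ).toNat : ℕ) : WithBot ℕ∞) := by
  have hlt : ringKrullDim (P.presheaf.stalk Q) < ⊤ := ringKrullDim_lt_top
  have hcoh := AlgebraicGeometry.ringKrullDim_stalk_eq_coheight Q
  rw [hcoh] at hlt
  have hne : Order.coheight Q ≠ ⊤ := by
    intro h
    rw [h] at hlt
    exact absurd hlt (by simp)
  obtain ⟨n, hn⟩ := ENat.ne_top_iff_exists.mp hne
  obtain ⟨ξ, h, hmax, hcod⟩ := Groth.Agent.Helper8.RDep.exists_generic_codimPt P Q n hn.symm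
  refine ⟨ξ, h, hmax, ?_⟩
  rw [hcoh, ← hn, dim_closure δ hδ h0 Q]
  rw [codimPt_eq δ hδ ξ Q h] at hcod
  have h1 : (δ ξ - δ Q).toNat = n := by exact_mod_cast hcod
  have h2 := delta_nonneg δ hδ h0 Q
  have h3 := delta_le_of_specializes δ hδ h
  have : n + (δ Q).toNat = (δ ξ).toNat := by omega
  rw [← this]
  push_cast
  rfl

include hδ h0 in
/-- local constancy of `dim O_{P,Q} + dim cl{Q}` near a point with integral local ring -/
theorem exists_open_dim_const [NoetherianSpace P] (Q₀ : P) [IsDomain (P.presheaf.stalk Q₀)] :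
    ∃ (O : Set P) (D : ℕ), IsOpen O ∧ Q₀ ∈ O ∧ ∀ Q ∈ O,
      ringKrullDim (P.presheaf.stalk Q) + topologicalKrullDim ↥(closure ({Q} : Set P)) =
        (D : WithBot ℕ∞) := by
  obtain ⟨ξ₀, hξ₀, hm₀, -⟩ := exists_generic_dim δ hδ h0 Q₀
  have hfin : (irreducibleComponents ↥P).Finite := NoetherianSpace.finite_irreducibleComponents
  let B : Set P := ⋃ C ∈ {C : Set P | C ∈ irreducibleComponents ↥P ∧ Q₀ ∉ C}, C
  have hB : IsClosed B := by
    refine Set.Finite.isClosed_biUnion (hfin.subset (fun C hC => hC.1)) ?_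
    intro C hC
    exact isClosed_of_mem_irreducibleComponents C hC.1
  refine ⟨Bᶜ, (δ ξ₀).toNat, hB.isOpen_compl, ?_, ?_⟩
  · intro h
    simp only [B, Set.mem_iUnion, Set.mem_ofPred_eq] at h
    obtain ⟨C, hC, hxC⟩ := h
    exact hC.2 hxC
  · intro Q hQ
    obtain ⟨ξ, hξ, hm, hdim⟩ := exists_generic_dim δ hδ h0 Q
    have hcomp := Groth.Agent.Helper8.RDep.closure_mem_irreducibleComponents P ξ hm
    have hQ₀ : Q₀ ∈ closure ({ξ} : Set P) := by
      by_contra hnot
      apply hQ
      simp only [B, Set.mem_iUnion, Set.mem_ofPred_eq]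
      exact ⟨closure ({ξ} : Set P), ⟨hcomp, hnot⟩, specializes_iff_mem_closure.mp hξ⟩
    have hξQ₀ : ξ ⤳ Q₀ := specializes_iff_mem_closure.mpr hQ₀
    have := eq_of_isDomain_stalk P Q₀ ξ ξ₀ hξQ₀ hξ₀ hm hm₀
    rw [hdim, this]

section closures

include hδ h0 in
/-- the closure of a point of an open subset has the same dimension in the open subset -/
theorem topDim_closure_open (U : P.Opens) (u : U) :
    topologicalKrullDim ↥(closure ({u} : Set ↥U)) =
      topologicalKrullDim ↥(closure ({(u : P)} : Set P)) := by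
  rw [topDim_image (Y := (U : Set P)) (closure ({u} : Set ↥U))]
  have h1 : (Subtype.val '' (closure ({u} : Set ↥U)) : Set P) =
      (U : Set P) ∩ closure ({(u : P)} : Set P) := by
    rw [Topology.IsInducing.subtypeVal.closure_eq_preimage_closure_image, Set.image_singleton,
      Subtype.image_preimage_coe]
  have h2 : topologicalKrullDim ↥(Subtype.val '' (closure ({u} : Set ↥U)) : Set P) =
      topologicalKrullDim ↥((U : Set P) ∩ closure ({(u : P)} : Set P)) := by
    rw [h1]
  refine h2.trans ?_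
  apply le_antisymm
  · exact topDim_mono Set.inter_subset_right
  · have := le_topDim_inter δ hδ (closure ({(u : P)} : Set P)) isClosed_closure (u : P) h0
      (U : Set P) U.isOpen u.2 (u : P) (subset_closure rfl) specializes_rfl
    rw [dim_closure δ hδ h0 (u : P)]
    exact this

/-- a closed embedding preserves the dimension of the closure of a point -/
theorem topDim_closure_of_isClosedEmbedding {T₁ T₂ : Type*} [TopologicalSpace T₁]
    [TopologicalSpace T₂] (ψ : T₁ → T₂) (hψ : Topology.IsClosedEmbedding ψ) (u : T₁) :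
    topologicalKrullDim ↥(closure ({u} : Set T₁)) =
      topologicalKrullDim ↥(closure ({ψ u} : Set T₂)) := by
  have h1 : closure ({ψ u} : Set T₂) = ψ '' closure ({u} : Set T₁) := by
    rw [← hψ.closure_image_eq, Set.image_singleton]
  rw [h1]
  exact IsHomeomorph.topologicalKrullDim_eq _
    (hψ.isEmbedding.homeomorphImage (closure ({u} : Set T₁))).isHomeomorph

end closures

end Groth.Agent.Helper8.RC
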