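import Mathlib
import Groth.Agent.Lib.Helper8.RDep3
import Groth.Agent.Lib.Helper13.QCohLoc
import Groth.Agent.Lib.Helper13.FinAffine2
import Groth.Prelude.Def_Coh

/-!
# Upper semicontinuity of the projective dimension of the stalks of a coherent module
-/

set_option autoImplicit false
universe u
open CategoryTheory AlgebraicGeometry TopologicalSpace

namespace Groth.Agent.Helper8.RDep

open Groth.Agent.Helper13.QCohLoc

theorem isOpen_pd_le (X : Scheme.{u}) [IsLocallyNoetherian X] (F : X.Modules)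
    (hF : Coh.IsCoh F) (n : ℕ) :
    IsOpen {x : X | projectiveDimension
      (ModuleCat.of ↑(X.presheaf.stalk x) ↑(F.presheaf.stalk x)) ≤ (n : WithBot ℕ∞)} := by
  haveI : F.IsQuasicoherent := hF.1
  haveI : SheafOfModules.IsFiniteType (R := X.ringCatSheaf) F := hF.2
  rw [isOpen_iff_forall_mem_open]
  intro x hx
  obtain ⟨_, ⟨U, hU, rfl⟩, hxU, -⟩ := X.isBasis_affineOpens.exists_subset_of_mem_open
    (Set.mem_univ x) isOpen_univ
  have hU : IsAffineOpen U := hU
  haveI : IsNoetherianRing Γ(X, U) := IsLocallyNoetherian.component_noetherian ⟨U, hU⟩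
  haveI : Module.Finite Γ(X, U) Γ(F, U) :=
    Groth.Agent.Helper13.FinType.finite_sections_of_isFiniteType F hU
  have key : ∀ y : U, hU.primeIdealOf y ∈ Groth.Agent.Lead.PD.pdLocus n
      (ModuleCat.of Γ(X, U) Γ(F, U)) ↔
      projectiveDimension (ModuleCat.of ↑(X.presheaf.stalk (y : X))
        ↑(F.presheaf.stalk (y : X))) ≤ (n : WithBot ℕ∞) := by
    intro y
    haveI h4 : IsLocalization.AtPrime (X.presheaf.stalk (y : X))
        (hU.primeIdealOf y).asIdeal := hU.isLocalization_stalk y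
    letI modN : Module Γ(X, U) (F.presheaf.stalk (y : X)) := modStalk F y
    haveI : IsScalarTower Γ(X, U) (X.presheaf.stalk (y : X)) (F.presheaf.stalk (y : X)) :=
      isScalarTower_stalk F y
    haveI := isLocalizedModule_germ F hU y
    exact mem_pdLocus_iff (hU.primeIdealOf y) (germLin F y) n
  have hopen := Groth.Agent.Lead.PD.isOpen_pdLocus (A := Γ(X, U)) n Γ(F, U)
  have hcont : Continuous (fun v : U => hU.primeIdealOf v) := hU.isoSpec.hom.continuous
  have hT := hopen.preimage hcont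
  refine ⟨Subtype.val '' ((fun v : U => hU.primeIdealOf v) ⁻¹'
      (Groth.Agent.Lead.PD.pdLocus n (ModuleCat.of Γ(X, U) Γ(F, U)))), ?_,
    U.isOpen.isOpenMap_subtype_val _ hT, ?_⟩
  · rintro _ ⟨y, hy, rfl⟩
    exact (key y).mp hy
  · exact ⟨⟨x, hxU⟩, (key ⟨x, hxU⟩).mpr hx, rfl⟩

end Groth.Agent.Helper8.RDep
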