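import Mathlib
import Groth.Agent.Lib.Helper8.RC1
import Groth.Agent.Lib.Helper8.RC2
import Groth.Agent.Lib.Helper8.JD4
import Groth.Agent.Lib.Helper8.RDep4
import Groth.Agent.Lib.Lead.Cat1
import Groth.Agent.Lib.Lead.Depth12
import Groth.Agent.Lib.Lead.Hom10

set_option autoImplicit false
universe u
open CategoryTheory AlgebraicGeometry TopologicalSpace Algz

namespace Groth.Agent.Helper8.RC

theorem isUniversallyCatenary_of_isRegularLocalRing (R : Type u) [CommRing R]
    [IsRegularLocalRing R] : CAlg.IsUniversallyCatenary R := by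
  haveI : IsNoetherianRing R := inferInstance
  haveI : LocCoh.IsCohenMacaulayRing R :=
    { isCohenMacaulayLocalRing_localization := fun p _ => by
        haveI := Groth.Agent.Lead.Hom.isRegularLocalRing_localization p
        exact Groth.Agent.Lead.Depth.isCohenMacaulayLocalRing_of_isRegularLocalRing }
  exact Groth.Agent.Lead.Cat.isUniversallyCatenary_of_isCohenMacaulayRing R

theorem isRegularRing_sections {S : Scheme.{u}} [IsLocallyNoetherian S]
    (hreg : ∀ s : S, IsRegularLocalRing ↑(S.presheaf.stalk s)) {V : S.Opens}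
    (hV : IsAffineOpen V) : IsRegularRing Γ(S, V) := by
  haveI : IsNoetherianRing Γ(S, V) := IsLocallyNoetherian.component_noetherian ⟨V, hV⟩
  rw [isRegularRing_iff]
  intro p hp
  let y : V := hV.isoSpec.inv ⟨p, hp⟩
  have hy : hV.primeIdealOf y = ⟨p, hp⟩ := by
    change hV.isoSpec.hom (hV.isoSpec.inv ⟨p, hp⟩) = _
    rw [← Scheme.Hom.comp_apply, Iso.inv_hom_id]
    rfl
  haveI := hreg (y : S)
  haveI h4 : IsLocalization.AtPrime (S.presheaf.stalk (y : S)) p := by
    have := hV.isLocalization_stalk y
    rw [hy] at this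
    exact this
  exact IsRegularLocalRing.of_ringEquiv
    (IsLocalization.algEquiv p.primeCompl (S.presheaf.stalk (y : S))
      (Localization.AtPrime p)).toRingEquiv

/-- the stalk of `Spec C` at `Q` is `C_Q` -/
theorem nonempty_stalk_equiv (C : Type u) [CommRing C] (Q : PrimeSpectrum C) :
    Nonempty (((Spec (CommRingCat.of C)).presheaf.stalk Q) ≃+* Localization.AtPrime Q.asIdeal) := by
  haveI : IsLocalization.AtPrime ((Spec.structureSheaf C).presheaf.stalk Q) Q.asIdeal :=
    StructureSheaf.IsLocalization.to_stalk C Q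
  exact ⟨(IsLocalization.algEquiv Q.asIdeal.primeCompl ((Spec.structureSheaf C).presheaf.stalk Q)
      (Localization.AtPrime Q.asIdeal)).toRingEquiv⟩

end Groth.Agent.Helper8.RC
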