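import Mathlib
import Groth.Agent.Lib.Helper8.RC3

set_option autoImplicit false
universe u
open CategoryTheory AlgebraicGeometry TopologicalSpace Algz

namespace Groth.Agent.Helper8.RC

open Groth.Agent.Helper13.QCohLoc Groth.Agent.Helper8.JD

set_option maxHeartbeats 1600000 in
theorem chart {X S : Scheme.{u}} [IsLocallyNoetherian S] [JacobsonSpace S]
    (hreg : ∀ s : S, IsRegularLocalRing ↑(S.presheaf.stalk s))
    (h3 : ∀ S' ∈ irreducibleComponents (S : Type u), ∀ s ∈ S', IsClosed ({s} : Set S) →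
      topologicalKrullDim (↥S' : Type u) = topologicalKrullDim ↥{t : S | t ∈ S' ∧ t ⤳ s})
    (g : X ⟶ S) [LocallyOfFiniteType g] (F : X.Modules) (hF : Coh.IsCoh F) (x₀ : X) :
    ∃ (W : Set X) (L : ℕ → Set X) (D : ℕ), IsOpen W ∧ x₀ ∈ W ∧ (∀ n, IsOpen (L n)) ∧
      ∀ u ∈ W, Nontrivial ↑(F.presheaf.stalk u) → ∃ e : ℕ, (∀ n, u ∈ L n ↔ e ≤ n) ∧
        ((LocCoh.depth ↑(X.presheaf.stalk u) ↑(F.presheaf.stalk u) : ℕ∞) : WithBot ℕ∞) +
          topologicalKrullDim ↥(closure ({u} : Set X)) + (e : WithBot ℕ∞) = (D : WithBot ℕ∞) := by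
  haveI : F.IsQuasicoherent := hF.1
  haveI : SheafOfModules.IsFiniteType (R := X.ringCatSheaf) F := hF.2
  have h2 : ∀ s : S, CAlg.IsUniversallyCatenary (S.presheaf.stalk s) := fun s => by
    haveI := hreg s
    exact isUniversallyCatenary_of_isRegularLocalRing _
  haveI : IsLocallyNoetherian X := LocallyOfFiniteType.isLocallyNoetherian g
  haveI : JacobsonSpace X := LocallyOfFiniteType.jacobsonSpace g
  obtain ⟨_, ⟨V, hV, rfl⟩, hsV, -⟩ := S.isBasis_affineOpens.exists_subset_of_mem_open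
    (Set.mem_univ (g x₀)) isOpen_univ
  have hV : IsAffineOpen V := hV
  obtain ⟨_, ⟨U, hU, rfl⟩, hxU, hUV⟩ := X.isBasis_affineOpens.exists_subset_of_mem_open
    (show x₀ ∈ ((g ⁻¹ᵁ V : X.Opens) : Set X) from hsV) (g ⁻¹ᵁ V).isOpen
  have hU : IsAffineOpen U := hU
  have hUV' : U ≤ g ⁻¹ᵁ V := hUV
  haveI : IsRegularRing Γ(S, V) := isRegularRing_sections hreg hV
  have hφ₀ : (g.appLE V U hUV').hom.FiniteType := LocallyOfFiniteType.finiteType_appLE g hV hU hUV'
  letI algAB : Algebra Γ(S, V) Γ(X, U) := (g.appLE V U hUV').hom.toAlgebra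
  haveI : Algebra.FiniteType Γ(S, V) Γ(X, U) := hφ₀
  obtain ⟨N, f, hf⟩ := Algebra.FiniteType.iff_quotient_mvPolynomial''.mp
    (inferInstance : Algebra.FiniteType Γ(S, V) Γ(X, U))
  haveI : IsRegularRing (MvPolynomial (Fin N) Γ(S, V)) := inferInstance
  haveI : IsNoetherianRing (MvPolynomial (Fin N) Γ(S, V)) := inferInstance
  letI algCB : Algebra (MvPolynomial (Fin N) Γ(S, V)) Γ(X, U) := f.toRingHom.toAlgebra
  have hsurj : Function.Surjective (algebraMap (MvPolynomial (Fin N) Γ(S, V)) Γ(X, U)) := hf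
  -- the ambient regular scheme
  let P : Scheme.{u} := Spec (CommRingCat.of (MvPolynomial (Fin N) Γ(S, V)))
  let π : P ⟶ S := Spec.map (CommRingCat.ofHom (algebraMap Γ(S, V) (MvPolynomial (Fin N) Γ(S, V))))
    ≫ hV.fromSpec
  haveI : LocallyOfFiniteType (Spec.map (CommRingCat.ofHom
      (algebraMap Γ(S, V) (MvPolynomial (Fin N) Γ(S, V))))) := by
    rw [HasRingHomProperty.Spec_iff (P := @LocallyOfFiniteType)]
    exact (RingHom.finiteType_algebraMap (A := Γ(S, V)) (B := MvPolynomial (Fin N) Γ(S, V))).mpr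
      inferInstance
  haveI : LocallyOfFiniteType π := inferInstance
  haveI : IsLocallyNoetherian P := LocallyOfFiniteType.isLocallyNoetherian π
  haveI : JacobsonSpace P := LocallyOfFiniteType.jacobsonSpace π
  haveI : NoetherianSpace P := inferInstance
  have hδ := isDimFun_deltaX h2 h3 π
  have h0 := deltaX_closed h2 h3 π
  -- the closed embedding of the chart
  let ψ : U → P := fun u => PrimeSpectrum.comap
    (algebraMap (MvPolynomial (Fin N) Γ(S, V)) Γ(X, U)) (hU.primeIdealOf u)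
  have hψ : Topology.IsClosedEmbedding ψ :=
    (PrimeSpectrum.isClosedEmbedding_comap_of_surjective _ _ hsurj).comp
      hU.isoSpec.hom.homeomorph.isClosedEmbedding
  let Q₀ : P := ψ ⟨x₀, hxU⟩
  haveI : IsDomain (P.presheaf.stalk Q₀) := by
    obtain ⟨e⟩ := nonempty_stalk_equiv (MvPolynomial (Fin N) Γ(S, V)) Q₀
    haveI : IsRegularLocalRing (Localization.AtPrime Q₀.asIdeal) :=
      IsRegularRing.isRegularLocalRing_localization _
    haveI : IsDomain (Localization.AtPrime Q₀.asIdeal) := Groth.Agent.Lead.RLR.isDomain _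
    exact e.toMulEquiv.isDomain _
  obtain ⟨O, D, hO, hQ₀O, hD⟩ := exists_open_dim_const (deltaX π) hδ h0 Q₀
  -- the module
  haveI : Module.Finite Γ(X, U) Γ(F, U) :=
    Groth.Agent.Helper13.FinType.finite_sections_of_isFiniteType F hU
  letI modCM : Module (MvPolynomial (Fin N) Γ(S, V)) Γ(F, U) :=
    Module.compHom Γ(F, U) (algebraMap (MvPolynomial (Fin N) Γ(S, V)) Γ(X, U))
  haveI : IsScalarTower (MvPolynomial (Fin N) Γ(S, V)) Γ(X, U) Γ(F, U) :=
    IsScalarTower.of_algebraMap_smul (fun _ _ => rfl)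
  haveI : Module.Finite (MvPolynomial (Fin N) Γ(S, V)) Γ(X, U) :=
    Module.Finite.of_surjective (Algebra.linearMap _ _) hsurj
  haveI : Module.Finite (MvPolynomial (Fin N) Γ(S, V)) Γ(F, U) :=
    Module.Finite.trans Γ(X, U) Γ(F, U)
  have hopen := fun n => Groth.Agent.Lead.PD.isOpen_pdLocus
    (A := MvPolynomial (Fin N) Γ(S, V)) n Γ(F, U)
  have hcont : Continuous ψ := hψ.continuous
  refine ⟨Subtype.val '' (ψ ⁻¹' O), fun n => Subtype.val '' (ψ ⁻¹' (Groth.Agent.Lead.PD.pdLocus n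
      (ModuleCat.of (MvPolynomial (Fin N) Γ(S, V)) Γ(F, U)))), D,
    U.isOpen.isOpenMap_subtype_val _ (hO.preimage hcont), ⟨⟨x₀, hxU⟩, hQ₀O, rfl⟩,
    fun n => U.isOpen.isOpenMap_subtype_val _ ((hopen n).preimage hcont), ?_⟩
  rintro _ ⟨y, hyO, rfl⟩ hnt
  haveI h4 : IsLocalization.AtPrime (X.presheaf.stalk (y : X)) (hU.primeIdealOf y).asIdeal :=
    hU.isLocalization_stalk y
  letI modN : Module Γ(X, U) (F.presheaf.stalk (y : X)) := modStalk F y
  haveI : IsScalarTower Γ(X, U) (X.presheaf.stalk (y : X)) (F.presheaf.stalk (y : X)) :=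
    isScalarTower_stalk F y
  haveI := isLocalizedModule_germ F hU y
  haveI := hnt
  obtain ⟨e, he1, he2⟩ := exists_pd_of_surjective (R' := X.presheaf.stalk (y : X)) hsurj
    (hU.primeIdealOf y) (germLin F y)
  refine ⟨e, fun n => ?_, ?_⟩
  · rw [← he1 n]
    constructor
    · rintro ⟨y', hy', hyy'⟩
      have : y' = y := Subtype.ext hyy'
      subst this
      exact hy'
    · intro h
      exact ⟨y, h, rfl⟩
  · have hdim1 : topologicalKrullDim ↥(closure ({(y : X)} : Set X)) =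
        topologicalKrullDim ↥(closure ({ψ y} : Set P)) := by
      rw [← topDim_closure_open (deltaX g) (isDimFun_deltaX h2 h3 g) (deltaX_closed h2 h3 g) U y]
      exact topDim_closure_of_isClosedEmbedding ψ hψ y
    have hdim2 : ringKrullDim (P.presheaf.stalk (ψ y)) =
        ringKrullDim (Localization.AtPrime (ψ y).asIdeal) := by
      obtain ⟨e'⟩ := nonempty_stalk_equiv (MvPolynomial (Fin N) Γ(S, V)) (ψ y)
      exact ringKrullDim_eq_of_ringEquiv e'
    have hfin := hD (ψ y) hyO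
    rw [hdim2, he2] at hfin
    rw [hdim1, ← hfin]
    push_cast
    abel

end Groth.Agent.Helper8.RC
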