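import Mathlib
import Groth.Agent.Lib.Helper8.RC4
import Groth.Agent.Lib.Helper26.DevD
import Groth.Agent.Lib.Helper3.LocalDim
import Groth.Agent.Lib.Lead.Depth5

set_option autoImplicit false
universe u
open CategoryTheory AlgebraicGeometry TopologicalSpace Algz

namespace Groth.Agent.Helper8.RC

open Groth.Agent.Helper8.JD

theorem arith4 (a b : WithBot ℕ∞) (e₁ e₂ D : ℕ) (ha : a + (e₁ : WithBot ℕ∞) = (D : WithBot ℕ∞))
    (hb : b + (e₂ : WithBot ℕ∞) = (D : WithBot ℕ∞)) (h : e₁ ≤ e₂) : b ≤ a := by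
  have key : ∀ (s : WithBot ℕ∞) (e : ℕ), s + (e : WithBot ℕ∞) = (D : WithBot ℕ∞) →
      ∃ k : ℕ, s = ((k : ℕ∞) : WithBot ℕ∞) ∧ k + e = D := by
    intro s e hs
    induction s with
    | bot => simp at hs
    | coe s =>
      induction s with
      | top =>
        exfalso
        have h1 : ((⊤ : ℕ∞) : WithBot ℕ∞) + (e : WithBot ℕ∞) = ((⊤ : ℕ∞) : WithBot ℕ∞) := by
          have : (e : WithBot ℕ∞) = ((e : ℕ∞) : WithBot ℕ∞) := rfl
          rw [this, ← WithBot.coe_add, top_add]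
        rw [h1] at hs
        have : (D : WithBot ℕ∞) = ((D : ℕ∞) : WithBot ℕ∞) := rfl
        rw [this, WithBot.coe_inj] at hs
        simp at hs
      | coe k =>
        refine ⟨k, rfl, ?_⟩
        exact_mod_cast hs
  obtain ⟨k₁, rfl, h₁⟩ := key a e₁ ha
  obtain ⟨k₂, rfl, h₂⟩ := key b e₂ hb
  have : k₂ ≤ k₁ := by omega
  exact_mod_cast this

theorem top_add_topDim {T : Type*} [TopologicalSpace T] [Nonempty T] :
    ((⊤ : ℕ∞) : WithBot ℕ∞) + topologicalKrullDim T = ((⊤ : ℕ∞) : WithBot ℕ∞) := by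
  have h2 : (0 : WithBot ℕ∞) ≤ topologicalKrullDim T :=
    Groth.Agent.Helper3.LocalDim.topologicalKrullDim_nonneg _
  generalize topologicalKrullDim T = c at h2
  induction c with
  | bot => simp at h2
  | coe c => rw [← WithBot.coe_add, top_add]

section

variable {X S : Scheme.{u}} [IsLocallyNoetherian S] [JacobsonSpace S]
    (hreg : ∀ s : S, IsRegularLocalRing ↑(S.presheaf.stalk s))
    (h3 : ∀ S' ∈ irreducibleComponents (S : Type u), ∀ s ∈ S', IsClosed ({s} : Set S) →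
      topologicalKrullDim (↥S' : Type u) = topologicalKrullDim ↥{t : S | t ∈ S' ∧ t ⤳ s})
    (g : X ⟶ S) [LocallyOfFiniteType g] (F : X.Modules) (hF : Coh.IsCoh F)

/-- the rectified depth -/
noncomputable def pstar (F : X.Modules) (x : X) : WithBot ℕ∞ :=
  ((LocCoh.depth ↑(X.presheaf.stalk x) ↑(F.presheaf.stalk x) : ℕ∞) : WithBot ℕ∞) +
        topologicalKrullDim ↥(closure ({x} : Set X))

theorem pstar_eq_top (x : X) (hs : Subsingleton ↑(F.presheaf.stalk x)) :
    pstar F x = ((⊤ : ℕ∞) : WithBot ℕ∞) := by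
  haveI : Nonempty ↥(closure ({x} : Set X)) := ⟨⟨x, subset_closure rfl⟩⟩
  rw [pstar, Groth.Agent.Lead.Depth.depth_eq_top_of_subsingleton, top_add_topDim]

include hreg h3 g hF in
theorem isOpen_le_pstar (n : ℕ) : IsOpen {x : X | (n : WithBot ℕ∞) ≤ pstar F x} := by
  rw [isOpen_iff_forall_mem_open]
  intro x₀ hx₀
  by_cases hs : x₀ ∈ CohB1.support F
  · haveI hnt : Nontrivial (F.presheaf.stalk x₀) := not_subsingleton_iff_nontrivial.mp hs
    obtain ⟨W, L, D, hW, hx₀W, hL, hform⟩ := chart hreg h3 g F hF x₀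
    obtain ⟨e₀, he₀, hD₀⟩ := hform x₀ hx₀W hnt
    refine ⟨W ∩ L e₀, ?_, hW.inter (hL e₀), ⟨hx₀W, (he₀ e₀).mpr le_rfl⟩⟩
    rintro u ⟨huW, huL⟩
    by_cases hu : Nontrivial (F.presheaf.stalk u)
    · obtain ⟨e, he, hDu⟩ := hform u huW hu
      have hle : e ≤ e₀ := (he e₀).mp huL
      exact le_trans hx₀ (arith4 _ _ e e₀ D hDu hD₀ hle)
    · rw [not_nontrivial_iff_subsingleton] at hu
      rw [Set.mem_setOf_eq, pstar_eq_top F u hu]
      have : (n : WithBot ℕ∞) = ((n : ℕ∞) : WithBot ℕ∞) := rfl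
      rw [this, WithBot.coe_le_coe]
      exact le_top
  · refine ⟨(CohB1.support F)ᶜ, ?_,
      (Groth.Agent.Helper26.DevD.isClosed_support F hF).isOpen_compl, hs⟩
    intro u hu
    have hu' : Subsingleton (F.presheaf.stalk u) := not_not.mp hu
    rw [Set.mem_setOf_eq, pstar_eq_top F u hu']
    have : (n : WithBot ℕ∞) = ((n : ℕ∞) : WithBot ℕ∞) := rfl
    rw [this, WithBot.coe_le_coe]
    exact le_top

include hreg h3 g hF in
/-- near `x`, the depth at closed points of `cl{x}` is the rectified depth at `x` -/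
theorem exists_open_depth_eq (x : X) :
    ∃ U : X.Opens, x ∈ U ∧ ∀ x' ∈ U, x' ∈ closure ({x} : Set X) → IsClosed ({x'} : Set X) →
      ((LocCoh.depth ↑(X.presheaf.stalk x') ↑(F.presheaf.stalk x') : ℕ∞) : WithBot ℕ∞) =
        pstar F x := by
  have h2 : ∀ s : S, CAlg.IsUniversallyCatenary (S.presheaf.stalk s) := fun s => by
    haveI := hreg s
    exact isUniversallyCatenary_of_isRegularLocalRing _
  haveI : IsLocallyNoetherian X := LocallyOfFiniteType.isLocallyNoetherian g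
  haveI : JacobsonSpace X := LocallyOfFiniteType.jacobsonSpace g
  have hcl : ∀ x' : X, IsClosed ({x'} : Set X) → pstar F x' =
      ((LocCoh.depth ↑(X.presheaf.stalk x') ↑(F.presheaf.stalk x') : ℕ∞) : WithBot ℕ∞) := by
    intro x' hx'
    rw [pstar, dim_closure (deltaX g) (isDimFun_deltaX h2 h3 g) (deltaX_closed h2 h3 g) x',
      deltaX_closed h2 h3 g x' hx']
    simp
  by_cases hs : x ∈ CohB1.support F
  · haveI hnt : Nontrivial (F.presheaf.stalk x) := not_subsingleton_iff_nontrivial.mp hs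
    obtain ⟨W, L, D, hW, hxW, hL, hform⟩ := chart hreg h3 g F hF x
    obtain ⟨e₀, he₀, hD₀⟩ := hform x hxW hnt
    refine ⟨⟨W ∩ L e₀, hW.inter (hL e₀)⟩, ⟨hxW, (he₀ e₀).mpr le_rfl⟩, ?_⟩
    rintro x' ⟨hx'W, hx'L⟩ hx'cl hx'closed
    have hspec : x ⤳ x' := specializes_iff_mem_closure.mpr hx'cl
    have hx's : x' ∈ CohB1.support F :=
      (Groth.Agent.Helper26.DevD.isClosed_support F hF).closure_subset_iff.mpr
        (Set.singleton_subset_iff.mpr hs) hx'cl
    have hnt' : Nontrivial (F.presheaf.stalk x') := not_subsingleton_iff_nontrivial.mp hx's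
    obtain ⟨e', he', hD'⟩ := hform x' hx'W hnt'
    have h1 : e' ≤ e₀ := (he' e₀).mp hx'L
    have h2' : e₀ ≤ e' := (he₀ e').mp (hspec.mem_open (hL e') ((he' e').mpr le_rfl))
    have : e' = e₀ := le_antisymm h1 h2'
    subst this
    rw [← hcl x' hx'closed]
    exact le_antisymm (arith4 _ _ _ _ D hD₀ hD' le_rfl) (arith4 _ _ _ _ D hD' hD₀ le_rfl)
  · refine ⟨⟨(CohB1.support F)ᶜ,
      (Groth.Agent.Helper26.DevD.isClosed_support F hF).isOpen_compl⟩, hs, ?_⟩
    intro x' hx' _ _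
    haveI hu' : Subsingleton (F.presheaf.stalk x') := not_not.mp hx'
    have hx0 : Subsingleton (F.presheaf.stalk x) := not_not.mp hs
    rw [pstar_eq_top F x hx0, Groth.Agent.Lead.Depth.depth_eq_top_of_subsingleton]

include hreg h3 g hF in
theorem depth_closed_iff (x : X) (n : ℕ∞) :
    (∃ U : X.Opens, x ∈ U ∧ ∀ x' : ↥U, (x' : X) ∈ closure ({x} : Set X) →
        IsClosed ({x'} : Set ↥U) →
        LocCoh.depth ↑(X.presheaf.stalk (x' : X)) ↑(F.presheaf.stalk (x' : X)) = n) ↔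
      ((n : WithBot ℕ∞) = pstar F x) := by
  haveI : JacobsonSpace X := LocallyOfFiniteType.jacobsonSpace g
  have hclosed : ∀ (U : X.Opens) (x' : ↥U), IsClosed ({x'} : Set ↥U) ↔
      IsClosed ({(x' : X)} : Set X) := by
    intro U x'
    have h := U.isOpenEmbedding'.preimage_closedPoints
    have : x' ∈ closedPoints ↥U ↔ x' ∈ Subtype.val ⁻¹' closedPoints X := by rw [h]
    exact this
  obtain ⟨U₂, hxU₂, hU₂⟩ := exists_open_depth_eq hreg h3 g F hF x
  constructor
  · rintro ⟨U₁, hxU₁, hU₁⟩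
    obtain ⟨x', ⟨hx'cl, hx'1, hx'2⟩, hx'closed⟩ := nonempty_inter_closedPoints
      (Z := closure ({x} : Set X) ∩ ((U₁ : Set X) ∩ (U₂ : Set X)))
      ⟨x, subset_closure rfl, hxU₁, hxU₂⟩
      (isClosed_closure.isLocallyClosed.inter (U₁.isOpen.inter U₂.isOpen).isLocallyClosed)
    have e1 := hU₁ ⟨x', hx'1⟩ hx'cl ((hclosed U₁ ⟨x', hx'1⟩).mpr hx'closed)
    have e2 := hU₂ x' hx'2 hx'cl hx'closed
    rw [← e2, ← e1]
  · intro hn
    refine ⟨U₂, hxU₂, ?_⟩
    intro x' hx'cl hx'closed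
    have e2 := hU₂ x' x'.2 hx'cl ((hclosed U₂ x').mp hx'closed)
    rw [← hn] at e2
    exact WithBot.coe_injective e2

end

end Groth.Agent.Helper8.RC
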