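import Mathlib

/-!
# `WithBot ℕ∞` arithmetic used for the rectified depth
-/

set_option autoImplicit false

namespace Groth.Agent.Helper8.RDep

theorem arith1 (P : WithBot ℕ∞) (n d : ℕ) (h : n ≤ d) :
    P + (n : WithBot ℕ∞) ≤ (d : WithBot ℕ∞) ↔ P ≤ ((d - n : ℕ) : WithBot ℕ∞) := by
  obtain ⟨m, rfl⟩ := Nat.exists_eq_add_of_le h
  rw [Nat.add_sub_cancel_left]
  induction P with
  | bot => simp
  | coe P =>
    induction P with
    | top =>
      have h1 : ((⊤ : ℕ∞) : WithBot ℕ∞) + (n : WithBot ℕ∞) = ((⊤ : ℕ∞) : WithBot ℕ∞) := by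
        have : (n : WithBot ℕ∞) = ((n : ℕ∞) : WithBot ℕ∞) := rfl
        rw [this, ← WithBot.coe_add, top_add]
      rw [h1]
      have h2 : ∀ m : ℕ, ¬ (((⊤ : ℕ∞) : WithBot ℕ∞) ≤ (m : WithBot ℕ∞)) := by
        intro m hm
        have : (m : WithBot ℕ∞) = ((m : ℕ∞) : WithBot ℕ∞) := rfl
        rw [this, WithBot.coe_le_coe] at hm
        simp at hm
      exact ⟨fun hh => absurd hh (h2 _), fun hh => absurd hh (h2 _)⟩
    | coe k =>
      have e1 : (((k : ℕ∞) : WithBot ℕ∞)) + (n : WithBot ℕ∞) = (((k + n : ℕ) : ℕ∞) : WithBot ℕ∞) := by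
        push_cast
        rfl
      rw [e1]
      constructor
      · intro hh
        have : k + n ≤ n + m := by exact_mod_cast hh
        have : k ≤ m := by omega
        exact_mod_cast this
      · intro hh
        have : k ≤ m := by exact_mod_cast hh
        have : k + n ≤ n + m := by omega
        exact_mod_cast this

theorem arith2 (P : WithBot ℕ∞) (n d : ℕ) (h : ¬ n ≤ d) :
    P + (n : WithBot ℕ∞) ≤ (d : WithBot ℕ∞) ↔ P = ⊥ := by
  induction P with
  | bot => simp
  | coe P =>
    induction P with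
    | top =>
      have h1 : ((⊤ : ℕ∞) : WithBot ℕ∞) + (n : WithBot ℕ∞) = ((⊤ : ℕ∞) : WithBot ℕ∞) := by
        have : (n : WithBot ℕ∞) = ((n : ℕ∞) : WithBot ℕ∞) := rfl
        rw [this, ← WithBot.coe_add, top_add]
      rw [h1]
      constructor
      · intro hm
        have : (d : WithBot ℕ∞) = ((d : ℕ∞) : WithBot ℕ∞) := rfl
        rw [this, WithBot.coe_le_coe] at hm
        simp at hm
      · intro hh
        exact absurd hh (by simp)
    | coe k =>
      have e1 : (((k : ℕ∞) : WithBot ℕ∞)) + (n : WithBot ℕ∞) = (((k + n : ℕ) : ℕ∞) : WithBot ℕ∞) := by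
        push_cast
        rfl
      rw [e1]
      constructor
      · intro hh
        have : k + n ≤ d := by exact_mod_cast hh
        omega
      · intro hh
        exact absurd hh (by simp)

theorem arith3 (s : WithBot ℕ∞) (e n d : ℕ) (h : s + (e : WithBot ℕ∞) = (d : WithBot ℕ∞)) :
    (n : WithBot ℕ∞) ≤ s ↔ (e : WithBot ℕ∞) + (n : WithBot ℕ∞) ≤ (d : WithBot ℕ∞) := by
  induction s with
  | bot => simp at h
  | coe s =>
    induction s with
    | top =>
      exfalso
      have h1 : ((⊤ : ℕ∞) : WithBot ℕ∞) + (e : WithBot ℕ∞) = ((⊤ : ℕ∞) : WithBot ℕ∞) := by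
        have : (e : WithBot ℕ∞) = ((e : ℕ∞) : WithBot ℕ∞) := rfl
        rw [this, ← WithBot.coe_add, top_add]
      rw [h1] at h
      have : (d : WithBot ℕ∞) = ((d : ℕ∞) : WithBot ℕ∞) := rfl
      rw [this, WithBot.coe_inj] at h
      simp at h
    | coe k =>
      have hk : k + e = d := by exact_mod_cast h
      constructor
      · intro hh
        have : n ≤ k := by exact_mod_cast hh
        have : e + n ≤ d := by omega
        exact_mod_cast this
      · intro hh
        have : e + n ≤ d := by exact_mod_cast hh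
        have : n ≤ k := by omega
        exact_mod_cast this

end Groth.Agent.Helper8.RDep
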