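import Groth.Agent.Lib.Helper8.RMod1
import Groth.Agent.Lib.Helper11.DCInj
import Groth.Agent.Lib.Helper11.DCInjAmp

/-!
# The explicit model `Hom_A(B, J)` of `RHom_A(B, -)`, part 2: comparison with a right adjoint
(helper8)
-/

set_option autoImplicit false

open CategoryTheory CategoryTheory.Limits

universe u

namespace Groth.Agent.Helper8.RMod

open DerivedCategory

attribute [local instance] HasDerivedCategory.standard

variable {A B : Type u} [CommRing A] [CommRing B] (φ : A →+* B)

/-- coextension of an injective module is injective -/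
theorem injective_coF (M : ModuleCat.{u} A) [Injective M] : Injective ((coF φ).obj M) :=
  Injective.injective_of_adjoint (adjM φ) M

/-- `Hom_A(B, J)` is K-injective when `J` is a bounded below complex of injectives -/
theorem isKInjective_coC (J : DRing.Cx A) (a : ℤ) (ha : ∀ i : ℤ, i < a → IsZero (J.X i))
    (hJ : ∀ i : ℤ, Injective (J.X i)) : ((coC φ).obj J).IsKInjective := by
  have : ((coC φ).obj J).IsStrictlyGE a := by
    rw [CochainComplex.isStrictlyGE_iff]
    intro i hi
    exact (coF φ).map_isZero (ha i hi)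
  have : ∀ n : ℤ, Injective (((coC φ).obj J).X n) := fun n => by
    have := hJ n
    exact injective_coF φ (J.X n)
  exact CochainComplex.isKInjective_of_injective _ a

/-- the factorization of restriction of scalars through complexes -/
noncomputable abbrev fac : Q ⋙ DRing.restrictD φ ≅ resC φ ⋙ Q :=
  (resF φ).mapDerivedCategoryFactors

/-- the counit `res Hom_A(B, J) ⟶ J` in the derived category -/
noncomputable def counitD (J : DRing.Cx A) :
    (DRing.restrictD φ).obj (Q.obj ((coC φ).obj J)) ⟶ Q.obj J :=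
  (fac φ).hom.app ((coC φ).obj J) ≫ Q.map (counitC φ J)

/-- `g ↦ res(g) ≫ counit` -/
noncomputable def Theta (J : DRing.Cx A) (X : Dual.D B) (g : X ⟶ Q.obj ((coC φ).obj J)) :
    (DRing.restrictD φ).obj X ⟶ Q.obj J :=
  (DRing.restrictD φ).map g ≫ counitD φ J

theorem Theta_Q_map (J : DRing.Cx A) (T : DRing.Cx B) (g' : T ⟶ (coC φ).obj J) :
    Theta φ J (Q.obj T) (Q.map g') = (fac φ).hom.app T ≫ Q.map (toA g') := by
  unfold Theta counitD toA
  rw [← Category.assoc]
  have h := (fac φ).hom.naturality g'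
  simp only [Functor.comp_map] at h
  rw [h, Category.assoc, ← Functor.map_comp]

theorem Theta_sub (J : DRing.Cx A) (X : Dual.D B) (g₁ g₂ : X ⟶ Q.obj ((coC φ).obj J)) :
    Theta φ J X (g₁ - g₂) = Theta φ J X g₁ - Theta φ J X g₂ := by
  unfold Theta
  rw [Functor.map_sub, Preadditive.sub_comp]

theorem Theta_bijective_Q (J : DRing.Cx A) (a : ℤ) (ha : ∀ i : ℤ, i < a → IsZero (J.X i))
    (hJ : ∀ i : ℤ, Injective (J.X i)) (T : DRing.Cx B) :
    Function.Bijective (Theta φ J (Q.obj T)) := by
  have hK := isKInjective_coC φ J a ha hJ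
  have hJK : J.IsKInjective := by
    have : J.IsStrictlyGE a := by
      rw [CochainComplex.isStrictlyGE_iff]
      exact ha
    exact CochainComplex.isKInjective_of_injective J a
  constructor
  · intro g₁ g₂ h12
    have h0 : Theta φ J (Q.obj T) (g₁ - g₂) = 0 := by rw [Theta_sub, h12, sub_self]
    obtain ⟨g', hg'⟩ := Groth.Agent.Helper11.DC.exists_lift_of_isKInjective T ((coC φ).obj J)
      (g₁ - g₂)
    rw [← hg', Theta_Q_map] at h0
    have h1 : Q.map (toA g') = 0 := by
      have := (cancel_epi ((fac φ).hom.app T)).mp (h0.trans comp_zero.symm)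
      exact this
    obtain ⟨hh⟩ := Groth.Agent.Helper11.DC.homotopy_zero_of_Q_map_eq_zero _ J (toA g') h1
    have h2 : Q.map g' = Q.map 0 := Q_map_eq_of_homotopy (h := homotopyOfToA g' hh)
    rw [Functor.map_zero, hg'] at h2
    exact sub_eq_zero.mp h2
  · intro h
    obtain ⟨h'', hh''⟩ := Groth.Agent.Helper11.DC.exists_lift_of_isKInjective
      ((resC φ).obj T) J ((fac φ).inv.app T ≫ h)
    refine ⟨Q.map (toB h''), ?_⟩
    rw [Theta_Q_map, toA_toB, hh'', ← Category.assoc, Iso.hom_inv_id_app, Category.id_comp]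

variable (R : Dual.D A ⥤ Dual.D B) (adj : DRing.restrictD φ ⊣ R)

/-- the comparison `Hom_A(B, J) ⟶ R(J)` -/
noncomputable def psi (J : DRing.Cx A) : Q.obj ((coC φ).obj J) ⟶ R.obj (Q.obj J) :=
  adj.homEquiv _ _ (counitD φ J)

theorem comp_psi (J : DRing.Cx A) (X : Dual.D B) (g : X ⟶ Q.obj ((coC φ).obj J)) :
    g ≫ psi φ R adj J = adj.homEquiv X _ (Theta φ J X g) := by
  unfold psi Theta
  rw [Adjunction.homEquiv_naturality_left]

theorem isIso_psi (J : DRing.Cx A) (a : ℤ) (ha : ∀ i : ℤ, i < a → IsZero (J.X i))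
    (hJ : ∀ i : ℤ, Injective (J.X i)) : IsIso (psi φ R adj J) := by
  apply isIso_of_yoneda_map_bijective
  intro X
  let T : DRing.Cx B := Q.objPreimage X
  let e : Q.obj T ≅ X := Q.objObjPreimageIso X
  have hΘ := Theta_bijective_Q φ J a ha hJ T
  constructor
  · intro x₁ x₂ h12
    have h12' : x₁ ≫ psi φ R adj J = x₂ ≫ psi φ R adj J := h12
    have h1 : (e.hom ≫ x₁) ≫ psi φ R adj J = (e.hom ≫ x₂) ≫ psi φ R adj J := by
      rw [Category.assoc, Category.assoc, h12']
    rw [comp_psi, comp_psi] at h1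
    have h2 := hΘ.1 ((adj.homEquiv _ _).injective h1)
    exact (cancel_epi e.hom).mp h2
  · intro y
    obtain ⟨g, hg⟩ := hΘ.2 ((adj.homEquiv _ _).symm (e.hom ≫ y))
    refine ⟨e.inv ≫ g, ?_⟩
    show (e.inv ≫ g) ≫ psi φ R adj J = y
    rw [Category.assoc, comp_psi, hg, Equiv.apply_symm_apply, Iso.inv_hom_id_assoc]

/-- `R(J) ≅ Hom_A(B, J)` for a bounded below complex of injectives `J` -/
noncomputable def psiIso (J : DRing.Cx A) (a : ℤ) (ha : ∀ i : ℤ, i < a → IsZero (J.X i))
    (hJ : ∀ i : ℤ, Injective (J.X i)) : Q.obj ((coC φ).obj J) ≅ R.obj (Q.obj J) :=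
  haveI := isIso_psi φ R adj J a ha hJ
  asIso (psi φ R adj J)

end Groth.Agent.Helper8.RMod
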