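import Groth.Agent.Lib.Helper8.RMod2

/-!
# The explicit model `Hom_A(B, J)` of `RHom_A(B, -)`, part 3: comparison with `Hom•(B[0], J)`
(helper8)
-/

set_option autoImplicit false

open CategoryTheory CategoryTheory.Limits CochainComplex HomComplex

universe u

namespace Groth.Agent.Helper8.RMod

open DerivedCategory Groth.Agent.Helper8.BiDual Groth.Agent.Helper3.HT

attribute [local instance] HasDerivedCategory.standard

section Single

variable {A : Type u} [CommRing A] (M : ModuleCat.{u} A) (J : DRing.Cx A)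

/-- cochains from `M[0]` are maps out of `M`, linearly -/
noncomputable def fromSingleLin (n : ℤ) : Cochain (sg M) J n ≃ₗ[A] (M ⟶ J.X n) where
  toFun := Cochain.fromSingleEquiv (X := M) (K := J) (p := 0) (q := n) (n := n) (zero_add n)
  invFun := (Cochain.fromSingleEquiv (X := M) (K := J) (p := 0) (q := n) (n := n) (zero_add n)).symm
  left_inv := (Cochain.fromSingleEquiv (X := M) (K := J) (zero_add n)).left_inv
  right_inv := (Cochain.fromSingleEquiv (X := M) (K := J) (zero_add n)).right_inv
  map_add' := (Cochain.fromSingleEquiv (X := M) (K := J) (zero_add n)).map_add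
  map_smul' a z := by
    show (HomologicalComplex.singleObjXSelf (ComplexShape.up ℤ) 0 M).inv ≫ (a • z).v 0 n (zero_add n) =
      a • ((HomologicalComplex.singleObjXSelf (ComplexShape.up ℤ) 0 M).inv ≫ z.v 0 n (zero_add n))
    rw [Cochain.smul_v, Linear.comp_smul]

end Single

section Co

variable {A B : Type u} [CommRing A] [CommRing B] (φ : A →+* B)

/-- `B` as an `A`-module -/
noncomputable abbrev BA : ModuleCat.{u} A := (resF φ).obj (ModuleCat.of B B)

/-- `Hom_A(B, N)` with its `A`-module structure induced from the `B`-module structure is the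
usual `Hom_A(B, N)` -/
noncomputable def coLin (N : ModuleCat.{u} A) :
    ((resF φ).obj ((coF φ).obj N)) ≃ₗ[A] (BA φ ⟶ N) where
  toFun g := ModuleCat.ofHom (X := BA φ) (ModuleCat.CoextendScalars.equiv φ N g)
  invFun h := (ModuleCat.CoextendScalars.equiv φ N).symm h.hom
  left_inv g := rfl
  right_inv h := rfl
  map_add' g g' := rfl
  map_smul' a g := by
    refine ModuleCat.hom_ext (LinearMap.ext fun (x : BA φ) => ?_)
    let g' : (BA φ) →ₗ[A] N := ModuleCat.CoextendScalars.equiv φ N g
    let x' : B := x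
    show g' (x' * φ a : B) = a • g' x
    rw [← map_smul]
    have : (a • x : BA φ) = (φ a * x' : B) := rfl
    rw [this, mul_comm]

/-- the degreewise comparison -/
noncomputable def alphaLin (J : DRing.Cx A) (n : ℤ) :
    ((resF φ).obj ((coF φ).obj (J.X n))) ≃ₗ[A] Cochain (sg (BA φ)) J n :=
  (coLin φ (J.X n)).trans (fromSingleLin (BA φ) J n).symm

theorem alphaLin_apply (J : DRing.Cx A) (n : ℤ) (g : (resF φ).obj ((coF φ).obj (J.X n))) :
    alphaLin φ J n g = Cochain.fromSingleMk (coLin φ (J.X n) g) (zero_add n) := rfl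

/-- `Hom_A(B, J) ≅ Hom•(B[0], J)` as complexes of `A`-modules -/
noncomputable def alpha (J : DRing.Cx A) :
    (resC φ).obj ((coC φ).obj J) ≅ DRing.homCx (sg (BA φ)) J :=
  HomologicalComplex.Hom.isoOfComponents (fun n => (alphaLin φ J n).toModuleIso) (by
    intro i j hij
    ext g
    show δ i j (alphaLin φ J i g) =
      alphaLin φ J j (((resF φ).map ((coF φ).map (J.d i j))).hom g)
    rw [alphaLin_apply, alphaLin_apply]
    exact (Cochain.δ_fromSingleMk (coLin φ (J.X i) g) (zero_add i) j j (zero_add j)).trans rfl)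

/-- right multiplication by `b` on `B`, as an `A`-linear map -/
noncomputable def mulB (b : B) : BA φ ⟶ BA φ :=
  (resF φ).map (ModuleCat.ofHom (LinearMap.mulRight B b))


theorem coLin_smul (N : ModuleCat.{u} A) (b : B) (g : (coF φ).obj N) :
    coLin φ N (b • g : (coF φ).obj N) = mulB φ b ≫ coLin φ N g := rfl

theorem alpha_smul (J : DRing.Cx A) (b : B) :
    (resC φ).map (b • 𝟙 ((coC φ).obj J)) ≫ (alpha φ J).hom =
      (alpha φ J).hom ≫ homCxPre (sgMap (mulB φ b)) J := by
  ext n g
  let g' : (coF φ).obj (J.X n) := g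
  show alphaLin φ J n ((b • 𝟙 ((coC φ).obj J) : (coC φ).obj J ⟶ (coC φ).obj J).f n g') =
    (Cochain.ofHom (sgMap (mulB φ b))).comp (alphaLin φ J n g') (zero_add n)
  rw [alphaLin_apply, alphaLin_apply]
  have h1 : (b • 𝟙 ((coC φ).obj J) : (coC φ).obj J ⟶ (coC φ).obj J).f n g' =
      (b • g' : (coF φ).obj (J.X n)) := by
    rw [HomologicalComplex.smul_f_apply]
    rfl
  rw [h1, coLin_smul]
  exact Cochain.fromSingleMk_precomp (mulB φ b) (coLin φ (J.X n) g') (zero_add n)

end Co

end Groth.Agent.Helper8.RMod
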