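import Groth.Agent.Lib.Helper8.RMod3

/-!
# The explicit model `Hom_A(B, J)` of `RHom_A(B, -)`, part 4: endomorphisms (helper8)
-/

set_option autoImplicit false

open CategoryTheory CategoryTheory.Limits

universe u

namespace Groth.Agent.Helper8.RMod

open DerivedCategory Groth.Agent.Helper8.BiDual Groth.Agent.Helper3.HT

attribute [local instance] HasDerivedCategory.standard

variable {A B : Type u} [CommRing A] [CommRing B] (φ : A →+* B)

section Adj

variable (R : Dual.D A ⥤ Dual.D B) (adj : DRing.restrictD φ ⊣ R)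

include adj in
/-- vanishing of maps into shifts of `R(K)` from vanishing after restriction -/
theorem hom_shift_R_eq_zero (X : Dual.D B) (K : Dual.D A) (i : ℤ)
    (h : ∀ s : (DRing.restrictD φ).obj X ⟶ K⟦i⟧, s = 0) (t : X ⟶ (R.obj K)⟦i⟧) : t = 0 := by
  have hRadd : R.Additive := adj.right_adjoint_additive
  let ρ : R.obj (K⟦i⟧) ≅ (R.obj K)⟦i⟧ := (Adjunction.RightAdjointCommShift.iso adj i).app K
  have h1 : t ≫ ρ.inv = 0 := by
    have h2 := h ((adj.homEquiv X (K⟦i⟧)).symm (t ≫ ρ.inv))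
    have h3 : t ≫ ρ.inv = adj.homEquiv X (K⟦i⟧) 0 := by
      rw [← h2, Equiv.apply_symm_apply]
    rw [h3, Adjunction.homEquiv_unit, Functor.map_zero, comp_zero]
  exact (cancel_mono ρ.inv).mp (h1.trans zero_comp.symm)

end Adj

section Model

variable (J : DRing.Cx A)

/-- `res Hom_A(B, J) ≅ Hom•(B[0], J)` in `D(A)` -/
noncomputable def alphaD :
    (DRing.restrictD φ).obj (Q.obj ((coC φ).obj J)) ≅ Z J (BA φ) :=
  (fac φ).app ((coC φ).obj J) ≪≫ Q.mapIso (alpha φ J)

theorem alphaD_smul (b : B) :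
    (DRing.restrictD φ).map (b • 𝟙 (Q.obj ((coC φ).obj J))) ≫ (alphaD φ J).hom =
      (alphaD φ J).hom ≫ Zmap J (mulB φ b) := by
  have h0 : b • 𝟙 (Q.obj ((coC φ).obj J)) = Q.map (b • 𝟙 ((coC φ).obj J)) := by
    rw [Functor.map_smul, CategoryTheory.Functor.map_id]
  have h1 := (fac φ).hom.naturality (b • 𝟙 ((coC φ).obj J))
  simp only [Functor.comp_map] at h1
  unfold alphaD Zmap
  rw [h0]
  simp only [Iso.trans_hom, Iso.app_hom, Functor.mapIso_hom]
  rw [← Category.assoc, h1, Category.assoc, Category.assoc, ← Functor.map_comp, ← Functor.map_comp,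
    alpha_smul]

end Model

section End

variable [IsNoetherianRing A] (J : DRing.Cx A) (a b : ℤ)
  (hvan : DRing.VanishesOutside J a b) (hinj : DRing.TermwiseInjective J)
  (hend : Function.Bijective (fun x : A => x • 𝟙 (Q.obj J)))
  (hext : ∀ i : ℤ, i ≠ 0 → ∀ f : Q.obj J ⟶ (Q.obj J)⟦i⟧, f = 0)
  (hfin : Module.Finite A (BA φ))

include hvan hinj hend hext hfin in
theorem P_BA : P J (BA φ) :=
  P_of_model J a b hvan hinj hend hext (BA φ)

omit [IsNoetherianRing A] in
theorem mulB_hom_apply (x y : B) : (mulB φ x).hom (y : BA φ) = (y * x : B) := rfl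

include hvan hinj hend hext hfin in
/-- `B ≃ End(Hom_A(B, J))` -/
theorem end_bijective :
    Function.Bijective (fun x : B => x • 𝟙 (Q.obj ((coC φ).obj J))) := by
  have hJ : ∀ n : ℤ, Injective (J.X n) := fun n =>
    (Module.injective_iff_injective_object A (J.X n)).mp (hinj n)
  have hΘ := Theta_bijective_Q φ J a (fun i hi => hvan i (Or.inl hi)) hJ ((coC φ).obj J)
  have hP := P_BA φ J a b hvan hinj hend hext hfin
  let ev : B → (Z J (BA φ) ⟶ Q.obj J) := fun x => evD J (M := BA φ) x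
  have hev : Function.Bijective ev := hP.2
  have ev_nat : ∀ x y : B, ev (y * x) = Zmap J (mulB φ x) ≫ ev y :=
    fun x y => evD_nat J (mulB φ x) (y : BA φ)
  obtain ⟨β, hβ⟩ := hev.2 ((alphaD φ J).inv ≫ counitD φ J)
  have hβ' : counitD φ J = (alphaD φ J).hom ≫ ev β := by
    rw [hβ, Iso.hom_inv_id_assoc]
  have key1 : ∀ x : B, Theta φ J _ (x • 𝟙 (Q.obj ((coC φ).obj J))) =
      (alphaD φ J).hom ≫ ev (β * x) := by
    intro x
    unfold Theta
    rw [hβ', ← Category.assoc, alphaD_smul, Category.assoc, ev_nat]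
  obtain ⟨g₀, hg₀⟩ := hΘ.2 ((alphaD φ J).hom ≫ ev 1)
  let gt : Z J (BA φ) ⟶ Z J (BA φ) :=
    (alphaD φ J).inv ≫ (DRing.restrictD φ).map g₀ ≫ (alphaD φ J).hom
  have hcomm : gt ≫ Zmap J (mulB φ β) = Zmap J (mulB φ β) ≫ gt := by
    have h1 : g₀ ≫ (β • 𝟙 (Q.obj ((coC φ).obj J))) = (β • 𝟙 (Q.obj ((coC φ).obj J))) ≫ g₀ := by
      rw [Linear.comp_smul, Linear.smul_comp, Category.comp_id, Category.id_comp]
    have h2 := congrArg (DRing.restrictD φ).map h1
    rw [Functor.map_comp, Functor.map_comp] at h2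
    have h3 : Zmap J (mulB φ β) = (alphaD φ J).inv ≫
        (DRing.restrictD φ).map (β • 𝟙 (Q.obj ((coC φ).obj J))) ≫ (alphaD φ J).hom := by
      rw [alphaD_smul, Iso.inv_hom_id_assoc]
    rw [h3]
    show ((alphaD φ J).inv ≫ (DRing.restrictD φ).map g₀ ≫ (alphaD φ J).hom) ≫ _ =
      _ ≫ ((alphaD φ J).inv ≫ (DRing.restrictD φ).map g₀ ≫ (alphaD φ J).hom)
    simp only [Category.assoc, Iso.hom_inv_id_assoc]
    rw [← Category.assoc ((DRing.restrictD φ).map g₀), h2, Category.assoc]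
  obtain ⟨γ, hγ⟩ := hev.2 (gt ≫ ev 1)
  have hunit : γ * β = 1 := by
    apply hev.1
    have e2 : ev β = Zmap J (mulB φ β) ≫ ev 1 := by
      rw [← ev_nat, one_mul]
    have e3 : Theta φ J _ g₀ = (alphaD φ J).hom ≫ gt ≫ ev β := by
      unfold Theta
      rw [hβ']
      show _ = (alphaD φ J).hom ≫ ((alphaD φ J).inv ≫ (DRing.restrictD φ).map g₀ ≫
        (alphaD φ J).hom) ≫ ev β
      simp only [Category.assoc, Iso.hom_inv_id_assoc]
    rw [hg₀] at e3
    have e4 := (cancel_epi (alphaD φ J).hom).mp e3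
    calc ev (γ * β) = Zmap J (mulB φ β) ≫ ev γ := ev_nat β γ
      _ = Zmap J (mulB φ β) ≫ gt ≫ ev 1 := by rw [hγ]
      _ = (gt ≫ Zmap J (mulB φ β)) ≫ ev 1 := by rw [hcomm]; exact (Category.assoc _ _ _).symm
      _ = gt ≫ ev β := by rw [Category.assoc, ← e2]
      _ = ev 1 := e4.symm
  have hunit' : β * γ = 1 := by rw [mul_comm]; exact hunit
  constructor
  · intro x y hxy
    have hxy' : x • 𝟙 (Q.obj ((coC φ).obj J)) = y • 𝟙 (Q.obj ((coC φ).obj J)) := hxy
    have h1 := congrArg (Theta φ J _) hxy'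
    rw [key1, key1] at h1
    have h3 : β * x = β * y := hev.1 ((cancel_epi (alphaD φ J).hom).mp h1)
    calc x = (γ * β) * x := by rw [hunit, one_mul]
      _ = γ * (β * x) := mul_assoc _ _ _
      _ = γ * (β * y) := by rw [h3]
      _ = (γ * β) * y := (mul_assoc _ _ _).symm
      _ = y := by rw [hunit, one_mul]
  · intro g
    obtain ⟨c, hc⟩ := hev.2 ((alphaD φ J).inv ≫ Theta φ J _ g)
    refine ⟨γ * c, ?_⟩
    apply hΘ.1
    show Theta φ J _ ((γ * c) • 𝟙 (Q.obj ((coC φ).obj J))) = Theta φ J _ g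
    rw [key1, ← mul_assoc, hunit', one_mul, hc, Iso.hom_inv_id_assoc]

end End

end Groth.Agent.Helper8.RMod
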