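import Groth.Agent.Lib.Helper8.RMod5

/-!
# Triangles involving `RHom_A(A/I, ω)` (helper8)
-/

set_option autoImplicit false

open CategoryTheory CategoryTheory.Limits Pretriangulated

universe u u₁ v₁

namespace Groth.Agent.Helper8.RMod

open DerivedCategory Groth.Agent.Helper8.BiDual Groth.Agent.Helper3.HT

attribute [local instance] HasDerivedCategory.standard

section General

variable {C : Type u₁} [Category.{v₁} C] [Preadditive C] [HasZeroObject C] [HasShift C ℤ]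
  [∀ n : ℤ, CategoryTheory.Functor.Additive (shiftFunctor C n)] [Pretriangulated C]

/-- transport of a distinguished triangle along isomorphisms of its vertices -/
theorem distinguished_of_isos {X₁ X₂ X₃ Y₁ Y₂ Y₃ : C} (u : X₁ ⟶ X₂) (v : X₂ ⟶ X₃)
    (w : X₃ ⟶ X₁⟦(1 : ℤ)⟧) (hT : Triangle.mk u v w ∈ distTriang C)
    (e₁ : Y₁ ≅ X₁) (e₂ : Y₂ ≅ X₂) (e₃ : Y₃ ≅ X₃) :
    Triangle.mk (e₁.hom ≫ u ≫ e₂.inv) (e₂.hom ≫ v ≫ e₃.inv)
      (e₃.hom ≫ w ≫ (shiftFunctor C (1 : ℤ)).map e₁.inv) ∈ distTriang C := by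
  refine isomorphic_distinguished _ hT _ (Triangle.isoMk _ _ e₁ e₂ e₃ ?_ ?_ ?_)
  · show (e₁.hom ≫ u ≫ e₂.inv) ≫ e₂.hom = e₁.hom ≫ u
    rw [Category.assoc, Category.assoc, e₂.inv_hom_id, Category.comp_id]
  · show (e₂.hom ≫ v ≫ e₃.inv) ≫ e₃.hom = e₂.hom ≫ v
    rw [Category.assoc, Category.assoc, e₃.inv_hom_id, Category.comp_id]
  · show (e₃.hom ≫ w ≫ (shiftFunctor C (1 : ℤ)).map e₁.inv) ≫ (shiftFunctor C (1 : ℤ)).map e₁.hom =
      e₃.hom ≫ w
    rw [Category.assoc, Category.assoc, ← Functor.map_comp, e₁.inv_hom_id,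
      CategoryTheory.Functor.map_id, Category.comp_id]

end General

section Quot

variable {A : Type u} [CommRing A]

/-- `Z J` of an isomorphism -/
noncomputable def ZmapIso (J : DRing.Cx A) {M N : ModuleCat.{u} A} (e : M ≅ N) :
    Z J N ≅ Z J M where
  hom := Zmap J e.hom
  inv := Zmap J e.inv
  hom_inv_id := by rw [← Zmap_comp, e.inv_hom_id, Zmap_id]
  inv_hom_id := by rw [← Zmap_comp, e.hom_inv_id, Zmap_id]

variable (I : Ideal A)

/-- `A ⧸ I` as an `A`-module, two ways -/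
noncomputable def BAIso : BA (Ideal.Quotient.mk I) ≅ ModuleCat.of A (A ⧸ I) :=
  LinearEquiv.toModuleIso
    { toFun := fun x => x
      invFun := fun x => x
      map_add' := fun _ _ => rfl
      map_smul' := fun a x => by
        obtain ⟨y, rfl⟩ := Ideal.Quotient.mk_surjective (x : A ⧸ I)
        rfl
      left_inv := fun _ => rfl
      right_inv := fun _ => rfl }

variable [IsNoetherianRing A]
  (R : Dual.D A ⥤ Dual.D (A ⧸ I)) (adj : DRing.restrictD (Ideal.Quotient.mk I) ⊣ R)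

/-- `res R(ω) ≅ Hom•((A/I)[0], J)` -/
noncomputable def resRIso (J : DRing.Cx A) (a : ℤ) (ha : ∀ i : ℤ, i < a → IsZero (J.X i))
    (hJ : ∀ i : ℤ, Injective (J.X i)) (ω : Dual.D A) (e : Q.obj J ≅ ω) :
    (DRing.restrictD (Ideal.Quotient.mk I)).obj (R.obj ω) ≅ Z J (ModuleCat.of A (A ⧸ I)) :=
  (DRing.restrictD (Ideal.Quotient.mk I)).mapIso
      (psiIso (Ideal.Quotient.mk I) R adj J a ha hJ ≪≫ R.mapIso e).symm ≪≫
    alphaD (Ideal.Quotient.mk I) J ≪≫ ZmapIso J (BAIso I).symm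

include adj in
/-- the triangle `RHom_A(A/f, ω) → ω →f ω →` -/
theorem exists_triangle_smul (ω : Dual.D A) (hω : Dual.IsDualizing A ω) (f : A)
    (hf' : f ∈ nonZeroDivisors A) (hI : I = Ideal.span {f}) :
    ∃ (u : (DRing.restrictD (Ideal.Quotient.mk I)).obj (R.obj ω) ⟶ ω)
      (w : ω ⟶ ((DRing.restrictD (Ideal.Quotient.mk I)).obj (R.obj ω))⟦(1 : ℤ)⟧),
      Triangle.mk u (f • 𝟙 ω) w ∈ distTriang (Dual.D A) := by
  obtain ⟨J, a, b, e, hvan, hinj, hend, hext, hfinH⟩ := exists_model ω hω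
  have hJ : ∀ n : ℤ, Injective (J.X n) := fun n =>
    (Module.injective_iff_injective_object A (J.X n)).mp (hinj n)
  have hses : Groth.Agent.Helper8.LC.IsSES (f • (LinearMap.id : A →ₗ[A] A)) (Submodule.mkQ I) := by
    refine ⟨?_, ?_, Submodule.mkQ_surjective I⟩
    · intro x y hxy
      have h1 : f * x = f * y := hxy
      have h2 : (x - y) * f = 0 := by
        rw [sub_mul, mul_comm x f, mul_comm y f, h1, sub_self]
      have h3 := (mem_nonZeroDivisors_iff.mp hf').2 _ h2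
      exact sub_eq_zero.mp h3
    · intro x
      rw [Submodule.mkQ_apply, Submodule.Quotient.mk_eq_zero, hI, Ideal.mem_span_singleton']
      constructor
      · rintro ⟨y, rfl⟩
        exact ⟨y, by show f * y = y * f; rw [mul_comm]⟩
      · rintro ⟨y, rfl⟩
        exact ⟨y, by show y * f = f * y; rw [mul_comm]⟩
  obtain ⟨δ, hδ⟩ := Z_triangle J hses.sc hses.shortExact hJ
  let e₁ := resRIso I R adj J a (fun i hi => hvan i (Or.inl hi)) hJ ω e
  let e₂ : ω ≅ Z J (ModuleCat.of A A) := e.symm ≪≫ (ZunitIso J).symm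
  have hT := distinguished_of_isos _ _ _ hδ e₁ e₂ e₂
  refine ⟨e₁.hom ≫ Zmap J hses.sc.g ≫ e₂.inv,
    e₂.hom ≫ δ ≫ (shiftFunctor (Dual.D A) (1 : ℤ)).map e₁.inv, ?_⟩
  have hmid : e₂.hom ≫ Zmap J hses.sc.f ≫ e₂.inv = f • 𝟙 ω := by
    have h1 : hses.sc.f = f • 𝟙 (ModuleCat.of A A) := rfl
    rw [h1, Zmap_smul, Zmap_id, Linear.smul_comp, Linear.comp_smul, Category.id_comp,
      e₂.hom_inv_id]
  rw [hmid] at hT
  exact hT

end Quot

end Groth.Agent.Helper8.RMod
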