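import Groth.Agent.Lib.Helper8.RMod8
import Groth.Agent.Lib.Helper8.FBC10

/-!
# Algebras of finite type / essentially of finite type have dualizing complexes (helper8)
-/

set_option autoImplicit false

open CategoryTheory CategoryTheory.Limits

universe u

namespace Groth.Agent.Helper8.RMod

open DerivedCategory

attribute [local instance] HasDerivedCategory.standard

variable {A : Type u} [CommRing A] [IsNoetherianRing A]

/-- a finite type algebra over a Noetherian ring with a dualizing complex has one -/
theorem exists_isDualizing_of_finiteType (ω : Dual.D A) (hω : Dual.IsDualizing A ω)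
    (C : Type u) [CommRing C] [Algebra A C] [Algebra.FiniteType A C] :
    ∃ ω' : Dual.D C, Dual.IsDualizing C ω' := by
  obtain ⟨n, ψ, hψ⟩ := Algebra.FiniteType.iff_quotient_mvPolynomial''.mp
    (inferInstance : Algebra.FiniteType A C)
  haveI := Groth.Agent.Helper8.FBC.preservesFiniteLimits_Efun_of_flat (A := A)
    (MvPolynomial (Fin n) A)
  have d1 := Groth.Agent.Helper8.FBC.isDualizing_Ld_mvPolynomial A ω hω n inferInstance
  letI : Algebra (MvPolynomial (Fin n) A) C := ψ.toRingHom.toAlgebra
  haveI : Module.Finite (MvPolynomial (Fin n) A) C :=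
    Module.Finite.of_surjective (Algebra.linearMap (MvPolynomial (Fin n) A) C) hψ
  haveI : IsNoetherianRing C := Algebra.FiniteType.isNoetherianRing A C
  exact exists_isDualizing_of_finite _ d1

/-- an algebra essentially of finite type over a Noetherian ring with a dualizing complex
has one -/
theorem exists_isDualizing_of_essFiniteType (ω : Dual.D A) (hω : Dual.IsDualizing A ω)
    (B : Type u) [CommRing B] [Algebra A B] [Algebra.EssFiniteType A B] :
    ∃ ω' : Dual.D B, Dual.IsDualizing B ω' := by
  obtain ⟨ωC, hC⟩ := exists_isDualizing_of_finiteType ω hω (Algebra.EssFiniteType.subalgebra A B)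
  haveI : IsNoetherianRing (Algebra.EssFiniteType.subalgebra A B) := hC.isNoetherianRing
  haveI := Groth.Agent.Helper8.LOC.preservesFiniteLimits_Efun
    (Algebra.EssFiniteType.submonoid A B) B
  exact ⟨_, Groth.Agent.Helper8.LOC.isDualizing_Ld (Algebra.EssFiniteType.submonoid A B) B ωC hC⟩

end Groth.Agent.Helper8.RMod
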