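import Mathlib
import Groth.Agent.Lib.Helper28.ReflDepth
import Groth.Agent.Lib.Lead.Hartogs1
import Groth.Agent.Lib.Lead.Depth16

/-!
# Reflexivity from depth conditions, and `(S_k)` for dual modules (helper8)
-/

set_option autoImplicit false
universe u
open LocCoh

namespace Groth.Agent.Helper8.Refl2

open Groth.Agent.Helper28.ReflDepth Groth.Agent.Lead.Depth

section

variable {A : Type u} [CommRing A] [IsNoetherianRing A]

/-- `depth_J A ≥ k` from `(S_k)` and `ht J ≥ k` -/
theorem le_idealDepth_self_of_hasSk (k : ℕ) (hA : HasSk k A A) (J : Ideal A)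
    (hJ : (k : ℕ∞) ≤ J.height) : (k : ℕ∞) ≤ idealDepth J A := by
  rw [idealDepth_eq_iInf_depth_localizedModule]
  refine le_iInf₂ (fun p hp => ?_)
  have hAp := hA p.asIdeal
  rw [supportDim_localizedModule_self] at hAp
  have h1 : (k : ℕ∞) ≤ p.asIdeal.height := le_trans hJ (Ideal.height_mono hp)
  have h2 : min (k : WithBot ℕ∞) ((p.asIdeal.height : ℕ∞) : WithBot ℕ∞) = (k : WithBot ℕ∞) := by
    apply min_eq_left
    have : ((k : ℕ∞) : WithBot ℕ∞) ≤ ((p.asIdeal.height : ℕ∞) : WithBot ℕ∞) :=
      WithBot.coe_le_coe.mpr h1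
    exact_mod_cast this
  rw [h2] at hAp
  have h3 : ((k : ℕ∞) : WithBot ℕ∞) ≤ ((LocCoh.depth (Localization.AtPrime p.asIdeal)
      (LocalizedModule p.asIdeal.primeCompl A) : ℕ∞) : WithBot ℕ∞) := by
    exact_mod_cast hAp
  exact WithBot.coe_le_coe.mp h3

/-- a finite module which is locally free off `V(J)`, of `J`-depth `≥ 2`, over a ring of
`J`-depth `≥ 1`, is reflexive -/
theorem isReflexive_of_depth (J : Ideal A) (L : Type u) [AddCommGroup L] [Module A L]
    [Module.Finite A L]
    (hfree : ∀ p : PrimeSpectrum A, ¬ J ≤ p.asIdeal →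
      Module.Free (Localization.AtPrime p.asIdeal) (LocalizedModule p.asIdeal.primeCompl L))
    (hA : 1 ≤ idealDepth J A) (hL : 2 ≤ idealDepth J L) : Module.IsReflexive A L := by
  constructor
  have hrefl : ∀ p : PrimeSpectrum A, ¬ J ≤ p.asIdeal → Function.Bijective
      (Module.Dual.eval (Localization p.asIdeal.primeCompl)
        (LocalizedModule p.asIdeal.primeCompl L)) := by
    intro p hp
    haveI := hfree p hp
    haveI : Module.Finite (Localization.AtPrime p.asIdeal)
        (LocalizedModule p.asIdeal.primeCompl L) :=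
      Module.Finite.of_isLocalizedModule p.asIdeal.primeCompl
        (LocalizedModule.mkLinearMap p.asIdeal.primeCompl L)
    exact Module.bijective_dual_eval (Localization.AtPrime p.asIdeal)
      (LocalizedModule p.asIdeal.primeCompl L)
  have hDD : 1 ≤ idealDepth J (Module.Dual A (Module.Dual A L)) :=
    one_le_idealDepth_hom J (Module.Dual A L) hA
  rw [one_le_idealDepth_iff] at hDD
  refine Groth.Agent.Lead.Hartogs.bijective_of_depth (Module.Dual.eval A L)
    (fun i : J => (i : A)) ?_ ?_ ?_ ?_
  · -- E1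
    intro g i
    let I₀ : Ideal A := (LinearMap.range (Module.Dual.eval A L)).colon {g}
    have hrad : J ≤ I₀.radical := by
      rw [Ideal.radical_eq_sInf]
      refine le_sInf ?_
      rintro p ⟨hIp, hp⟩
      by_contra hJp
      obtain ⟨s, hs⟩ := exists_smul_mem_range_eval p.primeCompl L (hrefl ⟨p, hp⟩ hJp).2 g
      apply s.2
      apply hIp
      rw [Submodule.mem_colon_singleton]
      exact hs
    obtain ⟨n, hn⟩ := hrad i.2
    rw [Submodule.mem_colon_singleton] at hn
    obtain ⟨x, hx⟩ := hn
    exact ⟨n, x, hx.symm⟩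
  · -- E2
    intro m i hm
    obtain ⟨n, hn⟩ := exists_pow_smul_eq_zero J m (fun p hp hJp => by
      obtain ⟨s, hs⟩ := exists_smul_eq_zero_of_eval_eq_zero p.primeCompl L
        (hrefl ⟨p, hp⟩ hJp).1 m hm
      exact ⟨s, s.2, hs⟩)
    exact ⟨n, hn _ (Ideal.pow_mem_pow i.2 n)⟩
  · -- E3
    intro g hg
    obtain ⟨n, hn⟩ := exists_pow_smul_eq_zero J g (fun p hp hJp => by
      obtain ⟨i, hiJ, hip⟩ := SetLike.not_le_iff_exists.mp hJp
      obtain ⟨n, hn⟩ := hg ⟨i, hiJ⟩
      exact ⟨i ^ n, fun h => hip (hp.mem_of_pow_mem n h), hn⟩)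
    exact eq_zero_of_pow_smul J hDD n g hn
  · -- depth
    intro p hp hJp
    have hJp' : J ≤ p := fun i hi => hJp ⟨i, hi⟩
    exact le_trans hL (idealDepth_le_depth_localizedModule J p hJp' L)

/-- the dual of a finite module over an `(S_k)` ring is `(S_k)`, `k = 1, 2` -/
theorem hasSk_dual (N : Type u) [AddCommGroup N] [Module A N] [Module.Finite A N] (k : ℕ)
    (hk : k = 1 ∨ k = 2) (hA : HasSk k A A) : HasSk k A (Module.Dual A N) := by
  intro p hp
  have hAp := hA p
  rw [supportDim_localizedModule_self, depth_localizedModule_self] at hAp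
  have hdim : Module.supportDim (Localization.AtPrime p)
      (LocalizedModule p.primeCompl (Module.Dual A N)) ≤ ((p.height : ℕ∞) : WithBot ℕ∞) :=
    (Module.supportDim_le_ringKrullDim _ _).trans_eq
      (IsLocalization.AtPrime.ringKrullDim_eq_height p (Localization.AtPrime p))
  let e : LocalizedModule p.primeCompl (Module.Dual A N) ≃ₗ[Localization.AtPrime p]
      Module.Dual (Localization.AtPrime p) (LocalizedModule p.primeCompl N) :=
    (IsLocalizedModule.linearEquiv p.primeCompl
      (LocalizedModule.mkLinearMap p.primeCompl (Module.Dual A N))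
      (D p.primeCompl N)).extendScalarsOfIsLocalization p.primeCompl (Localization.AtPrime p)
  rw [depth_congr e]
  haveI : Module.Finite (Localization.AtPrime p) (LocalizedModule p.primeCompl N) :=
    Module.Finite.of_isLocalizedModule p.primeCompl (LocalizedModule.mkLinearMap p.primeCompl N)
  have key := min_le_of_hom_depth k hk
    (LocCoh.depth (Localization.AtPrime p) (Localization.AtPrime p))
    (LocCoh.depth (Localization.AtPrime p)
      (Module.Dual (Localization.AtPrime p) (LocalizedModule p.primeCompl N)))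
    (one_le_idealDepth_hom _ _) (two_le_idealDepth_hom _ _)
  refine le_trans ?_ (WithBot.coe_le_coe.2 key)
  rw [WithBot.coe_min]
  refine le_min ?_ ?_
  · exact (min_le_left _ _).trans (le_of_eq (WithBot.coe_natCast k).symm)
  · refine le_trans ?_ hAp
    exact min_le_min le_rfl hdim

end

end Groth.Agent.Helper8.Refl2
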