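import Groth.Agent.Lib.Helper8.ExtBC1
import Groth.Agent.Lib.Lead.Depth16

/-!
# Reflexive modules with `End = S` over one-dimensional Noetherian rings are invertible (helper8)
-/

set_option autoImplicit false
universe u

namespace Groth.Agent.Helper8.ReflRank1

open CategoryTheory Abelian TensorProduct Groth.Agent.Helper8 Groth.Agent.Helper8.LC
  Groth.Agent.Helper8.ExtBC

section Trace

variable (S : Type u) [CommRing S] (M : Type u) [AddCommGroup M] [Module S M]

/-- the trace ideal of `M` -/
def traceIdeal : Ideal S := LinearMap.range (contractLeft S M)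

variable {S M}

theorem dual_apply_mem_traceIdeal (φ : Module.Dual S M) (m : M) : φ m ∈ traceIdeal S M :=
  ⟨φ ⊗ₜ m, contractLeft_apply φ m⟩

theorem traceIdeal_le {P : Ideal S} (h : ∀ (φ : Module.Dual S M) (m : M), φ m ∈ P) :
    traceIdeal S M ≤ P := by
  rintro _ ⟨x, rfl⟩
  induction x using TensorProduct.induction_on with
  | zero => rw [map_zero]; exact P.zero_mem
  | tmul φ m => rw [contractLeft_apply]; exact h φ m
  | add x y hx hy => rw [map_add]; exact P.add_mem hx hy

theorem eq_zero_of_forall_mul_traceIdeal [Module.IsReflexive S M]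
    (hinj : Function.Injective (algebraMap S (Module.End S M))) (s : S)
    (h : ∀ t ∈ traceIdeal S M, s * t = 0) : s = 0 := by
  apply hinj
  rw [map_zero]
  ext m
  rw [Module.algebraMap_end_apply, LinearMap.zero_apply]
  apply (Module.bijective_dual_eval S M).injective
  rw [map_zero]
  ext φ
  rw [Module.Dual.eval_apply, LinearMap.zero_apply, map_smul, smul_eq_mul]
  exact h _ (dual_apply_mem_traceIdeal φ m)

theorem exists_eq_mul_of_linearMap [Module.IsReflexive S M]
    (hsurj : Function.Surjective (algebraMap S (Module.End S M)))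
    (g : traceIdeal S M →ₗ[S] S) : ∃ s : S, ∀ t : traceIdeal S M, g t = s * (t : S) := by
  set G : Module.Dual S M ⊗[S] M →ₗ[S] S := g ∘ₗ (contractLeft S M).rangeRestrict with hG
  set f : M →ₗ[S] Module.Dual S (Module.Dual S M) := (TensorProduct.curry G).flip with hf
  obtain ⟨s, hs⟩ := hsurj ((Module.evalEquiv S M).symm.toLinearMap ∘ₗ f)
  refine ⟨s, ?_⟩
  have h1 : ∀ (φ : Module.Dual S M) (m : M), G (φ ⊗ₜ m) = s * φ m := by
    intro φ m
    have h2 := LinearMap.congr_fun hs m
    rw [Module.algebraMap_end_apply, LinearMap.comp_apply, LinearEquiv.coe_coe, eq_comm,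
      LinearEquiv.symm_apply_eq] at h2
    have h3 := LinearMap.congr_fun h2 φ
    rw [Module.evalEquiv_apply, Module.Dual.eval_apply, map_smul, smul_eq_mul] at h3
    rw [← h3]
    rfl
  have h4 : G = s • contractLeft S M := by
    apply TensorProduct.ext'
    intro φ m
    rw [h1, LinearMap.smul_apply, contractLeft_apply, smul_eq_mul]
  rintro ⟨_, x, rfl⟩
  have h5 := LinearMap.congr_fun h4 x
  rw [LinearMap.smul_apply, smul_eq_mul] at h5
  rw [← h5]
  rfl

theorem traceIdeal_eq_top [IsNoetherianRing S] (hdim : ringKrullDim S ≤ 1)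
    [Module.IsReflexive S M]
    (hbij : Function.Bijective (algebraMap S (Module.End S M))) : traceIdeal S M = ⊤ := by
  by_contra hne
  have h2 : ((2 : ℕ) : ℕ∞) ≤ LocCoh.idealDepth (traceIdeal S M) S := by
    rw [Groth.Agent.Lead.Depth.le_idealDepth_iff_ext']
    intro i hi
    interval_cases i
    · refine ⟨fun a b => ?_⟩
      apply (ext0Equiv (S ⧸ traceIdeal S M) S).injective
      have key : ∀ h : (S ⧸ traceIdeal S M) →ₗ[S] S, h = 0 := by
        intro h
        have h1 : h 1 = 0 := by
          apply eq_zero_of_forall_mul_traceIdeal hbij.injective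
          intro t ht
          rw [mul_comm, ← smul_eq_mul, ← map_smul]
          have h0 : t • (1 : S ⧸ traceIdeal S M) = 0 := by
            rw [Algebra.smul_def, mul_one]
            exact Ideal.Quotient.eq_zero_iff_mem.mpr ht
          rw [h0, map_zero]
        apply LinearMap.ext
        intro x
        obtain ⟨r, rfl⟩ := Ideal.Quotient.mk_surjective x
        have h0 : Ideal.Quotient.mk (traceIdeal S M) r = r • (1 : S ⧸ traceIdeal S M) := by
          rw [Algebra.smul_def, mul_one]
          rfl
        rw [h0, map_smul, h1, smul_zero, LinearMap.zero_apply]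
      rw [key (ext0Equiv (S ⧸ traceIdeal S M) S a), key (ext0Equiv (S ⧸ traceIdeal S M) S b)]
    · refine ⟨fun a b => ?_⟩
      have key : ∀ c : Ext (ModuleCat.of S (S ⧸ traceIdeal S M)) (ModuleCat.of S S) 1,
          c = 0 := by
        intro c
        obtain ⟨φ, rfl⟩ := bdry_surjective (isSES_subtype_mkQ (traceIdeal S M)) S c
        obtain ⟨s, hs⟩ := exists_eq_mul_of_linearMap hbij.surjective φ
        refine (bdry_exact (isSES_subtype_mkQ (traceIdeal S M)) S φ).mpr
          ⟨s • LinearMap.id, ?_⟩
        apply LinearMap.ext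
        intro t
        rw [hs t]
        rfl
      rw [key a, key b]
  have h3 := Groth.Agent.Lead.Depth.idealDepth_self_le_height (traceIdeal S M)
  have h4 := Ideal.height_le_ringKrullDim_of_ne_top hne
  have h5 : (((2 : ℕ) : ℕ∞) : WithBot ℕ∞) ≤ ((1 : ℕ∞) : WithBot ℕ∞) :=
    le_trans (WithBot.coe_le_coe.mpr (h2.trans h3)) (h4.trans hdim)
  rw [WithBot.coe_le_coe] at h5
  exact absurd h5 (by norm_num)

end Trace

section Local

variable {S : Type u} [CommRing S] {M : Type u} [AddCommGroup M] [Module S M]

theorem exists_dual_apply_notMem (htop : traceIdeal S M = ⊤) (P : Ideal S) [hP : P.IsPrime] :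
    ∃ (φ : Module.Dual S M) (m : M), φ m ∉ P := by
  by_contra hcon
  push Not at hcon
  have h1 := traceIdeal_le hcon
  rw [htop, top_le_iff] at h1
  exact hP.ne_top h1

/-- the local isomorphism -/
theorem nonempty_equiv_of_bijective (htop : traceIdeal S M = ⊤)
    (hsurj : Function.Surjective (algebraMap S (Module.End S M)))
    (P : Ideal S) [hP : P.IsPrime] :
    Nonempty (LocalizedModule P.primeCompl M ≃ₗ[Localization.AtPrime P]
      Localization.AtPrime P) := by
  obtain ⟨φ, m₀, hu⟩ := exists_dual_apply_notMem htop P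
  set L : Localization.AtPrime P →ₗ[Localization.AtPrime P] LocalizedModule P.primeCompl M :=
    LinearMap.toSpanSingleton (Localization.AtPrime P) (LocalizedModule P.primeCompl M)
      (LocalizedModule.mk m₀ 1) with hL
  have hinj : Function.Injective L := by
    rw [injective_iff_map_eq_zero]
    intro a ha
    obtain ⟨r, s, rfl⟩ := IsLocalization.exists_mk'_eq P.primeCompl a
    rw [hL, LinearMap.toSpanSingleton_apply] at ha
    have h1 : algebraMap S (Localization.AtPrime P) r •
        (LocalizedModule.mk m₀ 1 : LocalizedModule P.primeCompl M) = 0 := by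
      rw [← IsLocalization.mk'_spec' (Localization.AtPrime P) r s, mul_smul, ha, smul_zero]
    rw [algebraMap_smul, LocalizedModule.smul'_mk, ← LocalizedModule.mkLinearMap_apply,
      IsLocalizedModule.eq_zero_iff P.primeCompl] at h1
    obtain ⟨v, hv⟩ := h1
    rw [IsLocalization.mk'_eq_zero_iff]
    refine ⟨v * ⟨φ m₀, hu⟩, ?_⟩
    have h2 := congrArg φ hv
    rw [map_zero, Submonoid.smul_def, map_smul, map_smul, smul_eq_mul, smul_eq_mul] at h2
    rw [Submonoid.coe_mul, mul_assoc, mul_comm (φ m₀) r]
    exact h2
  have hsur : Function.Surjective L := by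
    intro y
    induction y using LocalizedModule.induction_on with
    | h m s =>
      obtain ⟨c, hc⟩ := hsurj (φ.smulRight m)
      have h1 : c • m₀ = φ m₀ • m := by
        have := LinearMap.congr_fun hc m₀
        rw [Module.algebraMap_end_apply, LinearMap.smulRight_apply] at this
        exact this
      refine ⟨Localization.mk c (⟨φ m₀, hu⟩ * s), ?_⟩
      rw [hL, LinearMap.toSpanSingleton_apply, LocalizedModule.mk_smul_mk, h1, mul_one]
      exact LocalizedModule.mk_cancel_common_left ⟨φ m₀, hu⟩ s m
  exact ⟨(LinearEquiv.ofBijective L ⟨hinj, hsur⟩).symm⟩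

end Local

section Converse

variable {S : Type u} [CommRing S] {M : Type u} [AddCommGroup M] [Module S M]

theorem injective_of_locally_free
    (h : ∀ (P : Ideal S) (_ : P.IsPrime),
        Nonempty (LocalizedModule P.primeCompl M ≃ₗ[Localization.AtPrime P]
          Localization.AtPrime P)) :
    Function.Injective (algebraMap S (Module.End S M)) := by
  rw [injective_iff_map_eq_zero]
  intro s hs
  have hs' : ∀ m : M, s • m = 0 := fun m => by
    have := LinearMap.congr_fun hs m
    rwa [Module.algebraMap_end_apply] at this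
  set J : Ideal S := LinearMap.ker (LinearMap.toSpanSingleton S S s) with hJ
  by_cases hJt : J = ⊤
  · have h1 : (1 : S) ∈ J := by rw [hJt]; trivial
    rw [hJ, LinearMap.mem_ker, LinearMap.toSpanSingleton_apply, one_smul] at h1
    exact h1
  · exfalso
    obtain ⟨P, hPmax, hJP⟩ := Ideal.exists_le_maximal J hJt
    obtain ⟨e⟩ := h P hPmax.isPrime
    have h1 : algebraMap S (Localization.AtPrime P) s = 0 := by
      have h2 : algebraMap S (Localization.AtPrime P) s • e.symm 1 = 0 := by
        induction e.symm 1 using LocalizedModule.induction_on with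
        | h m t =>
          rw [algebraMap_smul, LocalizedModule.smul'_mk, hs', LocalizedModule.zero_mk]
      have h3 := congrArg e h2
      rw [map_smul, LinearEquiv.apply_symm_apply, map_zero, smul_eq_mul, mul_one] at h3
      exact h3
    rw [IsLocalization.map_eq_zero_iff P.primeCompl] at h1
    obtain ⟨v, hv⟩ := h1
    have h4 : (v : S) ∈ J := by
      rw [hJ, LinearMap.mem_ker, LinearMap.toSpanSingleton_apply, smul_eq_mul]
      exact hv
    exact v.2 (hJP h4)

theorem surjective_of_locally_free [Module.Finite S M]
    (h : ∀ (P : Ideal S) (_ : P.IsPrime),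
        Nonempty (LocalizedModule P.primeCompl M ≃ₗ[Localization.AtPrime P]
          Localization.AtPrime P)) :
    Function.Surjective (algebraMap S (Module.End S M)) := by
  intro f
  set J : Ideal S :=
    { carrier := {a | ∃ c : S, a • f = c • (1 : Module.End S M)}
      add_mem' := by
        rintro a b ⟨c, hc⟩ ⟨d, hd⟩
        exact ⟨c + d, by rw [add_smul, add_smul, hc, hd]⟩
      zero_mem' := ⟨0, by rw [zero_smul, zero_smul]⟩
      smul_mem' := by
        rintro r a ⟨c, hc⟩
        exact ⟨r * c, by rw [smul_eq_mul, mul_smul, mul_smul, hc]⟩ } with hJ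
  by_cases hJt : J = ⊤
  · have h1 : (1 : S) ∈ J := by rw [hJt]; trivial
    obtain ⟨c, hc⟩ := h1
    rw [one_smul] at hc
    exact ⟨c, by rw [hc, Algebra.algebraMap_eq_smul_one]⟩
  · exfalso
    obtain ⟨P, hPmax, hJP⟩ := Ideal.exists_le_maximal J hJt
    have hPp := hPmax.isPrime
    obtain ⟨e⟩ := h P hPmax.isPrime
    set fP := LocalizedModule.map P.primeCompl f with hfP
    set y₀ := e.symm 1 with hy₀
    have hy : ∀ y : LocalizedModule P.primeCompl M, y = e y • y₀ := by
      intro y
      apply e.injective
      rw [map_smul, hy₀, LinearEquiv.apply_symm_apply, smul_eq_mul, mul_one]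
    have hfb : ∀ y : LocalizedModule P.primeCompl M, fP y = e (fP y₀) • y := by
      intro y
      conv_lhs => rw [hy y, map_smul, hy (fP y₀)]
      rw [smul_comm, ← hy y]
    obtain ⟨a, s, has⟩ := IsLocalization.exists_mk'_eq P.primeCompl (e (fP y₀))
    have hcomp : (LocalizedModule.mkLinearMap P.primeCompl M) ∘ₗ ((s : S) • f) =
        (LocalizedModule.mkLinearMap P.primeCompl M) ∘ₗ (a • (LinearMap.id : M →ₗ[S] M)) := by
      apply LinearMap.ext
      intro m
      rw [LinearMap.comp_apply, LinearMap.comp_apply, LinearMap.smul_apply, LinearMap.smul_apply,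
        LinearMap.id_apply, LocalizedModule.mkLinearMap_apply, LocalizedModule.mkLinearMap_apply]
      have h1 : (LocalizedModule.mk (f m) 1 : LocalizedModule P.primeCompl M) =
          e (fP y₀) • LocalizedModule.mk m 1 := by
        rw [← hfb, hfP, LocalizedModule.map_mk]
      calc (LocalizedModule.mk ((s : S) • f m) 1 : LocalizedModule P.primeCompl M)
          = (s : S) • LocalizedModule.mk (f m) 1 := (LocalizedModule.smul'_mk _ _ _).symm
        _ = algebraMap S (Localization.AtPrime P) s • LocalizedModule.mk (f m) 1 :=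
            (algebraMap_smul _ _ _).symm
        _ = (algebraMap S (Localization.AtPrime P) s * e (fP y₀)) • LocalizedModule.mk m 1 := by
            rw [h1, mul_smul]
        _ = algebraMap S (Localization.AtPrime P) a • LocalizedModule.mk m 1 := by
            rw [← has, IsLocalization.mk'_spec']
        _ = a • LocalizedModule.mk m 1 := algebraMap_smul _ _ _
        _ = LocalizedModule.mk (a • m) 1 := LocalizedModule.smul'_mk _ _ _
    obtain ⟨v, hv⟩ := Module.Finite.exists_smul_of_comp_eq_of_isLocalizedModule P.primeCompl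
      (LocalizedModule.mkLinearMap P.primeCompl M) _ _ hcomp
    have h5 : (v : S) * (s : S) ∈ J := by
      refine ⟨(v : S) * a, ?_⟩
      rw [mul_smul, mul_smul]
      have h6 : (a • (LinearMap.id : M →ₗ[S] M)) = a • (1 : Module.End S M) := rfl
      rw [← h6]
      exact hv
    have h7 := hJP h5
    rcases hPp.mem_or_mem h7 with h8 | h8
    · exact v.2 h8
    · exact s.2 h8

end Converse

end Groth.Agent.Helper8.ReflRank1
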