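import Groth.Agent.Lib.Helper11.TorAmp5
import Groth.Agent.Lib.Helper11.TorAmp3

/-!
# Tor amplitude from vanishing against cyclic modules (helper8)

A bounded complex of flat modules `G` with `H^i(G) = 0` and `H^i(G ⊗ R/I) = 0` for all ideals `I` and
all `i ∉ [a, b]` has tor amplitude in `[a, b]`.
-/

set_option autoImplicit false
universe u

open CategoryTheory Limits DerivedCategory Pretriangulated MonoidalCategory TensorProduct Function

attribute [local instance] HasDerivedCategory.standard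

namespace Groth.Agent.Helper8.RelDz

open Groth.Agent.Helper11.DC Groth.Agent.Helper11.TA

variable {R : Type u} [CommRing R]

/-- flatness of a cokernel, tested against cyclic modules only -/
theorem flat_coker_of_exact_cyc {X₀ X₁ X₂ : Type u} [AddCommGroup X₀] [AddCommGroup X₁]
    [AddCommGroup X₂] [Module R X₀] [Module R X₁] [Module R X₂] [Module.Flat R X₂]
    (d₀ : X₀ →ₗ[R] X₁) (d₁ : X₁ →ₗ[R] X₂) (hdd : d₁ ∘ₗ d₀ = 0)
    (h : ∀ I : Ideal R,
      LinearMap.ker (d₁.rTensor (R ⧸ I)) ≤ LinearMap.range (d₀.rTensor (R ⧸ I))) :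
    Module.Flat R (X₂ ⧸ LinearMap.range d₁) := by
  rw [Module.Flat.iff_lTensor_injective']
  intro I
  let j : I →ₗ[R] R := I.subtype
  have hj : Injective j := I.injective_subtype
  let q : X₂ →ₗ[R] (X₂ ⧸ LinearMap.range d₁) := (LinearMap.range d₁).mkQ
  have hq : Surjective q := Submodule.mkQ_surjective _
  have hdq : Exact d₁ q := LinearMap.exact_map_mkQ_range d₁
  let r : R →ₗ[R] (R ⧸ I) := I.mkQ
  have hr : Surjective r := Submodule.mkQ_surjective _
  have hjr : Exact j r := LinearMap.exact_subtype_mkQ I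
  show Injective (j.lTensor (X₂ ⧸ LinearMap.range d₁))
  rw [injective_iff_map_eq_zero]
  intro x hx
  obtain ⟨y, rfl⟩ := LinearMap.rTensor_surjective I hq x
  have hcomm1 : (j.lTensor (X₂ ⧸ LinearMap.range d₁)) ((q.rTensor I) y) =
      (q.rTensor R) ((j.lTensor X₂) y) := by
    rw [← LinearMap.comp_apply, ← LinearMap.comp_apply, LinearMap.lTensor_comp_rTensor,
      LinearMap.rTensor_comp_lTensor]
  rw [hcomm1] at hx
  obtain ⟨z, hz⟩ := ((rTensor_exact R hdq hq) _).mp hx
  have hz' : (d₁.rTensor (R ⧸ I)) ((r.lTensor X₁) z) = 0 := by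
    have h1 : (d₁.rTensor (R ⧸ I)) ((r.lTensor X₁) z) =
        (r.lTensor X₂) ((d₁.rTensor R) z) := by
      rw [← LinearMap.comp_apply, ← LinearMap.comp_apply, LinearMap.rTensor_comp_lTensor,
        LinearMap.lTensor_comp_rTensor]
    rw [h1, hz, ← LinearMap.comp_apply, ← LinearMap.lTensor_comp,
      hjr.linearMap_comp_eq_zero, LinearMap.lTensor_zero, LinearMap.zero_apply]
  obtain ⟨wbar, hwbar⟩ := h I (LinearMap.mem_ker.mpr hz')
  obtain ⟨w, rfl⟩ := LinearMap.lTensor_surjective X₀ hr wbar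
  have hz2 : (r.lTensor X₁) (z - (d₀.rTensor R) w) = 0 := by
    have h1 : (r.lTensor X₁) ((d₀.rTensor R) w) =
        (d₀.rTensor (R ⧸ I)) ((r.lTensor X₀) w) := by
      rw [← LinearMap.comp_apply, ← LinearMap.comp_apply, LinearMap.lTensor_comp_rTensor,
        LinearMap.rTensor_comp_lTensor]
    rw [map_sub, ← hwbar, h1, sub_self]
  obtain ⟨z', hz'eq⟩ := ((lTensor_exact X₁ hjr hr) _).mp hz2
  have hy : y = (d₁.rTensor I) z' := by
    apply Module.Flat.lTensor_preserves_injective_linearMap (M := X₂) j hj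
    have h1 : (j.lTensor X₂) ((d₁.rTensor I) z') = (d₁.rTensor R) ((j.lTensor X₁) z') := by
      rw [← LinearMap.comp_apply, ← LinearMap.comp_apply, LinearMap.lTensor_comp_rTensor,
        LinearMap.rTensor_comp_lTensor]
    rw [h1, hz'eq, map_sub, hz, ← LinearMap.comp_apply, ← LinearMap.rTensor_comp, hdd,
      LinearMap.rTensor_zero, LinearMap.zero_apply, sub_zero]
  rw [hy, ← LinearMap.comp_apply, ← LinearMap.rTensor_comp, hdq.linearMap_comp_eq_zero,
    LinearMap.rTensor_zero, LinearMap.zero_apply]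

/-- vanishing of the cohomology of `F ⊗ R/I` outside `[a, b]`, for all ideals `I` -/
def CycVanCx (a b : ℤ) (F : DRing.Cx R) : Prop :=
  ∀ (I : Ideal R) (i : ℤ), (i < a ∨ b < i) →
    IsZero ((homologyFunctor (ModuleCat.{u} R) i).obj
      (Q.obj ((tens (ModuleCat.of R (R ⧸ I))).obj F)))

theorem cycVanCx_iff (a b : ℤ) (P F : DRing.Cx R) (cP cF : ℤ) (hP : DRing.VanishesAbove P cP)
    (hF : DRing.VanishesAbove F cF) (hPp : ∀ i, Module.Projective R (P.X i))
    (hFf : ∀ i, Module.Flat R (F.X i)) (e : Q.obj P ≅ Q.obj F) :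
    CycVanCx a b P ↔ CycVanCx a b F := by
  constructor
  · intro h I i hi
    obtain ⟨e'⟩ := nonempty_iso_tens P F cP cF hP hF hPp hFf e (ModuleCat.of R (R ⧸ I))
    exact (h I i hi).of_iso ((homologyFunctor (ModuleCat.{u} R) i).mapIso e'.symm)
  · intro h I i hi
    obtain ⟨e'⟩ := nonempty_iso_tens P F cP cF hP hF hPp hFf e (ModuleCat.of R (R ⧸ I))
    exact (h I i hi).of_iso ((homologyFunctor (ModuleCat.{u} R) i).mapIso e')

theorem flat_coker_of_cycVanCx {a b : ℤ} (F : DRing.Cx R) (hFf : ∀ i, Module.Flat R (F.X i))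
    (h : CycVanCx a b F) : Module.Flat R (F.X a ⧸ LinearMap.range (F.d (a - 1) a).hom) := by
  haveI := hFf a
  refine flat_coker_of_exact_cyc (F.d (a - 2) (a - 1)).hom (F.d (a - 1) a).hom ?_ ?_
  · ext x
    exact congr($(F.d_comp_d (a - 2) (a - 1) a) x)
  · intro I
    have hex := exactAt_of_homology_isZero ((tens (ModuleCat.of R (R ⧸ I))).obj F) (a - 1)
      (h I (a - 1) (Or.inl (by omega)))
    have := range_eq_ker_of_exactAt ((tens (ModuleCat.of R (R ⧸ I))).obj F) (a - 2) (a - 1) a
      (by omega) (by omega) hex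
    rw [tens_d_hom, tens_d_hom] at this
    exact this.ge

/-- tor amplitude from vanishing against cyclic modules, for an object with a bounded above
projective representative -/
theorem hasTorAmplitudeIn_of_cycVan_proj {a b : ℤ} {K : Dual.D R} (P : DRing.Cx R) (c : ℤ)
    (hc : DRing.VanishesAbove P c) (hp : ∀ i, Module.Projective R (P.X i)) (e : Q.obj P ≅ K)
    (hH0 : ∀ i : ℤ, (i < a ∨ b < i) →
      IsZero ((homologyFunctor (ModuleCat.{u} R) i).obj (Q.obj P)))
    (hv : CycVanCx a b P) :
    DRing.HasTorAmplitudeIn R a b K := by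
  have hH : ∀ i : ℤ, b < i → IsZero ((homologyFunctor (ModuleCat.{u} R) i).obj (Q.obj P)) :=
    fun i hi => hH0 i (Or.inr hi)
  obtain ⟨P', π, hπ, hP'z, -⟩ := trim_to (c - b).toNat P b c (by omega) hc hp hH
  have hP'p : ∀ i, Module.Projective R (P'.X i) := fun i => hπ.projective i (hp i)
  have hP'f : ∀ i, Module.Flat R (P'.X i) := fun i => by
    haveI := hP'p i
    infer_instance
  haveI : IsIso (Q.map π) := hπ.iso
  have e' : Q.obj P ≅ Q.obj P' := asIso (Q.map π)
  have hv' : CycVanCx a b P' := (cycVanCx_iff a b P P' c b hc hP'z hp hP'f e').mp hv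
  have hH0' : ∀ i : ℤ, (i < a ∨ b < i) →
      IsZero ((homologyFunctor (ModuleCat.{u} R) i).obj (Q.obj P')) :=
    fun i hi => (hH0 i hi).of_iso ((homologyFunctor (ModuleCat.{u} R) i).mapIso e'.symm)
  have hGE : P'.IsGE a := by
    rw [CochainComplex.isGE_iff]
    intro i hi
    exact exactAt_of_homology_isZero P' i (hH0' i (Or.inl hi))
  haveI : QuasiIso (CochainComplex.πTruncGE P' a) :=
    (CochainComplex.quasiIso_πTruncGE_iff P' a).mpr hGE
  haveI : IsIso (Q.map (CochainComplex.πTruncGE P' a)) := by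
    rw [isIso_Q_map_iff_quasiIso]
    infer_instance
  have hquot : Module.Flat R (P'.X a ⧸ LinearMap.range (P'.d (a - 1) a).hom) :=
    flat_coker_of_cycVanCx P' hP'f hv'
  refine ⟨CochainComplex.truncGE P' a, ?_, ?_,
    ⟨(asIso (Q.map (CochainComplex.πTruncGE P' a))).symm ≪≫ e'.symm ≪≫ e⟩⟩
  · intro i hi
    by_cases hia : i < a
    · exact CochainComplex.isZero_of_isStrictlyGE _ a i hia
    · have hbi : b < i := by omega
      by_cases hia' : a < i
      · exact IsZero.of_iso (hP'z i hbi) (CochainComplex.truncGEXIso P' a i hia')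
      · obtain rfl : i = a := by omega
        refine IsZero.of_iso ?_ (truncGEXIsoQuot P' i)
        haveI : Subsingleton (P'.X i) := ModuleCat.subsingleton_of_isZero (hP'z i hbi)
        haveI : Subsingleton (P'.X i ⧸ LinearMap.range (P'.d (i - 1) i).hom) :=
          Quotient.instSubsingletonQuotient _
        exact ModuleCat.isZero_of_subsingleton _
  · intro i
    by_cases hia : i < a
    · have hz : IsZero ((CochainComplex.truncGE P' a).X i) :=
        CochainComplex.isZero_of_isStrictlyGE _ a i hia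
      haveI : Subsingleton ((CochainComplex.truncGE P' a).X i) :=
        ModuleCat.subsingleton_of_isZero hz
      infer_instance
    · by_cases hia' : a < i
      · haveI := hP'f i
        exact Module.Flat.of_linearEquiv (CochainComplex.truncGEXIso P' a i hia').toLinearEquiv
      · obtain rfl : i = a := by omega
        haveI := hquot
        exact Module.Flat.of_linearEquiv (truncGEXIsoQuot P' i).toLinearEquiv

/-- tor amplitude from vanishing against cyclic modules, for a bounded complex of flat modules -/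
theorem hasTorAmplitudeIn_of_cycVan {a b : ℤ} {K : Dual.D R} (G : DRing.Cx R) (a' b' : ℤ)
    (hG : DRing.VanishesOutside G a' b') (hGf : ∀ i, Module.Flat R (G.X i)) (e : Q.obj G ≅ K)
    (hH0 : ∀ i : ℤ, (i < a ∨ b < i) →
      IsZero ((homologyFunctor (ModuleCat.{u} R) i).obj K))
    (hv : CycVanCx a b G) :
    DRing.HasTorAmplitudeIn R a b K := by
  obtain ⟨P, c, hc, hp, ⟨e0⟩⟩ := hasProjRes_of_bounded G a' b' hG
  have hGa : DRing.VanishesAbove G b' := fun i hi => hG i (Or.inr hi)
  refine hasTorAmplitudeIn_of_cycVan_proj P c hc hp (e0 ≪≫ e) (fun i hi => ?_)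
    ((cycVanCx_iff a b P G c b' hc hGa hp hGf e0).mpr hv)
  exact (hH0 i hi).of_iso ((homologyFunctor (ModuleCat.{u} R) i).mapIso (e0 ≪≫ e))

end Groth.Agent.Helper8.RelDz
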