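import Groth.Agent.S1785
import Groth.Agent.Lib.Helper8.RelDz2
import Groth.Agent.Lib.Helper8.ShG4
import Groth.Agent.Lib.Helper16.Sch.FibCodepth1

/-!
# Global vanishing of the cohomology of `ω_{A/R}` outside `[-d, 0]` for `R → A` flat of finite type
with fibres of dimension `≤ d` (helper8)
-/

set_option autoImplicit false
universe u

open CategoryTheory Limits DerivedCategory TensorProduct

attribute [local instance] HasDerivedCategory.standard

namespace Groth.Agent.Helper8.RelDz

open Dual2

variable (R A : Type u) [CommRing R] [CommRing A] [IsNoetherianRing R] [IsNoetherianRing A]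
  [Algebra R A] (n : ℕ) (ψ : MvPolynomial (Fin n) R →ₐ[R] A) (hψ : Function.Surjective ψ)
  [DRing.HasLBaseChange (algebraMap R (MvPolynomial (Fin n) R))]
  (Rψ : Dual.D (MvPolynomial (Fin n) R) ⥤ Dual.D A) (adj : DRing.restrictD ψ.toRingHom ⊣ Rψ)

include hψ adj in
/-- upper bound: `H^i(ω_{A/R}) = 0` for `i > 0` when `A` is flat over `R` -/
theorem subsingleton_HD_shriekVia_of_pos [Module.Flat R A] (i : ℤ) (hi : 0 < i) :
    Subsingleton (Dual.HD A (Dual2.shriekVia n Rψ (Dual.inD R R)) i) := by
  letI algPA : Algebra (MvPolynomial (Fin n) R) A := ψ.toRingHom.toAlgebra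
  haveI t1 : IsScalarTower R (MvPolynomial (Fin n) R) A :=
    IsScalarTower.of_algebraMap_eq (fun r => (ψ.commutes r).symm)
  haveI : Module.Finite (MvPolynomial (Fin n) R) A :=
    Module.Finite.of_surjective (Algebra.linearMap (MvPolynomial (Fin n) R) A) hψ
  obtain ⟨ι⟩ := Groth.Agent.Helper8.ShG.nonempty_LBaseChange_unit_iso R (MvPolynomial (Fin n) R)
  have hpd := pdLT_of_flat R n A
  have hsub := subsingleton_HD_rightAdj_of_pdLT Rψ adj _ ι (n + 1) hpd ((n : ℤ) + i)
    (by push_cast; omega)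
  let σ := Groth.Agent.Helper8.RFin.sigma'
    (Rψ.obj ((DRing.LBaseChange (algebraMap R (MvPolynomial (Fin n) R))).obj (Dual.inD R R)))
    (n : ℤ) i ((n : ℤ) + i) rfl
  exact (σ.toLinearEquiv (R := A)).toEquiv.subsingleton

include hψ adj in
/-- lower bound: `H^i(ω_{A/R}) = 0` for `i < -d` when all fibres have local dimension `≤ d` -/
theorem subsingleton_HD_shriekVia_of_lt (d : ℕ)
    (hd : ∀ q : PrimeSpectrum A, FlatMor.fibreDimAt
      (AlgebraicGeometry.Spec.map (CommRingCat.ofHom (algebraMap R A))) q ≤ (d : WithBot ℕ∞))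
    (i : ℤ) (hi : i < -(d : ℤ)) :
    Subsingleton (Dual.HD A (Dual2.shriekVia n Rψ (Dual.inD R R)) i) := by
  haveI : Algebra.FiniteType R A :=
    Algebra.FiniteType.of_surjective ψ hψ
  refine Module.subsingleton_of_localization_maximal (R := A)
    (M := Dual.HD A (Dual2.shriekVia n Rψ (Dual.inD R R)) i)
    (fun (P : Ideal A) _ =>
      LocalizedModule P.primeCompl (Dual.HD A (Dual2.shriekVia n Rψ (Dual.inD R R)) i))
    (fun (P : Ideal A) _ => LocalizedModule.mkLinearMap P.primeCompl
      (Dual.HD A (Dual2.shriekVia n Rψ (Dual.inD R R)) i)) (fun P hP => ?_)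
  by_contra hne
  rw [not_subsingleton_iff_nontrivial] at hne
  let q : PrimeSpectrum A := ⟨P, hP.isPrime⟩
  obtain ⟨d', hd'⟩ := Groth.Agent.Helper16.FibCodepth.exists_nat_fibreDimAt R A q
  have hle : d' ≤ d := by
    have := hd q
    rw [show FlatMor.fibreDimAt
      (AlgebraicGeometry.Spec.map (CommRingCat.ofHom (algebraMap R A))) q = (d' : WithBot ℕ∞) from hd'] at this
    exact_mod_cast this
  have := Groth.Agent.S1785.result R A n ψ hψ Rψ adj q d' hd' i hne
  omega

end Groth.Agent.Helper8.RelDz
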