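import Groth.Agent.Lib.Helper3.TC9
import Groth.Agent.Lib.Helper3.TB6
import Groth.Agent.Lib.Helper3.KP2

/-!
# Base change for `RHom(A, -)` along a tor independent pushout square with `A` perfect
(helper8; packaging helper3's `TrivBC` results S13549/S13563 as an isomorphism of objects)
-/

set_option autoImplicit false
universe u

namespace Groth.Agent.Helper8.ShF

open CategoryTheory

attribute [local instance] HasDerivedCategory.standard

variable (R A R' A' : Type u) [CommRing R] [CommRing A] [CommRing R'] [CommRing A']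
  [Algebra R A] [Algebra R R'] [Algebra A A'] [Algebra R' A'] [Algebra R A']
  [IsScalarTower R A A'] [IsScalarTower R R' A'] [Algebra.IsPushout R A R' A']

theorem nonempty_baseChange_rightAdj_of_perfect
    (hperf : DRing.IsPerfectModule R A)
    (htor : ∀ p : ℕ, 1 ≤ p → Subsingleton (DRing.Tor R p A R'))
    [DRing.HasLBaseChange (algebraMap R R')] [DRing.HasLBaseChange (algebraMap A A')]
    (Rφ : Dual.D R ⥤ Dual.D A) (adj : DRing.restrictD (algebraMap R A) ⊣ Rφ)
    (Rφ' : Dual.D R' ⥤ Dual.D A') (adj' : DRing.restrictD (algebraMap R' A') ⊣ Rφ')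
    (K : Dual.D R) :
    Nonempty ((DRing.LBaseChange (algebraMap A A')).obj (Rφ.obj K) ≅
      Rφ'.obj ((DRing.LBaseChange (algebraMap R R')).obj K)) := by
  have h : (algebraMap A A').comp (algebraMap R A) = (algebraMap R' A').comp (algebraMap R R') := by
    rw [← IsScalarTower.algebraMap_eq, ← IsScalarTower.algebraMap_eq]
  let adjρ := Groth.Agent.Helper3.KP.adjD (algebraMap R R')
  let adjα := Groth.Agent.Helper3.KP.adjD (algebraMap A A')
  have hc : IsIso (TrivBC.cmp adjρ adjα h (Rφ.obj K)) :=
    Groth.Agent.Helper3.TB.isIso_cmp (fun M => Groth.Agent.Helper3.TB.isIso_sqτ₀ R A R' A' M h)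
      (Groth.Agent.Helper3.TB.quasiIso_ext_π' _ _ (Groth.Agent.Helper3.TB.isZero_tor_Bm R A R' htor))
      adjρ adjα (Rφ.obj K)
  haveI := Groth.Agent.Helper3.TC.isIso_bcMap_of_perfect hperf htor adjρ adjα h Rφ adj Rφ' adj' K hc
  exact ⟨asIso (TrivBC.bcMap adjρ adjα h adj adj' K hc)⟩

end Groth.Agent.Helper8.ShF
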