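import Groth.Agent.S1807
import Groth.Agent.Lib.Helper8.RelDz3
import Groth.Agent.Lib.Helper8.ShF1
import Groth.Agent.Lib.Helper11.Shr11
import Groth.Agent.Lib.Helper11.DCRestrict
import Groth.Agent.Lib.Helper11.LDer4
import Groth.Agent.Lib.Helper11.Dev2
import Groth.Agent.Lib.Helper6.TorFlat
import Groth.Agent.Lib.Helper14.FibreDimBC

/-!
# Base change of `ω_{A/R}` to `R'` for `A` flat of finite type over `R`: vanishing of the
cohomology of `ω_{A/R} ⊗^L_R R'` outside `[-d, 0]` (helper8)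
-/

set_option autoImplicit false
universe u

open CategoryTheory Limits DerivedCategory TensorProduct AlgebraicGeometry

attribute [local instance] HasDerivedCategory.standard
attribute [local instance] Algebra.TensorProduct.rightAlgebra

namespace Groth.Agent.Helper8.RelDz

open Dual2

section Fib

variable (R A R' : Type u) [CommRing R] [CommRing A] [CommRing R'] [Algebra R A] [Algebra R R']

theorem lft_SpecMap [Algebra.FiniteType R A] :
    LocallyOfFiniteType (Spec.map (CommRingCat.ofHom (algebraMap R A))) := by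
  rw [HasRingHomProperty.Spec_iff (P := @LocallyOfFiniteType)]
  exact RingHom.finiteType_algebraMap.mpr inferInstance

theorem isPullback_tensor :
    IsPullback (Spec.map (CommRingCat.ofHom (algebraMap A (R' ⊗[R] A))))
      (Spec.map (CommRingCat.ofHom (algebraMap R' (R' ⊗[R] A))))
      (Spec.map (CommRingCat.ofHom (algebraMap R A)))
      (Spec.map (CommRingCat.ofHom (algebraMap R R'))) :=
  (isPullback_SpecMap_of_isPushout _ _ _ _ (CommRingCat.isPushout_tensorProduct R R' A)).flip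

theorem fibreDimAt_baseChange_le [Algebra.FiniteType R A] (d : ℕ)
    (hd : ∀ q : PrimeSpectrum A, FlatMor.fibreDimAt
      (Spec.map (CommRingCat.ofHom (algebraMap R A))) q ≤ (d : WithBot ℕ∞))
    (q' : PrimeSpectrum (R' ⊗[R] A)) :
    FlatMor.fibreDimAt (Spec.map (CommRingCat.ofHom (algebraMap R' (R' ⊗[R] A)))) q' ≤
      (d : WithBot ℕ∞) := by
  haveI := lft_SpecMap R A
  have h := Groth.Agent.Helper14.FibreDimBC.fibreDimAt_eq (isPullback_tensor R A R') q'
  rw [h]
  exact hd _

end Fib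

section BC

variable (R A R' : Type u) [CommRing R] [CommRing A] [CommRing R'] [IsNoetherianRing R]
  [IsNoetherianRing A] [IsNoetherianRing R'] [Algebra R A] [Algebra R R'] [Module.Flat R A]
  (n : ℕ) (ψ : MvPolynomial (Fin n) R →ₐ[R] A) (hψ : Function.Surjective ψ)
  [DRing.HasLBaseChange (algebraMap R (MvPolynomial (Fin n) R))]
  (Rψ : Dual.D (MvPolynomial (Fin n) R) ⥤ Dual.D A) (adj : DRing.restrictD ψ.toRingHom ⊣ Rψ)

include hψ adj in
/-- the cohomology of `ω_{A/R} ⊗^L_R R'` vanishes outside `[-d, 0]` -/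
theorem isZero_HD_LBaseChange_restrict (d : ℕ)
    (hd : ∀ q : PrimeSpectrum A, FlatMor.fibreDimAt
      (Spec.map (CommRingCat.ofHom (algebraMap R A))) q ≤ (d : WithBot ℕ∞))
    [DRing.HasLBaseChange (algebraMap R R')] (i : ℤ) (hi : i < -(d : ℤ) ∨ 0 < i) :
    IsZero ((homologyFunctor (ModuleCat.{u} R') i).obj
      ((DRing.LBaseChange (algebraMap R R')).obj
        ((DRing.restrictD (algebraMap R A)).obj (Dual2.shriekVia n Rψ (Dual.inD R R))))) := by
  classical
  haveI : Algebra.FiniteType R A := Algebra.FiniteType.of_surjective ψ hψ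
  haveI : DRing.HasLBaseChange (algebraMap R' (MvPolynomial (Fin n) R')) :=
    Groth.Agent.Helper3.KP.hasLeftDerivedFunctor _
  haveI : DRing.HasLBaseChange
      (Algebra.TensorProduct.includeRight : A →ₐ[R] R' ⊗[R] A).toRingHom :=
    Groth.Agent.Helper3.KP.hasLeftDerivedFunctor _
  have hψ' : Function.Surjective (Groth.Agent.Helper11.Shr.psiBC (R' := R') ψ) :=
    Groth.Agent.Helper11.Shr.psiBC_surjective ψ hψ
  haveI : IsNoetherianRing (R' ⊗[R] A) :=
    isNoetherianRing_of_surjective _ _ (Groth.Agent.Helper11.Shr.psiBC (R' := R') ψ).toRingHom hψ'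
  obtain ⟨Rψ', ⟨adj'⟩⟩ := Groth.Agent.Helper11.Shr.exists_rightAdj
    (Groth.Agent.Helper11.Shr.psiBC (R' := R') ψ).toRingHom
  obtain ⟨i1⟩ := Groth.Agent.S1807.result R R' A n ψ hψ Rψ adj n
    (Groth.Agent.Helper11.Shr.psiBC (R' := R') ψ) hψ' Rψ' adj' (Dual.inD R R)
  obtain ⟨i2⟩ := Groth.Agent.Helper8.ShG.nonempty_LBaseChange_unit_iso R R'
  let ω := Dual2.shriekVia n Rψ (Dual.inD R R)
  let ω' := Dual2.shriekVia n Rψ' (Dual.inD R' R')
  let i3 : (DRing.LBaseChange
      (Algebra.TensorProduct.includeRight : A →ₐ[R] R' ⊗[R] A).toRingHom).obj ω ≅ ω' :=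
    i1 ≪≫ (CategoryTheory.shiftFunctor _ (n : ℤ)).mapIso (Rψ'.mapIso
      ((DRing.LBaseChange (algebraMap R' (MvPolynomial (Fin n) R'))).mapIso i2))
  have hd' := fibreDimAt_baseChange_le R A R' d hd
  have hvan : Subsingleton (Dual.HD (R' ⊗[R] A) ω' i) := by
    rcases hi with hi | hi
    · exact subsingleton_HD_shriekVia_of_lt R' (R' ⊗[R] A) n
        (Groth.Agent.Helper11.Shr.psiBC (R' := R') ψ) hψ' Rψ' adj' d hd' i hi
    · exact subsingleton_HD_shriekVia_of_pos R' (R' ⊗[R] A) n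
        (Groth.Agent.Helper11.Shr.psiBC (R' := R') ψ) hψ' Rψ' adj' i hi
  have h : (algebraMap A (R' ⊗[R] A)).comp (algebraMap R A) =
      (algebraMap R' (R' ⊗[R] A)).comp (algebraMap R R') := by
    rw [← IsScalarTower.algebraMap_eq, ← IsScalarTower.algebraMap_eq]
  let adjρ := Groth.Agent.Helper3.KP.adjD (algebraMap R R')
  let adjα := Groth.Agent.Helper3.KP.adjD (algebraMap A (R' ⊗[R] A))
  haveI hpo : Algebra.IsPushout R A R' (R' ⊗[R] A) := TensorProduct.isPushout'
  have htor : ∀ q : ℕ, IsZero (((Tor (ModuleCat.{u} R) (q + 1)).obj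
      (Groth.Agent.Helper11.LDer.Bm (algebraMap R R'))).obj
      (Groth.Agent.Helper11.LDer.Bm (algebraMap R A))) := by
    intro q
    haveI : Module.Flat R (Groth.Agent.Helper11.LDer.Bm (algebraMap R A)) :=
      Module.Flat.of_linearEquiv (Groth.Agent.Helper3.BC.BmIso R A).toLinearEquiv
    exact Groth.Agent.Helper6.TorFlat.isZero_tor_succ_of_flat_right _ q _
  haveI hc : IsIso (TrivBC.cmp adjρ adjα h ω) :=
    Groth.Agent.Helper3.TB.isIso_cmp
      (fun M => Groth.Agent.Helper3.TB.isIso_sqτ₀ R A R' (R' ⊗[R] A) M h)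
      (Groth.Agent.Helper3.TB.quasiIso_ext_π' _ _ htor) adjρ adjα ω
  let e1 := asIso (TrivBC.cmp adjρ adjα h ω)
  refine IsZero.of_iso ?_ ((homologyFunctor (ModuleCat.{u} R') i).mapIso
    (e1 ≪≫ (DRing.restrictD (algebraMap R' (R' ⊗[R] A))).mapIso i3) ≪≫
    Groth.Agent.Helper11.DC.homologyRestrictIso (algebraMap R' (R' ⊗[R] A)) ω' i)
  exact (ModuleCat.restrictScalars.{u} (algebraMap R' (R' ⊗[R] A))).map_isZero
    (ModuleCat.isZero_of_subsingleton _)

end BC

end Groth.Agent.Helper8.RelDz
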