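import Groth.Agent.Lib.Helper8.RelDz1
import Groth.Agent.Lib.Helper8.RelDz4
import Groth.Agent.Lib.Helper8.ShG6
import Groth.Agent.Lib.Helper8.ShG5
import Groth.Agent.Lib.Helper8.ShF3

/-!
# Tor amplitude `[-d, 0]` of `ω_{A/R}` over `R` for `R → A` flat of finite type with fibres of
dimension `≤ d` (helper8)
-/

set_option autoImplicit false
universe u

open CategoryTheory Limits DerivedCategory TensorProduct AlgebraicGeometry

attribute [local instance] HasDerivedCategory.standard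

namespace Groth.Agent.Helper8.RelDz

open Dual2 Groth.Agent.Helper11.DC Groth.Agent.Helper11.TA Groth.Agent.Helper11.LDer

variable (R A : Type u) [CommRing R] [CommRing A] [IsNoetherianRing R]
  [IsNoetherianRing A] [Algebra R A] [Module.Flat R A]
  (n : ℕ) (ψ : MvPolynomial (Fin n) R →ₐ[R] A) (hψ : Function.Surjective ψ)
  [DRing.HasLBaseChange (algebraMap R (MvPolynomial (Fin n) R))]
  (Rψ : Dual.D (MvPolynomial (Fin n) R) ⥤ Dual.D A) (adj : DRing.restrictD ψ.toRingHom ⊣ Rψ)

include hψ adj in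
theorem cycVanCx_of_fibreDim (d : ℕ)
    (hd : ∀ q : PrimeSpectrum A, FlatMor.fibreDimAt
      (Spec.map (CommRingCat.ofHom (algebraMap R A))) q ≤ (d : WithBot ℕ∞))
    (G : DRing.Cx R) (a' b' : ℤ) (hG : DRing.VanishesOutside G a' b')
    (hGf : ∀ i, Module.Flat R (G.X i))
    (e : Q.obj G ≅ (DRing.restrictD (algebraMap R A)).obj
      (Dual2.shriekVia n Rψ (Dual.inD R R))) :
    CycVanCx (-(d : ℤ)) 0 G := by
  intro I i hi
  haveI : DRing.HasLBaseChange (algebraMap R (R ⧸ I)) :=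
    Groth.Agent.Helper3.KP.hasLeftDerivedFunctor _
  have h1 := isZero_HD_LBaseChange_restrict R A (R ⧸ I) n ψ hψ Rψ adj d hd i hi
  have hGa : DRing.VanishesAbove G b' := fun j hj => hG j (Or.inr hj)
  obtain ⟨e2⟩ := nonempty_LBaseChange_iso_of_flat (algebraMap R (R ⧸ I)) G b' hGa hGf
    (hasProjRes_of_bounded G a' b' hG)
  have h2 : IsZero ((homologyFunctor (ModuleCat.{u} (R ⧸ I)) i).obj
      (Q.obj ((esC (algebraMap R (R ⧸ I))).obj G))) :=
    h1.of_iso ((homologyFunctor (ModuleCat.{u} (R ⧸ I)) i).mapIso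
      (e2.symm ≪≫ (DRing.LBaseChange (algebraMap R (R ⧸ I))).mapIso e))
  have h3 : IsZero (((esC (Ideal.Quotient.mk I)).obj G).homology i) :=
    h2.of_iso ((homologyFunctorFactors (ModuleCat.{u} (R ⧸ I)) i).app _).symm
  rw [← Groth.Agent.Helper11.Dev.isZero_homology_tens_quot_iff] at h3
  exact h3.of_iso ((homologyFunctorFactors (ModuleCat.{u} R) i).app _)

include hψ adj in
/-- `ω_{A/R}`, as a complex of `R`-modules, has tor amplitude in `[-d, 0]` -/
theorem hasTorAmplitudeIn_shriekVia (d : ℕ)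
    (hd : ∀ q : PrimeSpectrum A, FlatMor.fibreDimAt
      (Spec.map (CommRingCat.ofHom (algebraMap R A))) q ≤ (d : WithBot ℕ∞)) :
    DRing.HasTorAmplitudeIn R (-(d : ℤ)) 0
      ((DRing.restrictD (algebraMap R A)).obj (Dual2.shriekVia n Rψ (Dual.inD R R))) := by
  classical
  letI algPA : Algebra (MvPolynomial (Fin n) R) A := ψ.toRingHom.toAlgebra
  haveI t1 : IsScalarTower R (MvPolynomial (Fin n) R) A :=
    IsScalarTower.of_algebraMap_eq (fun r => (ψ.commutes r).symm)
  haveI : Module.Finite (MvPolynomial (Fin n) R) A :=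
    Module.Finite.of_surjective (Algebra.linearMap (MvPolynomial (Fin n) R) A) hψ
  obtain ⟨ι⟩ := Groth.Agent.Helper8.ShG.nonempty_LBaseChange_unit_iso R (MvPolynomial (Fin n) R)
  have hperf := Groth.Agent.Helper8.ShF.isPerfectModule_of_flat R n A
  have hres := Groth.Agent.Helper8.ShG.isPerfect_res_rightAdj hperf Rψ adj _ ι
  obtain ⟨a', b', G, hG, hGf, ⟨e⟩⟩ :=
    Groth.Agent.Helper8.ShG.hasFiniteTorDimCx_res_shift R _ hres (n : ℤ)
  refine hasTorAmplitudeIn_of_cycVan G a' b' hG hGf e (fun i hi => ?_)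
    (cycVanCx_of_fibreDim R A n ψ hψ Rψ adj d hd G a' b' hG hGf e)
  have hsub : Subsingleton (Dual.HD A (Dual2.shriekVia n Rψ (Dual.inD R R)) i) := by
    rcases hi with hi | hi
    · exact subsingleton_HD_shriekVia_of_lt R A n ψ hψ Rψ adj d hd i hi
    · exact subsingleton_HD_shriekVia_of_pos R A n ψ hψ Rψ adj i hi
  refine IsZero.of_iso ?_ (Groth.Agent.Helper11.DC.homologyRestrictIso (algebraMap R A)
    (Dual2.shriekVia n Rψ (Dual.inD R R)) i)
  exact (ModuleCat.restrictScalars.{u} (algebraMap R A)).map_isZero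
    (ModuleCat.isZero_of_subsingleton _)

end Groth.Agent.Helper8.RelDz
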