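import Mathlib.LinearAlgebra.RootSystem.Base
import Mathlib.LinearAlgebra.RootSystem.Hom
import Mathlib.LinearAlgebra.RootSystem.Reduced
import Mathlib.LinearAlgebra.RootSystem.WeylGroup

/-!
# Weyl group and bases (Mathlib `RootPairing.Base` language, general coefficients)

Words in simple reflections, the exchange lemma, simple transitivity on bases.
(`aut_pairing'`, `conj_refl`, `exists_simple_conj`, `closure_simple_eq_weylGroup` are copied from
the lead's `Lib/Lead/RootB3.lean`, with narrow imports.)
-/

set_option autoImplicit false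

open RootPairing

namespace Groth.Agent.Helper8.RB

variable {ι R M N : Type*} [CommRing R] [AddCommGroup M] [Module R M]
  [AddCommGroup N] [Module R N] {P : RootPairing ι R M N}

theorem root_smul (g : P.Aut) (i : ι) : P.root (g • i) = g • P.root i :=
  Equiv.root_indexEquiv_eq_smul P i g

theorem refl_smul_idx (a i : ι) : Equiv.reflection P a • i = P.reflectionPerm a i := rfl

theorem smul_neg_idx (g : P.Aut) (i : ι) :
    g • P.reflectionPerm i i = P.reflectionPerm (g • i) (g • i) := by
  apply P.root.injective
  rw [root_smul, root_reflectionPerm, reflection_apply_self, smul_neg, ← root_smul,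
    root_reflectionPerm, reflection_apply_self]

theorem aut_pairing' (u : P.Aut) (m : M) (j : ι) :
    P.toLinearMap (u • m) (P.coroot (u • j)) = P.toLinearMap m (P.coroot j) := by
  have h := Hom.weight_coweight_transpose_apply P P (P.coroot (u • j)) u.toHom
  have h2 := congrArg (fun f => f m) h
  simp only [LinearMap.dualMap_apply] at h2
  have h3 : u.toHom.coweightMap (P.coroot (u • j)) = P.coroot j := by
    rw [Hom.coroot_coweightMap_apply]
    congr 1
    exact u.indexEquiv.symm_apply_apply j
  rw [h3] at h2
  exact h2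

theorem conj_refl (u : P.Aut) (i : ι) :
    u * Equiv.reflection P i * u⁻¹ = Equiv.reflection P (u • i) := by
  apply Equiv.weightHom_injective P
  ext x
  show u • (Equiv.reflection P i • (u⁻¹ • x)) = Equiv.reflection P (u • i) • x
  rw [Equiv.reflection_smul, Equiv.reflection_smul, reflection_apply, reflection_apply, smul_sub,
    smul_inv_smul, smul_comm u]
  have h1 : P.coroot' i (u⁻¹ • x) = P.coroot' (u • i) x := by
    have := aut_pairing' u (u⁻¹ • x) i
    rw [smul_inv_smul] at this
    exact this.symm
  have h2 : u • P.root i = P.root (u • i) := (Equiv.root_indexEquiv_eq_smul P i u).symm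
  rw [h1, h2]

theorem refl_mul_self (a : ι) : Equiv.reflection P a * Equiv.reflection P a = 1 := by
  have h := Equiv.reflection_inv P a
  calc Equiv.reflection P a * Equiv.reflection P a
      = (Equiv.reflection P a)⁻¹ * Equiv.reflection P a := by rw [h]
    _ = 1 := inv_mul_cancel _

/-- The product of the reflections along a word. -/
noncomputable def wprod (P : RootPairing ι R M N) (l : List ι) : P.Aut :=
  (l.map fun a => Equiv.reflection P a).prod

theorem wprod_nil : wprod P [] = 1 := rfl

theorem wprod_cons (a : ι) (l : List ι) : wprod P (a :: l) = Equiv.reflection P a * wprod P l := by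
  simp [wprod]

theorem wprod_append (l l' : List ι) : wprod P (l ++ l') = wprod P l * wprod P l' := by
  simp [wprod]

theorem wprod_singleton (a : ι) : wprod P [a] = Equiv.reflection P a := by
  simp [wprod]

theorem exists_word_of_mem_closure {Δ : Set ι} {g : P.Aut}
    (hg : g ∈ Subgroup.closure ((fun i : ι => Equiv.reflection P i) '' Δ)) :
    ∃ l : List ι, (∀ a ∈ l, a ∈ Δ) ∧ wprod P l = g := by
  induction hg using Subgroup.closure_induction'' with
  | one => exact ⟨[], by simp, rfl⟩
  | mem w hw =>
    obtain ⟨d, hd, rfl⟩ := hw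
    exact ⟨[d], by simpa using hd, wprod_singleton d⟩
  | inv_mem w hw =>
    obtain ⟨d, hd, rfl⟩ := hw
    rw [Equiv.reflection_inv]
    exact ⟨[d], by simpa using hd, wprod_singleton d⟩
  | mul w₁ w₂ _ _ h₁ h₂ =>
    obtain ⟨l₁, hl₁, rfl⟩ := h₁
    obtain ⟨l₂, hl₂, rfl⟩ := h₂
    refine ⟨l₁ ++ l₂, ?_, wprod_append l₁ l₂⟩
    intro a ha
    rcases List.mem_append.mp ha with h | h
    · exact hl₁ a h
    · exact hl₂ a h

theorem not_isPos_neg (b : P.Base) [CharZero R] {i : ι} (hi : b.IsPos i) :
    ¬ b.IsPos (P.reflectionPerm i i) := by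
  rw [RootPairing.Base.isPos_iff] at hi ⊢
  have h : b.height (P.reflectionPerm i i) = -b.height i := b.height_reflectionPerm_self i
  rw [h]
  omega

variable [CharZero R] [IsDomain R] [Finite ι] [P.IsCrystallographic] [P.IsReduced]

theorem exists_simple_conj (b : P.Base) (i : ι) :
    ∃ g ∈ Subgroup.closure ((fun i : ι => Equiv.reflection P i) '' (b.support : Set ι)),
      ∃ j ∈ b.support, g • j = i := by
  set H := Subgroup.closure ((fun i : ι => Equiv.reflection P i) '' (b.support : Set ι)) with hH
  have hs : ∀ j ∈ b.support, Equiv.reflection P j ∈ H :=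
    fun j hj => Subgroup.subset_closure ⟨j, hj, rfl⟩
  refine b.induction_reflect i (p := fun i => ∃ g ∈ H, ∃ j ∈ b.support, g • j = i) ?_ ?_ ?_
  · rintro i ⟨g, hg, j, hj, rfl⟩
    have hsi : Equiv.reflection P (g • j) ∈ H := by
      rw [← conj_refl]
      exact H.mul_mem (H.mul_mem hg (hs j hj)) (H.inv_mem hg)
    exact ⟨Equiv.reflection P (g • j) * g, H.mul_mem hsi hg, j, hj, by rw [mul_smul]; rfl⟩
  · intro j hj
    exact ⟨1, H.one_mem, j, hj, one_smul _ _⟩
  · rintro i k ⟨g, hg, j, hj, rfl⟩ hk
    exact ⟨Equiv.reflection P k * g, H.mul_mem (hs k hk) hg, j, hj, by rw [mul_smul]; rfl⟩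

theorem closure_simple_eq_weylGroup (b : P.Base) :
    Subgroup.closure ((fun i : ι => Equiv.reflection P i) '' (b.support : Set ι)) =
      P.weylGroup := by
  refine le_antisymm ?_ ?_
  · rw [Subgroup.closure_le]
    rintro _ ⟨j, -, rfl⟩
    exact P.reflection_mem_weylGroup j
  · rw [weylGroup, Subgroup.closure_le]
    rintro _ ⟨i, rfl⟩
    obtain ⟨g, hg, j, hj, rfl⟩ := exists_simple_conj b i
    rw [SetLike.mem_coe, ← conj_refl]
    exact mul_mem (mul_mem hg (Subgroup.subset_closure ⟨j, hj, rfl⟩)) (inv_mem hg)

theorem eq_of_refl_neg (b : P.Base) {j β : ι} (hj : j ∈ b.support) (hβ : b.IsPos β)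
    (hneg : ¬ b.IsPos (P.reflectionPerm j β)) : β = j := by
  by_contra hne
  exact hneg (hβ.reflectionPerm hj hne)

/-- **Exchange lemma**: if `l₀ ++ [a]` is a word in the simple reflections which is of minimal
length among the words with the same product, then `wprod l₀ • a` is a positive root. -/
theorem wprod_smul_isPos (b : P.Base) (l₀ : List ι) (a : ι)
    (hl : ∀ x ∈ l₀ ++ [a], x ∈ b.support)
    (hmin : ∀ l' : List ι, (∀ x ∈ l', x ∈ b.support) → wprod P l' = wprod P (l₀ ++ [a]) →
      (l₀ ++ [a]).length ≤ l'.length) :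
    b.IsPos (wprod P l₀ • a) := by
  have ha : a ∈ b.support := hl a (by simp)
  have key : ∀ (v u : List ι), u ++ v = l₀ → b.IsPos (wprod P v • a) := by
    intro v
    induction v with
    | nil =>
      intro u _
      rw [wprod_nil, one_smul]
      exact RootPairing.Base.isPos_of_mem_support ha
    | cons c v ih =>
      intro u huv
      have huv' : (u ++ [c]) ++ v = l₀ := by rw [← huv]; simp
      have hβ := ih (u ++ [c]) huv'
      have hc : c ∈ b.support := hl c (by rw [← huv]; simp)
      rw [wprod_cons, mul_smul]
      by_contra hneg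
      have heq : wprod P v • a = c := eq_of_refl_neg b hc hβ hneg
      -- the word `u ++ v` has the same product and is shorter
      have hprod : wprod P (u ++ v) = wprod P (l₀ ++ [a]) := by
        rw [← huv, wprod_append, wprod_append, wprod_append, wprod_cons, wprod_singleton]
        have h1 : Equiv.reflection P c = wprod P v * Equiv.reflection P a * (wprod P v)⁻¹ := by
          rw [conj_refl, heq]
        rw [h1]
        have h2 : wprod P v * Equiv.reflection P a * (wprod P v)⁻¹ * wprod P v *
            Equiv.reflection P a = wprod P v := by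
          rw [inv_mul_cancel_right, mul_assoc, refl_mul_self, mul_one]
        rw [mul_assoc (wprod P u), h2]
      have hmem : ∀ x ∈ u ++ v, x ∈ b.support := by
        intro x hx
        apply hl x
        rw [← huv]
        rcases List.mem_append.mp hx with h | h
        · simp [h]
        · simp [h]
      have hlen := hmin (u ++ v) hmem hprod
      rw [← huv] at hlen
      simp only [List.length_append, List.length_cons, List.length_nil] at hlen
      omega
  exact key l₀ [] rfl

/-- A minimal word for an element of the Weyl group. -/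
theorem exists_min_word (b : P.Base) {g : P.Aut} (hg : g ∈ P.weylGroup) :
    ∃ l : List ι, (∀ a ∈ l, a ∈ b.support) ∧ wprod P l = g ∧
      ∀ l' : List ι, (∀ a ∈ l', a ∈ b.support) → wprod P l' = g → l.length ≤ l'.length := by
  classical
  rw [← closure_simple_eq_weylGroup b] at hg
  have hex : ∃ n, ∃ l : List ι, (∀ a ∈ l, a ∈ b.support) ∧ wprod P l = g ∧ l.length = n := by
    obtain ⟨l, hl, h⟩ := exists_word_of_mem_closure hg
    exact ⟨l.length, l, fun a ha => by simpa using hl a ha, h, rfl⟩
  obtain ⟨l, hl, h, hlen⟩ := Nat.find_spec hex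
  refine ⟨l, hl, h, fun l' hl' h' => ?_⟩
  rw [hlen]
  exact Nat.find_min' hex ⟨l', hl', h', rfl⟩

/-- A non-trivial element of the Weyl group makes some simple root negative. -/
theorem exists_simple_neg (b : P.Base) {g : P.Aut} (hg : g ∈ P.weylGroup) (hne : g ≠ 1) :
    ∃ a ∈ b.support, ¬ b.IsPos (g • a) := by
  obtain ⟨l, hl, rfl, hmin⟩ := exists_min_word b hg
  obtain ⟨l₀, a, rfl⟩ : ∃ l₀ a, l = l₀ ++ [a] := by
    rcases List.eq_nil_or_concat l with h | ⟨l₀, a, h⟩
    · rw [h, wprod_nil] at hne; exact absurd rfl hne
    · exact ⟨l₀, a, by rw [h, List.concat_eq_append]⟩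
  have ha : a ∈ b.support := hl a (by simp)
  have hpos := wprod_smul_isPos b l₀ a hl hmin
  have heq : wprod P (l₀ ++ [a]) • a = P.reflectionPerm (wprod P l₀ • a) (wprod P l₀ • a) := by
    rw [wprod_append, wprod_singleton, mul_smul, refl_smul_idx, smul_neg_idx]
  refine ⟨a, ha, ?_⟩
  rw [heq]
  exact not_isPos_neg b hpos

/-- An element of the Weyl group keeping all simple roots positive is trivial. -/
theorem eq_one_of_simple_pos (b : P.Base) {g : P.Aut} (hg : g ∈ P.weylGroup)
    (h : ∀ a ∈ b.support, b.IsPos (g • a)) : g = 1 := by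
  by_contra hne
  obtain ⟨a, ha, hneg⟩ := exists_simple_neg b hg hne
  exact hneg (h a ha)

end Groth.Agent.Helper8.RB
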