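import Groth.Agent.Lib.Helper8.RootBase

/-!
# Simple transitivity of the Weyl group on bases (Mathlib `RootPairing.Base` language)
-/

set_option autoImplicit false

open RootPairing

namespace Groth.Agent.Helper8.RB

variable {ι R M N : Type*} [CommRing R] [AddCommGroup M] [Module R M]
  [AddCommGroup N] [Module R N] {P : RootPairing ι R M N}

section height

variable [CharZero R]

/-- Heights are additive along integer combinations of roots. -/
theorem height_eq_sum_height (b : P.Base) {κ : Type*} (s : Finset κ) (c : κ → ℤ) (φ : κ → ι)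
    (k : ι) (h : P.root k = ∑ j ∈ s, c j • P.root (φ j)) :
    b.height k = ∑ j ∈ s, c j * b.height (φ j) := by
  choose f _ _ hf using fun j => b.exists_root_eq_sum_int j
  have hk : P.root k = ∑ l ∈ b.support, (∑ j ∈ s, c j * f (φ j) l) • P.root l := by
    rw [h]
    simp_rw [Finset.sum_smul, mul_smul]
    rw [Finset.sum_comm]
    refine Finset.sum_congr rfl fun j _ => ?_
    rw [← Finset.smul_sum, ← hf (φ j)]
  rw [RootPairing.Base.height_eq_sum hk, Finset.sum_comm]
  refine Finset.sum_congr rfl fun j _ => ?_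
  rw [RootPairing.Base.height_eq_sum (hf (φ j)), Finset.mul_sum]

/-- A positive root is a non-negative integer combination of simple roots. -/
theorem exists_nonneg_coeff (b : P.Base) {i : ι} (hi : b.IsPos i) :
    ∃ f : ι → ℤ, (∀ s, 0 ≤ f s) ∧ P.root i = ∑ j ∈ b.support, f j • P.root j := by
  obtain ⟨f, -, hf1, hf2⟩ := b.exists_root_eq_sum_int i
  have hfpos : 0 < f := by
    refine hf1.resolve_right ?_
    rw [RootPairing.Base.isPos_iff, RootPairing.Base.height_eq_sum hf2] at hi
    contrapose! hi
    exact Finset.sum_nonpos fun i _ => hi.le i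
  exact ⟨f, fun s => hfpos.le s, hf2⟩

omit [CharZero R] in
theorem smul_sum_root (g : P.Aut) (s : Finset ι) (c : ι → ℤ) :
    g • (∑ j ∈ s, c j • P.root j) = ∑ j ∈ s, c j • P.root (g • j) := by
  rw [Finset.smul_sum]
  refine Finset.sum_congr rfl fun j _ => ?_
  rw [smul_comm, root_smul]

/-- If `g` maps the simple roots of `b` to `b'`-positive roots, it maps all `b`-positive roots
to `b'`-positive roots. -/
theorem isPos_smul_of_simple (b b' : P.Base) (g : P.Aut)
    (h : ∀ a ∈ b.support, b'.IsPos (g • a)) {i : ι} (hi : b.IsPos i) : b'.IsPos (g • i) := by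
  obtain ⟨f, hf0, hf⟩ := exists_nonneg_coeff b hi
  have hroot : P.root (g • i) = ∑ j ∈ b.support, f j • P.root (g • j) := by
    rw [root_smul, hf, smul_sum_root]
  have hheight := height_eq_sum_height b' b.support f (fun j => g • j) (g • i) hroot
  rw [RootPairing.Base.isPos_iff, hheight]
  have hsum : b.height i = ∑ j ∈ b.support, f j := RootPairing.Base.height_eq_sum hf
  have hipos : 0 < ∑ j ∈ b.support, f j := by rw [← hsum]; exact hi
  refine lt_of_lt_of_le hipos (Finset.sum_le_sum fun j hj => ?_)
  have h1 : 1 ≤ b'.height (g • j) := h j hj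
  nlinarith [hf0 j]

theorem isPos_inv_smul (b b' : P.Base) (g : P.Aut)
    (h : ∀ i, b.IsPos i → b'.IsPos (g • i)) {i : ι} (hi : b'.IsPos i) : b.IsPos (g⁻¹ • i) := by
  by_contra hneg
  have hneg' : b.IsPos (P.reflectionPerm (g⁻¹ • i) (g⁻¹ • i)) := by
    rcases RootPairing.Base.IsPos.or_neg b (g⁻¹ • i) with h1 | h1
    · exact absurd h1 hneg
    · exact h1
  have := h _ hneg'
  rw [smul_neg_idx, smul_inv_smul] at this
  exact not_isPos_neg b' hi this

/-- If `g` maps `b`-positive roots to `b'`-positive roots, every simple root of `b'` is the image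
of a simple root of `b`. -/
theorem exists_simple_of_pos (b b' : P.Base) (g : P.Aut)
    (h : ∀ i, b.IsPos i → b'.IsPos (g • i)) {α : ι} (hα : α ∈ b'.support) :
    ∃ j ∈ b.support, g • j = α := by
  classical
  have hi : b.IsPos (g⁻¹ • α) :=
    isPos_inv_smul b b' g h (RootPairing.Base.isPos_of_mem_support hα)
  obtain ⟨f, hf0, hf⟩ := exists_nonneg_coeff b hi
  have hroot : P.root α = ∑ j ∈ b.support, f j • P.root (g • j) := by
    have : P.root (g • (g⁻¹ • α)) = ∑ j ∈ b.support, f j • P.root (g • j) := by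
      rw [root_smul, hf, smul_sum_root]
    rwa [smul_inv_smul] at this
  have hheight := height_eq_sum_height b' b.support f (fun j => g • j) α hroot
  rw [RootPairing.Base.height_one_of_mem_support hα] at hheight
  have hge : ∀ j ∈ b.support, 1 ≤ b'.height (g • j) := fun j hj =>
    h j (RootPairing.Base.isPos_of_mem_support hj)
  have hnn : ∀ j ∈ b.support, 0 ≤ f j * b'.height (g • j) := fun j hj =>
    mul_nonneg (hf0 j) (by linarith [hge j hj])
  -- some term is positive
  obtain ⟨j₀, hj₀, hpos⟩ : ∃ j ∈ b.support, 0 < f j * b'.height (g • j) := by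
    by_contra hcon
    push Not at hcon
    have : ∑ j ∈ b.support, f j * b'.height (g • j) ≤ 0 :=
      Finset.sum_nonpos hcon
    omega
  have hle : f j₀ * b'.height (g • j₀) ≤ 1 := by
    rw [hheight]
    exact Finset.single_le_sum hnn hj₀
  have hone : f j₀ * b'.height (g • j₀) = 1 := by omega
  have hf1 : f j₀ = 1 := by
    have h1 := hge j₀ hj₀
    have h0 := hf0 j₀
    nlinarith
  have hothers : ∀ j ∈ b.support, j ≠ j₀ → f j = 0 := by
    intro j hj hne
    have hsplit : ∑ j ∈ b.support, f j * b'.height (g • j) =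
        f j₀ * b'.height (g • j₀) + ∑ j ∈ b.support.erase j₀, f j * b'.height (g • j) :=
      (Finset.add_sum_erase _ _ hj₀).symm
    have hrest : ∑ j ∈ b.support.erase j₀, f j * b'.height (g • j) = 0 := by omega
    have hzero := (Finset.sum_eq_zero_iff_of_nonneg
      (fun j hj => hnn j (Finset.mem_of_mem_erase hj))).mp hrest j
      (Finset.mem_erase.mpr ⟨hne, hj⟩)
    have h1 := hge j hj
    have h0 := hf0 j
    nlinarith
  refine ⟨j₀, hj₀, ?_⟩
  apply P.root.injective
  rw [hroot, Finset.sum_eq_single_of_mem j₀ hj₀ (fun j hj hne => by rw [hothers j hj hne, zero_smul]),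
    hf1, one_smul]

end height

variable [CharZero R] [IsDomain R] [Finite ι] [P.IsCrystallographic] [P.IsReduced]

/-- The set of `b`-positive roots made `b'`-negative by `g`. -/
noncomputable def negSet (b b' : P.Base) (g : P.Aut) : Set ι :=
  {i | b.IsPos i ∧ ¬ b'.IsPos (g • i)}

theorem ncard_negSet_lt (b b' : P.Base) (g : P.Aut) {j : ι} (hj : j ∈ b.support)
    (hneg : ¬ b'.IsPos (g • j)) :
    (negSet b b' (g * Equiv.reflection P j)).ncard < (negSet b b' g).ncard := by
  have hjmem : j ∈ negSet b b' g := ⟨RootPairing.Base.isPos_of_mem_support hj, hneg⟩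
  have hmaps : ∀ i ∈ negSet b b' (g * Equiv.reflection P j),
      P.reflectionPerm j i ∈ negSet b b' g \ {j} := by
    rintro i ⟨hi, hi'⟩
    rw [mul_smul, refl_smul_idx] at hi'
    have hij : i ≠ j := by
      rintro rfl
      apply hi'
      rw [smul_neg_idx]
      rcases RootPairing.Base.IsPos.or_neg b' (g • i) with h1 | h1
      · exact absurd h1 hneg
      · exact h1
    refine ⟨⟨hi.reflectionPerm hj hij, hi'⟩, ?_⟩
    rw [Set.mem_singleton_iff]
    intro heq
    have : i = P.reflectionPerm j j := by
      have := congrArg (P.reflectionPerm j) heq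
      simpa using this
    rw [this] at hi
    exact not_isPos_neg b (RootPairing.Base.isPos_of_mem_support hj) hi
  have hle : (negSet b b' (g * Equiv.reflection P j)).ncard ≤ (negSet b b' g \ {j}).ncard :=
    Set.ncard_le_ncard_of_injOn (fun i => P.reflectionPerm j i) hmaps
      (fun _ _ _ _ h => (P.reflectionPerm j).injective h) (Set.toFinite _)
  have hlt : (negSet b b' g \ {j}).ncard < (negSet b b' g).ncard :=
    Set.ncard_sdiff_singleton_lt_of_mem hjmem (Set.toFinite _)
  omega

/-- There is a Weyl group element mapping `b`-positive roots to `b'`-positive roots. -/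
theorem exists_weyl_pos (b b' : P.Base) :
    ∃ g ∈ P.weylGroup, ∀ i, b.IsPos i → b'.IsPos (g • i) := by
  classical
  have hex : ∃ n, ∃ g ∈ P.weylGroup, (negSet b b' g).ncard = n :=
    ⟨_, 1, one_mem _, rfl⟩
  obtain ⟨g, hg, hn⟩ := Nat.find_spec hex
  refine ⟨g, hg, fun i hi => isPos_smul_of_simple b b' g (fun a ha => ?_) hi⟩
  by_contra hneg
  have hlt := ncard_negSet_lt b b' g ha hneg
  have := Nat.find_min' hex ⟨g * Equiv.reflection P a,
    mul_mem hg (P.reflection_mem_weylGroup a), rfl⟩
  omega

/-- The Weyl group acts transitively on bases. -/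
theorem exists_weyl_image_eq (b b' : P.Base) :
    ∃ g ∈ P.weylGroup, (fun i : ι => g • i) '' (b.support : Set ι) = (b'.support : Set ι) := by
  obtain ⟨g, hg, hpos⟩ := exists_weyl_pos b b'
  refine ⟨g, hg, Set.Subset.antisymm ?_ ?_⟩
  · rintro _ ⟨a, ha, rfl⟩
    have hinv : ∀ i, b'.IsPos i → b.IsPos (g⁻¹ • i) := fun i hi => isPos_inv_smul b b' g hpos hi
    obtain ⟨j, hj, hja⟩ := exists_simple_of_pos b' b g⁻¹ hinv ha
    have : g • a = j := by rw [← hja, smul_inv_smul]
    show g • a ∈ (b'.support : Set ι)
    rw [this]; exact hj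
  · intro α hα
    obtain ⟨j, hj, hja⟩ := exists_simple_of_pos b b' g hpos hα
    exact ⟨j, hj, hja⟩

theorem eq_of_image_eq (b b' : P.Base) {g g' : P.Aut} (hg : g ∈ P.weylGroup)
    (hg' : g' ∈ P.weylGroup)
    (h : (fun i : ι => g • i) '' (b.support : Set ι) = (b'.support : Set ι))
    (h' : (fun i : ι => g' • i) '' (b.support : Set ι) = (b'.support : Set ι)) : g = g' := by
  have hone : g⁻¹ * g' = 1 := by
    apply eq_one_of_simple_pos b (mul_mem (inv_mem hg) hg')
    intro a ha
    have h1 : g' • a ∈ (b'.support : Set ι) := by rw [← h']; exact ⟨a, ha, rfl⟩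
    rw [← h] at h1
    obtain ⟨a', ha', hEq⟩ := h1
    have : (g⁻¹ * g') • a = a' := by
      rw [mul_smul, ← hEq]; exact inv_smul_smul g a'
    rw [this]
    exact RootPairing.Base.isPos_of_mem_support ha'
  exact (inv_mul_eq_one.mp hone)

end Groth.Agent.Helper8.RB
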