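import Mathlib.LinearAlgebra.RootSystem.Defs
import Mathlib.LinearAlgebra.RootSystem.Hom
import Mathlib.LinearAlgebra.RootSystem.WeylGroup
import Mathlib.LinearAlgebra.RootSystem.Finite.Lemmas
import Mathlib.LinearAlgebra.RootSystem.Finite.CanonicalBilinear
import Mathlib.LinearAlgebra.RootSystem.Finite.Nondegenerate
import Mathlib.LinearAlgebra.RootSystem.Base
import Mathlib.LinearAlgebra.RootSystem.BaseExists
import Groth.Prelude.Def_W4sga3xxiRoot

/-!
# Root data: basic lemmas (helper8 library)

Basic lemmas about root pairings over `ℤ` used for the `RootD` block of statements.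
-/

set_option autoImplicit false

open RootPairing RootD

namespace Groth.Agent.Helper8.RD

variable {ι M N : Type*} [AddCommGroup M] [AddCommGroup N] (P : RootPairing ι ℤ M N)

include P in
/-- The weight lattice of a root datum is torsion-free. -/
theorem tf : IsAddTorsionFree M := by
  have : Module.IsReflexive ℤ M := .of_isPerfPair P.toLinearMap
  exact .of_isTorsionFree ℤ M

include P in
theorem tfN : IsAddTorsionFree N := tf P.flip

theorem pairingIn_int (i j : ι) : P.pairingIn ℤ i j = P.pairing i j := by
  have := P.algebraMap_pairingIn ℤ i j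
  simpa using this

theorem root_neg (i : ι) : P.root (P.reflectionPerm i i) = -P.root i := by
  rw [root_reflectionPerm, reflection_apply_self]

theorem coroot_neg (i : ι) : P.coroot (P.reflectionPerm i i) = -P.coroot i := by
  rw [coroot_reflectionPerm, coreflection_apply_self]

theorem neg_neg_idx (i : ι) :
    P.reflectionPerm (P.reflectionPerm i i) (P.reflectionPerm i i) = i := by
  apply P.root.injective
  rw [root_neg, root_neg, neg_neg]

theorem refl_root (i j : ι) :
    P.root (P.reflectionPerm i j) = P.root j - P.pairing j i • P.root i := by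
  rw [root_reflectionPerm, reflection_apply_root]

theorem aut_root (g : P.Aut) (i : ι) : P.root (g • i) = g • P.root i :=
  Equiv.root_indexEquiv_eq_smul P i g

theorem refl_smul_idx (i j : ι) : Equiv.reflection P i • j = P.reflectionPerm i j := rfl

theorem aut_pairing' (u : P.Aut) (m : M) (j : ι) :
    P.toLinearMap (u • m) (P.coroot (u • j)) = P.toLinearMap m (P.coroot j) := by
  have h := Hom.weight_coweight_transpose_apply P P (P.coroot (u • j)) u.toHom
  have h2 := congrArg (fun f => f m) h
  simp only [LinearMap.dualMap_apply] at h2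
  have h3 : u.toHom.coweightMap (P.coroot (u • j)) = P.coroot j := by
    rw [Hom.coroot_coweightMap_apply]
    congr 1
    exact u.indexEquiv.symm_apply_apply j
  rw [h3] at h2
  exact h2

theorem aut_pairing (u : P.Aut) (i j : ι) : P.pairing (u • i) (u • j) = P.pairing i j := by
  have := aut_pairing' P u (P.root i) j
  rw [← aut_root] at this
  exact this

theorem conj_refl (u : P.Aut) (i : ι) :
    u * Equiv.reflection P i * u⁻¹ = Equiv.reflection P (u • i) := by
  apply Equiv.weightHom_injective P
  ext x
  show u • (Equiv.reflection P i • (u⁻¹ • x)) = Equiv.reflection P (u • i) • x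
  rw [Equiv.reflection_smul, Equiv.reflection_smul, reflection_apply, reflection_apply, smul_sub,
    smul_inv_smul, smul_comm u]
  have h1 : P.coroot' i (u⁻¹ • x) = P.coroot' (u • i) x := by
    have := aut_pairing' P u (u⁻¹ • x) i
    rw [smul_inv_smul] at this
    exact this.symm
  have h2 : u • P.root i = P.root (u • i) := (Equiv.root_indexEquiv_eq_smul P i u).symm
  rw [h1, h2]

variable [Finite ι]

theorem sub_mem_of_pairing_pos {i j : ι} (h : 0 < P.pairing i j) (hne : i ≠ j) :
    ∃ k, P.root k = P.root i - P.root j := by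
  have := P.root_sub_root_mem_of_pairingIn_pos (i := i) (j := j) (by rwa [pairingIn_int]) hne
  exact this

theorem add_mem_of_pairing_neg {i j : ι} (h : P.pairing i j < 0) (hne : P.root i ≠ -P.root j) :
    ∃ k, P.root k = P.root i + P.root j := by
  have := P.root_add_root_mem_of_pairingIn_neg (i := i) (j := j) (by rwa [pairingIn_int]) hne
  exact this

omit [Finite ι] in
/-- In a partition of the roots into two closed symmetric parts, if `k = i + j` and `i` lies in the
part `T` then so does `j`. -/
theorem part_mem_of_add {T : Set ι} (hc : IsClosedSub P T) (hs : IsSymmSub P T)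
    (hc' : IsClosedSub P Tᶜ) (hs' : IsSymmSub P Tᶜ) {i j k : ι}
    (h : P.root k = P.root i + P.root j) (hi : i ∈ T) : j ∈ T := by
  by_contra hj
  by_cases hk : k ∈ T
  · apply hj
    refine hc hk (hs hi) (?_ : P.root j = P.root k + P.root (P.reflectionPerm i i))
    rw [root_neg, h]; abel
  · have : i ∈ Tᶜ := by
      refine hc' (show k ∈ Tᶜ from hk) (hs' (show j ∈ Tᶜ from hj))
        (?_ : P.root i = P.root k + P.root (P.reflectionPerm j j))
      rw [root_neg, h]; abel
    exact this hi

omit [Finite ι] in
theorem part_same {T : Set ι} (hc : IsClosedSub P T) (hs : IsSymmSub P T)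
    (hc' : IsClosedSub P Tᶜ) (hs' : IsSymmSub P Tᶜ) {i j k : ι}
    (h : P.root k = P.root i + P.root j) :
    (i ∈ T ∧ j ∈ T ∧ k ∈ T) ∨ (i ∉ T ∧ j ∉ T ∧ k ∉ T) := by
  by_cases hi : i ∈ T
  · have hj := part_mem_of_add P hc hs hc' hs' h hi
    exact Or.inl ⟨hi, hj, hc hi hj h⟩
  · have hj : j ∉ T := fun hj => hi (part_mem_of_add P hc hs hc' hs' (by rw [h, add_comm]) hj)
    exact Or.inr ⟨hi, hj, hc' (show i ∈ Tᶜ from hi) (show j ∈ Tᶜ from hj) h⟩

/-- A root not orthogonal to a root of a closed symmetric part with closed symmetric complement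
lies in that part. -/
theorem part_mem_of_not_orth {T : Set ι} (hc : IsClosedSub P T) (hs : IsSymmSub P T)
    (hc' : IsClosedSub P Tᶜ) (hs' : IsSymmSub P Tᶜ) {i j : ι} (hi : i ∈ T)
    (hij : ¬ P.IsOrthogonal i j) : j ∈ T := by
  by_contra hj
  have hne : j ≠ i := fun h => hj (h ▸ hi)
  have hp : P.pairing j i ≠ 0 := by
    intro h0
    exact hij ⟨(P.pairing_eq_zero_iff' (i := j) (j := i)).mp h0, h0⟩
  rcases lt_or_gt_of_ne hp with hneg | hpos
  · by_cases hji : P.root j = -P.root i
    · have : j = P.reflectionPerm i i := P.root.injective (by rw [root_neg, hji])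
      exact hj (this ▸ hs hi)
    · obtain ⟨k, hk⟩ := add_mem_of_pairing_neg P hneg hji
      rcases part_same P hc hs hc' hs' hk with h | h
      · exact hj h.1
      · exact h.2.1 hi
  · obtain ⟨k, hk⟩ := sub_mem_of_pairing_pos P hpos hne
    have hk' : P.root j = P.root k + P.root i := by rw [hk]; abel
    rcases part_same P hc hs hc' hs' hk' with h | h
    · exact hj h.2.2
    · exact h.2.1 hi

theorem pairing_pos_iff {i j : ι} : 0 < P.pairing i j ↔ 0 < P.pairing j i := by
  have := P.zero_lt_pairingIn_iff' ℤ (i := i) (j := j)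
  rwa [pairingIn_int, pairingIn_int] at this

theorem pairing_neg_iff {i j : ι} : P.pairing i j < 0 ↔ P.pairing j i < 0 := by
  have := P.pairingIn_lt_zero_iff ℤ (i := i) (j := j)
  rwa [pairingIn_int, pairingIn_int] at this

theorem pairing_zero_iff {i j : ι} : P.pairing i j = 0 ↔ P.pairing j i = 0 :=
  P.pairing_eq_zero_iff' (i := i) (j := j)

end Groth.Agent.Helper8.RD
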