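import Groth.Agent.Lib.Helper8.RootDDual
import Mathlib.LinearAlgebra.Matrix.PosDef
import Mathlib.Analysis.Matrix.PosDef
import Mathlib.LinearAlgebra.Matrix.ToLinearEquiv
import Mathlib.Algebra.Order.Star.Real

/-!
# Root data: Cartan matrices (helper8 library)
-/

set_option autoImplicit false

open RootPairing RootD
open scoped Pointwise

namespace Groth.Agent.Helper8.RD

variable {ι M N : Type*} [AddCommGroup M] [AddCommGroup N] {P : RootPairing ι ℤ M N}

/-- The quadratic form `x ↦ ∑_i (∑_a x_a (α_a, α_i^v))²` is positive on non-zero integer vectors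
indexed by a subset of a simple system. -/
theorem quad_pos [Fintype ι] {Δ Δ' : Finset ι} (hΔ : IsSimpleSys P (↑Δ : Set ι)) (hsub : Δ' ⊆ Δ)
    (x : ↥Δ' → ℤ) (hx : x ≠ 0) :
    0 < ∑ i : ι, (∑ a : ↥Δ', x a * P.pairing (a : ι) i) ^ 2 := by
  classical
  have hnn : ∀ i ∈ (Finset.univ : Finset ι), 0 ≤ (∑ a : ↥Δ', x a * P.pairing (a : ι) i) ^ 2 :=
    fun i _ => sq_nonneg _
  refine lt_of_le_of_ne (Finset.sum_nonneg hnn) ?_
  intro h0
  apply hx
  have hz := (Finset.sum_eq_zero_iff_of_nonneg hnn).mp h0.symm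
  set g : ι → ℤ := fun i => if h : i ∈ Δ' then x ⟨i, h⟩ else 0 with hg
  have hga : ∀ a : ↥Δ', g a = x a := by
    intro a
    simp only [hg, dif_pos a.2, Subtype.coe_eta]
  set y : M := ∑ i ∈ Δ', g i • P.root i with hy
  have hy' : y = ∑ a : ↥Δ', x a • P.root a := by
    rw [hy, ← Finset.sum_coe_sort Δ' (fun i => g i • P.root i)]
    exact Finset.sum_congr rfl (fun a _ => by rw [hga])
  have hymem : y ∈ Submodule.span ℤ (Set.range P.root) :=
    Submodule.sum_mem _ (fun d _ => Submodule.smul_mem _ _ (Submodule.subset_span ⟨d, rfl⟩))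
  have hy0 : y = 0 := by
    apply eq_zero_of_coroot'_eq_zero hymem
    intro i
    rw [hy', map_sum]
    have := hz i (Finset.mem_univ i)
    rw [sq_eq_zero_iff] at this
    rw [← this]
    refine Finset.sum_congr rfl (fun a _ => ?_)
    rw [map_zsmul, P.root_coroot'_eq_pairing, smul_eq_mul]
  have hli := linearIndepOn_iff'.mp hΔ.linInd Δ' g (by exact_mod_cast hsub) hy0
  funext a
  rw [← hga a]
  exact hli a a.2

/-- `∑_i (α_a, α_i^v) (α_b, α_i^v) = (α_a, α_b)` for the canonical form, and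
`2 (α_b, α_a) = (α_b, α_a^v) ℓ(α_a)`. -/
theorem sum_pairing_mul_pairing [Fintype ι] (a b : ι) :
    ∑ i : ι, P.pairing a i * P.pairing b i = P.RootForm (P.root a) (P.root b) := by
  rw [P.rootForm_apply_apply]
  simp only [P.root_coroot'_eq_pairing]

/-- The symmetrised Cartan matrix is positive definite. -/
theorem posDef_cartan [Fintype ι] {Δ : Finset ι} (hΔ : IsSimpleSys P (↑Δ : Set ι)) :
    (Matrix.of fun (a b : ↥Δ) =>
      P.RootForm (P.root a) (P.root a) * P.pairing (b : ι) (a : ι)).PosDef := by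
  classical
  have hentry : ∀ a b : ↥Δ, P.RootForm (P.root a) (P.root a) * P.pairing (b : ι) (a : ι) =
      2 * ∑ i : ι, P.pairing (a : ι) i * P.pairing (b : ι) i := by
    intro a b
    rw [sum_pairing_mul_pairing, ← P.rootForm_symmetric.eq (P.root b) (P.root a)]
    have := two_mul_rootForm (P := P) b a
    simp only [RingHom.id_apply]
    linarith
  apply Matrix.PosDef.of_dotProduct_mulVec_pos
  · rw [Matrix.isHermitian_iff_isSymm]
    ext a b
    simp only [Matrix.transpose_apply, Matrix.of_apply]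
    rw [hentry, hentry]
    congr 1
    exact Finset.sum_congr rfl (fun i _ => mul_comm _ _)
  · intro x hx
    have hq := quad_pos hΔ (Finset.Subset.refl Δ) x hx
    have : star x ⬝ᵥ (Matrix.of fun (a b : ↥Δ) =>
        P.RootForm (P.root a) (P.root a) * P.pairing (b : ι) (a : ι)).mulVec x =
        2 * ∑ i : ι, (∑ a : ↥Δ, x a * P.pairing (a : ι) i) ^ 2 := by
      simp only [star_trivial, dotProduct, Matrix.mulVec, Matrix.of_apply, hentry]
      have e1 : ∀ i : ι, (∑ a : ↥Δ, x a * P.pairing (a : ι) i) ^ 2 =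
          ∑ a : ↥Δ, ∑ b : ↥Δ, (x a * P.pairing (a : ι) i) * (x b * P.pairing (b : ι) i) := by
        intro i; rw [sq, Finset.sum_mul_sum]
      simp only [e1, Finset.mul_sum, Finset.sum_mul]
      calc ∑ a : ↥Δ, ∑ b : ↥Δ, ∑ i : ι,
            x a * (2 * (P.pairing (a : ι) i * P.pairing (b : ι) i) * x b)
          = ∑ a : ↥Δ, ∑ i : ι, ∑ b : ↥Δ,
            x a * (2 * (P.pairing (a : ι) i * P.pairing (b : ι) i) * x b) :=
            Finset.sum_congr rfl (fun a _ => Finset.sum_comm)
        _ = ∑ i : ι, ∑ a : ↥Δ, ∑ b : ↥Δ,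
            x a * (2 * (P.pairing (a : ι) i * P.pairing (b : ι) i) * x b) := Finset.sum_comm
        _ = _ := by
            refine Finset.sum_congr rfl (fun i _ => ?_)
            refine Finset.sum_congr rfl (fun a _ => ?_)
            refine Finset.sum_congr rfl (fun b _ => ?_)
            ring
    rw [this]
    linarith

open Classical in
/-- Every principal minor of the Cartan matrix of a simple system is positive. -/
theorem det_cartan_pos [Fintype ι] {Δ Δ' : Finset ι} (hΔ : IsSimpleSys P (↑Δ : Set ι))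
    (hsub : Δ' ⊆ Δ) :
    0 < Matrix.det (Matrix.of fun (a b : ↥Δ') => P.pairing (b : ι) (a : ι)) := by
  set A : Matrix ↥Δ' ↥Δ' ℤ := Matrix.of fun (a b : ↥Δ') => P.pairing (b : ι) (a : ι) with hA
  set C : Matrix ι ↥Δ' ℤ := Matrix.of fun (i : ι) (a : ↥Δ') => P.pairing (a : ι) i with hC
  set G : Matrix ↥Δ' ↥Δ' ℤ := C.transpose * C with hG
  -- (i) `det G ≠ 0`
  have hdet_ne : G.det ≠ 0 := by
    intro h0
    obtain ⟨v, hv, hGv⟩ := Matrix.exists_mulVec_eq_zero_iff.mpr h0
    have h1 : v ⬝ᵥ (G.mulVec v) = 0 := by rw [hGv, dotProduct_zero]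
    have h2 : v ⬝ᵥ (G.mulVec v) = ∑ i : ι, (∑ a : ↥Δ', v a * P.pairing (a : ι) i) ^ 2 := by
      rw [hG, ← Matrix.mulVec_mulVec, Matrix.dotProduct_mulVec, Matrix.vecMul_transpose]
      simp only [dotProduct, Matrix.mulVec, hC, Matrix.of_apply, sq]
      refine Finset.sum_congr rfl (fun i _ => ?_)
      congr 1 <;> exact Finset.sum_congr rfl (fun a _ => mul_comm _ _)
    have := quad_pos hΔ hsub v hv
    rw [← h2, h1] at this
    exact lt_irrefl _ this
  -- (ii) `det G ≥ 0` via the reals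
  have hdet_nn : 0 ≤ G.det := by
    have hps : ((C.map (Int.cast : ℤ → ℝ)).conjTranspose * C.map (Int.cast : ℤ → ℝ)).PosSemidef :=
      Matrix.posSemidef_conjTranspose_mul_self _
    have h3 := hps.det_nonneg
    have h4 : (C.map (Int.cast : ℤ → ℝ)).conjTranspose * C.map (Int.cast : ℤ → ℝ) =
        (Int.castRingHom ℝ).mapMatrix G := by
      rw [hG, RingHom.mapMatrix_apply, Matrix.map_mul, Matrix.transpose_map]
      rfl
    rw [h4, ← RingHom.map_det] at h3
    have h5 : ((G.det : ℤ) : ℝ) = Int.castRingHom ℝ G.det := rfl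
    rw [← h5] at h3
    exact_mod_cast h3
  have hGpos : 0 < G.det := lt_of_le_of_ne hdet_nn (Ne.symm hdet_ne)
  -- (iv) relation with the Cartan matrix
  set B : ↥Δ' → ℤ := fun a => P.RootForm (P.root a) (P.root a) with hB
  have hBpos : ∀ a, 0 < B a := fun a => rootForm_root_pos (P := P) (a : ι)
  have hrel : Matrix.diagonal B * A = (2 : ℤ) • G := by
    ext a b
    rw [Matrix.diagonal_mul, Matrix.smul_apply, hG, Matrix.mul_apply]
    simp only [hA, hC, Matrix.of_apply, Matrix.transpose_apply, smul_eq_mul]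
    rw [sum_pairing_mul_pairing, ← P.rootForm_symmetric.eq (P.root b) (P.root a)]
    have := two_mul_rootForm (P := P) (b : ι) (a : ι)
    simp only [RingHom.id_apply]
    linarith
  have hdet := congrArg Matrix.det hrel
  rw [Matrix.det_mul, Matrix.det_diagonal, Matrix.det_smul] at hdet
  have hprod : 0 < ∏ a, B a := Finset.prod_pos (fun a _ => hBpos a)
  have hrhs : 0 < (2 : ℤ) ^ Fintype.card ↥Δ' * G.det := mul_pos (pow_pos two_pos _) hGpos
  rw [← hdet] at hrhs
  exact (mul_pos_iff_of_pos_left hprod).mp hrhs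

end Groth.Agent.Helper8.RD
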