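import Groth.Agent.Lib.Helper8.RootDPart

/-!
# Root data: criteria for simple systems (helper8 library)
-/

set_option autoImplicit false

open RootPairing RootD
open scoped Pointwise

namespace Groth.Agent.Helper8.RD

variable {ι M N : Type*} [AddCommGroup M] [AddCommGroup N] {P : RootPairing ι ℤ M N}

theorem lc_inj' {Δ : Set ι} (hli : LinearIndepOn ℤ P.root Δ) {c c' : ι →₀ ℤ}
    (hc : ↑c.support ⊆ Δ) (hc' : ↑c'.support ⊆ Δ) (h : lc P c = lc P c') : c = c' := by
  classical
  have h0 := linearIndepOn_iff.mp hli (c - c') ?_ ?_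
  · exact sub_eq_zero.mp h0
  · rw [Finsupp.mem_supported]
    intro j hj
    have := Finsupp.support_sub hj
    rw [Finset.mem_union] at this
    rcases this with h | h
    · exact hc h
    · exact hc' h
  · rw [map_sub]
    exact sub_eq_zero.mpr h

/-- Expansion lemma: if a positive multiple of the simple root `e` of `Δ₀` is a non-negative
combination of a set `Δ` of positive roots, then some member of `Δ` occurring in the combination
is a positive multiple of `e`. -/
theorem exists_mul_of_expansion {Δ₀ Δ : Set ι} (hΔ₀ : IsSimpleSys P Δ₀) (hΔpos : Δ ⊆ posOf P Δ₀)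
    {e : ι} (he : e ∈ Δ₀) {m : ℤ} (hm : 0 < m) {c : ι →₀ ℤ} (hc : ↑c.support ⊆ Δ)
    (hc0 : ∀ i, 0 ≤ c i) (hlc : lc P c = m • P.root e) :
    ∃ d₀ ∈ Δ, ∃ t : ℤ, 0 < t ∧ P.root d₀ = t • P.root e ∧ 0 < c d₀ ∧ c d₀ * t ≤ m := by
  classical
  -- the combined coefficient vector along `Δ₀`
  set D : ι →₀ ℤ := c.sum (fun d n => n • coeff hΔ₀ d) with hD
  have hDapply : ∀ e' : ι, D e' = ∑ d ∈ c.support, c d * coeff hΔ₀ d e' := by
    intro e'
    rw [hD, Finsupp.sum, Finsupp.finsetSum_apply]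
    simp
  have hDsupp : ↑D.support ⊆ Δ₀ := by
    intro e' he'
    by_contra hne
    have : D e' = 0 := by
      rw [hDapply]
      exact Finset.sum_eq_zero (fun d _ => by rw [coeff_apply_of_notMem hΔ₀ d hne, mul_zero])
    exact (Finsupp.mem_support_iff.mp he') this
  have hDlc : lc P D = m • P.root e := by
    rw [← hlc, hD, lc, Finsupp.sum, map_sum, lc, Finsupp.linearCombination_apply, Finsupp.sum]
    refine Finset.sum_congr rfl (fun d _ => ?_)
    rw [map_smul]
    congr 1
    exact coeff_lc hΔ₀ d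
  have hDeq : D = m • Finsupp.single e 1 := by
    apply lc_inj hΔ₀ hDsupp
    · intro e' he'
      have := Finsupp.support_smul he'
      have := Finsupp.support_single_subset this
      rw [Finset.mem_singleton] at this
      exact this ▸ he
    · rw [hDlc, lc, map_smul, Finsupp.linearCombination_single, one_smul]
  have hterm_nonneg : ∀ (e' : ι) (d : ι), d ∈ c.support → 0 ≤ c d * coeff hΔ₀ d e' := by
    intro e' d hd
    exact mul_nonneg (hc0 d) ((mem_posOf_iff hΔ₀).mp (hΔpos (hc hd)) e')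
  -- at `e`, the sum is `m > 0`, so some term is positive
  have hsum_e : ∑ d ∈ c.support, c d * coeff hΔ₀ d e = m := by
    rw [← hDapply, hDeq]
    simp
  obtain ⟨d₀, hd₀, hpos⟩ : ∃ d₀ ∈ c.support, 0 < c d₀ * coeff hΔ₀ d₀ e := by
    by_contra hcon
    push Not at hcon
    have := Finset.sum_nonpos hcon
    omega
  have hcd₀ : 0 < c d₀ := by
    have := hc0 d₀
    have hne : c d₀ ≠ 0 := Finsupp.mem_support_iff.mp hd₀
    omega
  have ht : 0 < coeff hΔ₀ d₀ e := (mul_pos_iff_of_pos_left hcd₀).mp hpos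
  -- at `e' ≠ e` all terms vanish
  have hzero : ∀ e' : ι, e' ≠ e → coeff hΔ₀ d₀ e' = 0 := by
    intro e' hne
    have h0 : ∑ d ∈ c.support, c d * coeff hΔ₀ d e' = 0 := by
      rw [← hDapply, hDeq]
      simp [Ne.symm hne]
    have := (Finset.sum_eq_zero_iff_of_nonneg (fun d hd => hterm_nonneg e' d hd)).mp h0 d₀ hd₀
    rcases mul_eq_zero.mp this with h | h
    · omega
    · exact h
  have hsingle : coeff hΔ₀ d₀ = Finsupp.single e (coeff hΔ₀ d₀ e) := by
    ext e'
    rw [Finsupp.single_apply]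
    split_ifs with h
    · rw [h]
    · exact hzero e' (fun h' => h h'.symm)
  refine ⟨d₀, hc hd₀, coeff hΔ₀ d₀ e, ht, ?_, hcd₀, ?_⟩
  · have := coeff_lc hΔ₀ d₀
    rw [hsingle, lc, Finsupp.linearCombination_single] at this
    rw [← this]
  · rw [← hsum_e]
    exact Finset.single_le_sum (f := fun d => c d * coeff hΔ₀ d e)
      (fun d hd => hterm_nonneg e d hd) hd₀

/-- `x` and `-x` both in the non-negative span of a linearly independent set forces `x = 0`. -/
theorem eq_zero_of_mem_of_neg_mem' {Δ : Set ι} (hli : LinearIndepOn ℤ P.root Δ) {x : M}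
    (h : x ∈ natSpan P Δ) (h' : -x ∈ natSpan P Δ) : x = 0 := by
  obtain ⟨c, hc, hc0, rfl⟩ := (mem_natSpan_iff P).mp h
  obtain ⟨c', hc', hc0', h2⟩ := (neg_mem_natSpan_iff P).mp h'
  have := lc_inj' hli hc' hc h2
  subst this
  have : c' = 0 := by
    ext i
    have := hc0 i
    have := hc0' i
    rw [Finsupp.zero_apply]
    omega
  rw [this, lc, map_zero]

/-- Criterion: a linearly independent set of indivisible roots such that every root is, up to
sign, a non-negative rational combination of them is a simple system. -/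
theorem isSimpleSys_of_indiv [Finite ι] (Δ : Set ι) (hind : ∀ i ∈ Δ, IsIndiv P i)
    (hli : LinearIndepOn ℤ P.root Δ)
    (hcone : ∀ k : ι, ∃ n : ℕ, 0 < n ∧
      (n • P.root k ∈ natSpan P Δ ∨ n • (-P.root k) ∈ natSpan P Δ)) :
    IsSimpleSys P Δ := by
  classical
  have htf := tf P
  set S : Set ι := {k : ι | ∃ n : ℕ, 0 < n ∧ n • P.root k ∈ natSpan P Δ} with hS
  have hS2 : ∀ i, i ∈ S ∨ P.reflectionPerm i i ∈ S := by
    intro k
    obtain ⟨n, hn, h | h⟩ := hcone k
    · exact Or.inl ⟨n, hn, h⟩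
    · exact Or.inr ⟨n, hn, by rw [root_neg]; exact h⟩
  have hS1 : ∀ i ∈ S, P.reflectionPerm i i ∉ S := by
    rintro k ⟨n, hn, h⟩ ⟨m, hm, h'⟩
    rw [root_neg] at h'
    have h1 : (n * m) • P.root k ∈ natSpan P Δ := by
      rw [mul_comm, mul_smul]; exact nsmul_mem h m
    have h2 : -((n * m) • P.root k) ∈ natSpan P Δ := by
      rw [← smul_neg, mul_smul]; exact nsmul_mem h' n
    have h3 := eq_zero_of_mem_of_neg_mem' hli h1 h2
    have h4 : (n * m) • P.root k = (n * m) • (0 : M) := by rw [h3, smul_zero]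
    exact P.ne_zero k (nsmul_right_injective (Nat.mul_pos hn hm).ne' h4)
  have hcl : IsClosedSub P S := by
    rintro a b k ⟨n, hn, ha⟩ ⟨m, hm, hb⟩ h
    refine ⟨n * m, Nat.mul_pos hn hm, ?_⟩
    rw [h, smul_add, mul_smul, mul_comm, mul_smul]
    rw [smul_comm n m (P.root a), smul_comm m n (P.root b)]
    exact add_mem (nsmul_mem ha m) (nsmul_mem hb n)
  obtain ⟨Δ₀, hΔ₀, hpos⟩ := exists_simpleSys_of_closed hS1 hS2 hcl
  have hΔS : Δ ⊆ posOf P Δ₀ := by
    intro d hd
    rw [hpos]
    exact ⟨1, one_pos, by rw [one_smul]; exact root_mem_natSpan P hd⟩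
  -- every element of `Δ₀` lies in `Δ`
  have h₀ : Δ₀ ⊆ Δ := by
    intro e he
    have heS : e ∈ S := hpos ▸ subset_posOf hΔ₀ he
    obtain ⟨n, hn, hmem⟩ := heS
    obtain ⟨c, hc, hc0, hlc⟩ := (mem_natSpan_iff P).mp hmem
    have hn' : (0 : ℤ) < (n : ℤ) := by exact_mod_cast hn
    obtain ⟨d₀, hd₀, t, ht, hroot, -, -⟩ := exists_mul_of_expansion hΔ₀ hΔS he hn' hc hc0
      (by rw [hlc, natCast_zsmul])
    have hdvd : t ∣ 1 := dvd_of_smul_eq_smul_indiv d₀ e (hind d₀ hd₀) 1 t ht.ne'
      (by rw [one_smul, hroot])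
    have ht1 : t = 1 := by
      rcases Int.isUnit_iff.mp (isUnit_of_dvd_one hdvd) with h | h <;> omega
    rw [ht1, one_smul] at hroot
    exact P.root.injective hroot ▸ hd₀
  -- and conversely
  have h₁ : Δ ⊆ Δ₀ := by
    intro d hd
    have h1 : coeff hΔ₀ d = Finsupp.single d 1 := by
      apply lc_inj' hli ((coeff_supp hΔ₀ d).trans h₀)
      · intro e he
        have := Finsupp.support_single_subset he
        rw [Finset.mem_singleton] at this
        exact this ▸ hd
      · rw [coeff_lc, lc, Finsupp.linearCombination_single, one_smul]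
    apply coeff_supp hΔ₀ d
    rw [h1, Finset.mem_coe, Finsupp.mem_support_iff, Finsupp.single_eq_same]
    exact one_ne_zero
  rw [Set.Subset.antisymm h₁ h₀]
  exact hΔ₀

/-- Criterion: if every root has exactly one expression as a same-sign integer combination of
`Δ`, then `Δ` is a simple system. -/
theorem isSimpleSys_of_unique [Finite ι] (Δ : Set ι)
    (h : ∀ k : ι, ∃! c : ι →₀ ℤ, (↑c.support ⊆ Δ ∧ ((∀ j, 0 ≤ c j) ∨ (∀ j, c j ≤ 0)) ∧
      Finsupp.linearCombination ℤ P.root c = P.root k)) :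
    IsSimpleSys P Δ := by
  classical
  set S : Set ι := posOf P Δ with hS
  have hS2 : ∀ i, i ∈ S ∨ P.reflectionPerm i i ∈ S := by
    intro k
    obtain ⟨c, ⟨hc, hsign, hlc⟩, -⟩ := h k
    rcases hsign with h0 | h0
    · exact Or.inl ((mem_natSpan_iff P).mpr ⟨c, hc, h0, hlc⟩)
    · right
      show P.root (P.reflectionPerm k k) ∈ natSpan P Δ
      rw [root_neg]
      exact (neg_mem_natSpan_iff P).mpr ⟨c, hc, h0, hlc⟩
  have hS1 : ∀ i ∈ S, P.reflectionPerm i i ∉ S := by
    intro k hk hk'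
    obtain ⟨c, hc, hc0, hlc⟩ := (mem_natSpan_iff P).mp hk
    have hk'' : -P.root k ∈ natSpan P Δ := by rw [← root_neg]; exact hk'
    obtain ⟨c', hc', hc0', hlc'⟩ := (neg_mem_natSpan_iff P).mp hk''
    have heq : c = c' := (h k).unique ⟨hc, Or.inl hc0, hlc⟩ ⟨hc', Or.inr hc0', hlc'⟩
    subst heq
    have : c = 0 := by
      ext i
      have := hc0 i
      have := hc0' i
      rw [Finsupp.zero_apply]
      omega
    rw [this, lc, map_zero] at hlc
    exact P.ne_zero k hlc.symm
  have hcl : IsClosedSub P S := by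
    intro a b k ha hb hk
    show P.root k ∈ natSpan P Δ
    rw [hk]
    exact add_mem ha hb
  obtain ⟨Δ₀, hΔ₀, hpos⟩ := exists_simpleSys_of_closed hS1 hS2 hcl
  have hΔS : Δ ⊆ posOf P Δ₀ := by
    intro d hd
    rw [hpos]
    exact root_mem_natSpan P hd
  have h₀ : Δ₀ ⊆ Δ := by
    intro e he
    have heS : e ∈ S := hpos ▸ subset_posOf hΔ₀ he
    obtain ⟨c, hc, hc0, hlc⟩ := (mem_natSpan_iff P).mp heS
    obtain ⟨d₀, hd₀, t, ht, hroot, hcd, hle⟩ := exists_mul_of_expansion hΔ₀ hΔS he one_pos hc hc0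
      (by rw [hlc, one_smul])
    have ht1 : t = 1 := by nlinarith
    rw [ht1, one_smul] at hroot
    exact P.root.injective hroot ▸ hd₀
  have h₁ : Δ ⊆ Δ₀ := by
    intro d hd
    have h1 : coeff hΔ₀ d = Finsupp.single d 1 := by
      refine (h d).unique ⟨(coeff_supp hΔ₀ d).trans h₀,
        Or.inl ((mem_posOf_iff hΔ₀).mp (hΔS hd)), coeff_lc hΔ₀ d⟩ ⟨?_, Or.inl ?_, ?_⟩
      · intro e he
        have := Finsupp.support_single_subset he
        rw [Finset.mem_singleton] at this
        exact this ▸ hd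
      · intro j
        rw [Finsupp.single_apply]
        split_ifs <;> norm_num
      · rw [Finsupp.linearCombination_single, one_smul]
    apply coeff_supp hΔ₀ d
    rw [h1, Finset.mem_coe, Finsupp.mem_support_iff, Finsupp.single_eq_same]
    exact one_ne_zero
  rw [Set.Subset.antisymm h₁ h₀]
  exact hΔ₀

end Groth.Agent.Helper8.RD
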