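import Groth.Agent.Lib.Helper8.RootD
import Mathlib.GroupTheory.OrderOfElement
import Mathlib.LinearAlgebra.RootSystem.Reduced

/-!
# The rank-two subgroup generated by two reflections is dihedral of order `2n`
-/

set_option autoImplicit false

open RootPairing

namespace Groth.Agent.Helper8.RD

section group

variable {G : Type*} [Group G]

/-- A group generated by two involutions `a`, `b` with `a ∉ ⟨ab⟩` and `ab` of finite order `n`
has `2n` elements. -/
theorem card_closure_pair (a b : G) (ha : a * a = 1) (hb : b * b = 1)
    (hna : a ∉ Subgroup.zpowers (a * b)) (hr : 0 < orderOf (a * b)) :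
    Nat.card (Subgroup.closure ({a, b} : Set G)) = 2 * orderOf (a * b) := by
  set r := a * b with hrdef
  set Z := Subgroup.zpowers r with hZ
  have hainv : a⁻¹ = a := inv_eq_of_mul_eq_one_right ha
  have hbinv : b⁻¹ = b := inv_eq_of_mul_eq_one_right hb
  have hrZ : r ∈ Z := Subgroup.mem_zpowers r
  have ha' : ∀ g : G, a * (a * g) = g := fun g => by rw [← mul_assoc, ha, one_mul]
  -- conjugation by `a` preserves `Z`
  have hconj : ∀ g ∈ Z, a * g * a ∈ Z := by
    intro g hg
    obtain ⟨z, rfl⟩ := Subgroup.mem_zpowers_iff.mp hg
    have h1 : a * r * a⁻¹ = r⁻¹ := by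
      rw [hrdef, mul_inv_rev, hainv, hbinv]
      simp only [mul_assoc, ha']
    have h2 : a * r ^ z * a = (r⁻¹) ^ z := by
      calc a * r ^ z * a = a * r ^ z * a⁻¹ := by rw [hainv]
        _ = (a * r * a⁻¹) ^ z := (conj_zpow).symm
        _ = (r⁻¹) ^ z := by rw [h1]
    rw [h2]
    exact Z.zpow_mem (Z.inv_mem hrZ) z
  have hset : (Subgroup.closure ({a, b} : Set G) : Set G) =
      (Z : Set G) ∪ (fun g => g * a) '' (Z : Set G) := by
    apply Set.Subset.antisymm
    · -- `closure ⊆ Z ∪ Za`
      have key : ∀ g ∈ Subgroup.closure ({a, b} : Set G), g ∈ Z ∨ g * a ∈ Z := by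
        intro g hg
        induction hg using Subgroup.closure_induction with
        | mem x hx =>
          rcases hx with rfl | hx
          · right; rw [ha]; exact Z.one_mem
          · rw [Set.mem_singleton_iff] at hx
            subst hx
            right
            have : x * a = r⁻¹ := by rw [hrdef, mul_inv_rev, hainv, hbinv]
            rw [this]; exact Z.inv_mem hrZ
        | one => left; exact Z.one_mem
        | mul x y _ _ hx hy =>
          rcases hx with hx | hx <;> rcases hy with hy | hy
          · left; exact Z.mul_mem hx hy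
          · right; rw [mul_assoc]; exact Z.mul_mem hx hy
          · right
            have : x * y * a = (x * a) * (a * y * a) := by
              simp only [mul_assoc, ha']
            rw [this]; exact Z.mul_mem hx (hconj y hy)
          · left
            have : x * y = (x * a) * (a * (y * a) * a) := by
              simp only [mul_assoc, ha', ha, mul_one]
            rw [this]; exact Z.mul_mem hx (hconj _ hy)
        | inv x _ hx =>
          rcases hx with hx | hx
          · left; exact Z.inv_mem hx
          · right
            have : x⁻¹ * a = a * (x * a)⁻¹ * a := by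
              rw [mul_inv_rev, hainv]
              simp only [mul_assoc, ha']
            rw [this]; exact hconj _ (Z.inv_mem hx)
      intro g hg
      rcases key g hg with h | h
      · exact Or.inl h
      · refine Or.inr ⟨g * a, h, ?_⟩
        show g * a * a = g
        rw [mul_assoc, ha, mul_one]
    · -- `Z ∪ Za ⊆ closure`
      have haC : a ∈ Subgroup.closure ({a, b} : Set G) := Subgroup.subset_closure (by simp)
      have hbC : b ∈ Subgroup.closure ({a, b} : Set G) := Subgroup.subset_closure (by simp)
      have hZC : Z ≤ Subgroup.closure ({a, b} : Set G) := by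
        rw [hZ, Subgroup.zpowers_le]
        exact mul_mem haC hbC
      rintro g (hg | ⟨h, hh, rfl⟩)
      · exact hZC hg
      · exact mul_mem (hZC hh) haC
  have hcardZ : Nat.card Z = orderOf r := Nat.card_zpowers r
  have hfinZ : Finite Z := Nat.finite_of_card_ne_zero (by rw [hcardZ]; exact hr.ne')
  have hfinZs : (Z : Set G).Finite := Set.toFinite _
  have hdisj : Disjoint (Z : Set G) ((fun g => g * a) '' (Z : Set G)) := by
    rw [Set.disjoint_left]
    rintro g hg ⟨h, hh, hEq⟩
    apply hna
    have : a = h⁻¹ * g := by rw [← hEq, inv_mul_cancel_left]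
    rw [this]
    exact Z.mul_mem (Z.inv_mem hh) hg
  have hncZ : (Z : Set G).ncard = orderOf r := by
    rw [← hcardZ]; exact (Nat.card_coe_set_eq (Z : Set G)).symm
  calc Nat.card (Subgroup.closure ({a, b} : Set G))
      = (Subgroup.closure ({a, b} : Set G) : Set G).ncard :=
        Nat.card_coe_set_eq _
    _ = ((Z : Set G) ∪ (fun g => g * a) '' (Z : Set G)).ncard := by rw [hset]
    _ = (Z : Set G).ncard + ((fun g => g * a) '' (Z : Set G)).ncard :=
        Set.ncard_union_eq hdisj hfinZs (hfinZs.image _)
    _ = orderOf r + orderOf r := by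
        rw [Set.ncard_image_of_injective _ (mul_left_injective a), hncZ]
    _ = 2 * orderOf r := by ring

/-- If `a ∈ ⟨ab⟩` for involutions `a, b`, then `a = 1`, `b = 1` or `a = b`. -/
theorem eq_of_mem_zpowers (a b : G) (ha : a * a = 1) (hb : b * b = 1)
    (h : a ∈ Subgroup.zpowers (a * b)) : a = 1 ∨ b = 1 ∨ a = b := by
  have hainv : a⁻¹ = a := inv_eq_of_mul_eq_one_right ha
  have hbinv : b⁻¹ = b := inv_eq_of_mul_eq_one_right hb
  obtain ⟨z, hz⟩ := Subgroup.mem_zpowers_iff.mp h
  -- `a` commutes with `ab`
  have hcomm : a * (a * b) = (a * b) * a := by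
    have hc : Commute ((a * b) ^ z) (a * b) := (Commute.refl (a * b)).zpow_left z
    rw [hz] at hc
    exact hc.eq
  have hab : a * b = b * a := by
    have h1 : b = a * b * a := by rw [← hcomm, ← mul_assoc, ha, one_mul]
    calc a * b = a * (a * b * a) := by rw [← h1]
      _ = b * a := by rw [← mul_assoc, ← mul_assoc, ha, one_mul]
  have hsq : (a * b) ^ 2 = 1 := by
    rw [pow_two]
    calc a * b * (a * b) = a * (b * a) * b := by simp only [mul_assoc]
      _ = a * (a * b) * b := by rw [hab]
      _ = 1 := by rw [← mul_assoc, ha, one_mul, hb]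
  -- so `(ab)^z ∈ {1, ab}`
  have hz' : (a * b) ^ z = 1 ∨ (a * b) ^ z = a * b := by
    rcases Int.emod_two_eq_zero_or_one z with h2 | h2
    · left
      obtain ⟨k, hk⟩ : ∃ k, z = 2 * k := ⟨z / 2, by omega⟩
      rw [hk, zpow_mul, zpow_two, ← pow_two, hsq, one_zpow]
    · right
      obtain ⟨k, hk⟩ : ∃ k, z = 2 * k + 1 := ⟨z / 2, by omega⟩
      rw [hk, zpow_add, zpow_mul, zpow_two, ← pow_two, hsq, one_zpow, one_mul, zpow_one]
  rcases hz' with h1 | h1
  · left; exact hz.symm.trans h1
  · right; left
    have : a = a * b := hz.symm.trans h1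
    have h2 : a * 1 = a * b := by rw [mul_one]; exact this
    exact (mul_left_cancel h2).symm

end group

variable {ι M N : Type*} [AddCommGroup M] [AddCommGroup N] {P : RootPairing ι ℤ M N}

theorem refl_mul_self' (a : ι) : Equiv.reflection P a * Equiv.reflection P a = 1 := by
  have h := Equiv.reflection_inv P a
  calc Equiv.reflection P a * Equiv.reflection P a
      = (Equiv.reflection P a)⁻¹ * Equiv.reflection P a := by rw [h]
    _ = 1 := inv_mul_cancel _

theorem refl_ne_one (i : ι) : Equiv.reflection P i ≠ 1 := by
  intro h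
  have h1 : Equiv.reflection P i • P.root i = P.root i := by rw [h, one_smul]
  rw [Equiv.reflection_smul, reflection_apply_self] at h1
  have h2 : (2 : ℤ) • P.root i = 0 := by
    rw [two_smul]
    nth_rewrite 1 [← h1]
    exact neg_add_cancel _
  have := tf P
  have h3 : P.root i = 0 := by
    have := smul_eq_zero.mp h2
    rcases this with h | h
    · norm_num at h
    · exact h
  exact P.ne_zero i h3

theorem refl_ne_refl {i j : ι} (hli : LinearIndependent ℤ ![P.root i, P.root j]) :
    Equiv.reflection P i ≠ Equiv.reflection P j := by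
  intro h
  have h1 : Equiv.reflection P i • P.root i = Equiv.reflection P j • P.root i := by rw [h]
  rw [Equiv.reflection_smul, Equiv.reflection_smul, reflection_apply_self, reflection_apply] at h1
  -- `-α = α - c β`, so `2 α - c β = 0`
  have h2 : (2 : ℤ) • P.root i + (-(P.coroot' j (P.root i))) • P.root j = 0 := by
    rw [two_smul, neg_smul]
    have : P.root i = -(P.root i - (P.coroot' j) (P.root i) • P.root j) := by rw [← h1, neg_neg]
    nth_rewrite 1 [this]
    abel
  have := LinearIndependent.pair_iff.mp hli _ _ h2
  norm_num at this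

/-- Elements of the rank two group fix vectors orthogonal to both coroots. -/
theorem smul_eq_of_orth {i j : ι} {g : P.Aut}
    (hg : g ∈ Subgroup.closure ({Equiv.reflection P i, Equiv.reflection P j} : Set P.Aut))
    (x : M) (hi : P.coroot' i x = 0) (hj : P.coroot' j x = 0) : g • x = x := by
  induction hg using Subgroup.closure_induction with
  | mem y hy =>
    rcases hy with rfl | hy
    · rw [Equiv.reflection_smul, reflection_apply, hi, zero_smul, sub_zero]
    · rw [Set.mem_singleton_iff] at hy
      subst hy
      rw [Equiv.reflection_smul, reflection_apply, hj, zero_smul, sub_zero]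
  | one => exact one_smul _ _
  | mul y z _ _ hy hz => rw [mul_smul, hz, hy]
  | inv y _ hy =>
    calc y⁻¹ • x = y⁻¹ • (y • x) := by rw [hy]
      _ = x := inv_smul_smul y x

/-- An element of the rank two group fixing both roots is trivial. -/
theorem eq_one_of_fix [Finite ι] {i j : ι} (hli : LinearIndependent ℤ ![P.root i, P.root j])
    {g : P.Aut}
    (hg : g ∈ Subgroup.closure ({Equiv.reflection P i, Equiv.reflection P j} : Set P.Aut))
    (hi : g • i = i) (hj : g • j = j) : g = 1 := by
  have htf := tf P
  have hd : P.pairing i j * P.pairing j i ≠ 4 :=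
    P.coxeterWeight_ne_four_of_linearIndependent hli
  have hgi : g • P.root i = P.root i := by rw [← aut_root, hi]
  have hgj : g • P.root j = P.root j := by rw [← aut_root, hj]
  apply Equiv.weightHom_injective P
  ext x
  show g • x = x
  set p := P.coroot' i x with hp
  set q := P.coroot' j x with hq
  set A := P.pairing i j with hA
  set B := P.pairing j i with hB
  set d : ℤ := 4 - A * B with hdd
  have hd0 : d ≠ 0 := by
    intro h; apply hd; rw [hdd] at h; linarith
  set c₁ : ℤ := 2 * p - B * q with hc₁
  set c₂ : ℤ := -A * p + 2 * q with hc₂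
  set x' : M := d • x - c₁ • P.root i - c₂ • P.root j with hx'
  have hAi : P.coroot' j (P.root i) = A := rfl
  have hBj : P.coroot' i (P.root j) = B := rfl
  have h2i : P.coroot' i (P.root i) = 2 := P.root_coroot_two i
  have h2j : P.coroot' j (P.root j) = 2 := P.root_coroot_two j
  have hxi : P.coroot' i x' = 0 := by
    rw [hx', map_sub, map_sub, map_zsmul, map_zsmul, map_zsmul, h2i, hBj, ← hp]
    simp only [smul_eq_mul, hdd, hc₁, hc₂]
    ring
  have hxj : P.coroot' j x' = 0 := by
    rw [hx', map_sub, map_sub, map_zsmul, map_zsmul, map_zsmul, h2j, hAi, ← hq]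
    simp only [smul_eq_mul, hdd, hc₁, hc₂]
    ring
  have hgx' : g • x' = x' := smul_eq_of_orth hg x' hxi hxj
  have hdx : d • x = x' + c₁ • P.root i + c₂ • P.root j := by rw [hx']; abel
  have hgdx : g • (d • x) = d • x := by
    rw [hdx, smul_add, smul_add, hgx', smul_comm g c₁, smul_comm g c₂, hgi, hgj]
  have h0 : d • (g • x - x) = 0 := by
    rw [smul_sub, ← smul_comm g d, hgdx, sub_self]
  rcases smul_eq_zero.mp h0 with h | h
  · exact absurd h hd0
  · exact sub_eq_zero.mp h

/-- The subgroup generated by the reflections in two linearly independent roots has `2n` elements,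
`n` the order of the product of the two reflections on the pair of roots. -/
theorem card_closure_refl_pair [Finite ι] {i j : ι}
    (hli : LinearIndependent ℤ ![P.root i, P.root j]) (n : ℕ)
    (hn : IsLeast {m : ℕ | 0 < m ∧ ((Equiv.reflection P i * Equiv.reflection P j) ^ m) • i = i ∧
      ((Equiv.reflection P i * Equiv.reflection P j) ^ m) • j = j} n) :
    Nat.card (Subgroup.closure ({Equiv.reflection P i, Equiv.reflection P j} : Set P.Aut)) =
      2 * n := by
  set a := Equiv.reflection P i with ha
  set b := Equiv.reflection P j with hb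
  have haa : a * a = 1 := refl_mul_self' i
  have hbb : b * b = 1 := refl_mul_self' j
  have hmem : ∀ m : ℕ, (a * b) ^ m ∈ Subgroup.closure ({a, b} : Set P.Aut) := fun m =>
    pow_mem (mul_mem (Subgroup.subset_closure (by simp)) (Subgroup.subset_closure (by simp))) m
  have hiff : ∀ m : ℕ, (a * b) ^ m = 1 ↔ ((a * b) ^ m) • i = i ∧ ((a * b) ^ m) • j = j := by
    intro m
    constructor
    · intro h; rw [h]; exact ⟨one_smul _ _, one_smul _ _⟩
    · rintro ⟨h1, h2⟩; exact eq_one_of_fix hli (hmem m) h1 h2
  have hord : orderOf (a * b) = n := by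
    rw [orderOf_eq_iff hn.1.1]
    refine ⟨(hiff n).mpr hn.1.2, fun m hm hm0 h1 => ?_⟩
    have := hn.2 ⟨hm0, (hiff m).mp h1⟩
    omega
  have hna : a ∉ Subgroup.zpowers (a * b) := by
    intro h
    rcases eq_of_mem_zpowers a b haa hbb h with h1 | h1 | h1
    · exact refl_ne_one i h1
    · exact refl_ne_one j h1
    · exact refl_ne_refl hli h1
  rw [← hord]
  exact card_closure_pair a b haa hbb hna (by rw [hord]; exact hn.1.1)

end Groth.Agent.Helper8.RD
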