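import Groth.Agent.Lib.Helper8.RootDCrit

/-!
# Root data: simple coroots (helper8 library)
-/

set_option autoImplicit false

open RootPairing RootD
open scoped Pointwise

namespace Groth.Agent.Helper8.RD

variable {ι M N : Type*} [AddCommGroup M] [AddCommGroup N] {P : RootPairing ι ℤ M N}

/-- `ℓ(α_d) • α_d^v = 2 • Pol(α_d)`, summed: twice the polarization of a combination of roots. -/
theorem two_smul_polarization_sum [Fintype ι] (t : Finset ι) (g : ι → ℤ) :
    (2 : ℤ) • P.Polarization (∑ d ∈ t, g d • P.root d) =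
      ∑ d ∈ t, (g d * P.RootForm (P.root d) (P.root d)) • P.coroot d := by
  rw [map_sum, Finset.smul_sum]
  refine Finset.sum_congr rfl (fun d _ => ?_)
  rw [map_zsmul, smul_comm, mul_smul, P.rootForm_self_smul_coroot d, two_nsmul, two_smul]

/-- If the polarization of an element of the root lattice vanishes, the element is zero. -/
theorem eq_zero_of_polarization_eq_zero [Fintype ι] {x : M}
    (hx : x ∈ Submodule.span ℤ (Set.range P.root)) (h : P.Polarization x = 0) : x = 0 := by
  apply P.eq_zero_of_mem_rootSpan_of_rootForm_self_eq_zero hx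
  have := (P.polarization_apply_eq_zero_iff x).mp h
  rw [this]
  rfl

/-- The coroots of a simple system are linearly independent. -/
theorem linearIndepOn_coroot [Finite ι] {Δ : Set ι} (hΔ : IsSimpleSys P Δ) :
    LinearIndepOn ℤ P.coroot Δ := by
  classical
  have : Fintype ι := Fintype.ofFinite ι
  have htf := tf P
  have htfN := tfN P
  rw [linearIndepOn_iff']
  intro t g ht hsum
  set B : ι → ℤ := fun i => P.RootForm (P.root i) (P.root i) with hB
  have hBpos : ∀ i, 0 < B i := fun i => rootForm_root_pos (P := P) i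
  set L : ι → ℤ := fun d => ∏ i ∈ Finset.univ.erase d, B i with hL
  have hLpos : ∀ d, 0 < L d := fun d => Finset.prod_pos (fun i _ => hBpos i)
  have hBL : ∀ d, B d * L d = ∏ i, B i := fun d =>
    Finset.mul_prod_erase Finset.univ B (Finset.mem_univ d)
  set x : M := ∑ d ∈ t, (g d * L d) • P.root d with hx
  have hxmem : x ∈ Submodule.span ℤ (Set.range P.root) :=
    Submodule.sum_mem _ (fun d _ => Submodule.smul_mem _ _ (Submodule.subset_span ⟨d, rfl⟩))
  have h2 : (2 : ℤ) • P.Polarization x = 0 := by
    rw [hx, two_smul_polarization_sum]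
    have : ∀ d ∈ t, (g d * L d * P.RootForm (P.root d) (P.root d)) • P.coroot d =
        (∏ i, B i) • (g d • P.coroot d) := by
      intro d _
      rw [smul_smul]
      congr 1
      rw [← hBL d]
      ring
    rw [Finset.sum_congr rfl this, ← Finset.smul_sum, hsum, smul_zero]
  have h3 : P.Polarization x = 0 := by
    have : (2 : ℤ) • P.Polarization x = (2 : ℤ) • (0 : N) := by rw [h2, smul_zero]
    exact smul_right_injective N (two_ne_zero (α := ℤ)) this
  have hx0 : x = 0 := eq_zero_of_polarization_eq_zero hxmem h3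
  have := linearIndepOn_iff'.mp hΔ.linInd t (fun d => g d * L d) ht hx0
  intro d hd
  have h4 := this d hd
  rcases mul_eq_zero.mp h4 with h | h
  · exact h
  · exact absurd h (hLpos d).ne'

theorem zsmul_mem_natSpan {S : Set ι} {x : M} (hx : x ∈ natSpan P S) {n : ℤ} (hn : 0 ≤ n) :
    n • x ∈ natSpan P S := by
  rw [← Int.toNat_of_nonneg hn, natCast_zsmul]
  exact AddSubmonoid.nsmul_mem _ hx _

/-- The indivisible simple coroots form a simple system of the dual root datum. -/
theorem isSimpleSys_flip_ind [Finite ι] {Δ : Set ι} (hΔ : IsSimpleSys P Δ) :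
    IsSimpleSys P.flip {j : ι | ∃ i ∈ Δ, (j = i ∧ IsIndiv P.flip i) ∨
      (2 : ℤ) • P.coroot j = P.coroot i} := by
  classical
  have : Fintype ι := Fintype.ofFinite ι
  have htfN := tfN P
  set J : Set ι := {j : ι | ∃ i ∈ Δ, (j = i ∧ IsIndiv P.flip i) ∨
      (2 : ℤ) • P.coroot j = P.coroot i} with hJ
  -- choice of the simple root `i j` and the scalar `η j` attached to `j ∈ J`
  have key : ∀ j : ι, ∃ i : ι, ∃ η : ℤ, j ∈ J → (i ∈ Δ ∧ (η = 1 ∨ η = 2) ∧
      (2 : ℤ) • P.coroot j = η • P.coroot i ∧ (η = 2 ↔ IsIndiv P.flip i)) := by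
    intro j
    by_cases hj : j ∈ J
    · obtain ⟨i, hi, h | h⟩ := hj
      · refine ⟨i, 2, fun _ => ⟨hi, Or.inr rfl, by rw [h.1], ⟨fun _ => h.2, fun _ => rfl⟩⟩⟩
      · refine ⟨i, 1, fun _ => ⟨hi, Or.inl rfl, by rw [h, one_smul], ⟨fun h' => by omega, ?_⟩⟩⟩
        intro hind
        exact absurd h (hind j)
    · exact ⟨j, 1, fun h => absurd h hj⟩
  choose i η hspec using key
  have hinj : ∀ j ∈ J, ∀ j' ∈ J, i j = i j' → j = j' := by
    intro j hj j' hj' hij
    obtain ⟨-, h1, h2, h3⟩ := hspec j hj
    obtain ⟨-, h1', h2', h3'⟩ := hspec j' hj'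
    have hη : η j = η j' := by
      rw [hij] at h3
      by_cases hind : IsIndiv P.flip (i j')
      · rw [h3.mpr hind, h3'.mpr hind]
      · have a1 : η j ≠ 2 := fun h => hind (h3.mp h)
        have a2 : η j' ≠ 2 := fun h => hind (h3'.mp h)
        omega
    have h4 : (2 : ℤ) • P.coroot j = (2 : ℤ) • P.coroot j' := by rw [h2, h2', hη, hij]
    exact P.coroot.injective (smul_right_injective N (two_ne_zero (α := ℤ)) h4)
  have hΔJ : ∀ d ∈ Δ, P.coroot d ∈ natSpan P.flip J := by
    intro d hd
    by_cases hind : IsIndiv P.flip d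
    · exact root_mem_natSpan P.flip (show d ∈ J from ⟨d, hd, Or.inl ⟨rfl, hind⟩⟩)
    · unfold IsIndiv at hind
      push Not at hind
      obtain ⟨j, hj⟩ := hind
      have hjJ : j ∈ J := ⟨d, hd, Or.inr hj⟩
      have : P.coroot d = (2 : ℤ) • P.flip.root j := hj.symm
      rw [this]
      exact zsmul_mem_natSpan (root_mem_natSpan P.flip hjJ) (by norm_num)
  apply isSimpleSys_of_indiv (P := P.flip) J
  · -- indivisibility
    rintro j ⟨d, hd, h | h⟩
    · rw [h.1]; exact h.2
    · exact isIndiv_of_two_smul (P := P.flip) h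
  · -- linear independence
    rw [linearIndepOn_iff']
    intro t g ht hsum
    set G : ι →₀ ℤ := ∑ j ∈ t, Finsupp.single (i j) (g j * η j) with hG
    have hGsupp : ↑G.support ⊆ Δ := by
      intro d hd
      have h1 := Finsupp.support_finsetSum hd
      rw [Finset.mem_biUnion] at h1
      obtain ⟨j, hjt, hjd⟩ := h1
      have := Finsupp.support_single_subset hjd
      rw [Finset.mem_singleton] at this
      rw [this]
      exact (hspec j (ht hjt)).1
    have hGlc : lc P.flip G = 0 := by
      rw [hG, lc, map_sum]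
      have : ∀ j ∈ t, Finsupp.linearCombination ℤ P.flip.root (Finsupp.single (i j) (g j * η j)) =
          (2 : ℤ) • (g j • P.flip.root j) := by
        intro j hj
        rw [Finsupp.linearCombination_single, mul_smul, smul_comm (2 : ℤ)]
        congr 1
        exact (hspec j (ht hj)).2.2.1.symm
      rw [Finset.sum_congr rfl this, ← Finset.smul_sum, hsum, smul_zero]
    have hG0 : G = 0 := by
      apply lc_inj' (P := P.flip) (linearIndepOn_coroot hΔ) hGsupp
      · simp
      · rw [hGlc, lc, map_zero]
    intro j₀ hj₀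
    have h1 : G (i j₀) = g j₀ * η j₀ := by
      rw [hG, Finsupp.finsetSum_apply]
      rw [Finset.sum_eq_single j₀]
      · rw [Finsupp.single_eq_same]
      · intro j hj hne
        rw [Finsupp.single_apply, if_neg]
        intro h
        exact hne (hinj j (ht hj) j₀ (ht hj₀) h)
      · intro h; exact absurd hj₀ h
    rw [hG0, Finsupp.zero_apply] at h1
    rcases mul_eq_zero.mp h1.symm with h | h
    · exact h
    · rcases (hspec j₀ (ht hj₀)).2.1 with h' | h' <;> omega
  · -- every coroot is, up to sign, a non-negative rational combination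
    intro k
    set B : ι → ℤ := fun d => P.RootForm (P.root d) (P.root d) with hB
    have hBpos : ∀ d, 0 < B d := fun d => rootForm_root_pos (P := P) d
    refine ⟨(B k).toNat, by have := hBpos k; omega, ?_⟩
    have hBk : ((B k).toNat : ℤ) = B k := Int.toNat_of_nonneg (hBpos k).le
    have hpol : B k • P.coroot k = ∑ d ∈ (coeff hΔ k).support,
        (coeff hΔ k d * B d) • P.coroot d := by
      have h1 := P.rootForm_self_smul_coroot k
      rw [two_nsmul, ← two_smul ℤ] at h1
      rw [h1, ← two_smul_polarization_sum]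
      congr 2
      have := coeff_lc hΔ k
      rw [lc, Finsupp.linearCombination_apply, Finsupp.sum] at this
      exact this.symm
    rcases coeff_sign hΔ k with hs | hs
    · left
      show (B k).toNat • P.coroot k ∈ natSpan P.flip J
      rw [← natCast_zsmul, hBk, hpol]
      refine AddSubmonoid.sum_mem _ (fun d hd => ?_)
      exact zsmul_mem_natSpan (hΔJ d (coeff_supp hΔ k hd)) (mul_nonneg (hs d) (hBpos d).le)
    · right
      show (B k).toNat • (-P.coroot k) ∈ natSpan P.flip J
      rw [← natCast_zsmul, hBk, smul_neg, hpol, ← Finset.sum_neg_distrib]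
      refine AddSubmonoid.sum_mem _ (fun d hd => ?_)
      rw [← neg_smul]
      refine zsmul_mem_natSpan (hΔJ d (coeff_supp hΔ k hd)) ?_
      have := hs d
      have := hBpos d
      nlinarith

end Groth.Agent.Helper8.RD
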