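import Groth.Agent.Lib.Helper8.RootDHeight

/-!
# Root data: the canonical bilinear form (helper8 library)
-/

set_option autoImplicit false

open RootPairing RootD
open scoped Pointwise

namespace Groth.Agent.Helper8.RD

variable {ι M N : Type*} [AddCommGroup M] [AddCommGroup N] {P : RootPairing ι ℤ M N}

section Fintype

variable [Fintype ι]

theorem rootForm_root_pos (i : ι) : 0 < P.RootForm (P.root i) (P.root i) := by
  rw [P.rootForm_root_self]
  refine Finset.sum_pos' (fun j _ => mul_self_nonneg _) ⟨i, Finset.mem_univ i, ?_⟩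
  rw [P.pairing_same]
  norm_num

/-- `(α_j, α_i^v) ℓ(α_i) = (α_i, α_j^v) ℓ(α_j)` -/
theorem pairing_mul_rootForm (i j : ι) :
    P.pairing j i * P.RootForm (P.root i) (P.root i) =
      P.pairing i j * P.RootForm (P.root j) (P.root j) :=
  (P.posRootForm ℤ).toInvariantForm.pairing_mul_eq_pairing_mul_swap i j

theorem two_mul_rootForm (i j : ι) :
    2 * P.RootForm (P.root i) (P.root j) = P.pairing i j * P.RootForm (P.root j) (P.root j) :=
  (P.posRootForm ℤ).toInvariantForm.two_mul_apply_root_root i j

/-- The canonical form is invariant under automorphisms of the root datum. -/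
theorem rootForm_aut (g : P.Aut) (x y : M) : P.RootForm (g • x) (g • y) = P.RootForm x y := by
  rw [P.rootForm_apply_apply, P.rootForm_apply_apply]
  have h : ∀ (z : M) (i : ι), P.coroot' (g • i) (g • z) = P.coroot' i z := fun z i =>
    aut_pairing' P g z i
  rw [← Equiv.sum_comp (MulAction.toPerm g : ι ≃ ι)]
  refine Finset.sum_congr rfl (fun i _ => ?_)
  show P.coroot' (g • i) (g • x) * P.coroot' (g • i) (g • y) = _
  rw [h, h]

theorem rootForm_root_aut (g : P.Aut) (i : ι) :
    P.RootForm (P.root (g • i)) (P.root (g • i)) = P.RootForm (P.root i) (P.root i) := by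
  rw [aut_root, rootForm_aut]

end Fintype

variable [Finite ι]

/-- An element of the root lattice killed by all coroots is zero. -/
theorem eq_zero_of_coroot'_eq_zero {y : M} (hy : y ∈ Submodule.span ℤ (Set.range P.root))
    (h : ∀ j, P.coroot' j y = 0) : y = 0 := by
  have : Fintype ι := Fintype.ofFinite ι
  apply P.eq_zero_of_mem_rootSpan_of_rootForm_self_eq_zero hy
  rw [P.rootForm_apply_apply]
  exact Finset.sum_eq_zero (fun j _ => by rw [h j, mul_zero])

omit [Finite ι] in
theorem aut_smul_mem_span (g : P.Aut) {y : M} (hy : y ∈ Submodule.span ℤ (Set.range P.root)) :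
    g • y ∈ Submodule.span ℤ (Set.range P.root) := by
  refine Submodule.span_induction ?_ ?_ ?_ ?_ hy
  · rintro _ ⟨i, rfl⟩
    rw [← aut_root]
    exact Submodule.subset_span ⟨_, rfl⟩
  · rw [smul_zero]; exact Submodule.zero_mem _
  · intro a b _ _ ha hb
    rw [smul_add]; exact Submodule.add_mem _ ha hb
  · intro n a _ ha
    rw [smul_comm]; exact Submodule.smul_mem _ _ ha

/-- An automorphism fixing every root, which moves each weight by a rational combination of roots,
is trivial. -/
theorem aut_eq_one_of_fix (u : P.Aut)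
    (hs : ∀ m : M, ∃ n : ℕ, 0 < n ∧ n • (u • m - m) ∈ Submodule.span ℤ (Set.range P.root))
    (hfix : ∀ i : ι, u • i = i) : u = 1 := by
  have htf := tf P
  apply Equiv.weightHom_injective P
  ext x
  show u • x = x
  obtain ⟨n, hn, hmem⟩ := hs x
  have h0 : n • (u • x - x) = 0 := by
    apply eq_zero_of_coroot'_eq_zero hmem
    intro j
    rw [map_nsmul, map_sub]
    have := aut_pairing' P u x j
    rw [hfix j] at this
    show n • (P.toLinearMap (u • x) (P.coroot j) - P.toLinearMap x (P.coroot j)) = 0
    rw [this, sub_self, smul_zero]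
  have h1 : u • x - x = 0 := by
    have h2 : n • (u • x - x) = n • (0 : M) := by rw [h0, smul_zero]
    exact nsmul_right_injective hn.ne' h2
  exact sub_eq_zero.mp h1

omit [Finite ι] in
/-- Elements of the Weyl group move weights by elements of the root lattice. -/
theorem weyl_smul_sub_mem {w : P.Aut} (hw : w ∈ P.weylGroup) (x : M) :
    w • x - x ∈ Submodule.span ℤ (Set.range P.root) := by
  induction hw using weylGroup.induction generalizing x with
  | mem i =>
    rw [Equiv.reflection_smul, P.reflection_apply, sub_sub_cancel_left]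
    exact Submodule.neg_mem _ (Submodule.smul_mem _ _ (Submodule.subset_span ⟨i, rfl⟩))
  | one => rw [one_smul, sub_self]; exact Submodule.zero_mem _
  | mul w₁ w₂ _ _ h₁ h₂ =>
    have : (w₁ * w₂) • x - x = w₁ • (w₂ • x - x) + (w₁ • x - x) := by
      rw [mul_smul, smul_sub]; abel
    rw [this]
    exact Submodule.add_mem _ (aut_smul_mem_span w₁ (h₂ x)) (h₁ x)

/-- The Weyl group acts faithfully on the roots. -/
theorem weyl_eq_one_of_fix {w : P.Aut} (hw : w ∈ P.weylGroup) (hfix : ∀ i : ι, w • i = i) :
    w = 1 :=
  aut_eq_one_of_fix w (fun m => ⟨1, one_pos, by rw [one_smul]; exact weyl_smul_sub_mem hw m⟩) hfix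

/-- Two non-orthogonal roots of the same length are conjugate under the Weyl group. -/
theorem exists_weyl_smul_eq_of_length_eq [Fintype ι] (i j : ι) (hno : ¬ P.IsOrthogonal i j)
    (hl : P.RootForm (P.root i) (P.root i) = P.RootForm (P.root j) (P.root j)) :
    ∃ g : P.Aut, g ∈ P.weylGroup ∧ g • i = j := by
  have : Module.IsReflexive ℤ M := .of_isPerfPair P.toLinearMap
  have hB := rootForm_root_pos (P := P) j
  have h1 := pairing_mul_rootForm (P := P) i j
  rw [hl] at h1
  have hpq : P.pairing j i = P.pairing i j := mul_right_cancel₀ hB.ne' h1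
  have hset := P.pairingIn_pairingIn_mem_set_of_isCrystallographic i j
  rw [pairingIn_int, pairingIn_int] at hset
  simp only [Set.mem_insert_iff, Set.mem_singleton_iff, Prod.mk.injEq] at hset
  have hp0 : P.pairing i j ≠ 0 := by
    intro h0
    exact hno ⟨h0, (pairing_zero_iff P).mp h0⟩
  have hcases : P.pairing i j = 1 ∨ P.pairing i j = -1 ∨ P.pairing i j = 2 ∨ P.pairing i j = -2 := by
    rcases hset with h | h | h | h | h | h | h | h | h | h | h | h | h | h | h | h | h <;>
      obtain ⟨ha, hb⟩ := h <;> omega
  rcases hcases with hp | hp | hp | hp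
  · -- p = q = 1 : g = s_j s_i s_j
    refine ⟨Equiv.reflection P j * (Equiv.reflection P i * Equiv.reflection P j),
      mul_mem (P.reflection_mem_weylGroup j)
        (mul_mem (P.reflection_mem_weylGroup i) (P.reflection_mem_weylGroup j)), ?_⟩
    apply P.root.injective
    rw [aut_root, mul_smul, mul_smul]
    simp only [Equiv.reflection_smul, P.reflection_apply_root, map_sub, map_zsmul,
      P.pairing_same, hp, hpq]
    module
  · -- p = q = -1 : g = s_i s_j
    refine ⟨Equiv.reflection P i * Equiv.reflection P j,
      mul_mem (P.reflection_mem_weylGroup i) (P.reflection_mem_weylGroup j), ?_⟩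
    apply P.root.injective
    rw [aut_root, mul_smul]
    simp only [Equiv.reflection_smul, P.reflection_apply_root, map_sub, map_zsmul,
      P.pairing_same, hp, hpq]
    module
  · -- p = q = 2 : i = j
    have : i = j := (P.pairing_two_two_iff i j).mp ⟨hp, hpq ▸ hp⟩
    exact ⟨1, one_mem _, by rw [one_smul, this]⟩
  · -- p = q = -2 : root i = - root j
    have h2 : P.root i = -P.root j := (P.pairing_neg_two_neg_two_iff i j).mp ⟨hp, hpq ▸ hp⟩
    refine ⟨Equiv.reflection P i, P.reflection_mem_weylGroup i, ?_⟩
    apply P.root.injective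
    rw [aut_root, Equiv.reflection_smul, P.reflection_apply_self, h2, neg_neg]

end Groth.Agent.Helper8.RD
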