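import Groth.Agent.Lib.Helper8.RootDWeyl

/-!
# Root data: heights, simple reflections generate the Weyl group (helper8 library)
-/

set_option autoImplicit false

open RootPairing RootD
open scoped Pointwise

namespace Groth.Agent.Helper8.RD

variable {ι M N : Type*} [AddCommGroup M] [AddCommGroup N] {P : RootPairing ι ℤ M N}

/-! ### Indivisible roots -/

/-- If `α` is an indivisible root and `b • β = a • α` for a root `β`, then `b ∣ a`. -/
theorem dvd_of_smul_eq_smul_indiv [Finite ι] (i j : ι) (hind : IsIndiv P i) (a b : ℤ) (hb : b ≠ 0)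
    (h : b • P.root j = a • P.root i) : b ∣ a := by
  have htf := tf P
  have e1 := congrArg (P.coroot' i) h
  have e2 := congrArg (P.coroot' j) h
  simp only [map_zsmul, P.root_coroot'_eq_pairing, P.pairing_same, smul_eq_mul] at e1 e2
  have hset := P.pairingIn_pairingIn_mem_set_of_isCrystallographic i j
  rw [pairingIn_int, pairingIn_int] at hset
  simp only [Set.mem_insert_iff, Set.mem_singleton_iff, Prod.mk.injEq] at hset
  have h41 : ¬ (P.pairing i j = 4 ∧ P.pairing j i = 1) := by
    rintro ⟨hp, hq⟩
    rw [hq] at e1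
    rw [hp] at e2
    have hb2 : b = 2 * a := by omega
    have ha : a ≠ 0 := by omega
    rw [hb2, mul_comm, mul_smul] at h
    have := smul_right_injective M ha h
    exact hind j this
  have h41' : ¬ (P.pairing i j = -4 ∧ P.pairing j i = -1) := by
    rintro ⟨hp, hq⟩
    rw [hq] at e1
    rw [hp] at e2
    have hb2 : b = (-2) * a := by omega
    have ha : a ≠ 0 := by omega
    rw [hb2, mul_comm, mul_smul] at h
    have := smul_right_injective M ha h
    apply hind (P.reflectionPerm j j)
    rw [root_neg, ← this]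
    simp
  rcases hset with h' | h' | h' | h' | h' | h' | h' | h' | h' | h' | h' | h' | h' | h' | h' | h' | h' <;>
    first
    | exact absurd h' h41
    | exact absurd h' h41'
    | (obtain ⟨hp, hq⟩ := h'
       rw [hq] at e1
       rw [hp] at e2
       first
       | (exfalso; omega)
       | exact ⟨2, by omega⟩
       | exact ⟨-2, by omega⟩
       | exact ⟨1, by omega⟩
       | exact ⟨-1, by omega⟩)

theorem isIndiv_smul {k : ι} (hk : IsIndiv P k) (g : P.Aut) : IsIndiv P (g • k) := by
  intro j hj
  apply hk (g⁻¹ • j)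
  rw [aut_root] at hj ⊢
  rw [smul_comm, hj, inv_smul_smul]

theorem isIndiv_neg {k : ι} (hk : IsIndiv P k) : IsIndiv P (P.reflectionPerm k k) := by
  intro j hj
  apply hk (P.reflectionPerm j j)
  rw [root_neg] at *
  rw [smul_neg, hj, neg_neg]

/-- Simple roots are indivisible. -/
theorem isIndiv_of_mem {Δ : Set ι} (hΔ : IsSimpleSys P Δ) {i : ι} (hi : i ∈ Δ) : IsIndiv P i := by
  intro j h
  have h1 := coeff_of_mem hΔ hi
  have h2 : coeff hΔ i = (2 : ℤ) • coeff hΔ j := by
    apply coeff_eq_of hΔ
    · intro e he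
      have := Finsupp.support_smul he
      exact coeff_supp hΔ j this
    · rw [lc, map_smul, ← lc, coeff_lc, h]
  have h3 := congrArg (fun c : ι →₀ ℤ => c i) (h1.symm.trans h2)
  simp only [Finsupp.single_eq_same, Finsupp.smul_apply, smul_eq_mul] at h3
  omega

/-- A root is not four times a root. -/
theorem four_smul_ne (j k : ι) : (4 : ℤ) • P.root j ≠ P.root k := by
  intro h
  have e := congrArg (P.coroot' k) h
  simp only [map_zsmul, P.root_coroot'_eq_pairing, P.pairing_same, smul_eq_mul] at e
  omega

theorem isIndiv_of_two_smul {j k : ι} (h : (2 : ℤ) • P.root j = P.root k) : IsIndiv P j := by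
  intro j' hj'
  apply four_smul_ne (P := P) j' k
  rw [← h, ← hj', smul_smul]
  norm_num

theorem refl_eq_of_two_smul [Finite ι] {j k : ι} (h : (2 : ℤ) • P.root j = P.root k) :
    Equiv.reflection P k = Equiv.reflection P j := by
  have := tf P
  have := tfN P
  have hco : P.coroot j = (2 : ℤ) • P.coroot k := coroot_eq_smul_coroot_iff.mpr h.symm
  apply Equiv.weightHom_injective P
  ext x
  show P.reflection k x = P.reflection j x
  rw [P.reflection_apply, P.reflection_apply]
  congr 1
  have : P.coroot' j x = 2 * P.coroot' k x := by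
    show P.toLinearMap.flip (P.coroot j) x = 2 * P.toLinearMap.flip (P.coroot k) x
    rw [hco, map_zsmul, LinearMap.smul_apply, smul_eq_mul]
  rw [this, ← h, mul_comm, mul_smul]

/-- Every root is indivisible or twice an indivisible root. -/
theorem isIndiv_or_exists_two_smul (k : ι) :
    IsIndiv P k ∨ ∃ j, IsIndiv P j ∧ (2 : ℤ) • P.root j = P.root k := by
  by_cases h : IsIndiv P k
  · exact Or.inl h
  · right
    unfold IsIndiv at h
    push Not at h
    obtain ⟨j, hj⟩ := h
    exact ⟨j, isIndiv_of_two_smul hj, hj⟩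

/-- The reflections in indivisible roots generate the Weyl group. -/
theorem closure_refl_indiv [Finite ι] :
    Subgroup.closure ((fun i : ι => Equiv.reflection P i) '' {i : ι | IsIndiv P i}) =
      P.weylGroup := by
  apply le_antisymm
  · exact Subgroup.closure_mono (Set.image_subset_range _ _)
  · refine (Subgroup.closure_le _).mpr ?_
    rintro _ ⟨k, rfl⟩
    rcases isIndiv_or_exists_two_smul (P := P) k with h | ⟨j, hj, h⟩
    · exact Subgroup.subset_closure ⟨k, h, rfl⟩
    · rw [refl_eq_of_two_smul h]
      exact Subgroup.subset_closure ⟨j, hj, rfl⟩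

/-! ### Heights -/

variable {Δ : Set ι}

/-- The height of a root along a simple system: the sum of its coefficients. -/
noncomputable def ht (hΔ : IsSimpleSys P Δ) (k : ι) : ℤ := tot (coeff hΔ k)

theorem ht_pos (hΔ : IsSimpleSys P Δ) {k : ι} (hk : k ∈ posOf P Δ) : 0 < ht hΔ k := by
  obtain ⟨d, -, hd⟩ := exists_pos_of_mem_posOf hΔ hk
  have := le_tot ((mem_posOf_iff hΔ).mp hk) d
  unfold ht
  omega

theorem ht_refl (hΔ : IsSimpleSys P Δ) {d : ι} (hd : d ∈ Δ) (k : ι) :
    ht hΔ (P.reflectionPerm d k) = ht hΔ k - P.pairing k d := by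
  unfold ht
  rw [coeff_refl hΔ hd, map_sub, tot_single]

/-- For a positive non-simple indivisible root `k` there is a simple root `d` with `(k, d^v) > 0`
and `s_d(k)` positive. -/
theorem exists_simple_refl_pos [Finite ι] (hΔ : IsSimpleSys P Δ) {k : ι} (hk : k ∈ posOf P Δ)
    (hkΔ : k ∉ Δ) (hind : IsIndiv P k) :
    ∃ d ∈ Δ, 0 < P.pairing k d ∧ P.reflectionPerm d k ∈ posOf P Δ := by
  obtain ⟨d, hd, hcd, hp⟩ := exists_simple_pairing_pos hΔ hk
  refine ⟨d, hd, (pairing_pos_iff P).mp hp, ?_⟩
  apply refl_mem_posOf hΔ hd hk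
  intro n hn
  have hn1 : n ≠ 0 := by
    rintro rfl
    rw [zero_smul] at hn
    exact P.ne_zero k hn
  have hdvd : n ∣ 1 := dvd_of_smul_eq_smul_indiv k d hind 1 n hn1 (by rw [one_smul, hn])
  have hn2 : n = 1 ∨ n = -1 := Int.isUnit_iff.mp (isUnit_of_dvd_one hdvd)
  rcases hn2 with rfl | rfl
  · rw [one_smul] at hn
    exact hkΔ (P.root.injective hn ▸ hd)
  · have hkd : k = P.reflectionPerm d d := by
      apply P.root.injective
      rw [root_neg, hn]; simp
    have := posOf_disj hΔ (subset_posOf hΔ hd)
    exact this (hkd ▸ hk)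

/-- The subgroup generated by the reflections in the roots of `Δ`. -/
noncomputable def weylSub (P : RootPairing ι ℤ M N) (Δ : Set ι) : Subgroup P.Aut :=
  Subgroup.closure ((fun i : ι => Equiv.reflection P i) '' Δ)

theorem refl_mem_weylSub {d : ι} (hd : d ∈ Δ) : Equiv.reflection P d ∈ weylSub P Δ :=
  Subgroup.subset_closure ⟨d, hd, rfl⟩

theorem weylSub_le : weylSub P Δ ≤ P.weylGroup :=
  Subgroup.closure_mono (Set.image_subset_range _ _)

theorem refl_refl_idx (d k : ι) : Equiv.reflection P d • (Equiv.reflection P d • k) = k :=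
  P.reflectionPerm_self d k

/-- Every positive indivisible root is conjugate to a simple root under the group generated by
the simple reflections. -/
theorem exists_weylSub_smul_eq_of_pos [Finite ι] (hΔ : IsSimpleSys P Δ) :
    ∀ (m : ℕ) (k : ι), k ∈ posOf P Δ → IsIndiv P k → ht hΔ k = m →
      ∃ g ∈ weylSub P Δ, ∃ i ∈ Δ, g • i = k := by
  intro m
  induction m using Nat.strong_induction_on with
  | _ m ih =>
    intro k hk hind hm
    by_cases hkΔ : k ∈ Δ
    · exact ⟨1, one_mem _, k, hkΔ, one_smul _ _⟩
    · obtain ⟨d, hd, hp, hpos⟩ := exists_simple_refl_pos hΔ hk hkΔ hind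
      have hht := ht_refl hΔ hd k
      have hpos' := ht_pos hΔ hpos
      have hlt : (ht hΔ (P.reflectionPerm d k)).toNat < m := by omega
      obtain ⟨g, hg, i, hi, hgi⟩ := ih _ hlt (P.reflectionPerm d k) hpos
        (isIndiv_smul hind (Equiv.reflection P d)) (Int.toNat_of_nonneg hpos'.le).symm
      refine ⟨Equiv.reflection P d * g, mul_mem (refl_mem_weylSub hd) hg, i, hi, ?_⟩
      rw [mul_smul, hgi]
      exact refl_refl_idx d k

/-- Every indivisible root is conjugate to a simple root under the group generated by the simple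
reflections. -/
theorem exists_weylSub_smul_eq [Finite ι] (hΔ : IsSimpleSys P Δ) {k : ι} (hind : IsIndiv P k) :
    ∃ g ∈ weylSub P Δ, ∃ i ∈ Δ, g • i = k := by
  rcases posOf_or hΔ k with hk | hk
  · exact exists_weylSub_smul_eq_of_pos hΔ _ k hk hind
      (Int.toNat_of_nonneg (ht_pos hΔ hk).le).symm
  · obtain ⟨g, hg, i, hi, hgi⟩ := exists_weylSub_smul_eq_of_pos hΔ _ _ hk (isIndiv_neg hind)
      (Int.toNat_of_nonneg (ht_pos hΔ hk).le).symm
    refine ⟨g * Equiv.reflection P i, mul_mem hg (refl_mem_weylSub hi), i, hi, ?_⟩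
    rw [mul_smul]
    show g • P.reflectionPerm i i = k
    rw [smul_neg_idx, hgi, neg_neg_idx]

/-- The simple reflections generate the Weyl group. -/
theorem weylSub_eq [Finite ι] (hΔ : IsSimpleSys P Δ) : weylSub P Δ = P.weylGroup := by
  apply le_antisymm weylSub_le
  rw [← closure_refl_indiv]
  refine (Subgroup.closure_le _).mpr ?_
  rintro _ ⟨k, hk, rfl⟩
  obtain ⟨g, hg, i, hi, rfl⟩ := exists_weylSub_smul_eq hΔ hk
  show Equiv.reflection P (g • i) ∈ weylSub P Δ
  rw [← conj_refl]
  exact mul_mem (mul_mem hg (refl_mem_weylSub hi)) (inv_mem hg)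

/-! ### Closed sets containing a system of positive roots -/

theorem neg_mem_natSpan_neg {T : Set ι} {x : M} (hx : x ∈ natSpan P T) :
    -x ∈ natSpan P ((fun i => P.reflectionPerm i i) '' T) := by
  refine AddSubmonoid.closure_induction ?_ ?_ ?_ hx
  · rintro y ⟨i, hi, rfl⟩
    rw [← root_neg]
    exact root_mem_natSpan P ⟨i, hi, rfl⟩
  · rw [neg_zero]
    exact zero_mem _
  · intro a b _ _ ha hb
    rw [neg_add]
    exact add_mem ha hb

theorem posSys_eq_posOf {S : Set ι} (hS : IsPosSys P S) (hΔ : IsSimpleSys P Δ) (hΔS : Δ ⊆ S) :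
    S = posOf P Δ := by
  symm
  refine eq_of_subset_of_P1_P2 ?_ (posOf_or hΔ) (fun _ hi => hS.disjoint hi)
  intro k hk
  apply hS.sat 1 one_pos
  rw [one_smul]
  exact natSpan_mono P hΔS hk

theorem coeff_of_add {k k' d : ι} (hΔ : IsSimpleSys P Δ) (hd : d ∈ Δ)
    (h : P.root k = P.root k' + P.root d) : coeff hΔ k = coeff hΔ k' + Finsupp.single d 1 := by
  classical
  apply coeff_eq_of hΔ
  · intro e he
    have := Finsupp.support_add he
    rw [Finset.mem_union] at this
    rcases this with h' | h'
    · exact coeff_supp hΔ k' h'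
    · have := Finsupp.support_single_subset h'
      rw [Finset.mem_singleton] at this
      exact this ▸ hd
  · rw [lc, map_add, ← lc, coeff_lc, h]
    simp

/-- If `P'` is closed and contains the positive roots, then every positive root whose opposite
lies in `P'` is a non-negative combination of simple roots whose opposites lie in `P'`. -/
theorem root_mem_natSpan_of_neg_mem [Finite ι] (hΔ : IsSimpleSys P Δ) {P' : Set ι}
    (hcl : IsClosedSub P P') (hsub : posOf P Δ ⊆ P') :
    ∀ (m : ℕ) (j : ι), j ∈ posOf P Δ → P.reflectionPerm j j ∈ P' → ht hΔ j = m →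
      P.root j ∈ natSpan P {i : ι | i ∈ Δ ∧ P.reflectionPerm i i ∈ P'} := by
  intro m
  induction m using Nat.strong_induction_on with
  | _ m ih =>
    intro j hj hjP hm
    by_cases hjΔ : j ∈ Δ
    · exact root_mem_natSpan P ⟨hjΔ, hjP⟩
    · obtain ⟨d, hd, j', hj', -, -, hsum⟩ := exists_sub_simple hΔ hj hjΔ
      have hdP : P.reflectionPerm d d ∈ P' := by
        refine hcl hjP (hsub hj') ?_
        rw [root_neg, root_neg, hsum]; abel
      have hj'P : P.reflectionPerm j' j' ∈ P' := by
        refine hcl hjP (hsub (subset_posOf hΔ hd)) ?_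
        rw [root_neg, root_neg, hsum]; abel
      have hht : ht hΔ j = ht hΔ j' + 1 := by
        unfold ht
        rw [coeff_of_add hΔ hd hsum, map_add, tot_single]
      have hpos' := ht_pos hΔ hj'
      have hlt : (ht hΔ j').toNat < m := by omega
      have h1 := ih _ hlt j' hj' hj'P (Int.toNat_of_nonneg hpos'.le).symm
      rw [hsum]
      exact add_mem h1 (root_mem_natSpan P ⟨hd, hdP⟩)

/-- A closed set of roots containing the positive roots of `Δ` is the union of the positive roots
and of the roots which are non-positive combinations of the simple roots whose opposite lies in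
the set. -/
theorem closed_eq_union [Finite ι] (hΔ : IsSimpleSys P Δ) {P' : Set ι}
    (hcl : IsClosedSub P P') (hsub : posOf P Δ ⊆ P') :
    P' = posOf P Δ ∪
      {k : ι | -P.root k ∈ natSpan P {i : ι | i ∈ Δ ∧ P.reflectionPerm i i ∈ P'}} := by
  apply Set.Subset.antisymm
  · intro k hk
    rcases posOf_or hΔ k with h | h
    · exact Or.inl h
    · right
      have hk' : P.reflectionPerm (P.reflectionPerm k k) (P.reflectionPerm k k) ∈ P' := by
        rw [neg_neg_idx]; exact hk
      have := root_mem_natSpan_of_neg_mem hΔ hcl hsub _ _ h hk'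
        (Int.toNat_of_nonneg (ht_pos hΔ h).le).symm
      rw [root_neg] at this
      exact this
  · rintro k (hk | hk)
    · exact hsub hk
    · apply mem_of_closed_of_mem_natSpan hcl
      have := neg_mem_natSpan_neg hk
      rw [neg_neg] at this
      refine natSpan_mono P ?_ this
      rintro _ ⟨i, hi, rfl⟩
      exact hi.2

end Groth.Agent.Helper8.RD
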