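import Groth.Agent.Lib.Helper8.RootDPart

/-!
# Root data: homomorphisms from the root lattice (helper8 library)
-/

set_option autoImplicit false

open RootPairing RootD
open scoped Pointwise

namespace Groth.Agent.Helper8.RD

variable {ι M N : Type*} [AddCommGroup M] [AddCommGroup N] {P : RootPairing ι ℤ M N}

/-- An odd function on the roots, additive on pairs of roots whose sum is a root, is "linear":
its value on a root is the combination of its values on the simple roots. -/
theorem lc_coeff_eq [Finite ι] {Δ : Set ι} (hΔ : IsSimpleSys P Δ) {G : Type*} [AddCommGroup G]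
    (f : ι → G) (hneg : ∀ i : ι, f (P.reflectionPerm i i) = -f i)
    (hadd : ∀ i j k : ι, P.root k = P.root i + P.root j → f k = f i + f j) (k : ι) :
    Finsupp.linearCombination ℤ f (coeff hΔ k) = f k := by
  have hpos : ∀ (m : ℕ) (k : ι), k ∈ posOf P Δ → ht hΔ k = m →
      Finsupp.linearCombination ℤ f (coeff hΔ k) = f k := by
    intro m
    induction m using Nat.strong_induction_on with
    | _ m ih =>
      intro k hk hm
      by_cases hkΔ : k ∈ Δ
      · rw [coeff_of_mem hΔ hkΔ, Finsupp.linearCombination_single, one_smul]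
      · obtain ⟨d, hd, k', hk', -, -, hsum⟩ := exists_sub_simple hΔ hk hkΔ
        have hc := coeff_of_add hΔ hd hsum
        have hht : ht hΔ k = ht hΔ k' + 1 := by
          unfold ht
          rw [hc, map_add, tot_single]
        have hpos' := ht_pos hΔ hk'
        have hlt : (ht hΔ k').toNat < m := by omega
        have h1 := ih _ hlt k' hk' (Int.toNat_of_nonneg hpos'.le).symm
        rw [hc, map_add, h1, Finsupp.linearCombination_single, one_smul]
        exact (hadd k' d k hsum).symm
  rcases posOf_or hΔ k with hk | hk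
  · exact hpos _ k hk (Int.toNat_of_nonneg (ht_pos hΔ hk).le).symm
  · have h1 := hpos _ _ hk (Int.toNat_of_nonneg (ht_pos hΔ hk).le).symm
    rw [coeff_neg, map_neg, hneg] at h1
    exact neg_injective h1

/-- A map from the roots to an abelian group that is odd and additive on pairs of roots whose sum
is a root extends uniquely to a homomorphism on the root lattice. -/
theorem existsUnique_addHom [Finite ι] {G : Type*} [AddCommGroup G] (f : ι → G)
    (hneg : ∀ i : ι, f (P.reflectionPerm i i) = -f i)
    (hadd : ∀ i j k : ι, P.root k = P.root i + P.root j → f k = f i + f j) :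
    ∃! φ : Submodule.span ℤ (Set.range P.root) →+ G,
      ∀ i : ι, φ ⟨P.root i, Submodule.subset_span (Set.mem_range_self i)⟩ = f i := by
  classical
  obtain ⟨Δ, hΔ⟩ := exists_simpleSys P
  have hQ : ∀ x : Submodule.span ℤ (Set.range P.root),
      ∃ c : ι →₀ ℤ, ↑c.support ⊆ Δ ∧ lc P c = (x : M) := by
    intro x
    apply mem_span_iff_lc.mp
    refine (Submodule.span_le.mpr ?_) x.2
    rintro _ ⟨k, rfl⟩
    exact mem_span_iff_lc.mpr ⟨coeff hΔ k, coeff_supp hΔ k, coeff_lc hΔ k⟩
  choose c hc hcx using hQ
  have hcadd : ∀ x y, c (x + y) = c x + c y := by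
    intro x y
    apply lc_inj hΔ (hc _)
    · intro j hj
      have := Finsupp.support_add hj
      rw [Finset.mem_union] at this
      rcases this with h | h
      · exact hc x h
      · exact hc y h
    · rw [hcx, lc, map_add, ← lc, ← lc, hcx x, hcx y]
      rfl
  let φ : Submodule.span ℤ (Set.range P.root) →+ G :=
    AddMonoidHom.mk' (fun x => Finsupp.linearCombination ℤ f (c x))
      (by intro x y; rw [hcadd, map_add])
  have hφ : ∀ i : ι, φ ⟨P.root i, Submodule.subset_span (Set.mem_range_self i)⟩ = f i := by
    intro i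
    show Finsupp.linearCombination ℤ f (c _) = f i
    have : c ⟨P.root i, Submodule.subset_span (Set.mem_range_self i)⟩ = coeff hΔ i :=
      (coeff_eq_of hΔ (hc _) (hcx _)).symm
    rw [this, lc_coeff_eq hΔ f hneg hadd]
  refine ⟨φ, hφ, fun φ' hφ' => ?_⟩
  have key : ∀ (x : M) (hx : x ∈ Submodule.span ℤ (Set.range P.root)),
      φ' ⟨x, hx⟩ = φ ⟨x, hx⟩ := by
    intro x hx
    refine Submodule.span_induction
      (p := fun x hx => φ' ⟨x, hx⟩ = φ ⟨x, hx⟩) ?_ ?_ ?_ ?_ hx
    · rintro _ ⟨i, rfl⟩
      rw [hφ' i, hφ i]
    · exact (map_zero φ').trans (map_zero φ).symm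
    · intro a b ha hb iha ihb
      have : (⟨a + b, Submodule.add_mem _ ha hb⟩ : Submodule.span ℤ (Set.range P.root)) =
          ⟨a, ha⟩ + ⟨b, hb⟩ := rfl
      rw [this, map_add, map_add, iha, ihb]
    · intro n a ha iha
      have : (⟨n • a, Submodule.smul_mem _ n ha⟩ : Submodule.span ℤ (Set.range P.root)) =
          n • ⟨a, ha⟩ := rfl
      rw [this, map_zsmul, map_zsmul, iha]
  ext ⟨x, hx⟩
  exact key x hx

end Groth.Agent.Helper8.RD
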