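import Groth.Agent.Lib.Helper8.RootDPart

/-!
# Root data: irreducibility and lengths (helper8 library)
-/

set_option autoImplicit false

open RootPairing RootD
open scoped Pointwise

namespace Groth.Agent.Helper8.RD

variable {ι M N : Type*} [AddCommGroup M] [AddCommGroup N] {P : RootPairing ι ℤ M N}

/-- The irreducibility condition used in the statements. -/
def Irred (P : RootPairing ι ℤ M N) : Prop :=
  ∀ R' : Set ι, IsClosedSub P R' → IsSymmSub P R' → IsClosedSub P R'ᶜ → IsSymmSub P R'ᶜ →
    R' = ∅ ∨ R' = Set.univ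

/-- `ℓ(α_k) (v, α_k^v) = 2 (α_k, v)` -/
theorem rootForm_root_apply [Fintype ι] (k : ι) (v : M) :
    P.RootForm (P.root k) (P.root k) * P.coroot' k v = 2 * P.RootForm (P.root k) v := by
  have h := congrArg (P.toLinearMap v) (P.rootForm_self_smul_coroot k)
  rw [map_zsmul, map_nsmul, P.toLinearMap_apply_apply_Polarization] at h
  simpa using h

/-- The non-orthogonality relation. -/
abbrev NOrth (P : RootPairing ι ℤ M N) : ι → ι → Prop := fun a b => ¬ P.IsOrthogonal a b

theorem nOrth_key {j1 j2 k : ι} (h : P.root k = P.root j1 + P.root j2) :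
    ¬ P.IsOrthogonal j1 k ∨ ¬ P.IsOrthogonal j2 k := by
  have h2 : P.pairing k k = P.pairing j1 k + P.pairing j2 k := P.pairing_eq_add_of_root_eq_add h
  rw [P.pairing_same] at h2
  by_contra hcon
  rw [not_or, not_not, not_not] at hcon
  rw [hcon.1.1, hcon.2.1] at h2
  norm_num at h2

theorem nOrth_neg (j : ι) : ¬ P.IsOrthogonal j (P.reflectionPerm j j) := by
  intro h
  have := h.1
  rw [P.pairing_reflectionPerm_self_right, P.pairing_same] at this
  norm_num at this

/-- In an irreducible root datum any two roots are joined by a chain of pairwise non-orthogonal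
roots. -/
theorem chain_of_irred (hirr : Irred P) (i j : ι) : Relation.ReflTransGen (NOrth P) i j := by
  set C : Set ι := {j : ι | Relation.ReflTransGen (NOrth P) i j} with hC
  have hc : IsClosedSub P C := by
    intro j1 j2 k h1 h2 h
    rcases nOrth_key h with h' | h'
    · exact Relation.ReflTransGen.tail h1 h'
    · exact Relation.ReflTransGen.tail h2 h'
  have hs : IsSymmSub P C := fun j hj => Relation.ReflTransGen.tail hj (nOrth_neg j)
  have hc' : IsClosedSub P Cᶜ := by
    intro j1 j2 k h1 h2 h hk
    rcases nOrth_key h with h' | h'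
    · exact h1 (Relation.ReflTransGen.tail hk (fun ho => h' ho.symm))
    · exact h2 (Relation.ReflTransGen.tail hk (fun ho => h' ho.symm))
  have hs' : IsSymmSub P Cᶜ := fun j hj hj' =>
    hj (Relation.ReflTransGen.tail hj' (fun ho => nOrth_neg j ho.symm))
  have hiC : i ∈ C := Relation.ReflTransGen.refl
  rcases hirr C hc hs hc' hs' with h | h
  · rw [h] at hiC; exact absurd hiC (Set.notMem_empty i)
  · have : j ∈ C := by rw [h]; exact Set.mem_univ j
    exact this

/-- `ℓ(α) ℓ(α^v) = ℓ(β) ℓ(β^v)` for non-orthogonal roots. -/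
theorem rootForm_mul_corootForm_eq [Fintype ι] (i j : ι) (h : ¬ P.IsOrthogonal i j) :
    P.RootForm (P.root i) (P.root i) * P.CorootForm (P.coroot i) (P.coroot i) =
      P.RootForm (P.root j) (P.root j) * P.CorootForm (P.coroot j) (P.coroot j) := by
  have h1 := pairing_mul_rootForm (P := P) i j
  have h2 := pairing_mul_rootForm (P := P.flip) i j
  simp only [RootPairing.pairing_flip] at h2
  change P.pairing i j * P.CorootForm (P.coroot i) (P.coroot i) =
    P.pairing j i * P.CorootForm (P.coroot j) (P.coroot j) at h2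
  have hp : P.pairing i j ≠ 0 := by
    intro h0
    exact h ⟨h0, (pairing_zero_iff P).mp h0⟩
  have hq : P.pairing j i ≠ 0 := by
    intro h0
    exact h ⟨(pairing_zero_iff P).mp h0, h0⟩
  have h3 : (P.pairing i j * P.pairing j i) *
      (P.RootForm (P.root i) (P.root i) * P.CorootForm (P.coroot i) (P.coroot i)) =
      (P.pairing i j * P.pairing j i) *
      (P.RootForm (P.root j) (P.root j) * P.CorootForm (P.coroot j) (P.coroot j)) := by
    calc (P.pairing i j * P.pairing j i) *
        (P.RootForm (P.root i) (P.root i) * P.CorootForm (P.coroot i) (P.coroot i))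
        = (P.pairing j i * P.RootForm (P.root i) (P.root i)) *
          (P.pairing i j * P.CorootForm (P.coroot i) (P.coroot i)) := by ring
      _ = (P.pairing i j * P.RootForm (P.root j) (P.root j)) *
          (P.pairing j i * P.CorootForm (P.coroot j) (P.coroot j)) := by rw [h1, h2]
      _ = _ := by ring
  exact mul_left_cancel₀ (mul_ne_zero hp hq) h3

theorem rootForm_mul_corootForm_const [Fintype ι] (hirr : Irred P) (i j : ι) :
    P.RootForm (P.root i) (P.root i) * P.CorootForm (P.coroot i) (P.coroot i) =
      P.RootForm (P.root j) (P.root j) * P.CorootForm (P.coroot j) (P.coroot j) := by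
  have h := chain_of_irred hirr i j
  induction h with
  | refl => rfl
  | tail _ hbc ih => rw [ih]; exact rootForm_mul_corootForm_eq _ _ hbc

theorem irred_flip [Finite ι] (hirr : Irred P) : Irred P.flip := by
  intro R' hc hs hc' hs'
  by_cases hne : R' = ∅
  · exact Or.inl hne
  · right
    obtain ⟨i, hi⟩ := Set.nonempty_iff_ne_empty.mpr hne
    ext j
    simp only [Set.mem_univ, iff_true]
    have h := chain_of_irred hirr i j
    induction h with
    | refl => exact hi
    | tail _ hbc ih =>
      refine part_mem_of_not_orth P.flip hc hs hc' hs' ih ?_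
      intro ho
      exact hbc ⟨ho.2, ho.1⟩

/-- In an irreducible root datum the Weyl group is transitive on roots of a given length. -/
theorem exists_weyl_smul_eq_of_irred [Fintype ι] (hirr : Irred P) (i j : ι)
    (hl : P.RootForm (P.root i) (P.root i) = P.RootForm (P.root j) (P.root j)) :
    ∃ g : P.Aut, g ∈ P.weylGroup ∧ g • i = j := by
  have htf := tf P
  -- the span of the orbit of `i`
  set V : Submodule ℤ M :=
    Submodule.span ℤ (Set.range (fun w : P.weylGroup => P.root ((w : P.Aut) • i))) with hV
  have hVW : ∀ g ∈ P.weylGroup, ∀ v ∈ V, g • v ∈ V := by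
    intro g hg v hv
    refine Submodule.span_induction ?_ ?_ ?_ ?_ hv
    · rintro _ ⟨w, rfl⟩
      rw [← aut_root, ← mul_smul]
      exact Submodule.subset_span ⟨⟨g * w, mul_mem hg w.2⟩, rfl⟩
    · rw [smul_zero]; exact Submodule.zero_mem _
    · intro a b _ _ ha hb
      rw [smul_add]; exact Submodule.add_mem _ ha hb
    · intro n a _ ha
      rw [smul_comm]; exact Submodule.smul_mem _ _ ha
  set R' : Set ι := {k : ι | ∃ n : ℕ, 0 < n ∧ n • P.root k ∈ V} with hR'
  have hcompl : ∀ k : ι, k ∈ R'ᶜ ↔ ∀ v ∈ V, P.RootForm (P.root k) v = 0 := by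
    intro k
    constructor
    · intro hk v hv
      have h1 : P.coroot' k v = 0 := by
        by_contra hne
        apply hk
        refine ⟨(P.coroot' k v).natAbs, Int.natAbs_pos.mpr hne, ?_⟩
        have h2 : Equiv.reflection P k • v - v ∈ V :=
          Submodule.sub_mem _ (hVW _ (P.reflection_mem_weylGroup k) v hv) hv
        rw [Equiv.reflection_smul, P.reflection_apply, sub_sub_cancel_left] at h2
        have h3 : P.coroot' k v • P.root k ∈ V := by
          have := Submodule.neg_mem _ h2
          rwa [neg_neg] at this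
        rcases Int.natAbs_eq (P.coroot' k v) with h | h
        · rw [← natCast_zsmul, ← h]; exact h3
        · have h4 : ((P.coroot' k v).natAbs : ℤ) = -P.coroot' k v := by omega
          rw [← natCast_zsmul, h4, neg_smul]
          exact Submodule.neg_mem _ h3
      have := rootForm_root_apply (P := P) k v
      rw [h1, mul_zero] at this
      omega
    · intro h hk
      obtain ⟨n, hn, hmem⟩ := hk
      have h0 := h _ hmem
      rw [map_nsmul, nsmul_eq_mul] at h0
      have hB := rootForm_root_pos (P := P) k
      have hn' : (0 : ℤ) < (n : ℤ) := by exact_mod_cast hn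
      have := mul_pos hn' hB
      omega
  have hc : IsClosedSub P R' := by
    rintro a b k ⟨n, hn, ha⟩ ⟨m, hm, hb⟩ h
    refine ⟨n * m, Nat.mul_pos hn hm, ?_⟩
    rw [h, smul_add, mul_smul, mul_comm, mul_smul]
    rw [smul_comm n m (P.root a), smul_comm m n (P.root b)]
    exact Submodule.add_mem _ (nsmul_mem ha m) (nsmul_mem hb n)
  have hs : IsSymmSub P R' := by
    rintro a ⟨n, hn, ha⟩
    refine ⟨n, hn, ?_⟩
    rw [root_neg, smul_neg]
    exact Submodule.neg_mem _ ha
  have hc' : IsClosedSub P R'ᶜ := by
    intro a b k ha hb h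
    rw [hcompl] at ha hb ⊢
    intro v hv
    rw [h, map_add, LinearMap.add_apply, ha v hv, hb v hv, add_zero]
  have hs' : IsSymmSub P R'ᶜ := by
    intro a ha
    rw [hcompl] at ha ⊢
    intro v hv
    rw [root_neg, map_neg, LinearMap.neg_apply, ha v hv, neg_zero]
  have hiR : i ∈ R' := by
    refine ⟨1, one_pos, ?_⟩
    rw [one_smul]
    exact Submodule.subset_span ⟨1, by simp⟩
  have hjR : j ∈ R' := by
    rcases hirr R' hc hs hc' hs' with h | h
    · rw [h] at hiR; exact absurd hiR (Set.notMem_empty i)
    · rw [h]; exact Set.mem_univ j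
  -- some element of the orbit is not orthogonal to `j`
  obtain ⟨w, hw⟩ : ∃ w : P.weylGroup, P.RootForm (P.root j) (P.root ((w : P.Aut) • i)) ≠ 0 := by
    by_contra hcon
    push Not at hcon
    have hall : ∀ v ∈ V, P.RootForm (P.root j) v = 0 := by
      intro v hv
      refine Submodule.span_induction ?_ ?_ ?_ ?_ hv
      · rintro _ ⟨w, rfl⟩; exact hcon w
      · simp
      · intro a b _ _ ha hb; rw [map_add, ha, hb, add_zero]
      · intro n a _ ha; rw [map_zsmul, ha, smul_zero]
    exact (hcompl j).mpr hall hjR
  have hno : ¬ P.IsOrthogonal ((w : P.Aut) • i) j := by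
    intro ho
    apply hw
    have h2 := two_mul_rootForm (P := P) j ((w : P.Aut) • i)
    rw [ho.2, zero_mul] at h2
    omega
  have hl' : P.RootForm (P.root ((w : P.Aut) • i)) (P.root ((w : P.Aut) • i)) =
      P.RootForm (P.root j) (P.root j) := by
    rw [rootForm_root_aut, hl]
  obtain ⟨g, hg, hgj⟩ := exists_weyl_smul_eq_of_length_eq _ j hno hl'
  exact ⟨g * w, mul_mem hg w.2, by rw [mul_smul, hgj]⟩

end Groth.Agent.Helper8.RD
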