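import Groth.Agent.Lib.Helper8.RootDCrit
import Groth.Agent.Lib.Helper8.RootDForm
import Mathlib.LinearAlgebra.RootSystem.Reduced

/-!
# Root data: p-morphisms and systems of simple / positive roots (helper8 library)
-/

set_option autoImplicit false

open RootPairing RootD
open scoped Pointwise

namespace Groth.Agent.Helper8.RD

section Scal

variable {ι M : Type*} [AddCommGroup M]

/-- Index-wise scaling of coefficient vectors. -/
noncomputable def scal (q : ι → ℤ) : (ι →₀ ℤ) →ₗ[ℤ] (ι →₀ ℤ) :=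
  Finsupp.linearCombination ℤ (fun i => Finsupp.single i (q i))

theorem scal_single (q : ι → ℤ) (i : ι) (a : ℤ) :
    scal q (Finsupp.single i a) = Finsupp.single i (a * q i) := by
  simp [scal]

theorem scal_apply (q : ι → ℤ) (c : ι →₀ ℤ) (i : ι) : scal q c i = c i * q i := by
  classical
  induction c using Finsupp.induction_linear with
  | zero => simp
  | add a b ha hb => rw [map_add, Finsupp.add_apply, ha, hb, Finsupp.add_apply, add_mul]
  | single j a =>
    rw [scal_single]
    by_cases h : j = i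
    · subst h; simp
    · simp [h]

theorem lc_scal (v : ι → M) (q : ι → ℤ) (c : ι →₀ ℤ) :
    Finsupp.linearCombination ℤ v (scal q c) =
      Finsupp.linearCombination ℤ (fun i => q i • v i) c := by
  induction c using Finsupp.induction_linear with
  | zero => simp
  | add a b ha hb => rw [map_add, map_add, map_add, ha, hb]
  | single j a =>
    rw [scal_single, Finsupp.linearCombination_single, Finsupp.linearCombination_single, mul_smul]

theorem scal_mem_supported (q : ι → ℤ) {s : Set ι} {c : ι →₀ ℤ}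
    (hc : c ∈ Finsupp.supported ℤ ℤ s) : scal q c ∈ Finsupp.supported ℤ ℤ s := by
  rw [Finsupp.mem_supported] at hc ⊢
  intro i hi
  apply hc
  rw [Finset.mem_coe, Finsupp.mem_support_iff] at hi ⊢
  intro h
  apply hi
  rw [scal_apply, h, zero_mul]

theorem linearIndepOn_smul_iff [Finite ι] (v : ι → M) (q : ι → ℤ) (hq : ∀ i, q i ≠ 0)
    (s : Set ι) : LinearIndepOn ℤ (fun i => q i • v i) s ↔ LinearIndepOn ℤ v s := by
  classical
  have : Fintype ι := Fintype.ofFinite ι
  rw [linearIndepOn_iff, linearIndepOn_iff]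
  constructor
  · intro h l hl hl0
    -- scale by the complementary factors
    set r : ι → ℤ := fun i => ∏ j ∈ Finset.univ.erase i, q j with hr
    have hrq : ∀ i, r i * q i = ∏ j, q j := by
      intro i
      rw [hr, mul_comm]
      exact Finset.mul_prod_erase Finset.univ q (Finset.mem_univ i)
    have hr0 : ∀ i, r i ≠ 0 := by
      intro i
      exact Finset.prod_ne_zero_iff.mpr (fun j _ => hq j)
    have h1 : scal q (scal r l) = (∏ j, q j) • l := by
      ext i
      rw [scal_apply, scal_apply, mul_assoc, hrq, Finsupp.smul_apply, smul_eq_mul, mul_comm]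
    have h2 := h (scal r l) (scal_mem_supported r hl) (by
      rw [← lc_scal, h1, map_smul, hl0, smul_zero])
    ext i
    have h3 := DFunLike.congr_fun h2 i
    rw [scal_apply, Finsupp.zero_apply] at h3
    rw [Finsupp.zero_apply]
    exact (mul_eq_zero.mp h3).resolve_right (hr0 i)
  · intro h l hl hl0
    have h2 := h (scal q l) (scal_mem_supported q hl) (by rw [lc_scal, hl0])
    ext i
    have h3 := DFunLike.congr_fun h2 i
    rw [scal_apply, Finsupp.zero_apply] at h3
    rw [Finsupp.zero_apply]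
    exact (mul_eq_zero.mp h3).resolve_right (hq i)

end Scal

variable {ι M N ι' M' N' : Type*} [AddCommGroup M] [AddCommGroup N] [AddCommGroup M']
  [AddCommGroup N'] {P : RootPairing ι ℤ M N} {P' : RootPairing ι' ℤ M' N'}

/-- In a reduced root datum every root is indivisible. -/
theorem isIndiv_of_isReduced [P.IsReduced] (i : ι) : IsIndiv P i := by
  have := tf P
  intro j h
  apply P.nsmul_notMem_range_root (n := 2) (i := j)
  refine ⟨i, ?_⟩
  rw [← h, two_smul, two_smul]

theorem natSpan_le_span {S : Set ι} {x : M} (hx : x ∈ natSpan P S) :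
    x ∈ Submodule.span ℤ (Set.range P.root) := by
  refine AddSubmonoid.closure_induction ?_ ?_ ?_ hx
  · rintro y ⟨i, -, rfl⟩
    exact Submodule.subset_span ⟨i, rfl⟩
  · exact Submodule.zero_mem _
  · intro a b _ _ ha hb
    exact Submodule.add_mem _ ha hb

/-- The data of a `p`-morphism (only positivity of the `q i` is kept). -/
structure PMor (P : RootPairing ι ℤ M N) (P' : RootPairing ι' ℤ M' N') (f : M' →ₗ[ℤ] M)
    (g : N →ₗ[ℤ] N') (u : ι ≃ ι') (q : ι → ℕ) : Prop where
  hfg : ∀ (m' : M') (n : N), P.toLinearMap (f m') n = P'.toLinearMap m' (g n)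
  hq : ∀ i, 0 < q i
  hroot : ∀ i : ι, f (P'.root (u i)) = (q i : ℤ) • P.root i
  hcoroot : ∀ i : ι, g (P.coroot i) = (q i : ℤ) • P'.coroot (u i)

namespace PMor

variable {f : M' →ₗ[ℤ] M} {g : N →ₗ[ℤ] N'} {u : ι ≃ ι'} {q : ι → ℕ}

/-- `f` is injective on the root lattice. -/
theorem eq_zero_of_map_eq_zero [Finite ι'] (h : PMor P P' f g u q) {x : M'}
    (hx : x ∈ Submodule.span ℤ (Set.range P'.root)) (hfx : f x = 0) : x = 0 := by
  apply eq_zero_of_coroot'_eq_zero hx
  intro j
  obtain ⟨i, rfl⟩ := u.surjective j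
  have h1 : (q i : ℤ) * P'.coroot' (u i) x = 0 := by
    have h2 : P'.toLinearMap x (g (P.coroot i)) = 0 := by
      rw [← h.hfg, hfx, map_zero, LinearMap.zero_apply]
    rw [h.hcoroot, map_smul, smul_eq_mul] at h2
    exact h2
  have hq0 : (q i : ℤ) ≠ 0 := by
    have := h.hq i
    exact_mod_cast this.ne'
  exact (mul_eq_zero.mp h1).resolve_left hq0

theorem injOn [Finite ι'] (h : PMor P P' f g u q) :
    Set.InjOn f (Submodule.span ℤ (Set.range P'.root) : Set M') := by
  intro x hx y hy hxy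
  have := h.eq_zero_of_map_eq_zero (Submodule.sub_mem _ hx hy) (by rw [map_sub, hxy, sub_self])
  exact sub_eq_zero.mp this

theorem map_mem_natSpan (h : PMor P P' f g u q) {Δ : Set ι} {x : M'}
    (hx : x ∈ natSpan P' (u '' Δ)) : f x ∈ natSpan P Δ := by
  refine AddSubmonoid.closure_induction ?_ ?_ ?_ hx
  · rintro y ⟨_, ⟨d, hd, rfl⟩, rfl⟩
    rw [h.hroot, natCast_zsmul]
    exact nsmul_mem (root_mem_natSpan P hd) _
  · rw [map_zero]; exact zero_mem _
  · intro a b _ _ ha hb
    rw [map_add]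
    exact add_mem ha hb

theorem exists_lift_natSpan (h : PMor P P' f g u q) {Δ : Set ι} {x : M} (hx : x ∈ natSpan P Δ) :
    ∃ n : ℕ, 0 < n ∧ ∃ y ∈ natSpan P' (u '' Δ), f y = n • x := by
  refine AddSubmonoid.closure_induction ?_ ?_ ?_ hx
  · rintro y ⟨d, hd, rfl⟩
    refine ⟨q d, h.hq d, P'.root (u d), root_mem_natSpan P' (Set.mem_image_of_mem u hd), ?_⟩
    rw [h.hroot, natCast_zsmul]
  · exact ⟨1, one_pos, 0, zero_mem _, by rw [map_zero, smul_zero]⟩
  · rintro a b _ _ ⟨n, hn, y, hy, hfy⟩ ⟨m, hm, z, hz, hfz⟩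
    refine ⟨n * m, Nat.mul_pos hn hm, m • y + n • z, add_mem (nsmul_mem hy _) (nsmul_mem hz _), ?_⟩
    rw [map_add, map_nsmul, map_nsmul, hfy, hfz, smul_add, ← mul_smul, ← mul_smul, mul_comm m n]

theorem cone_lift [Finite ι'] (h : PMor P P' f g u q) {Δ : Set ι} {x' : M'}
    (hx' : x' ∈ Submodule.span ℤ (Set.range P'.root)) {x : M} (hx : x ∈ natSpan P Δ) {m : ℕ}
    (hfx : f x' = m • x) : ∃ n : ℕ, 0 < n ∧ n • x' ∈ natSpan P' (u '' Δ) := by
  obtain ⟨n, hn, y, hy, hfy⟩ := h.exists_lift_natSpan hx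
  refine ⟨n, hn, ?_⟩
  have heq : n • x' = m • y := by
    apply h.injOn
    · exact Submodule.smul_of_tower_mem _ n hx'
    · exact Submodule.smul_of_tower_mem _ m (natSpan_le_span hy)
    · rw [map_nsmul, map_nsmul, hfx, hfy, ← mul_smul, ← mul_smul, mul_comm]
  rw [heq]
  exact nsmul_mem hy _

theorem linearIndepOn_iff [Finite ι] [Finite ι'] (h : PMor P P' f g u q) (Δ : Set ι) :
    LinearIndepOn ℤ P.root Δ ↔ LinearIndepOn ℤ P'.root (u '' Δ) := by
  have hq0 : ∀ i, (q i : ℤ) ≠ 0 := by
    intro i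
    have := h.hq i
    exact_mod_cast this.ne'
  rw [← linearIndepOn_smul_iff P.root (fun i => (q i : ℤ)) hq0 Δ]
  have h1 : (fun i => (q i : ℤ) • P.root i) = f ∘ (P'.root ∘ u) := by
    funext i
    exact (h.hroot i).symm
  rw [h1]
  have hinj : Set.InjOn f (Submodule.span ℤ ((P'.root ∘ u) '' Δ) : Set M') := by
    refine h.injOn.mono ?_
    apply Submodule.span_mono
    rintro _ ⟨d, -, rfl⟩
    exact ⟨u d, rfl⟩
  rw [f.linearIndepOn_iff_of_injOn hinj]
  constructor
  · intro h2
    exact LinearIndepOn.image_of_comp u P'.root h2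
  · intro h2
    exact h2.comp_of_image u.injective.injOn

theorem isSimpleSys_image [Finite ι] [Finite ι'] [P'.IsReduced] (h : PMor P P' f g u q)
    {Δ : Set ι} (hΔ : IsSimpleSys P Δ) : IsSimpleSys P' (u '' Δ) := by
  apply isSimpleSys_of_indiv (u '' Δ) (fun i _ => isIndiv_of_isReduced i)
    ((h.linearIndepOn_iff Δ).mp hΔ.linInd)
  intro k'
  obtain ⟨k, rfl⟩ := u.surjective k'
  rcases hΔ.mem_or_neg_mem k with hk | hk
  · obtain ⟨n, hn, hmem⟩ := h.cone_lift (x' := P'.root (u k)) (Submodule.subset_span ⟨u k, rfl⟩)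
      hk (m := q k) (by rw [h.hroot, natCast_zsmul])
    exact ⟨n, hn, Or.inl hmem⟩
  · obtain ⟨n, hn, hmem⟩ := h.cone_lift (x' := -P'.root (u k))
      (Submodule.neg_mem _ (Submodule.subset_span ⟨u k, rfl⟩)) hk (m := q k)
      (by rw [map_neg, h.hroot, natCast_zsmul, smul_neg])
    exact ⟨n, hn, Or.inr hmem⟩

theorem isSimpleSys_of_image [Finite ι] [Finite ι'] [P.IsReduced] (h : PMor P P' f g u q)
    {Δ : Set ι} (hΔ : IsSimpleSys P' (u '' Δ)) : IsSimpleSys P Δ := by
  apply isSimpleSys_of_indiv Δ (fun i _ => isIndiv_of_isReduced i)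
    ((h.linearIndepOn_iff Δ).mpr hΔ.linInd)
  intro k
  refine ⟨q k, h.hq k, ?_⟩
  rcases hΔ.mem_or_neg_mem (u k) with hk | hk
  · left
    have := h.map_mem_natSpan hk
    rwa [h.hroot, natCast_zsmul] at this
  · right
    have := h.map_mem_natSpan hk
    rwa [map_neg, h.hroot, natCast_zsmul, ← smul_neg] at this

theorem image_posOf [Finite ι] [Finite ι'] [P'.IsReduced] (h : PMor P P' f g u q)
    {Δ : Set ι} (hΔ : IsSimpleSys P Δ) : u '' posOf P Δ = posOf P' (u '' Δ) := by
  have hΔ' := h.isSimpleSys_image hΔ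
  ext k'
  obtain ⟨k, rfl⟩ := u.surjective k'
  rw [u.injective.mem_set_image]
  constructor
  · intro hk
    obtain ⟨n, hn, hmem⟩ := h.cone_lift (x' := P'.root (u k)) (Submodule.subset_span ⟨u k, rfl⟩)
      hk (m := q k) (by rw [h.hroot, natCast_zsmul])
    exact (isPosSys_posOf hΔ').sat n hn (natSpan_mono P' (subset_posOf hΔ') hmem)
  · intro hk
    have := h.map_mem_natSpan hk
    rw [h.hroot, natCast_zsmul] at this
    exact (isPosSys_posOf hΔ).sat (q k) (h.hq k) (natSpan_mono P (subset_posOf hΔ) this)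

theorem isPosSys_iff [Finite ι] [Finite ι'] [P.IsReduced] [P'.IsReduced]
    (h : PMor P P' f g u q) (S : Set ι) : IsPosSys P S ↔ IsPosSys P' (u '' S) := by
  constructor
  · intro hS
    obtain ⟨Δ, hΔ, rfl⟩ := exists_simpleSys_of_posSys hS
    rw [h.image_posOf hΔ]
    exact isPosSys_posOf (h.isSimpleSys_image hΔ)
  · intro hS'
    obtain ⟨Δ', hΔ', hpos⟩ := exists_simpleSys_of_posSys hS'
    have himg : u '' (u ⁻¹' Δ') = Δ' := u.image_preimage Δ'
    have hΔ : IsSimpleSys P (u ⁻¹' Δ') := h.isSimpleSys_of_image (himg.symm ▸ hΔ')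
    have h1 := h.image_posOf hΔ
    rw [himg, hpos] at h1
    have h2 : posOf P (u ⁻¹' Δ') = S := Set.image_injective.mpr u.injective h1
    rw [← h2]
    exact isPosSys_posOf hΔ

end PMor

end Groth.Agent.Helper8.RD
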