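import Groth.Agent.Lib.Helper8.RootDWord
import Groth.Agent.Lib.Helper8.RootDForm

/-!
# Root data: parabolic subgroups of the Weyl group (helper8 library)
-/

set_option autoImplicit false

open RootPairing RootD
open scoped Pointwise

namespace Groth.Agent.Helper8.RD

variable {ι M N : Type*} [AddCommGroup M] [AddCommGroup N] {P : RootPairing ι ℤ M N}

/-- Elements of the group generated by the reflections in `S` move every vector by an element of
the span of `S`. -/
theorem weylSub_smul_sub_mem {S : Set ι} {g : P.Aut} (hg : g ∈ weylSub P S) (x : M) :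
    g • x - x ∈ Submodule.span ℤ (P.root '' S) := by
  unfold weylSub at hg
  induction hg using Subgroup.closure_induction'' generalizing x with
  | one => rw [one_smul, sub_self]; exact Submodule.zero_mem _
  | mem w hw =>
    obtain ⟨d, hd, rfl⟩ := hw
    rw [Equiv.reflection_smul, P.reflection_apply, sub_sub_cancel_left]
    exact Submodule.neg_mem _ (Submodule.smul_mem _ _ (Submodule.subset_span ⟨d, hd, rfl⟩))
  | inv_mem w hw =>
    obtain ⟨d, hd, rfl⟩ := hw
    rw [Equiv.reflection_inv, Equiv.reflection_smul, P.reflection_apply, sub_sub_cancel_left]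
    exact Submodule.neg_mem _ (Submodule.smul_mem _ _ (Submodule.subset_span ⟨d, hd, rfl⟩))
  | mul w₁ w₂ _ _ h₁ h₂ =>
    have : (w₁ * w₂) • x - x = (w₁ • (w₂ • x) - w₂ • x) + (w₂ • x - x) := by
      rw [mul_smul]; abel
    rw [this]
    exact Submodule.add_mem _ (h₁ _) (h₂ x)

/-- The defining condition of S5463 on an automorphism. -/
def ParaCond (P : RootPairing ι ℤ M N) (S : Set ι) (g : P.Aut) : Prop :=
  ∀ k : ι, ∃ n : ℕ, 0 < n ∧ n • (P.root (g • k) - P.root k) ∈ Submodule.span ℤ (P.root '' S)

theorem paraCond_of_mem {S : Set ι} {g : P.Aut} (hg : g ∈ weylSub P S) : ParaCond P S g := by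
  intro k
  refine ⟨1, one_pos, ?_⟩
  rw [one_smul, aut_root]
  exact weylSub_smul_sub_mem hg _

/-- If `g` satisfies the condition and `a ∈ S`, so does `g * s_a`. -/
theorem paraCond_mul_refl {S : Set ι} {g : P.Aut} (hg : ParaCond P S g) {a : ι} (ha : a ∈ S) :
    ParaCond P S (g * Equiv.reflection P a) := by
  intro k
  obtain ⟨n, hn, h⟩ := hg (P.reflectionPerm a k)
  refine ⟨n, hn, ?_⟩
  have : P.root ((g * Equiv.reflection P a) • k) - P.root k =
      (P.root (g • P.reflectionPerm a k) - P.root (P.reflectionPerm a k)) +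
        (P.root (P.reflectionPerm a k) - P.root k) := by
    rw [mul_smul, refl_smul_idx]; abel
  rw [this, smul_add]
  refine Submodule.add_mem _ h (Submodule.smul_of_tower_mem _ n ?_)
  rw [refl_root, sub_sub_cancel_left]
  exact Submodule.neg_mem _ (Submodule.smul_mem _ _ (Submodule.subset_span ⟨a, ha, rfl⟩))

/-- If `g` satisfies the condition for `S ⊆ Δ` and makes the simple root `a` negative, then
`a ∈ S`. -/
theorem mem_of_paraCond_of_neg [Finite ι] {Δ S : Set ι} (hΔ : IsSimpleSys P Δ) (hsub : S ⊆ Δ)
    {g : P.Aut} (hg : ParaCond P S g) {a : ι} (ha : a ∈ Δ) (hneg : g • a ∉ posOf P Δ) : a ∈ S := by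
  classical
  by_contra haS
  obtain ⟨n, hn, h⟩ := hg a
  obtain ⟨c, hc, hlc⟩ := mem_span_iff_lc.mp h
  have hc' : c = (n : ℤ) • (coeff hΔ (g • a) - Finsupp.single a 1) := by
    apply lc_inj hΔ (hc.trans hsub)
    · intro j hj
      have h1 := Finsupp.support_smul hj
      have h2 := Finsupp.support_sub h1
      rcases Finset.mem_union.mp h2 with h3 | h3
      · exact coeff_supp hΔ _ h3
      · have := Finsupp.support_single_subset h3
        rw [Finset.mem_singleton] at this
        rw [this]; exact ha
    · have h1 : lc P ((n : ℤ) • (coeff hΔ (g • a) - Finsupp.single a 1)) =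
          (n : ℤ) • (lc P (coeff hΔ (g • a)) - lc P (Finsupp.single a 1)) := by
        rw [lc, LinearMap.map_smul, map_sub]
      rw [hlc, h1, coeff_lc, lc, Finsupp.linearCombination_single, one_smul, natCast_zsmul]
  have hca : c a = 0 := by
    by_contra hne
    exact haS (hc (Finsupp.mem_support_iff.mpr hne))
  have h1 : c a = (n : ℤ) * (coeff hΔ (g • a) a - 1) := by
    rw [hc']; simp
  have h2 : coeff hΔ (g • a) a ≤ 0 := by
    rcases coeff_sign hΔ (g • a) with hs | hs
    · exact absurd ((mem_posOf_iff hΔ).mpr hs) hneg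
    · exact hs a
  rw [hca] at h1
  have hn' : (0 : ℤ) < n := by exact_mod_cast hn
  nlinarith

/-- The hard direction of S5463. -/
theorem mem_weylSub_of_paraCond [Finite ι] {Δ S : Set ι} (hΔ : IsSimpleSys P Δ) (hsub : S ⊆ Δ) :
    ∀ (n : ℕ) (l : List ι), l.length = n → (∀ a ∈ l, a ∈ Δ) → ParaCond P S (wprod P l) →
      wprod P l ∈ weylSub P S := by
  intro n
  induction n using Nat.strong_induction_on with
  | _ n ih =>
    intro l hlen hl hcond
    by_cases hmin : ∀ l' : List ι, (∀ a ∈ l', a ∈ Δ) → wprod P l' = wprod P l →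
        l.length ≤ l'.length
    · by_cases hne : l = []
      · rw [hne, wprod_nil]; exact one_mem _
      · obtain ⟨l₀, a, rfl, ha, -, -, hneg⟩ := exists_simple_neg hΔ hl hne hmin
        have haS : a ∈ S := mem_of_paraCond_of_neg hΔ hsub hcond ha hneg
        have h0 : wprod P l₀ = wprod P (l₀ ++ [a]) * Equiv.reflection P a := by
          rw [wprod_append, wprod_singleton, mul_assoc, refl_mul_self, mul_one]
        have hcond0 : ParaCond P S (wprod P l₀) := by
          rw [h0]; exact paraCond_mul_refl hcond haS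
        have hlen0 : l₀.length < n := by
          rw [← hlen]; simp
        have h1 := ih l₀.length hlen0 l₀ rfl (fun x hx => hl x (by simp [hx])) hcond0
        rw [wprod_append, wprod_singleton]
        exact mul_mem h1 (refl_mem_weylSub haS)
    · push Not at hmin
      obtain ⟨l', hl', heq, hlt⟩ := hmin
      rw [← heq]
      apply ih l'.length (hlen ▸ hlt) l' rfl hl'
      rw [heq]; exact hcond

theorem mem_weylSub_iff_paraCond [Finite ι] {Δ S : Set ι} (hΔ : IsSimpleSys P Δ) (hsub : S ⊆ Δ)
    {g : P.Aut} (hg : g ∈ P.weylGroup) : g ∈ weylSub P S ↔ ParaCond P S g := by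
  refine ⟨paraCond_of_mem, fun h => ?_⟩
  rw [← weylSub_eq hΔ] at hg
  obtain ⟨l, hl, rfl⟩ := exists_word_of_mem_weylSub hg
  exact mem_weylSub_of_paraCond hΔ hsub l.length l rfl hl h

end Groth.Agent.Helper8.RD
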