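import Groth.Agent.Lib.Helper8.RootDForm

/-!
# Root data: orthogonal decompositions of simple systems (helper8 library)
-/

set_option autoImplicit false

open RootPairing RootD
open scoped Pointwise

namespace Groth.Agent.Helper8.RD

variable {ι M N : Type*} [AddCommGroup M] [AddCommGroup N] {P : RootPairing ι ℤ M N}

theorem mem_span_iff_lc {S : Set ι} {x : M} :
    x ∈ Submodule.span ℤ (P.root '' S) ↔ ∃ c : ι →₀ ℤ, ↑c.support ⊆ S ∧ lc P c = x := by
  rw [Finsupp.mem_span_image_iff_linearCombination]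
  constructor
  · rintro ⟨c, hc, h⟩
    exact ⟨c, (Finsupp.mem_supported ℤ c).mp hc, h⟩
  · rintro ⟨c, hc, h⟩
    exact ⟨c, (Finsupp.mem_supported ℤ c).mpr hc, h⟩

/-- A reflection `s_d` preserves the span of the roots of `S` as soon as `d ∈ S` or `d` is
orthogonal to `S`. -/
theorem refl_mem_span {S : Set ι} {d : ι} (hd : d ∈ S ∨ ∀ i ∈ S, P.pairing i d = 0) {x : M}
    (hx : x ∈ Submodule.span ℤ (P.root '' S)) :
    P.reflection d x ∈ Submodule.span ℤ (P.root '' S) := by
  rw [P.reflection_apply]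
  rcases hd with hd | hd
  · exact Submodule.sub_mem _ hx (Submodule.smul_mem _ _ (Submodule.subset_span ⟨d, hd, rfl⟩))
  · have h0 : P.coroot' d x = 0 := by
      refine Submodule.span_induction ?_ ?_ ?_ ?_ hx
      · rintro _ ⟨i, hi, rfl⟩
        rw [P.root_coroot'_eq_pairing]
        exact hd i hi
      · simp
      · intro a b _ _ ha hb
        rw [map_add, ha, hb, add_zero]
      · intro n a _ ha
        rw [map_zsmul, ha, smul_zero]
    rw [h0, zero_smul, sub_zero]
    exact hx

/-- The group generated by reflections which each preserve a submodule preserves it. -/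
theorem weylSub_smul_mem {Δ : Set ι} {V : Submodule ℤ M}
    (hV : ∀ d ∈ Δ, ∀ x ∈ V, P.reflection d x ∈ V) {g : P.Aut} (hg : g ∈ weylSub P Δ) {x : M}
    (hx : x ∈ V) : g • x ∈ V := by
  unfold weylSub at hg
  induction hg using Subgroup.closure_induction'' generalizing x with
  | one => rw [one_smul]; exact hx
  | mem w hw =>
    obtain ⟨d, hd, rfl⟩ := hw
    exact hV d hd x hx
  | inv_mem w hw =>
    obtain ⟨d, hd, rfl⟩ := hw
    rw [Equiv.reflection_inv]
    exact hV d hd x hx
  | mul w₁ w₂ _ _ h₁ h₂ =>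
    rw [mul_smul]
    exact h₁ (h₂ hx)

variable [Finite ι]

/-- If every simple reflection preserves the submodule `V` and `V` contains a simple root `d`, then
it contains every root conjugate to it; stated for all roots at once: a root lies in `V` as soon
as the simple root it (or its half) is conjugate to lies in `V`. -/
theorem root_mem_of_forall_simple {Δ : Set ι} (hΔ : IsSimpleSys P Δ) {V V' : Submodule ℤ M}
    (hV : ∀ d ∈ Δ, ∀ x ∈ V, P.reflection d x ∈ V)
    (hV' : ∀ d ∈ Δ, ∀ x ∈ V', P.reflection d x ∈ V')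
    (hd : ∀ d ∈ Δ, P.root d ∈ V ∨ P.root d ∈ V') (k : ι) :
    P.root k ∈ V ∨ P.root k ∈ V' := by
  have key : ∀ k : ι, IsIndiv P k → P.root k ∈ V ∨ P.root k ∈ V' := by
    intro k hk
    obtain ⟨g, hg, d, hdΔ, rfl⟩ := exists_weylSub_smul_eq hΔ hk
    rw [aut_root]
    rcases hd d hdΔ with h | h
    · exact Or.inl (weylSub_smul_mem hV hg h)
    · exact Or.inr (weylSub_smul_mem hV' hg h)
  rcases isIndiv_or_exists_two_smul (P := P) k with h | ⟨j, hj, h⟩
  · exact key k h
  · rw [← h]
    rcases key j hj with h' | h'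
    · exact Or.inl (Submodule.smul_mem _ _ h')
    · exact Or.inr (Submodule.smul_mem _ _ h')

/-- If a simple system is the union of two mutually orthogonal subsets, every root lies in the
span of exactly one of them. -/
theorem inSpan_partition {Δ Δ' : Set ι} (hΔ : IsSimpleSys P Δ) (hsub : Δ' ⊆ Δ)
    (horth : ∀ i ∈ Δ', ∀ j ∈ Δ \ Δ', P.IsOrthogonal i j) (k : ι) :
    (k ∈ inSpan P Δ' ∨ k ∈ inSpan P (Δ \ Δ')) ∧
      ¬ (k ∈ inSpan P Δ' ∧ k ∈ inSpan P (Δ \ Δ')) := by
  classical
  constructor
  · apply root_mem_of_forall_simple hΔ (V := Submodule.span ℤ (P.root '' Δ'))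
      (V' := Submodule.span ℤ (P.root '' (Δ \ Δ')))
    · intro d hd x hx
      apply refl_mem_span _ hx
      by_cases hd' : d ∈ Δ'
      · exact Or.inl hd'
      · exact Or.inr (fun i hi => (horth i hi d ⟨hd, hd'⟩).1)
    · intro d hd x hx
      apply refl_mem_span _ hx
      by_cases hd' : d ∈ Δ'
      · exact Or.inr (fun i hi => (horth d hd' i hi).2)
      · exact Or.inl ⟨hd, hd'⟩
    · intro d hd
      by_cases hd' : d ∈ Δ'
      · exact Or.inl (Submodule.subset_span ⟨d, hd', rfl⟩)
      · exact Or.inr (Submodule.subset_span ⟨d, ⟨hd, hd'⟩, rfl⟩)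
  · rintro ⟨h1, h2⟩
    obtain ⟨c, hc, hck⟩ := mem_span_iff_lc.mp h1
    obtain ⟨c', hc', hck'⟩ := mem_span_iff_lc.mp h2
    have heq := lc_inj hΔ (hc.trans hsub) (hc'.trans Set.sdiff_subset) (hck.trans hck'.symm)
    have hc0 : c = 0 := by
      ext i
      rw [Finsupp.zero_apply]
      by_contra hi
      have h1 : i ∈ Δ' := hc (Finsupp.mem_support_iff.mpr hi)
      have h2 : i ∈ Δ \ Δ' := hc' (Finsupp.mem_support_iff.mpr (heq ▸ hi))
      exact h2.2 h1
    rw [hc0, lc, map_zero] at hck
    exact P.ne_zero k hck.symm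

/-- A closed symmetric set of roots with closed symmetric complement is stable under all
reflections. -/
theorem refl_mem_of_part {T : Set ι} (hc : IsClosedSub P T) (hs : IsSymmSub P T)
    (hc' : IsClosedSub P Tᶜ) (hs' : IsSymmSub P Tᶜ) {i : ι} (hi : i ∈ T) (j : ι) :
    P.reflectionPerm j i ∈ T := by
  by_cases hij : P.pairing i j = 0
  · have : P.reflectionPerm j i = i := by
      apply P.root.injective
      rw [refl_root, hij, zero_smul, sub_zero]
    rw [this]; exact hi
  · have hj : j ∈ T := part_mem_of_not_orth P hc hs hc' hs' hi (fun h => hij h.1)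
    apply part_mem_of_not_orth P hc hs hc' hs' hj
    intro h
    apply hij
    have h1 := h.2
    rw [← P.root_coroot_eq_pairing, refl_root, map_sub, map_zsmul, LinearMap.sub_apply,
      LinearMap.smul_apply, P.root_coroot_eq_pairing, P.root_coroot_eq_pairing, P.pairing_same,
      smul_eq_mul] at h1
    linarith

theorem aut_mem_of_part {T : Set ι} (hc : IsClosedSub P T) (hs : IsSymmSub P T)
    (hc' : IsClosedSub P Tᶜ) (hs' : IsSymmSub P Tᶜ) {g : P.Aut} (hg : g ∈ P.weylGroup) {i : ι}
    (hi : i ∈ T) : g • i ∈ T := by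
  induction hg using weylGroup.induction generalizing i with
  | mem j => exact refl_mem_of_part hc hs hc' hs' hi j
  | one => rw [one_smul]; exact hi
  | mul w₁ w₂ _ _ h₁ h₂ => rw [mul_smul]; exact h₁ (h₂ hi)

/-- A closed symmetric set of roots with closed symmetric complement consists of roots in the
span of the simple roots it contains. -/
theorem part_subset_inSpan {Δ : Set ι} (hΔ : IsSimpleSys P Δ) {T : Set ι} (hc : IsClosedSub P T)
    (hs : IsSymmSub P T) (hc' : IsClosedSub P Tᶜ) (hs' : IsSymmSub P Tᶜ) :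
    T ⊆ inSpan P (Δ ∩ T) := by
  have horth : ∀ i ∈ Δ ∩ T, ∀ j ∈ Δ \ T, P.pairing i j = 0 := by
    intro i hi j hj
    by_contra h
    exact hj.2 (part_mem_of_not_orth P hc hs hc' hs' hi.2 (fun h' => h h'.1))
  have hV : ∀ d ∈ Δ, ∀ x ∈ Submodule.span ℤ (P.root '' (Δ ∩ T)),
      P.reflection d x ∈ Submodule.span ℤ (P.root '' (Δ ∩ T)) := by
    intro d hd x hx
    apply refl_mem_span _ hx
    by_cases hdT : d ∈ T
    · exact Or.inl ⟨hd, hdT⟩
    · exact Or.inr (fun i hi => horth i hi d ⟨hd, hdT⟩)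
  have key : ∀ k : ι, IsIndiv P k → k ∈ T → k ∈ inSpan P (Δ ∩ T) := by
    intro k hk hkT
    obtain ⟨g, hg, d, hdΔ, rfl⟩ := exists_weylSub_smul_eq hΔ hk
    have hdT : d ∈ T := by
      by_contra hdT
      have hcc : IsClosedSub P Tᶜᶜ := by rw [compl_compl]; exact hc
      have hss : IsSymmSub P Tᶜᶜ := by rw [compl_compl]; exact hs
      exact aut_mem_of_part hc' hs' hcc hss (weylSub_le hg) (show d ∈ Tᶜ from hdT) hkT
    show P.root (g • d) ∈ Submodule.span ℤ (P.root '' (Δ ∩ T))
    rw [aut_root]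
    exact weylSub_smul_mem hV hg (Submodule.subset_span ⟨d, ⟨hdΔ, hdT⟩, rfl⟩)
  intro k hkT
  rcases isIndiv_or_exists_two_smul (P := P) k with h | ⟨j, hj, h⟩
  · exact key k h hkT
  · have hjT : j ∈ T := by
      apply part_mem_of_not_orth P hc hs hc' hs' hkT
      intro ho
      have := ho.1
      rw [← P.root_coroot_eq_pairing, ← h, map_zsmul, LinearMap.smul_apply,
        P.root_coroot_eq_pairing, P.pairing_same] at this
      norm_num at this
    show P.root k ∈ Submodule.span ℤ (P.root '' (Δ ∩ T))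
    rw [← h]
    exact Submodule.smul_mem _ _ (key j hj hjT)

end Groth.Agent.Helper8.RD
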