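import Groth.Agent.Lib.Helper8.RootD

/-!
# Root data: simple systems and coefficients (helper8 library)
-/

set_option autoImplicit false

open RootPairing RootD

namespace Groth.Agent.Helper8.RD

variable {ι M N : Type*} [AddCommGroup M] [AddCommGroup N] (P : RootPairing ι ℤ M N)

/-- integer linear combination of roots -/
noncomputable abbrev lc (c : ι →₀ ℤ) : M := Finsupp.linearCombination ℤ P.root c

theorem root_mem_natSpan {S : Set ι} {i : ι} (hi : i ∈ S) : P.root i ∈ natSpan P S :=
  AddSubmonoid.subset_closure ⟨i, hi, rfl⟩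

theorem natSpan_mono {S T : Set ι} (h : S ⊆ T) : natSpan P S ≤ natSpan P T :=
  AddSubmonoid.closure_mono (Set.image_mono h)

theorem mem_natSpan_iff {S : Set ι} {x : M} :
    x ∈ natSpan P S ↔ ∃ c : ι →₀ ℤ, ↑c.support ⊆ S ∧ (∀ i, 0 ≤ c i) ∧ lc P c = x := by
  classical
  constructor
  · intro hx
    refine AddSubmonoid.closure_induction ?_ ?_ ?_ hx
    · rintro y ⟨i, hi, rfl⟩
      refine ⟨Finsupp.single i 1, ?_, ?_, ?_⟩
      · intro j hj
        have := Finsupp.support_single_subset hj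
        rw [Finset.mem_singleton] at this
        exact this ▸ hi
      · intro j
        rw [Finsupp.single_apply]
        split_ifs <;> norm_num
      · simp [lc]
    · exact ⟨0, by simp, by simp, by simp [lc]⟩
    · rintro a b - - ⟨c, hc, hc0, rfl⟩ ⟨c', hc', hc0', rfl⟩
      refine ⟨c + c', ?_, ?_, ?_⟩
      · intro j hj
        have := Finsupp.support_add hj
        rw [Finset.mem_union] at this
        rcases this with h | h
        · exact hc h
        · exact hc' h
      · intro j
        rw [Finsupp.add_apply]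
        exact add_nonneg (hc0 j) (hc0' j)
      · simp [lc]
  · rintro ⟨c, hc, hc0, rfl⟩
    rw [lc, Finsupp.linearCombination_apply, Finsupp.sum]
    refine AddSubmonoid.sum_mem _ ?_
    intro i hi
    have : c i • P.root i = (c i).toNat • P.root i := by
      rw [← natCast_zsmul, Int.toNat_of_nonneg (hc0 i)]
    rw [this]
    exact AddSubmonoid.nsmul_mem _ (root_mem_natSpan P (hc hi)) _

theorem neg_mem_natSpan_iff {S : Set ι} {x : M} :
    -x ∈ natSpan P S ↔ ∃ c : ι →₀ ℤ, ↑c.support ⊆ S ∧ (∀ i, c i ≤ 0) ∧ lc P c = x := by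
  rw [mem_natSpan_iff]
  constructor
  · rintro ⟨c, hc, hc0, h⟩
    refine ⟨-c, ?_, ?_, ?_⟩
    · rwa [Finsupp.support_neg]
    · intro i
      rw [Finsupp.neg_apply]
      exact neg_nonpos.mpr (hc0 i)
    · rw [lc, map_neg, ← lc, h, neg_neg]
  · rintro ⟨c, hc, hc0, h⟩
    refine ⟨-c, ?_, ?_, ?_⟩
    · rwa [Finsupp.support_neg]
    · intro i
      rw [Finsupp.neg_apply]
      exact neg_nonneg.mpr (hc0 i)
    · rw [lc, map_neg, ← lc, h]

variable {P}
variable {Δ : Set ι}

theorem lc_inj (hΔ : IsSimpleSys P Δ) {c c' : ι →₀ ℤ} (hc : ↑c.support ⊆ Δ)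
    (hc' : ↑c'.support ⊆ Δ) (h : lc P c = lc P c') : c = c' := by
  classical
  have hli := linearIndepOn_iff.mp hΔ.linInd (c - c') ?_ ?_
  · exact sub_eq_zero.mp hli
  · rw [Finsupp.mem_supported]
    intro j hj
    have := Finsupp.support_sub hj
    rw [Finset.mem_union] at this
    rcases this with h | h
    · exact hc h
    · exact hc' h
  · rw [map_sub]
    exact sub_eq_zero.mpr h

theorem exists_coeff (hΔ : IsSimpleSys P Δ) (k : ι) :
    ∃ c : ι →₀ ℤ, ↑c.support ⊆ Δ ∧ lc P c = P.root k ∧ ((∀ i, 0 ≤ c i) ∨ (∀ i, c i ≤ 0)) := by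
  rcases hΔ.mem_or_neg_mem k with h | h
  · obtain ⟨c, hc, hc0, hk⟩ := (mem_natSpan_iff P).mp h
    exact ⟨c, hc, hk, Or.inl hc0⟩
  · obtain ⟨c, hc, hc0, hk⟩ := (neg_mem_natSpan_iff P).mp h
    exact ⟨c, hc, hk, Or.inr hc0⟩

/-- The coefficient vector of the root `k` along the simple system `Δ`. -/
noncomputable def coeff (hΔ : IsSimpleSys P Δ) (k : ι) : ι →₀ ℤ := (exists_coeff hΔ k).choose

theorem coeff_supp (hΔ : IsSimpleSys P Δ) (k : ι) : ↑(coeff hΔ k).support ⊆ Δ :=
  (exists_coeff hΔ k).choose_spec.1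

theorem coeff_lc (hΔ : IsSimpleSys P Δ) (k : ι) : lc P (coeff hΔ k) = P.root k :=
  (exists_coeff hΔ k).choose_spec.2.1

theorem coeff_sign (hΔ : IsSimpleSys P Δ) (k : ι) :
    (∀ i, 0 ≤ coeff hΔ k i) ∨ (∀ i, coeff hΔ k i ≤ 0) :=
  (exists_coeff hΔ k).choose_spec.2.2

theorem coeff_eq_of (hΔ : IsSimpleSys P Δ) {k : ι} {c : ι →₀ ℤ} (hc : ↑c.support ⊆ Δ)
    (h : lc P c = P.root k) : coeff hΔ k = c :=
  lc_inj hΔ (coeff_supp hΔ k) hc ((coeff_lc hΔ k).trans h.symm)

theorem coeff_apply_of_notMem (hΔ : IsSimpleSys P Δ) (k : ι) {i : ι} (hi : i ∉ Δ) :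
    coeff hΔ k i = 0 := by
  by_contra h
  exact hi (coeff_supp hΔ k (Finsupp.mem_support_iff.mpr h))

theorem coeff_ne_zero (hΔ : IsSimpleSys P Δ) (k : ι) : coeff hΔ k ≠ 0 := by
  intro h
  have := coeff_lc hΔ k
  rw [h, lc, map_zero] at this
  exact P.ne_zero k this.symm

theorem mem_posOf_iff (hΔ : IsSimpleSys P Δ) {k : ι} :
    k ∈ posOf P Δ ↔ ∀ i, 0 ≤ coeff hΔ k i := by
  constructor
  · intro hk
    obtain ⟨c, hc, hc0, h⟩ := (mem_natSpan_iff P).mp hk
    rw [coeff_eq_of hΔ hc h]
    exact hc0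
  · intro h
    exact (mem_natSpan_iff P).mpr ⟨coeff hΔ k, coeff_supp hΔ k, h, coeff_lc hΔ k⟩

theorem neg_root_mem_iff (hΔ : IsSimpleSys P Δ) {k : ι} :
    -P.root k ∈ natSpan P Δ ↔ ∀ i, coeff hΔ k i ≤ 0 := by
  constructor
  · intro hk
    obtain ⟨c, hc, hc0, h⟩ := (neg_mem_natSpan_iff P).mp hk
    rw [coeff_eq_of hΔ hc h]
    exact hc0
  · intro h
    exact (neg_mem_natSpan_iff P).mpr ⟨coeff hΔ k, coeff_supp hΔ k, h, coeff_lc hΔ k⟩

theorem coeff_neg (hΔ : IsSimpleSys P Δ) (k : ι) :
    coeff hΔ (P.reflectionPerm k k) = -coeff hΔ k := by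
  apply coeff_eq_of hΔ
  · rw [Finsupp.support_neg]
    exact coeff_supp hΔ k
  · rw [lc, map_neg, ← lc, coeff_lc, root_neg]

theorem coeff_of_mem (hΔ : IsSimpleSys P Δ) {d : ι} (hd : d ∈ Δ) :
    coeff hΔ d = Finsupp.single d 1 := by
  apply coeff_eq_of hΔ
  · intro j hj
    have := Finsupp.support_single_subset hj
    rw [Finset.mem_singleton] at this
    exact this ▸ hd
  · simp [lc]

theorem coeff_refl (hΔ : IsSimpleSys P Δ) {d : ι} (hd : d ∈ Δ) (k : ι) :
    coeff hΔ (P.reflectionPerm d k) = coeff hΔ k - Finsupp.single d (P.pairing k d) := by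
  classical
  apply coeff_eq_of hΔ
  · intro j hj
    have := Finsupp.support_sub hj
    rw [Finset.mem_union] at this
    rcases this with h | h
    · exact coeff_supp hΔ k h
    · have := Finsupp.support_single_subset h
      rw [Finset.mem_singleton] at this
      exact this ▸ hd
  · rw [lc, map_sub, ← lc, coeff_lc, refl_root]
    simp

/-- A root with some positive coefficient is positive. -/
theorem mem_posOf_of_pos (hΔ : IsSimpleSys P Δ) {k i : ι} (h : 0 < coeff hΔ k i) :
    k ∈ posOf P Δ := by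
  rw [mem_posOf_iff hΔ]
  rcases coeff_sign hΔ k with h' | h'
  · exact h'
  · exact absurd h (not_lt.mpr (h' i))

theorem exists_pos_of_mem_posOf (hΔ : IsSimpleSys P Δ) {k : ι} (hk : k ∈ posOf P Δ) :
    ∃ i ∈ Δ, 0 < coeff hΔ k i := by
  by_contra hcon
  apply coeff_ne_zero hΔ k
  ext i
  rw [Finsupp.zero_apply]
  by_cases hi : i ∈ Δ
  · have h1 := (mem_posOf_iff hΔ).mp hk i
    have h2 : ¬ 0 < coeff hΔ k i := fun h => hcon ⟨i, hi, h⟩
    omega
  · exact coeff_apply_of_notMem hΔ k hi

theorem posOf_or (hΔ : IsSimpleSys P Δ) (k : ι) :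
    k ∈ posOf P Δ ∨ P.reflectionPerm k k ∈ posOf P Δ := by
  rcases hΔ.mem_or_neg_mem k with h | h
  · exact Or.inl h
  · right
    show P.root (P.reflectionPerm k k) ∈ natSpan P Δ
    rwa [root_neg]

theorem posOf_disj (hΔ : IsSimpleSys P Δ) {k : ι} (hk : k ∈ posOf P Δ) :
    P.reflectionPerm k k ∉ posOf P Δ := by
  intro hk'
  obtain ⟨i, -, hi⟩ := exists_pos_of_mem_posOf hΔ hk
  have := (mem_posOf_iff hΔ).mp hk' i
  rw [coeff_neg, Finsupp.neg_apply] at this
  omega

theorem subset_posOf (_hΔ : IsSimpleSys P Δ) : Δ ⊆ posOf P Δ :=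
  fun _ hd => root_mem_natSpan P hd

/-- `x` and `-x` both in the non-negative span of a simple system forces `x = 0`. -/
theorem eq_zero_of_mem_of_neg_mem (hΔ : IsSimpleSys P Δ) {x : M} (h : x ∈ natSpan P Δ)
    (h' : -x ∈ natSpan P Δ) : x = 0 := by
  obtain ⟨c, hc, hc0, rfl⟩ := (mem_natSpan_iff P).mp h
  obtain ⟨c', hc', hc0', h2⟩ := (neg_mem_natSpan_iff P).mp h'
  have := lc_inj hΔ hc' hc h2
  subst this
  have : c' = 0 := by
    ext i
    have := hc0 i
    have := hc0' i
    rw [Finsupp.zero_apply]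
    omega
  rw [this, lc, map_zero]

/-- The positive roots of a simple system form a system of positive roots. -/
theorem isPosSys_posOf (hΔ : IsSimpleSys P Δ) : IsPosSys P (posOf P Δ) := by
  have htf := tf P
  refine ⟨fun i hi => posOf_disj hΔ hi, posOf_or hΔ, ?_⟩
  intro k n hn hk
  have hsub : natSpan P (posOf P Δ) ≤ natSpan P Δ := by
    refine AddSubmonoid.closure_le.mpr ?_
    rintro x ⟨i, hi, rfl⟩
    exact hi
  have hk' := hsub hk
  rcases posOf_or hΔ k with h | h
  · exact h
  · exfalso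
    have h1 : -(n • P.root k) ∈ natSpan P Δ := by
      rw [← smul_neg, ← root_neg]
      exact AddSubmonoid.nsmul_mem _ h n
    have := eq_zero_of_mem_of_neg_mem hΔ hk' h1
    have h2 : n • P.root k = n • (0 : M) := by rw [this, smul_zero]
    exact P.ne_zero k (nsmul_right_injective hn.ne' h2)

/-- A positive root which is not an integer multiple of the simple root `d` has a positive
coefficient along some other simple root. -/
theorem exists_ne_pos_of_not_mul (hΔ : IsSimpleSys P Δ) {k d : ι} (hk : k ∈ posOf P Δ)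
    (h : ∀ n : ℤ, P.root k ≠ n • P.root d) : ∃ e ∈ Δ, e ≠ d ∧ 0 < coeff hΔ k e := by
  classical
  by_contra hcon
  apply h (coeff hΔ k d)
  have hc : coeff hΔ k = Finsupp.single d (coeff hΔ k d) := by
    ext e
    rw [Finsupp.single_apply]
    split_ifs with hde
    · rw [hde]
    · by_cases he : e ∈ Δ
      · have h1 := (mem_posOf_iff hΔ).mp hk e
        have h2 : ¬ 0 < coeff hΔ k e := fun h' => hcon ⟨e, he, fun h'' => hde h''.symm, h'⟩
        omega
      · exact coeff_apply_of_notMem hΔ k he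
  have := coeff_lc hΔ k
  rw [hc, lc, Finsupp.linearCombination_single] at this
  rw [← this]

/-- Reflection in a simple root `d` maps positive roots not proportional to `d` to positive roots. -/
theorem refl_mem_posOf (hΔ : IsSimpleSys P Δ) {k d : ι} (hd : d ∈ Δ) (hk : k ∈ posOf P Δ)
    (h : ∀ n : ℤ, P.root k ≠ n • P.root d) : P.reflectionPerm d k ∈ posOf P Δ := by
  classical
  obtain ⟨e, -, hed, he⟩ := exists_ne_pos_of_not_mul hΔ hk h
  apply mem_posOf_of_pos hΔ (i := e)
  rw [coeff_refl hΔ hd, Finsupp.sub_apply, Finsupp.single_apply, if_neg (fun h' => hed h'.symm)]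
  simpa using he

theorem two_eq_sum (hΔ : IsSimpleSys P Δ) (k : ι) :
    (2 : ℤ) = (coeff hΔ k).sum (fun d n => n * P.pairing d k) := by
  have h := congrArg (P.coroot' k) (coeff_lc hΔ k)
  rw [P.root_coroot'_eq_pairing, P.pairing_same, lc, Finsupp.linearCombination_apply,
    map_finsuppSum] at h
  rw [← h]
  simp only [map_zsmul, P.root_coroot'_eq_pairing, smul_eq_mul]

/-- A positive root has a simple root in its support with positive pairing. -/
theorem exists_simple_pairing_pos (hΔ : IsSimpleSys P Δ) {k : ι} (hk : k ∈ posOf P Δ) :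
    ∃ d ∈ Δ, 0 < coeff hΔ k d ∧ 0 < P.pairing d k := by
  have h2 := two_eq_sum hΔ k
  rw [Finsupp.sum] at h2
  obtain ⟨d, hd, hpos⟩ : ∃ d ∈ (coeff hΔ k).support, 0 < coeff hΔ k d * P.pairing d k := by
    by_contra hcon
    push Not at hcon
    have := Finset.sum_nonpos hcon
    omega
  have hd0 : 0 ≤ coeff hΔ k d := (mem_posOf_iff hΔ).mp hk d
  have hd1 : coeff hΔ k d ≠ 0 := Finsupp.mem_support_iff.mp hd
  have hd2 : 0 < coeff hΔ k d := by omega
  exact ⟨d, coeff_supp hΔ k hd, hd2, (mul_pos_iff_of_pos_left hd2).mp hpos⟩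

variable [Finite ι]

/-- A positive non-simple root is the sum of a positive root and a simple root. -/
theorem exists_sub_simple (hΔ : IsSimpleSys P Δ) {k : ι} (hk : k ∈ posOf P Δ) (hkΔ : k ∉ Δ) :
    ∃ d ∈ Δ, ∃ k' ∈ posOf P Δ, 0 < coeff hΔ k d ∧ 0 < P.pairing d k ∧
      P.root k = P.root k' + P.root d := by
  classical
  obtain ⟨d, hd, hcd, hp⟩ := exists_simple_pairing_pos hΔ hk
  have hne : d ≠ k := fun h => hkΔ (h ▸ hd)
  obtain ⟨k₁, hk₁⟩ := sub_mem_of_pairing_pos P hp hne
  refine ⟨d, hd, P.reflectionPerm k₁ k₁, ?_, hcd, hp, ?_⟩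
  · have hc : coeff hΔ (P.reflectionPerm k₁ k₁) = coeff hΔ k - Finsupp.single d 1 := by
      apply coeff_eq_of hΔ
      · intro j hj
        have := Finsupp.support_sub hj
        rw [Finset.mem_union] at this
        rcases this with h | h
        · exact coeff_supp hΔ k h
        · have := Finsupp.support_single_subset h
          rw [Finset.mem_singleton] at this
          exact this ▸ hd
      · rw [lc, map_sub, ← lc, coeff_lc, root_neg, hk₁]
        simp
    rw [mem_posOf_iff hΔ, hc]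
    intro i
    rw [Finsupp.sub_apply, Finsupp.single_apply]
    have := (mem_posOf_iff hΔ).mp hk i
    split_ifs with h
    · subst h; omega
    · omega
  · rw [root_neg, hk₁]; abel

/-- The sum of the coefficients, as a linear map. -/
noncomputable def tot : (ι →₀ ℤ) →ₗ[ℤ] ℤ := Finsupp.linearCombination ℤ (fun _ : ι => (1 : ℤ))

omit [Finite ι] in
theorem tot_apply (c : ι →₀ ℤ) : tot c = c.sum (fun _ n => n) := by
  simp [tot, Finsupp.linearCombination_apply]

omit [Finite ι] in
theorem tot_single (d : ι) (n : ℤ) : tot (Finsupp.single d n) = n := by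
  simp [tot]

omit [Finite ι] in
theorem le_tot {c : ι →₀ ℤ} (hc : ∀ i, 0 ≤ c i) (d : ι) : c d ≤ tot c := by
  rw [tot_apply, Finsupp.sum]
  by_cases hd : d ∈ c.support
  · exact Finset.single_le_sum (f := fun i => c i) (fun i _ => hc i) hd
  · rw [Finsupp.notMem_support_iff.mp hd]
    exact Finset.sum_nonneg (fun i _ => hc i)

omit [Finite ι] in
theorem tot_nonneg {c : ι →₀ ℤ} (hc : ∀ i, 0 ≤ c i) : 0 ≤ tot c := by
  rw [tot_apply, Finsupp.sum]
  exact Finset.sum_nonneg (fun i _ => hc i)

omit [Finite ι] in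
theorem two_eq_sum_of_lc {c : ι →₀ ℤ} {k : ι} (hc : lc P c = P.root k) :
    (2 : ℤ) = c.sum (fun d n => n * P.pairing d k) := by
  have h := congrArg (P.coroot' k) hc
  rw [P.root_coroot'_eq_pairing, P.pairing_same, lc, Finsupp.linearCombination_apply,
    map_finsuppSum] at h
  rw [← h]
  simp only [map_zsmul, P.root_coroot'_eq_pairing, smul_eq_mul]

omit [Finite ι] in
theorem exists_pairing_pos_of_lc {c : ι →₀ ℤ} {k : ι} (hc0 : ∀ i, 0 ≤ c i)
    (hc : lc P c = P.root k) : ∃ d ∈ c.support, 0 < c d ∧ 0 < P.pairing d k := by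
  have h2 := two_eq_sum_of_lc hc
  rw [Finsupp.sum] at h2
  obtain ⟨d, hd, hpos⟩ : ∃ d ∈ c.support, 0 < c d * P.pairing d k := by
    by_contra hcon
    push Not at hcon
    have := Finset.sum_nonpos hcon
    omega
  have hd0 : 0 ≤ c d := hc0 d
  have hd1 : c d ≠ 0 := Finsupp.mem_support_iff.mp hd
  have hd2 : 0 < c d := by omega
  exact ⟨d, hd, hd2, (mul_pos_iff_of_pos_left hd2).mp hpos⟩

/-- A closed set of roots contains every root in the additive monoid it generates. -/
theorem mem_of_closed_of_lc {S : Set ι} (hS : IsClosedSub P S) :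
    ∀ (t : ℕ) (c : ι →₀ ℤ), ↑c.support ⊆ S → (∀ i, 0 ≤ c i) → tot c = t →
      ∀ k : ι, lc P c = P.root k → k ∈ S := by
  classical
  intro t
  induction t with
  | zero =>
    intro c _ hc0 ht k hk
    obtain ⟨d, _, hd, _⟩ := exists_pairing_pos_of_lc hc0 hk
    have := le_tot hc0 d
    rw [ht] at this
    simp only [Nat.cast_zero] at this
    omega
  | succ t ih =>
    intro c hcS hc0 ht k hk
    obtain ⟨d, hdS, hd, hp⟩ := exists_pairing_pos_of_lc hc0 hk
    by_cases hdk : d = k
    · exact hdk ▸ hcS hdS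
    · obtain ⟨k₁, hk₁⟩ := sub_mem_of_pairing_pos P hp hdk
      have hk' : P.root (P.reflectionPerm k₁ k₁) = P.root k - P.root d := by
        rw [root_neg, hk₁]; abel
      have hmem : P.reflectionPerm k₁ k₁ ∈ S := by
        apply ih (c - Finsupp.single d 1)
        · intro j hj
          have := Finsupp.support_sub hj
          rw [Finset.mem_union] at this
          rcases this with h | h
          · exact hcS h
          · have := Finsupp.support_single_subset h
            rw [Finset.mem_singleton] at this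
            exact this ▸ hcS hdS
        · intro i
          rw [Finsupp.sub_apply, Finsupp.single_apply]
          have := hc0 i
          split_ifs with h
          · subst h; omega
          · omega
        · rw [map_sub, ht, tot_single]
          push_cast
          ring
        · rw [lc, map_sub, ← lc, hk, hk']
          simp
      exact hS hmem (hcS hdS) (by rw [hk']; abel)

theorem mem_of_closed_of_mem_natSpan {S : Set ι} (hS : IsClosedSub P S) {k : ι}
    (hk : P.root k ∈ natSpan P S) : k ∈ S := by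
  obtain ⟨c, hc, hc0, h⟩ := (mem_natSpan_iff P).mp hk
  exact mem_of_closed_of_lc hS (tot c).toNat c hc hc0
    (Int.toNat_of_nonneg (tot_nonneg hc0)).symm k h

end Groth.Agent.Helper8.RD
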