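import Groth.Agent.Lib.Helper8.RootDSimple

/-!
# Root data: existence of simple systems, Weyl group conjugacy (helper8 library)
-/

set_option autoImplicit false

open RootPairing RootD
open scoped Pointwise

namespace Groth.Agent.Helper8.RD

variable {ι M N : Type*} [AddCommGroup M] [AddCommGroup N] {P : RootPairing ι ℤ M N}

/-! ### Regular coweights -/

variable (P) in
/-- There is a coweight on which no root vanishes. -/
theorem exists_regular [Finite ι] : ∃ n : N, ∀ i, P.root' i n ≠ 0 := by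
  classical
  have : Fintype ι := Fintype.ofFinite ι
  suffices h : ∀ s : Finset ι, ∃ n : N, ∀ i ∈ s, P.root' i n ≠ 0 by
    obtain ⟨n, hn⟩ := h Finset.univ
    exact ⟨n, fun i => hn i (Finset.mem_univ i)⟩
  intro s
  induction s using Finset.induction_on with
  | empty => exact ⟨0, by simp⟩
  | insert j s hj ih =>
    obtain ⟨n, hn⟩ := ih
    by_cases hjn : P.root' j n ≠ 0
    · refine ⟨n, ?_⟩
      intro i hi
      rcases Finset.mem_insert.mp hi with rfl | hi
      · exact hjn
      · exact hn i hi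
    · rw [not_not] at hjn
      obtain ⟨t, ht⟩ := Infinite.exists_notMem_finset
        (s.image (fun i => (-P.pairing i j) / P.root' i n))
      refine ⟨t • n + P.coroot j, ?_⟩
      intro i hi
      rcases Finset.mem_insert.mp hi with rfl | hi
      · rw [map_add, map_zsmul, hjn, P.root'_coroot_eq_pairing, P.pairing_same]
        norm_num
      · rw [map_add, map_zsmul, P.root'_coroot_eq_pairing]
        intro h0
        apply ht
        rw [Finset.mem_image]
        refine ⟨i, hi, ?_⟩
        have h1 : P.root' i n * t = -P.pairing i j := by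
          rw [smul_eq_mul] at h0
          linarith
        exact (Int.eq_ediv_of_mul_eq_right (hn i hi) h1).symm

variable (P) in
/-- A regular coweight defines a simple system whose positive roots are the roots on which it is
positive. -/
theorem exists_simpleSys_of_regular [Finite ι] (n : N) (hn : ∀ i, P.root' i n ≠ 0) :
    ∃ Δ : Set ι, IsSimpleSys P Δ ∧ posOf P Δ = {i | 0 < P.root' i n} := by
  let _i := P.indexNeg
  let f : Module.Dual ℤ M := P.toLinearMap.flip n
  have hf : ∀ i, f (P.root i) ≠ 0 := hn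
  refine ⟨IsAddIndecomposable.baseOf P.root (f : M →+ ℤ), ⟨?_, ?_⟩, ?_⟩
  · exact P.linearIndepOn_root_baseOf' (S := ℤ) f hf
  · intro i
    exact IsAddIndecomposable.mem_or_neg_mem_closure_baseOf P.root (f : M →+ ℤ) i (hf i)
      (by simp)
  · ext i
    show P.root i ∈ AddSubmonoid.closure _ ↔ _
    rw [AddSubmonoid.closure_image_isAddIndecomposable_baseOf,
      AddSubmonoid.mem_closure_image_pos_iff P.root (f : M →+ ℤ) i (P.ne_zero i)]
    rfl

variable (P) in
theorem exists_simpleSys [Finite ι] : ∃ Δ : Set ι, IsSimpleSys P Δ := by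
  obtain ⟨n, hn⟩ := exists_regular P
  obtain ⟨Δ, hΔ, -⟩ := exists_simpleSys_of_regular P n hn
  exact ⟨Δ, hΔ⟩

/-! ### Action of automorphisms on sets of roots -/

theorem smul_mem_natSpan (g : P.Aut) {S : Set ι} {x : M} (hx : x ∈ natSpan P S) :
    g • x ∈ natSpan P (g • S) := by
  refine AddSubmonoid.closure_induction ?_ ?_ ?_ hx
  · rintro y ⟨i, hi, rfl⟩
    rw [← aut_root]
    exact root_mem_natSpan P (Set.smul_mem_smul_set hi)
  · rw [smul_zero]
    exact zero_mem _
  · intro a b _ _ ha hb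
    rw [smul_add]
    exact add_mem ha hb

theorem smul_mem_natSpan_iff (g : P.Aut) {S : Set ι} {x : M} :
    g • x ∈ natSpan P (g • S) ↔ x ∈ natSpan P S := by
  refine ⟨fun h => ?_, smul_mem_natSpan g⟩
  have := smul_mem_natSpan g⁻¹ h
  rwa [inv_smul_smul, inv_smul_smul] at this

theorem isSimpleSys_smul {Δ : Set ι} (hΔ : IsSimpleSys P Δ) (g : P.Aut) :
    IsSimpleSys P (g • Δ) := by
  refine ⟨?_, ?_⟩
  · have h1 : LinearIndepOn ℤ ((Equiv.weightHom P g : M ≃ₗ[ℤ] M).toLinearMap ∘ P.root) Δ :=
      hΔ.linInd.map_injOn _ (Equiv.weightHom P g : M ≃ₗ[ℤ] M).injective.injOn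
    have h2 : (Equiv.weightHom P g : M ≃ₗ[ℤ] M).toLinearMap ∘ P.root = P.root ∘ (fun i => g • i) := by
      funext i
      exact (aut_root P g i).symm
    rw [h2] at h1
    exact LinearIndepOn.image_of_comp (fun i => g • i) P.root h1
  · intro i
    have hi : i = g • (g⁻¹ • i) := (smul_inv_smul g i).symm
    rcases hΔ.mem_or_neg_mem (g⁻¹ • i) with h | h
    · left
      have := smul_mem_natSpan g h
      rwa [← aut_root, ← hi] at this
    · right
      have := smul_mem_natSpan g h
      rwa [smul_neg, ← aut_root, ← hi] at this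

theorem posOf_smul (g : P.Aut) (Δ : Set ι) : posOf P (g • Δ) = g • posOf P Δ := by
  ext k
  rw [Set.mem_smul_set_iff_inv_smul_mem]
  show P.root k ∈ natSpan P (g • Δ) ↔ P.root (g⁻¹ • k) ∈ natSpan P Δ
  rw [← smul_mem_natSpan_iff g (S := Δ) (x := P.root (g⁻¹ • k)), ← aut_root, smul_inv_smul]

theorem smul_neg_idx (g : P.Aut) (i : ι) :
    g • P.reflectionPerm i i = P.reflectionPerm (g • i) (g • i) := by
  apply P.root.injective
  rw [aut_root, root_neg, root_neg, smul_neg, aut_root]

/-! ### The conjugacy theorem -/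

theorem refl_smul_set (d : ι) (S : Set ι) :
    Equiv.reflection P d • S = P.reflectionPerm d '' S := rfl

/-- Key step: reflecting in a simple root `d ∉ P'` strictly decreases `posOf Δ \ P'`. -/
theorem posOf_refl_sdiff_subset [Finite ι] {Δ : Set ι} (hΔ : IsSimpleSys P Δ) {P' : Set ι}
    (hP2 : ∀ i, i ∈ P' ∨ P.reflectionPerm i i ∈ P') (hcl : IsClosedSub P P') {d : ι}
    (hd : d ∈ Δ) (hdP : d ∉ P') :
    posOf P (Equiv.reflection P d • Δ) \ P' ⊆ (posOf P Δ \ P') \ {d} := by
  rintro k' ⟨hk', hk'P⟩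
  rw [posOf_smul] at hk'
  obtain ⟨k, hk, rfl⟩ := hk'
  change P.reflectionPerm d k ∉ P' at hk'P
  change P.reflectionPerm d k ∈ _
  by_cases h : ∀ n : ℤ, P.root k ≠ n • P.root d
  · refine ⟨⟨refl_mem_posOf hΔ hd hk h, hk'P⟩, ?_⟩
    intro hkd
    rw [Set.mem_singleton_iff] at hkd
    have hk2 : k = P.reflectionPerm d d := by
      have := P.reflectionPerm_self d k
      rw [hkd] at this
      exact this.symm
    exact posOf_disj hΔ (subset_posOf hΔ hd) (hk2 ▸ hk)
  · exfalso
    push Not at h
    obtain ⟨n, hn⟩ := h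
    apply hk'P
    have hc : coeff hΔ k = Finsupp.single d n := by
      apply coeff_eq_of hΔ
      · intro e he
        have := Finsupp.support_single_subset he
        rw [Finset.mem_singleton] at this
        exact this ▸ hd
      · rw [lc, Finsupp.linearCombination_single, hn]
    have hn0 : 0 ≤ n := by
      have := (mem_posOf_iff hΔ).mp hk d
      rwa [hc, Finsupp.single_eq_same] at this
    apply mem_of_closed_of_mem_natSpan hcl
    have hd' : P.reflectionPerm d d ∈ P' := (hP2 d).resolve_left hdP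
    have : P.root (P.reflectionPerm d k) = n.toNat • P.root (P.reflectionPerm d d) := by
      rw [root_reflectionPerm, hn, map_zsmul, P.reflection_apply_self, root_neg,
        ← natCast_zsmul, Int.toNat_of_nonneg hn0]
    rw [this]
    exact AddSubmonoid.nsmul_mem _ (root_mem_natSpan P hd') _

/-- **Conjugacy theorem**: a closed set of roots containing each root or its opposite contains
a Weyl group translate of the positive roots of any simple system. -/
theorem exists_weyl_posOf_subset [Finite ι] {P' : Set ι}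
    (hP2 : ∀ i, i ∈ P' ∨ P.reflectionPerm i i ∈ P') (hcl : IsClosedSub P P') :
    ∀ (m : ℕ) {Δ : Set ι}, IsSimpleSys P Δ → (posOf P Δ \ P').ncard = m →
      ∃ g ∈ P.weylGroup, g • posOf P Δ ⊆ P' := by
  intro m
  induction m using Nat.strong_induction_on with
  | _ m ih =>
    intro Δ hΔ hm
    by_cases hsub : Δ ⊆ P'
    · refine ⟨1, one_mem _, ?_⟩
      rw [one_smul]
      intro k hk
      exact mem_of_closed_of_mem_natSpan hcl (natSpan_mono P hsub hk)
    · obtain ⟨d, hd, hdP⟩ := Set.not_subset.mp hsub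
      have hΔ' := isSimpleSys_smul hΔ (Equiv.reflection P d)
      have hlt : (posOf P (Equiv.reflection P d • Δ) \ P').ncard < m := by
        rw [← hm]
        apply Set.ncard_lt_ncard _ (Set.toFinite _)
        refine lt_of_le_of_lt (posOf_refl_sdiff_subset hΔ hP2 hcl hd hdP) ?_
        refine Set.sdiff_singleton_ssubset.mpr ?_
        exact ⟨subset_posOf hΔ hd, hdP⟩
      obtain ⟨g, hg, hgs⟩ := ih _ hlt hΔ' rfl
      refine ⟨g * Equiv.reflection P d, mul_mem hg (P.reflection_mem_weylGroup d), ?_⟩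
      rw [mul_smul, ← posOf_smul]
      exact hgs

theorem IsPosSys.isClosedSub {S : Set ι} (hS : IsPosSys P S) : IsClosedSub P S := by
  intro i j k hi hj hk
  apply hS.sat 1 one_pos
  rw [one_smul, hk]
  exact add_mem (root_mem_natSpan P hi) (root_mem_natSpan P hj)

/-- Two sets satisfying (P 1) and (P 2), one contained in the other, are equal. -/
theorem eq_of_subset_of_P1_P2 {S T : Set ι} (hST : S ⊆ T)
    (hS2 : ∀ i, i ∈ S ∨ P.reflectionPerm i i ∈ S) (hT1 : ∀ i ∈ T, P.reflectionPerm i i ∉ T) :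
    S = T := by
  apply Set.Subset.antisymm hST
  intro k hk
  rcases hS2 k with h | h
  · exact h
  · exact absurd (hST h) (hT1 k hk)

/-- Every set of roots which is closed and satisfies (P 1), (P 2) is the set of positive roots
of a simple system, conjugate under the Weyl group to any given one. -/
theorem exists_weyl_posOf_eq [Finite ι] {S : Set ι} (hS1 : ∀ i ∈ S, P.reflectionPerm i i ∉ S)
    (hS2 : ∀ i, i ∈ S ∨ P.reflectionPerm i i ∈ S) (hcl : IsClosedSub P S) {Δ : Set ι}
    (hΔ : IsSimpleSys P Δ) : ∃ g ∈ P.weylGroup, posOf P (g • Δ) = S := by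
  obtain ⟨g, hg, hgs⟩ := exists_weyl_posOf_subset hS2 hcl _ hΔ rfl
  refine ⟨g, hg, ?_⟩
  rw [← posOf_smul] at hgs
  exact eq_of_subset_of_P1_P2 hgs (posOf_or (isSimpleSys_smul hΔ g)) hS1

theorem exists_simpleSys_of_closed [Finite ι] {S : Set ι}
    (hS1 : ∀ i ∈ S, P.reflectionPerm i i ∉ S)
    (hS2 : ∀ i, i ∈ S ∨ P.reflectionPerm i i ∈ S) (hcl : IsClosedSub P S) :
    ∃ Δ : Set ι, IsSimpleSys P Δ ∧ posOf P Δ = S := by
  obtain ⟨Δ₀, hΔ₀⟩ := exists_simpleSys P
  obtain ⟨g, -, hg⟩ := exists_weyl_posOf_eq hS1 hS2 hcl hΔ₀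
  exact ⟨g • Δ₀, isSimpleSys_smul hΔ₀ g, hg⟩

theorem exists_simpleSys_of_posSys [Finite ι] {S : Set ι} (hS : IsPosSys P S) :
    ∃ Δ : Set ι, IsSimpleSys P Δ ∧ posOf P Δ = S :=
  exists_simpleSys_of_closed (fun _ hi => hS.disjoint hi) hS.cover (IsPosSys.isClosedSub hS)

/-- A positive root is simple iff it is not the sum of two positive roots. -/
theorem mem_simple_iff [Finite ι] {Δ : Set ι} (hΔ : IsSimpleSys P Δ) {k : ι}
    (hk : k ∈ posOf P Δ) :
    k ∈ Δ ↔ ¬ ∃ i j : ι, i ∈ posOf P Δ ∧ j ∈ posOf P Δ ∧ P.root k = P.root i + P.root j := by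
  classical
  constructor
  · rintro hkΔ ⟨i, j, hi, hj, h⟩
    have h1 := coeff_of_mem hΔ hkΔ
    have h2 : coeff hΔ k = coeff hΔ i + coeff hΔ j := by
      apply coeff_eq_of hΔ
      · intro e he
        have := Finsupp.support_add he
        rw [Finset.mem_union] at this
        rcases this with h' | h'
        · exact coeff_supp hΔ i h'
        · exact coeff_supp hΔ j h'
      · rw [lc, map_add, ← lc, ← lc, coeff_lc, coeff_lc, h]
    rw [h1] at h2
    have hi0 := (mem_posOf_iff hΔ).mp hi
    have hj0 := (mem_posOf_iff hΔ).mp hj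
    obtain ⟨d, -, hd⟩ := exists_pos_of_mem_posOf hΔ hi
    obtain ⟨d', -, hd'⟩ := exists_pos_of_mem_posOf hΔ hj
    have e1 := congrArg (fun c : ι →₀ ℤ => c d) h2
    have e2 := congrArg (fun c : ι →₀ ℤ => c d') h2
    have e3 := congrArg (fun c : ι →₀ ℤ => c k) h2
    simp only [Finsupp.add_apply, Finsupp.single_apply] at e1 e2 e3
    have := hi0 d'
    have := hj0 d
    have := hi0 k
    have := hj0 k
    split_ifs at e1 e2 e3 with hkd hkd'
    all_goals first | omega | (subst hkd; subst hkd'; omega)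
  · intro h
    by_contra hkΔ
    apply h
    obtain ⟨d, hd, k', hk', -, -, hsum⟩ := exists_sub_simple hΔ hk hkΔ
    exact ⟨k', d, hk', subset_posOf hΔ hd, hsum⟩

/-- A simple system is determined by its set of positive roots. -/
theorem eq_of_posOf_eq [Finite ι] {Δ Δ' : Set ι} (hΔ : IsSimpleSys P Δ) (hΔ' : IsSimpleSys P Δ')
    (h : posOf P Δ = posOf P Δ') : Δ = Δ' := by
  ext k
  by_cases hk : k ∈ posOf P Δ
  · rw [mem_simple_iff hΔ hk, mem_simple_iff hΔ' (h ▸ hk), h]
  · constructor
    · intro hk'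
      exact absurd (subset_posOf hΔ hk') hk
    · intro hk'
      exact absurd (h ▸ subset_posOf hΔ' hk') hk

/-- The Weyl group acts transitively on simple systems. -/
theorem exists_weyl_smul_eq [Finite ι] {Δ Δ' : Set ι} (hΔ : IsSimpleSys P Δ)
    (hΔ' : IsSimpleSys P Δ') : ∃ g ∈ P.weylGroup, g • Δ = Δ' := by
  have hS := isPosSys_posOf hΔ'
  obtain ⟨g, hg, h⟩ := exists_weyl_posOf_eq (fun _ hi => hS.disjoint hi) hS.cover
    (IsPosSys.isClosedSub hS) hΔ
  exact ⟨g, hg, eq_of_posOf_eq (isSimpleSys_smul hΔ g) hΔ' h⟩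

end Groth.Agent.Helper8.RD
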