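import Groth.Agent.Lib.Helper8.RootDPart

/-!
# Root data: words in the simple reflections (helper8 library)
-/

set_option autoImplicit false

open RootPairing RootD
open scoped Pointwise

namespace Groth.Agent.Helper8.RD

variable {ι M N : Type*} [AddCommGroup M] [AddCommGroup N] {P : RootPairing ι ℤ M N}

/-- The product of the reflections along a word. -/
noncomputable def wprod (P : RootPairing ι ℤ M N) (l : List ι) : P.Aut :=
  (l.map fun a => Equiv.reflection P a).prod

theorem wprod_nil : wprod P [] = 1 := rfl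

theorem wprod_cons (a : ι) (l : List ι) : wprod P (a :: l) = Equiv.reflection P a * wprod P l := by
  simp [wprod]

theorem wprod_append (l l' : List ι) : wprod P (l ++ l') = wprod P l * wprod P l' := by
  simp [wprod]

theorem wprod_singleton (a : ι) : wprod P [a] = Equiv.reflection P a := by
  simp [wprod]

theorem refl_mul_self (a : ι) : Equiv.reflection P a * Equiv.reflection P a = 1 := by
  have h := Equiv.reflection_inv P a
  calc Equiv.reflection P a * Equiv.reflection P a
      = (Equiv.reflection P a)⁻¹ * Equiv.reflection P a := by rw [h]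
    _ = 1 := inv_mul_cancel _

theorem wprod_mem_weylSub {Δ : Set ι} {l : List ι} (hl : ∀ a ∈ l, a ∈ Δ) :
    wprod P l ∈ weylSub P Δ := by
  induction l with
  | nil => exact one_mem _
  | cons a l ih =>
    rw [wprod_cons]
    exact mul_mem (refl_mem_weylSub (hl a (List.mem_cons_self)))
      (ih (fun b hb => hl b (List.mem_cons_of_mem a hb)))

/-- Every element of the group generated by the reflections in `Δ` is the product along a word
in `Δ`. -/
theorem exists_word_of_mem_weylSub {Δ : Set ι} {g : P.Aut} (hg : g ∈ weylSub P Δ) :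
    ∃ l : List ι, (∀ a ∈ l, a ∈ Δ) ∧ wprod P l = g := by
  unfold weylSub at hg
  induction hg using Subgroup.closure_induction'' with
  | one => exact ⟨[], by simp, rfl⟩
  | mem w hw =>
    obtain ⟨d, hd, rfl⟩ := hw
    exact ⟨[d], by simpa using hd, wprod_singleton d⟩
  | inv_mem w hw =>
    obtain ⟨d, hd, rfl⟩ := hw
    rw [Equiv.reflection_inv]
    exact ⟨[d], by simpa using hd, wprod_singleton d⟩
  | mul w₁ w₂ _ _ h₁ h₂ =>
    obtain ⟨l₁, hl₁, rfl⟩ := h₁
    obtain ⟨l₂, hl₂, rfl⟩ := h₂
    refine ⟨l₁ ++ l₂, ?_, wprod_append l₁ l₂⟩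
    intro a ha
    rcases List.mem_append.mp ha with h | h
    · exact hl₁ a h
    · exact hl₂ a h

/-- If a simple reflection makes a positive indivisible root negative, the root is that simple
root. -/
theorem eq_of_refl_neg [Finite ι] {Δ : Set ι} (hΔ : IsSimpleSys P Δ) {b β : ι} (hb : b ∈ Δ)
    (hβ : β ∈ posOf P Δ) (hind : IsIndiv P β) (hneg : P.reflectionPerm b β ∉ posOf P Δ) :
    β = b := by
  by_contra hne
  apply hneg
  apply refl_mem_posOf hΔ hb hβ
  intro n hn
  have hn1 : n ≠ 0 := by
    rintro rfl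
    rw [zero_smul] at hn
    exact P.ne_zero β hn
  have hdvd : n ∣ 1 := dvd_of_smul_eq_smul_indiv β b hind 1 n hn1 (by rw [one_smul, hn])
  rcases Int.isUnit_iff.mp (isUnit_of_dvd_one hdvd) with rfl | rfl
  · rw [one_smul] at hn
    exact hne (P.root.injective hn)
  · have hkd : β = P.reflectionPerm b b := by
      apply P.root.injective
      rw [root_neg, hn]; simp
    exact posOf_disj hΔ (subset_posOf hΔ hb) (hkd ▸ hβ)

/-- **Exchange lemma**: if `l₀ ++ [a]` is a word in the simple reflections which is of minimal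
length among the words with the same product, then `wprod l₀ • a` is a positive root. -/
theorem wprod_smul_mem_posOf [Finite ι] {Δ : Set ι} (hΔ : IsSimpleSys P Δ) (l₀ : List ι) (a : ι)
    (hl : ∀ x ∈ l₀ ++ [a], x ∈ Δ)
    (hmin : ∀ l' : List ι, (∀ x ∈ l', x ∈ Δ) → wprod P l' = wprod P (l₀ ++ [a]) →
      (l₀ ++ [a]).length ≤ l'.length) :
    wprod P l₀ • a ∈ posOf P Δ := by
  have ha : a ∈ Δ := hl a (by simp)
  have key : ∀ (v u : List ι), u ++ v = l₀ → wprod P v • a ∈ posOf P Δ := by
    intro v
    induction v with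
    | nil =>
      intro u _
      rw [wprod_nil, one_smul]
      exact subset_posOf hΔ ha
    | cons b v ih =>
      intro u huv
      have huv' : (u ++ [b]) ++ v = l₀ := by rw [← huv]; simp
      have hβ := ih (u ++ [b]) huv'
      have hb : b ∈ Δ := hl b (by rw [← huv]; simp)
      rw [wprod_cons, mul_smul]
      by_contra hneg
      have hind : IsIndiv P (wprod P v • a) := isIndiv_smul (isIndiv_of_mem hΔ ha) _
      have heq : wprod P v • a = b := eq_of_refl_neg hΔ hb hβ hind hneg
      -- the word `u ++ v` has the same product and is shorter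
      have hprod : wprod P (u ++ v) = wprod P (l₀ ++ [a]) := by
        rw [← huv, wprod_append, wprod_append, wprod_append, wprod_cons, wprod_singleton]
        have h1 : Equiv.reflection P b = wprod P v * Equiv.reflection P a * (wprod P v)⁻¹ := by
          rw [conj_refl, heq]
        rw [h1]
        have h2 : wprod P v * Equiv.reflection P a * (wprod P v)⁻¹ * wprod P v *
            Equiv.reflection P a = wprod P v := by
          rw [inv_mul_cancel_right, mul_assoc, refl_mul_self, mul_one]
        rw [mul_assoc (wprod P u), h2]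
      have hmem : ∀ x ∈ u ++ v, x ∈ Δ := by
        intro x hx
        apply hl x
        rw [← huv]
        rcases List.mem_append.mp hx with h | h
        · simp [h]
        · simp [h]
      have hlen := hmin (u ++ v) hmem hprod
      rw [← huv] at hlen
      simp only [List.length_append, List.length_cons, List.length_nil] at hlen
      omega
  exact key l₀ [] rfl

/-- A minimal word for an element of `weylSub`. -/
theorem exists_min_word {Δ : Set ι} {g : P.Aut} (hg : g ∈ weylSub P Δ) :
    ∃ l : List ι, (∀ a ∈ l, a ∈ Δ) ∧ wprod P l = g ∧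
      ∀ l' : List ι, (∀ a ∈ l', a ∈ Δ) → wprod P l' = g → l.length ≤ l'.length := by
  classical
  have hex : ∃ n, ∃ l : List ι, (∀ a ∈ l, a ∈ Δ) ∧ wprod P l = g ∧ l.length = n := by
    obtain ⟨l, hl, h⟩ := exists_word_of_mem_weylSub hg
    exact ⟨l.length, l, hl, h, rfl⟩
  obtain ⟨l, hl, h, hlen⟩ := Nat.find_spec hex
  refine ⟨l, hl, h, fun l' hl' h' => ?_⟩
  rw [hlen]
  exact Nat.find_min' hex ⟨l', hl', h', rfl⟩

/-- A non-trivial element of the Weyl group makes some simple root negative; more precisely it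
can be written `g = g₀ * s_a` with `a` simple, `g₀ • a` positive (so `g • a` negative), and `g₀` a
product of fewer simple reflections. -/
theorem exists_simple_neg [Finite ι] {Δ : Set ι} (hΔ : IsSimpleSys P Δ) {l : List ι}
    (hl : ∀ a ∈ l, a ∈ Δ) (hne : l ≠ [])
    (hmin : ∀ l' : List ι, (∀ a ∈ l', a ∈ Δ) → wprod P l' = wprod P l → l.length ≤ l'.length) :
    ∃ (l₀ : List ι) (a : ι), l = l₀ ++ [a] ∧ a ∈ Δ ∧ wprod P l₀ • a ∈ posOf P Δ ∧
      wprod P l • a = P.reflectionPerm (wprod P l₀ • a) (wprod P l₀ • a) ∧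
      wprod P l • a ∉ posOf P Δ := by
  obtain ⟨l₀, a, rfl⟩ : ∃ l₀ a, l = l₀ ++ [a] := by
    rcases List.eq_nil_or_concat l with h | ⟨l₀, a, h⟩
    · exact absurd h hne
    · exact ⟨l₀, a, by rw [h, List.concat_eq_append]⟩
  have ha : a ∈ Δ := hl a (by simp)
  have hpos := wprod_smul_mem_posOf hΔ l₀ a hl hmin
  have heq : wprod P (l₀ ++ [a]) • a = P.reflectionPerm (wprod P l₀ • a) (wprod P l₀ • a) := by
    rw [wprod_append, wprod_singleton, mul_smul, refl_smul_idx, smul_neg_idx]
  refine ⟨l₀, a, rfl, ha, hpos, heq, ?_⟩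
  rw [heq]
  exact posOf_disj hΔ hpos

/-- **Simple transitivity**: an element of the Weyl group keeping all simple roots positive is
trivial. -/
theorem eq_one_of_smul_pos [Finite ι] {Δ : Set ι} (hΔ : IsSimpleSys P Δ) {g : P.Aut}
    (hg : g ∈ P.weylGroup) (h : ∀ d ∈ Δ, g • d ∈ posOf P Δ) : g = 1 := by
  rw [← weylSub_eq hΔ] at hg
  obtain ⟨l, hl, rfl, hmin⟩ := exists_min_word hg
  by_cases hne : l = []
  · rw [hne, wprod_nil]
  · obtain ⟨l₀, a, -, ha, -, -, hneg⟩ := exists_simple_neg hΔ hl hne hmin
    exact absurd (h a ha) hneg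

theorem eq_one_of_smul_eq [Finite ι] {Δ : Set ι} (hΔ : IsSimpleSys P Δ) {g : P.Aut}
    (hg : g ∈ P.weylGroup) (h : g • Δ = Δ) : g = 1 := by
  apply eq_one_of_smul_pos hΔ hg
  intro d hd
  apply subset_posOf hΔ
  rw [← h]
  exact Set.smul_mem_smul_set hd

end Groth.Agent.Helper8.RD
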