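import Groth.Agent.Lib.Helper8.RootDWord

/-!
# Root data: words in a subset of the simple reflections, heights along words (helper8 library)
-/

set_option autoImplicit false

open RootPairing RootD

namespace Groth.Agent.Helper8.RD

variable {ι M N : Type*} [AddCommGroup M] [AddCommGroup N] {P : RootPairing ι ℤ M N}

/-- **Exchange lemma for a subset of the simple roots**: if `l₀ ++ [a]` is a word in the
reflections of `S ⊆ Δ` which is of minimal length among the `S`-words with the same product,
then `wprod l₀ • a` is a positive root. -/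
theorem wprod_smul_mem_posOf' [Finite ι] {Δ S : Set ι} (hΔ : IsSimpleSys P Δ) (hS : S ⊆ Δ)
    (l₀ : List ι) (a : ι) (hl : ∀ x ∈ l₀ ++ [a], x ∈ S)
    (hmin : ∀ l' : List ι, (∀ x ∈ l', x ∈ S) → wprod P l' = wprod P (l₀ ++ [a]) →
      (l₀ ++ [a]).length ≤ l'.length) :
    wprod P l₀ • a ∈ posOf P Δ := by
  have ha : a ∈ Δ := hS (hl a (by simp))
  have key : ∀ (v u : List ι), u ++ v = l₀ → wprod P v • a ∈ posOf P Δ := by
    intro v
    induction v with
    | nil =>
      intro u _
      rw [wprod_nil, one_smul]
      exact subset_posOf hΔ ha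
    | cons b v ih =>
      intro u huv
      have huv' : (u ++ [b]) ++ v = l₀ := by rw [← huv]; simp
      have hβ := ih (u ++ [b]) huv'
      have hb : b ∈ Δ := hS (hl b (by rw [← huv]; simp))
      rw [wprod_cons, mul_smul]
      by_contra hneg
      have hind : IsIndiv P (wprod P v • a) := isIndiv_smul (isIndiv_of_mem hΔ ha) _
      have heq : wprod P v • a = b := eq_of_refl_neg hΔ hb hβ hind hneg
      have hprod : wprod P (u ++ v) = wprod P (l₀ ++ [a]) := by
        rw [← huv, wprod_append, wprod_append, wprod_append, wprod_cons, wprod_singleton]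
        have h1 : Equiv.reflection P b = wprod P v * Equiv.reflection P a * (wprod P v)⁻¹ := by
          rw [conj_refl, heq]
        rw [h1]
        have h2 : wprod P v * Equiv.reflection P a * (wprod P v)⁻¹ * wprod P v *
            Equiv.reflection P a = wprod P v := by
          rw [inv_mul_cancel_right, mul_assoc, refl_mul_self, mul_one]
        rw [mul_assoc (wprod P u), h2]
      have hmem : ∀ x ∈ u ++ v, x ∈ S := by
        intro x hx
        apply hl x
        rw [← huv]
        rcases List.mem_append.mp hx with h | h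
        · simp [h]
        · simp [h]
      have hlen := hmin (u ++ v) hmem hprod
      rw [← huv] at hlen
      simp only [List.length_append, List.length_cons, List.length_nil] at hlen
      omega
  exact key l₀ [] rfl

/-- The coefficient vector of `k'' ` when `root k'' = root k' - n • root d'`. -/
theorem coeff_of_sub {Δ : Set ι} (hΔ : IsSimpleSys P Δ) {k'' k' d' : ι} (n : ℤ)
    (h : P.root k'' = P.root k' - n • P.root d') :
    coeff hΔ k'' = coeff hΔ k' - n • coeff hΔ d' := by
  classical
  apply coeff_eq_of hΔ
  · intro x hx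
    have h1 := Finsupp.support_sub hx
    rw [Finset.mem_union] at h1
    rcases h1 with h1 | h1
    · exact coeff_supp hΔ k' h1
    · exact coeff_supp hΔ d' (Finsupp.support_smul h1)
  · rw [lc, map_sub, map_smul]
    change lc P (coeff hΔ k') - n • lc P (coeff hΔ d') = _
    rw [coeff_lc, coeff_lc, h]

/-- The height of `w s_a k` in terms of the heights of `w k` and `w a`. -/
theorem ht_wprod_concat {Δ : Set ι} (hΔ : IsSimpleSys P Δ) (l₀ : List ι) (a k : ι) :
    ht hΔ (wprod P (l₀ ++ [a]) • k) =
      ht hΔ (wprod P l₀ • k) - P.pairing k a * ht hΔ (wprod P l₀ • a) := by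
  have h : P.root (wprod P (l₀ ++ [a]) • k) =
      P.root (wprod P l₀ • k) - P.pairing k a • P.root (wprod P l₀ • a) := by
    rw [wprod_append, wprod_singleton, mul_smul, aut_root, refl_smul_idx, refl_root, smul_sub,
      smul_comm, ← aut_root, ← aut_root]
  unfold ht
  rw [coeff_of_sub hΔ _ h, map_sub, map_smul, smul_eq_mul]

/-- For a positive root `k` with `(k, a^v) ≥ 0` for all `a ∈ S ⊆ Δ`, and a minimal `S`-word `l`:
the height does not increase under `wprod l`, and strictly decreases as soon as `l` contains a
letter `a` with `(k, a^v) > 0`. -/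
theorem ht_wprod_le [Finite ι] {Δ S : Set ι} (hΔ : IsSimpleSys P Δ) (hS : S ⊆ Δ) (k : ι)
    (hk : ∀ a ∈ S, 0 ≤ P.pairing k a) :
    ∀ l : List ι, (∀ x ∈ l, x ∈ S) →
      (∀ l' : List ι, (∀ x ∈ l', x ∈ S) → wprod P l' = wprod P l → l.length ≤ l'.length) →
      ht hΔ (wprod P l • k) ≤ ht hΔ k ∧
        ((∃ a ∈ l, 0 < P.pairing k a) → ht hΔ (wprod P l • k) < ht hΔ k) := by
  intro l
  induction l using List.reverseRecOn with
  | nil =>
    intro _ _
    rw [wprod_nil, one_smul]
    exact ⟨le_refl _, fun ⟨a, ha, _⟩ => absurd ha (List.not_mem_nil)⟩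
  | append_singleton l₀ a ih =>
    intro hl hmin
    have hl₀ : ∀ x ∈ l₀, x ∈ S := fun x hx => hl x (List.mem_append_left _ hx)
    have haS : a ∈ S := hl a (by simp)
    have hmin₀ : ∀ l' : List ι, (∀ x ∈ l', x ∈ S) → wprod P l' = wprod P l₀ →
        l₀.length ≤ l'.length := by
      intro l' hl' hprod
      have h1 := hmin (l' ++ [a]) (by
        intro x hx
        rcases List.mem_append.mp hx with h | h
        · exact hl' x h
        · rw [List.mem_singleton] at h
          exact h ▸ haS) (by rw [wprod_append, wprod_append, hprod])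
      simp only [List.length_append, List.length_cons, List.length_nil] at h1
      omega
    obtain ⟨ih1, ih2⟩ := ih hl₀ hmin₀
    have hpos : wprod P l₀ • a ∈ posOf P Δ := wprod_smul_mem_posOf' hΔ hS l₀ a hl hmin
    have hht : 0 < ht hΔ (wprod P l₀ • a) := ht_pos hΔ hpos
    have hpa : 0 ≤ P.pairing k a := hk a haS
    rw [ht_wprod_concat hΔ]
    have hmul : 0 ≤ P.pairing k a * ht hΔ (wprod P l₀ • a) := mul_nonneg hpa hht.le
    refine ⟨by omega, ?_⟩
    rintro ⟨b, hb, hbpos⟩
    rcases List.mem_append.mp hb with h | h
    · have := ih2 ⟨b, h, hbpos⟩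
      omega
    · rw [List.mem_singleton] at h
      subst h
      have : 0 < P.pairing k b * ht hΔ (wprod P l₀ • b) := mul_pos hbpos hht
      omega

end Groth.Agent.Helper8.RD
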