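import Mathlib.LinearAlgebra.RootSystem.Base
import Mathlib.LinearAlgebra.RootSystem.Irreducible
import Mathlib.LinearAlgebra.RootSystem.Reduced

/-!
# Irreducible root systems: a root off a block pairing negatively with another block
-/

set_option autoImplicit false

open RootPairing

namespace Groth.Agent.Helper8.RIrr

variable {ι : Type*} [Finite ι] [DecidableEq ι] {k : Type*} [Field k] [CharZero k]
  {M N : Type*} [AddCommGroup M] [Module k M] [AddCommGroup N] [Module k N]
  {P : RootPairing ι k M N}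

/-- Roots which are non-negative combinations of the simple roots in `I ∪ B`, involving `B`. -/
def Phi (b : P.Base) (I B : Finset ι) : Set ι :=
  {j | ∃ f : ι → ℤ, (∀ l, 0 ≤ f l) ∧ (∀ l, l ∉ I ∪ B → f l = 0) ∧ (∃ l ∈ B, f l ≠ 0) ∧
    P.root j = ∑ l ∈ b.support, f l • P.root l}

omit [Finite ι] [CharZero k] in
theorem root_mem_closure (b : P.Base) (I B : Finset ι) {j : ι} (hj : j ∈ Phi b I B) :
    P.root j ∈ AddSubmonoid.closure (P.root '' ↑(I ∪ B)) := by
  obtain ⟨f, hf0, hfz, -, hf⟩ := hj
  rw [hf]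
  refine AddSubmonoid.sum_mem _ fun l _ => ?_
  by_cases hl : l ∈ I ∪ B
  · have : f l • P.root l = (f l).toNat • P.root l := by
      rw [← natCast_zsmul, Int.toNat_of_nonneg (hf0 l)]
    rw [this]
    exact AddSubmonoid.nsmul_mem _ (AddSubmonoid.subset_closure
      (Set.mem_image_of_mem _ (Finset.mem_coe.mpr hl))) _
  · rw [hfz l hl, zero_smul]
    exact zero_mem _

omit [Finite ι] in
theorem root_notMem_span (b : P.Base) (I B : Finset ι) (hIB : Disjoint I B)
    (hIsub : I ⊆ b.support) (hBsub : B ⊆ b.support) {j : ι} (hj : j ∈ Phi b I B) :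
    P.root j ∉ Submodule.span k (P.root '' ↑I) := by
  obtain ⟨f, -, -, ⟨l₀, hl₀B, hl₀⟩, hf⟩ := hj
  intro hmem
  have hl₀s : l₀ ∈ b.support := hBsub hl₀B
  have hl₀I : l₀ ∉ I := fun h => Finset.disjoint_left.mp hIB h hl₀B
  have hsub : Submodule.span k (P.root '' ↑I) ≤
      Submodule.span k (P.root '' ((b.support : Set ι) \ {l₀})) := by
    apply Submodule.span_mono
    rintro _ ⟨l, hl, rfl⟩
    refine ⟨l, ⟨hIsub hl, ?_⟩, rfl⟩
    rintro rfl
    exact hl₀I hl
  have hrest : ∑ l ∈ b.support.erase l₀, f l • P.root l ∈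
      Submodule.span k (P.root '' ((b.support : Set ι) \ {l₀})) := by
    refine Submodule.sum_mem _ fun l hl => ?_
    rw [← Int.cast_smul_eq_zsmul k]
    refine Submodule.smul_mem _ _ (Submodule.subset_span ⟨l, ⟨?_, ?_⟩, rfl⟩)
    · exact Finset.mem_of_mem_erase hl
    · exact Finset.ne_of_mem_erase hl
  have hsplit : P.root j = f l₀ • P.root l₀ + ∑ l ∈ b.support.erase l₀, f l • P.root l := by
    rw [hf]
    exact (Finset.add_sum_erase b.support (fun l => f l • P.root l) hl₀s).symm
  have h1 : f l₀ • P.root l₀ ∈ Submodule.span k (P.root '' ((b.support : Set ι) \ {l₀})) := by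
    have : f l₀ • P.root l₀ = P.root j - ∑ l ∈ b.support.erase l₀, f l • P.root l := by
      rw [hsplit]; abel
    rw [this]
    exact Submodule.sub_mem _ (hsub hmem) hrest
  rw [← Int.cast_smul_eq_zsmul k] at h1
  have hne : ((f l₀ : ℤ) : k) ≠ 0 := Int.cast_ne_zero.mpr hl₀
  have h2 := (Submodule.smul_mem_iff _ hne).mp h1
  exact b.linearIndepOn_root.notMem_span hl₀s h2

variable [P.IsCrystallographic]

theorem pairingIn_eq_sum (b : P.Base) {j : ι} (f : ι → ℤ)
    (hf : P.root j = ∑ l ∈ b.support, f l • P.root l) (a : ι) :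
    P.pairingIn ℤ j a = ∑ l ∈ b.support, f l * P.pairingIn ℤ l a :=
  FaithfulSMul.algebraMap_injective ℤ k <| by
    simp_rw [algebraMap_pairingIn, map_sum, map_mul, algebraMap_pairingIn,
      ← root_coroot_eq_pairing, hf, map_sum, map_zsmul, LinearMap.coe_sum, Finset.sum_apply,
      LinearMap.smul_apply, root_coroot_eq_pairing, zsmul_eq_mul]
    rfl

theorem pairingIn_nonpos (b : P.Base) (I A B : Finset ι)
    (hIA : Disjoint I A) (hAB : Disjoint A B) (hIsub : I ⊆ b.support) (hAsub : A ⊆ b.support)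
    (hBsub : B ⊆ b.support) {j : ι}
    (hj : j ∈ Phi b I B) {a : ι} (ha : a ∈ A) : P.pairingIn ℤ j a ≤ 0 := by
  obtain ⟨f, hf0, hfz, -, hf⟩ := hj
  rw [pairingIn_eq_sum b f hf a]
  refine Finset.sum_nonpos fun l hl => ?_
  by_cases hla : l = a
  · have : l ∉ I ∪ B := by
      rw [hla, Finset.mem_union]
      rintro (h | h)
      · exact Finset.disjoint_left.mp hIA h ha
      · exact Finset.disjoint_left.mp hAB ha h
    rw [hfz l this, zero_mul]
  · exact mul_nonpos_of_nonneg_of_nonpos (hf0 l)
      (b.pairingIn_le_zero_of_ne hla hl (hAsub ha))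

variable [P.IsReduced]

theorem reflectionPerm_mem_Phi (b : P.Base) (I B : Finset ι) (hIB : Disjoint I B)
    (hIsub : I ⊆ b.support) (hBsub : B ⊆ b.support) {j : ι} (hj : j ∈ Phi b I B) {γ : ι}
    (hγ : γ ∈ I) : P.reflectionPerm γ j ∈ Phi b I B := by
  obtain ⟨f, hf0, hfz, ⟨l₀, hl₀B, hl₀⟩, hf⟩ := hj
  have hγs : γ ∈ b.support := hIsub hγ
  have hl₀γ : l₀ ≠ γ := by
    rintro rfl
    exact Finset.disjoint_left.mp hIB hγ hl₀B
  set c := P.pairingIn ℤ j γ with hc
  set f' : ι → ℤ := fun l => f l - (if l = γ then c else 0) with hf'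
  have hroot : P.root (P.reflectionPerm γ j) = ∑ l ∈ b.support, f' l • P.root l := by
    rw [root_reflectionPerm, reflection_apply_root' ℤ, hf]
    simp only [hf', sub_smul, Finset.sum_sub_distrib]
    congr 1
    rw [Finset.sum_eq_single_of_mem γ hγs (fun l _ hl => by rw [if_neg hl, zero_smul]), if_pos rfl]
  have hsupp : f'.support ⊆ b.support := by
    intro l hl
    by_cases hlγ : l = γ
    · rw [hlγ]; exact hγs
    · have : f l ≠ 0 := by
        intro h0
        apply hl
        simp [hf', h0, hlγ]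
      by_contra hls
      apply this
      apply hfz
      intro hmem
      rcases Finset.mem_union.mp hmem with h | h
      · exact hls (hIsub h)
      · exact hls (hBsub h)
  have hmem : ∑ l ∈ b.support, f' l • P.root l ∈ Set.range P.root := ⟨_, hroot⟩
  have hf'l₀ : f' l₀ = f l₀ := by simp [hf', hl₀γ]
  have hpos : 0 < f' := by
    rcases b.pos_or_neg_of_sum_smul_root_mem f' hmem hsupp with h | h
    · exact h
    · exfalso
      have h1 : f' l₀ ≤ 0 := h.le l₀
      rw [hf'l₀] at h1
      exact hl₀ (le_antisymm h1 (hf0 l₀))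
  refine ⟨f', fun l => hpos.le l, fun l hl => ?_, ⟨l₀, hl₀B, by rw [hf'l₀]; exact hl₀⟩, hroot⟩
  have hlγ : l ≠ γ := by
    rintro rfl
    exact hl (Finset.mem_union_left _ hγ)
  simp [hf', hlγ, hfz l hl]

theorem mem_Phi_of_mem (b : P.Base) (I B : Finset ι) (hBsub : B ⊆ b.support) {γ : ι}
    (hγ : γ ∈ B) : γ ∈ Phi b I B := by
  refine ⟨Pi.single γ 1, fun l => ?_, fun l hl => ?_, ⟨γ, hγ, by simp⟩, ?_⟩
  · by_cases h : l = γ
    · subst h; simp
    · simp [h]
  · have : l ≠ γ := by
      rintro rfl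
      exact hl (Finset.mem_union_right _ hγ)
    simp [this]
  · rw [Finset.sum_eq_single_of_mem γ (hBsub hγ) (fun l _ hl => by simp [hl])]
    simp

/-- The main statement. -/
theorem exists_root_off_block [P.IsIrreducible] (b : P.Base)
    (I A B : Finset ι) (hcover : I ∪ A ∪ B = b.support) (hIA : Disjoint I A) (hIB : Disjoint I B)
    (hAB : Disjoint A B) (hA : A.Nonempty) (hB : B.Nonempty) :
    ∃ l ∈ A, ∃ j : ι, P.root j ∈ AddSubmonoid.closure (P.root '' ↑(I ∪ B)) ∧
      P.root j ∉ Submodule.span k (P.root '' ↑I) ∧ P.pairingIn ℤ j l < 0 := by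
  have hIsub : I ⊆ b.support := by
    rw [← hcover]; exact fun x hx => Finset.mem_union_left _ (Finset.mem_union_left _ hx)
  have hAsub : A ⊆ b.support := by
    rw [← hcover]; exact fun x hx => Finset.mem_union_left _ (Finset.mem_union_right _ hx)
  have hBsub : B ⊆ b.support := by
    rw [← hcover]; exact fun x hx => Finset.mem_union_right _ hx
  by_contra hcon
  push Not at hcon
  -- pairings with `A` vanish on `Phi`
  have hzero : ∀ j ∈ Phi b I B, ∀ a ∈ A, P.pairing j a = 0 := by
    intro j hj a ha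
    have h1 := pairingIn_nonpos b I A B hIA hAB hIsub hAsub hBsub hj ha
    have h2 := hcon a ha j (root_mem_closure b I B hj) (root_notMem_span b I B hIB hIsub hBsub hj)
    have h3 : P.pairingIn ℤ j a = 0 := le_antisymm h1 h2
    rw [← P.algebraMap_pairingIn ℤ, h3, map_zero]
  set q : Submodule k M := Submodule.span k (P.root '' Phi b I B) with hq
  have hinv : ∀ γ ∈ b.support, q ∈ Module.End.invtSubmodule (P.reflection γ) := by
    intro γ hγs
    rw [Module.End.mem_invtSubmodule, hq, Submodule.span_le]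
    rintro _ ⟨j, hj, rfl⟩
    show P.reflection γ (P.root j) ∈ q
    rw [← hcover] at hγs
    rcases Finset.mem_union.mp hγs with hγ | hγ
    · rcases Finset.mem_union.mp hγ with hγ | hγ
      · rw [← root_reflectionPerm]
        exact Submodule.subset_span
          ⟨_, reflectionPerm_mem_Phi b I B hIB hIsub hBsub hj hγ, rfl⟩
      · rw [reflection_apply_root, hzero j hj γ hγ, zero_smul, sub_zero]
        exact Submodule.subset_span ⟨j, hj, rfl⟩
    · rw [reflection_apply_root]
      refine Submodule.sub_mem _ (Submodule.subset_span ⟨j, hj, rfl⟩)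
        (Submodule.smul_mem _ _ (Submodule.subset_span ⟨γ, mem_Phi_of_mem b I B hBsub hγ, rfl⟩))
  have hinv' : ∀ i, q ∈ Module.End.invtSubmodule (P.reflection i) :=
    (b.forall_mem_support_invtSubmodule_iff q).mp hinv
  obtain ⟨l₀, hl₀⟩ := hB
  have hne : q ≠ ⊥ := by
    intro h
    have : P.root l₀ ∈ q := Submodule.subset_span ⟨l₀, mem_Phi_of_mem b I B hBsub hl₀, rfl⟩
    rw [h, Submodule.mem_bot] at this
    exact P.ne_zero l₀ this
  have htop : q = ⊤ := IsIrreducible.eq_top_of_invtSubmodule_reflection q hinv' hne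
  obtain ⟨a₀, ha₀⟩ := hA
  have hle : q ≤ Submodule.span k (P.root '' ((b.support : Set ι) \ {a₀})) := by
    rw [hq, Submodule.span_le]
    rintro _ ⟨j, hj, rfl⟩
    have h1 := root_mem_closure b I B hj
    have h2 : AddSubmonoid.closure (P.root '' ↑(I ∪ B)) ≤
        (Submodule.span k (P.root '' ((b.support : Set ι) \ {a₀}))).toAddSubmonoid := by
      rw [AddSubmonoid.closure_le]
      rintro _ ⟨l, hl, rfl⟩
      refine Submodule.subset_span ⟨l, ⟨?_, ?_⟩, rfl⟩
      · rcases Finset.mem_union.mp (Finset.mem_coe.mp hl) with h | h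
        · exact hIsub h
        · exact hBsub h
      · rintro rfl
        rcases Finset.mem_union.mp (Finset.mem_coe.mp hl) with h | h
        · exact Finset.disjoint_left.mp hIA h ha₀
        · exact Finset.disjoint_left.mp hAB ha₀ h
    exact h2 h1
  have : P.root a₀ ∈ q := by rw [htop]; exact Submodule.mem_top
  exact b.linearIndepOn_root.notMem_span (hAsub ha₀) (hle this)

end Groth.Agent.Helper8.RIrr
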