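import Mathlib

open CategoryTheory Category Limits DerivedCategory

namespace Groth.Agent.Helper8.SCH

universe w₁ w₂ v₁ v₂ u₁ u₂
variable {C₁ : Type u₁} [Category.{v₁} C₁] [Abelian C₁] [HasDerivedCategory.{w₁} C₁]
  {C₂ : Type u₂} [Category.{v₂} C₂] [Abelian C₂] [HasDerivedCategory.{w₂} C₂]
  (F : C₁ ⥤ C₂) [F.Additive] [PreservesFiniteLimits F] [PreservesFiniteColimits F]

/-- An exact functor commutes with the cohomology of complexes. -/
noncomputable def mapHCHomologyIso (i : ℤ) :
    F.mapHomologicalComplex (ComplexShape.up ℤ) ⋙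
        HomologicalComplex.homologyFunctor C₂ _ i ≅
      HomologicalComplex.homologyFunctor C₁ _ i ⋙ F :=
  NatIso.ofComponents (fun K => (K.sc i).mapHomologyIso F)
    (fun f => ShortComplex.mapHomologyIso_hom_naturality
      ((HomologicalComplex.shortComplexFunctor C₁ _ i).map f) F)

/-- An exact functor commutes with the cohomology functors of derived categories (after `Q`). -/
noncomputable def qMapDerivedHomologyIso (i : ℤ) :
    DerivedCategory.Q ⋙ F.mapDerivedCategory ⋙ homologyFunctor C₂ i ≅
      DerivedCategory.Q ⋙ homologyFunctor C₁ i ⋙ F :=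
  (Functor.associator _ _ _).symm ≪≫ Functor.isoWhiskerRight F.mapDerivedCategoryFactors _ ≪≫
    Functor.associator _ _ _ ≪≫
    Functor.isoWhiskerLeft _ (homologyFunctorFactors C₂ i) ≪≫
    mapHCHomologyIso F i ≪≫
    Functor.isoWhiskerRight (homologyFunctorFactors C₁ i).symm F ≪≫
    Functor.associator _ _ _

/-- An exact functor commutes with the cohomology functors of derived categories. -/
noncomputable def mapDerivedHomologyIso (i : ℤ) :
    F.mapDerivedCategory ⋙ homologyFunctor C₂ i ≅ homologyFunctor C₁ i ⋙ F :=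
  Localization.liftNatIso DerivedCategory.Q (HomologicalComplex.quasiIso C₁ (ComplexShape.up ℤ))
    _ _ _ _ (qMapDerivedHomologyIso F i)

end Groth.Agent.Helper8.SCH
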