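import Groth.Agent.Lib.Helper8.SCH4
import Groth.Agent.Lib.Helper8.DualMod3
import Groth.Agent.Lib.Helper8.LOC11
import Groth.Prelude.Def_Dual3

/-!
# The structure sheaf as a dualizing complex on a Gorenstein scheme
-/

set_option autoImplicit false
set_option linter.style.haveILetI false
set_option linter.unusedSectionVars false

open CategoryTheory CategoryTheory.Limits AlgebraicGeometry

universe u

attribute [local instance] HasDerivedCategory.standard

namespace Groth.Agent.Helper8.SCH

section Sch

variable {X : Scheme.{u}}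
  [∀ (U : Scheme.{u}) (j : U ⟶ X) [IsOpenImmersion j],
    PreservesFiniteLimits (Scheme.Modules.restrictFunctor j)]
  [∀ (R : CommRingCat.{u}), PreservesFiniteLimits (tilde.functor R)]

/-- the restriction of `O_X[0]` to an affine open `Spec R` is the derived tilde of `R[0]` -/
theorem nonempty_restrictD_unit_iso (R : CommRingCat.{u}) (j : Spec (CommRingCat.of R) ⟶ X)
    [IsOpenImmersion j] :
    Nonempty ((DCoh.restrictD j).obj (DCoh.inD X (Coh.structureModule X)) ≅
      (DCoh.tildeD R).obj
        ((DerivedCategory.singleFunctor (ModuleCat.{u} R) 0).obj (ModuleCat.of R R))) := by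
  have e1 : (DCoh.restrictD j).obj (DCoh.inD X (Coh.structureModule X)) ≅
      DCoh.inD (Spec (CommRingCat.of R))
        ((Scheme.Modules.restrictFunctor j).obj (Coh.structureModule X)) :=
    ((Scheme.Modules.restrictFunctor j).mapDerivedCategorySingleFunctor 0).app
      (Coh.structureModule X)
  have e2 : DCoh.inD (Spec (CommRingCat.of R))
        ((Scheme.Modules.restrictFunctor j).obj (Coh.structureModule X)) ≅
      DCoh.inD (Spec (CommRingCat.of R)) (Coh.structureModule (Spec (CommRingCat.of R))) :=
    (DerivedCategory.singleFunctor _ 0).mapIso (Scheme.Modules.restrictUnitIso j)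
  have e3 : DCoh.inD (Spec (CommRingCat.of R)) (Coh.structureModule (Spec (CommRingCat.of R))) ≅
      DCoh.inD (Spec (CommRingCat.of R)) ((tilde.functor R).obj (ModuleCat.of R R)) :=
    (DerivedCategory.singleFunctor _ 0).mapIso (tildeSelf (R := R)).symm
  have e4 : (DCoh.tildeD R).obj
        ((DerivedCategory.singleFunctor (ModuleCat.{u} R) 0).obj (ModuleCat.of R R)) ≅
      DCoh.inD (Spec (CommRingCat.of R)) ((tilde.functor R).obj (ModuleCat.of R R)) :=
    ((tilde.functor R).mapDerivedCategorySingleFunctor 0).app (ModuleCat.of R R)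
  exact ⟨e1 ≪≫ e2 ≪≫ e3 ≪≫ e4.symm⟩


/-- **on a Gorenstein scheme with a dualizing complex, `O_X[0]` is a dualizing complex** -/
theorem isDualizingSch_unit_of_gorenstein [IsLocallyNoetherian X]
    (hG : ∀ x : X, LocCoh.IsGorensteinLocalRing (X.presheaf.stalk x))
    (K : DCoh.D X) (hK : Dual2.IsDualizingSch X K) :
    Dual2.IsDualizingSch X (DCoh.inD X (Coh.structureModule X)) := by
  intro A _ j _
  haveI : IsNoetherianRing A :=
    AlgebraicGeometry.isLocallyNoetherian_Spec.mp
      (AlgebraicGeometry.isLocallyNoetherian_of_isOpenImmersion j)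
  obtain ⟨ωA, hωA, -⟩ := hK A j
  have hdim : ringKrullDim A < ⊤ :=
    Groth.Agent.Helper8.LOC.ringKrullDim_lt_top_of_isDualizing ωA hωA
  have hG' : LocCoh.IsGorensteinRing A :=
    { isGorensteinLocalRing_localization := fun p hp =>
        (gor_stalk_iff (R := CommRingCat.of A) j ⟨p, hp⟩).mp (hG _) }
  obtain ⟨n, hn⟩ := (Groth.Agent.Lead.Depth.exists_hasInjectiveDimensionLT_self_iff A).mpr
    ⟨hG', hdim⟩
  exact ⟨Dual.inD A A,
    Groth.Agent.Helper8.DualMod.isDualizing_inD_self_of_hasInjectiveDimensionLT A n hn,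
    nonempty_restrictD_unit_iso (CommRingCat.of A) j⟩

end Sch

end Groth.Agent.Helper8.SCH
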