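import Groth.Prelude.Def_DualSch
import Groth.Agent.Lib.Helper8.SCH1

set_option autoImplicit false

open CategoryTheory CategoryTheory.Limits AlgebraicGeometry

universe u

attribute [local instance] HasDerivedCategory.standard

namespace Groth.Agent.Helper8.SCH

/-- isomorphic module sheaves have isomorphic stalks -/
theorem nontrivial_stalk_iff_of_iso {X : Scheme.{u}} {M N : X.Modules} (e : M ≅ N) (x : X) :
    Nontrivial (M.presheaf.stalk x) ↔ Nontrivial (N.presheaf.stalk x) := by
  have e' := (Scheme.Modules.toPresheaf X ⋙ TopCat.Presheaf.stalkFunctor Ab.{u} x).mapIso e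
  exact e'.addCommGroupIsoToAddEquiv.toEquiv.nontrivial_congr

/-- stalks of a restriction along an open immersion -/
theorem nontrivial_stalk_restrict_iff {U X : Scheme.{u}} (j : U ⟶ X) [IsOpenImmersion j]
    (M : X.Modules) (z : U) :
    Nontrivial (((Scheme.Modules.restrictFunctor j).obj M).presheaf.stalk z) ↔
      Nontrivial (M.presheaf.stalk (j.base z)) := by
  have e' := (Scheme.Modules.restrictStalkNatIso j z).app M
  exact e'.addCommGroupIsoToAddEquiv.toEquiv.nontrivial_congr

/-- stalks of `M~` -/
theorem nontrivial_stalk_tilde_iff {R : CommRingCat.{u}} (M : ModuleCat.{u} R)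
    (z : PrimeSpectrum R) :
    Nontrivial ((tilde M).presheaf.stalk z) ↔ z ∈ Module.support R M := by
  rw [Module.mem_support_iff]
  exact (IsLocalizedModule.iso z.asIdeal.primeCompl
    (tilde.toStalk M z).hom).symm.toEquiv.nontrivial_congr


/-- the cohomology sheaves of a complex on `X` whose restriction to an affine open `Spec R`
is the derived tilde of `ω`: stalks are the localizations of the cohomology modules of `ω` -/
theorem nontrivial_stalk_HD_iff' {X : Scheme.{u}}
    [∀ (U : Scheme.{u}) (j : U ⟶ X) [IsOpenImmersion j],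
      PreservesFiniteLimits (Scheme.Modules.restrictFunctor j)]
    [∀ (R : CommRingCat.{u}), PreservesFiniteLimits (tilde.functor R)]
    (R : CommRingCat.{u}) (j : Spec (CommRingCat.of R) ⟶ X) [IsOpenImmersion j]
    (K : DCoh.D X) (ω : DerivedCategory (ModuleCat.{u} R))
    (e : (DCoh.restrictD j).obj K ≅ (DCoh.tildeD R).obj ω)
    (z : PrimeSpectrum R) (i : ℤ) :
    Nontrivial ((DCoh.HD K i).presheaf.stalk (j.base z)) ↔
      z ∈ Module.support R ((DerivedCategory.homologyFunctor (ModuleCat.{u} R) i).obj ω) := by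
  have e1 : (DCoh.HD ((DCoh.restrictD j).obj K) i) ≅
      (Scheme.Modules.restrictFunctor j).obj (DCoh.HD K i) :=
    (mapDerivedHomologyIso (Scheme.Modules.restrictFunctor j) i).app K
  have e2 : (DCoh.HD ((DCoh.restrictD j).obj K) i) ≅ (DCoh.HD ((DCoh.tildeD R).obj ω) i) :=
    (DerivedCategory.homologyFunctor _ i).mapIso e
  have e3 : (DCoh.HD ((DCoh.tildeD R).obj ω) i) ≅
      tilde ((DerivedCategory.homologyFunctor (ModuleCat.{u} R) i).obj ω) :=
    (mapDerivedHomologyIso (tilde.functor R) i).app ω
  exact (nontrivial_stalk_restrict_iff j (DCoh.HD K i) z).symm.trans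
    ((nontrivial_stalk_iff_of_iso e1 z).symm.trans
      ((nontrivial_stalk_iff_of_iso e2 z).trans
        ((nontrivial_stalk_iff_of_iso e3 z).trans
          (nontrivial_stalk_tilde_iff
            ((DerivedCategory.homologyFunctor (ModuleCat.{u} R) i).obj ω) z))))

theorem nontrivial_stalk_HD_iff {X : Scheme.{u}}
    [∀ (U : Scheme.{u}) (j : U ⟶ X) [IsOpenImmersion j],
      PreservesFiniteLimits (Scheme.Modules.restrictFunctor j)]
    [∀ (R : CommRingCat.{u}), PreservesFiniteLimits (tilde.functor R)]
    (A : Type u) [CommRing A] (j : Spec (CommRingCat.of A) ⟶ X) [IsOpenImmersion j]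
    (K : DCoh.D X) (ω : Dual.D A)
    (e : (DCoh.restrictD j).obj K ≅ (DCoh.tildeD (CommRingCat.of A)).obj ω)
    (z : PrimeSpectrum A) (i : ℤ) :
    Nontrivial ((DCoh.HD K i).presheaf.stalk (j.base z)) ↔
      z ∈ Module.support A (Dual.HD A ω i) :=
  nontrivial_stalk_HD_iff' (CommRingCat.of A) j K ω e z i

end Groth.Agent.Helper8.SCH
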