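import Groth.Agent.Lib.Helper8.SCH2
import Groth.Agent.Lib.Helper8.LOC18
import Groth.Agent.Lib.Helper8.LD12
import Groth.Agent.S0372
import Groth.Agent.Lib.Helper20.GorFlat3
import Groth.Agent.Lib.Helper20.RE3

set_option autoImplicit false

open CategoryTheory CategoryTheory.Limits AlgebraicGeometry

universe u

attribute [local instance] HasDerivedCategory.standard

namespace Groth.Agent.Helper8.SCH

section Ring

variable {A : Type u} [CommRing A] [IsNoetherianRing A] (ω : Dual.D A)
  (hω : Dual.IsDualizing A ω)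

theorem mem_support_hom_self_iff (p : PrimeSpectrum A) (i : ℤ) :
    p ∈ Module.support A (Dual.inD A A ⟶ ω⟦i⟧) ↔ p ∈ Module.support A (Dual.HD A ω i) := by
  rw [(Groth.Agent.Helper8.LD.homSelfEquiv ω i).support_eq]

include hω in
/-- some cohomology module of a dualizing complex is supported at `p` -/
theorem exists_mem_support_HD (p : PrimeSpectrum A) :
    ∃ i : ℤ, p ∈ Module.support A (Dual.HD A ω i) := by
  have hB : IsNoetherianRing (Localization.AtPrime p.asIdeal) :=
    IsLocalization.isNoetherianRing p.asIdeal.primeCompl _ inferInstance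
  obtain ⟨d, hd⟩ := Groth.Agent.Helper8.LC.exists_nat_supportDim_eq
    (R := Localization.AtPrime p.asIdeal) (Localization.AtPrime p.asIdeal)
  have hν := Groth.Agent.Helper8.LOC.isDualizing_nuAt ω hω p.asIdeal
  have hn := Groth.Agent.Helper8.LOC.isNormalized_nuAt ω hω p.asIdeal
  have hdn := Groth.Agent.Helper8.LD.nontrivial_hom_supportDim
    (Groth.Agent.Helper8.LOC.nuAt ω hω p.asIdeal) hν hn (Localization.AtPrime p.asIdeal) d hd
  refine ⟨Groth.Agent.Helper8.LOC.degAt ω hω p.asIdeal + (-(d : ℤ)), ?_⟩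
  rw [← mem_support_hom_self_iff]
  exact (Groth.Agent.Helper8.LOC.mem_support_hom_iff_loc ω hω A p
    (Algebra.linearMap A (Localization.AtPrime p.asIdeal)) _ (-(d : ℤ)) rfl).mpr hdn

include hω in
/-- **Cohen–Macaulayness of `A_p`**: exactly one cohomology module of the dualizing complex is
supported at `p` -/
theorem cm_at_iff_existsUnique (p : PrimeSpectrum A) :
    LocCoh.IsCohenMacaulayLocalRing (Localization.AtPrime p.asIdeal) ↔
      ∃! i : ℤ, p ∈ Module.support A (Dual.HD A ω i) := by
  have hB : IsNoetherianRing (Localization.AtPrime p.asIdeal) :=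
    IsLocalization.isNoetherianRing p.asIdeal.primeCompl _ inferInstance
  have h1 : LocCoh.IsCohenMacaulayLocalRing (Localization.AtPrime p.asIdeal) ↔
      LocCoh.IsCohenMacaulayModule (Localization.AtPrime p.asIdeal)
        (Localization.AtPrime p.asIdeal) := by
    constructor
    · intro h
      exact h.supportDim_eq_depth
    · intro h
      exact @LocCoh.IsCohenMacaulayLocalRing.mk _ _ hB inferInstance h
  rw [h1, Groth.Agent.Helper8.LOC.isCohenMacaulayModule_loc_iff ω hω A p
    (Algebra.linearMap A (Localization.AtPrime p.asIdeal))]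
  simp only [mem_support_hom_self_iff]
  constructor
  · intro h
    obtain ⟨i, hi⟩ := exists_mem_support_HD ω hω p
    exact ⟨i, hi, fun i' hi' => h i' i hi' hi⟩
  · rintro ⟨i, hi, huniq⟩ a b ha hb
    rw [huniq a ha, huniq b hb]

end Ring


section Sch

variable {X : Scheme.{u}}

theorem cm_stalk_iff {R : CommRingCat.{u}} (j : Spec (CommRingCat.of R) ⟶ X)
    [IsOpenImmersion j] (z : PrimeSpectrum R) :
    LocCoh.IsCohenMacaulayLocalRing (X.presheaf.stalk (j.base z)) ↔
      LocCoh.IsCohenMacaulayLocalRing (Localization.AtPrime z.asIdeal) := by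
  let e1 : X.presheaf.stalk (j.base z) ≃+*
      (AlgebraicGeometry.Spec (CommRingCat.of R)).presheaf.stalk z :=
    (CategoryTheory.asIso (j.stalkMap z)).commRingCatIsoToRingEquiv
  let e2 : Localization.AtPrime z.asIdeal ≃+*
      (AlgebraicGeometry.Spec (CommRingCat.of R)).presheaf.stalk z :=
    (AlgebraicGeometry.StructureSheaf.stalkIso R z).toRingEquiv
  constructor
  · intro h
    haveI := h
    exact Groth.Agent.Helper20.RE.isCohenMacaulayLocalRing_of_ringEquiv (e1.trans e2.symm)
  · intro h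
    haveI := h
    exact Groth.Agent.Helper20.RE.isCohenMacaulayLocalRing_of_ringEquiv (e2.trans e1.symm)

theorem gor_stalk_iff {R : CommRingCat.{u}} (j : Spec (CommRingCat.of R) ⟶ X)
    [IsOpenImmersion j] (z : PrimeSpectrum R) :
    LocCoh.IsGorensteinLocalRing (X.presheaf.stalk (j.base z)) ↔
      LocCoh.IsGorensteinLocalRing (Localization.AtPrime z.asIdeal) := by
  let e1 : X.presheaf.stalk (j.base z) ≃+*
      (AlgebraicGeometry.Spec (CommRingCat.of R)).presheaf.stalk z :=
    (CategoryTheory.asIso (j.stalkMap z)).commRingCatIsoToRingEquiv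
  let e2 : Localization.AtPrime z.asIdeal ≃+*
      (AlgebraicGeometry.Spec (CommRingCat.of R)).presheaf.stalk z :=
    (AlgebraicGeometry.StructureSheaf.stalkIso R z).toRingEquiv
  constructor
  · intro h
    haveI := h
    exact Groth.Agent.Helper20.GorFlat.isGorensteinLocalRing_of_ringEquiv (e1.trans e2.symm)
  · intro h
    haveI := h
    exact Groth.Agent.Helper20.GorFlat.isGorensteinLocalRing_of_ringEquiv (e2.trans e1.symm)

variable [IsLocallyNoetherian X]
  [∀ (U : Scheme.{u}) (j : U ⟶ X) [IsOpenImmersion j],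
    PreservesFiniteLimits (Scheme.Modules.restrictFunctor j)]
  [∀ (R : CommRingCat.{u}), PreservesFiniteLimits (tilde.functor R)]

/-- at the points of an affine open, Cohen–Macaulayness of the local ring of `X` is detected by
the cohomology sheaves of a dualizing complex -/
theorem cm_stalk_iff_existsUnique_aux (ω : DCoh.D X) (hω : Dual2.IsDualizingSch X ω)
    {R : CommRingCat.{u}} (j : Spec (CommRingCat.of R) ⟶ X) [IsOpenImmersion j]
    (z : PrimeSpectrum R) :
    LocCoh.IsCohenMacaulayLocalRing (X.presheaf.stalk (j.base z)) ↔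
      ∃! i : ℤ, Nontrivial ((DCoh.HD ω i).presheaf.stalk (j.base z)) := by
  haveI : IsNoetherianRing R :=
    AlgebraicGeometry.isLocallyNoetherian_Spec.mp
      (AlgebraicGeometry.isLocallyNoetherian_of_isOpenImmersion j)
  obtain ⟨ωA, hωA, ⟨e⟩⟩ := hω R j
  rw [cm_stalk_iff j z, cm_at_iff_existsUnique ωA hωA z]
  simp only [nontrivial_stalk_HD_iff R j ω ωA e z]

/-- **Cohen–Macaulayness of the local rings of `X`** in terms of the cohomology sheaves of a
dualizing complex -/
theorem cm_stalk_iff_existsUnique (ω : DCoh.D X) (hω : Dual2.IsDualizingSch X ω) (x : X) :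
    LocCoh.IsCohenMacaulayLocalRing (X.presheaf.stalk x) ↔
      ∃! i : ℤ, Nontrivial ((DCoh.HD ω i).presheaf.stalk x) := by
  let 𝒰 := X.affineOpenCover
  obtain ⟨y, hy⟩ := 𝒰.covers x
  haveI : AlgebraicGeometry.IsOpenImmersion (𝒰.f (𝒰.idx x)) := 𝒰.map_prop (𝒰.idx x)
  have h := cm_stalk_iff_existsUnique_aux ω hω (R := 𝒰.X (𝒰.idx x)) (𝒰.f (𝒰.idx x)) y
  rw [hy] at h
  exact h

/-- the Cohen–Macaulay locus of a scheme with a dualizing complex is open -/
theorem isOpen_cmLocus (ω : DCoh.D X) (hω : Dual2.IsDualizingSch X ω) :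
    IsOpen {x : X | LocCoh.IsCohenMacaulayLocalRing (X.presheaf.stalk x)} := by
  rw [isOpen_iff_forall_mem_open]
  intro x hx
  let 𝒰 := X.affineOpenCover
  obtain ⟨y, hy⟩ := 𝒰.covers x
  let R : CommRingCat.{u} := 𝒰.X (𝒰.idx x)
  let j : AlgebraicGeometry.Spec (CommRingCat.of R) ⟶ X := 𝒰.f (𝒰.idx x)
  haveI : AlgebraicGeometry.IsOpenImmersion j := 𝒰.map_prop (𝒰.idx x)
  haveI : IsNoetherianRing R :=
    AlgebraicGeometry.isLocallyNoetherian_Spec.mp
      (AlgebraicGeometry.isLocallyNoetherian_of_isOpenImmersion j)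
  obtain ⟨ωA, hωA, -⟩ := hω R j
  have hopen := (Groth.Agent.S0372.result R ωA hωA).1
  refine ⟨j.base '' {z : PrimeSpectrum R |
    LocCoh.IsCohenMacaulayLocalRing (Localization.AtPrime z.asIdeal)}, ?_, ?_, ?_⟩
  · rintro _ ⟨z, hz, rfl⟩
    exact (cm_stalk_iff j z).mpr hz
  · exact j.isOpenEmbedding.isOpenMap _ hopen
  · refine ⟨y, (cm_stalk_iff j y).mp ?_, hy⟩
    have hx' : LocCoh.IsCohenMacaulayLocalRing (X.presheaf.stalk x) := hx
    rw [← hy] at hx'
    exact hx'

end Sch

end Groth.Agent.Helper8.SCH
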