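import Groth.Agent.Lib.Helper8.SCH3

set_option autoImplicit false

open CategoryTheory CategoryTheory.Limits AlgebraicGeometry

universe u

attribute [local instance] HasDerivedCategory.standard

namespace Groth.Agent.Helper8.SCH

theorem isZero_of_faithful {C D : Type*} [Category C] [Category D] [Preadditive C]
    [Preadditive D] (F : C ⥤ D) [F.Additive] [F.Faithful] (N : C) (h : IsZero (F.obj N)) :
    IsZero N := by
  rw [IsZero.iff_id_eq_zero]
  apply F.map_injective
  rw [F.map_id, F.map_zero]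
  exact (IsZero.iff_id_eq_zero _).mp h

section Sch

variable {X : Scheme.{u}} [IsLocallyNoetherian X]
  [∀ (U : Scheme.{u}) (j : U ⟶ X) [IsOpenImmersion j],
    PreservesFiniteLimits (Scheme.Modules.restrictFunctor j)]
  [∀ (R : CommRingCat.{u}), PreservesFiniteLimits (tilde.functor R)]

omit [IsLocallyNoetherian X] in
/-- if the restriction of `K` to an affine open is the derived tilde of `ω`, and `H^i(K) = 0`,
then `H^i(ω) = 0` -/
theorem isZero_HD_of_isZero (R : CommRingCat.{u}) (j : Spec (CommRingCat.of R) ⟶ X)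
    [IsOpenImmersion j] (K : DCoh.D X) (ω : DerivedCategory (ModuleCat.{u} R))
    (e : (DCoh.restrictD j).obj K ≅ (DCoh.tildeD R).obj ω) (i : ℤ)
    (h : IsZero (DCoh.HD K i)) :
    IsZero ((DerivedCategory.homologyFunctor (ModuleCat.{u} R) i).obj ω) := by
  have e1 : (DCoh.HD ((DCoh.restrictD j).obj K) i) ≅
      (Scheme.Modules.restrictFunctor j).obj (DCoh.HD K i) :=
    (mapDerivedHomologyIso (Scheme.Modules.restrictFunctor j) i).app K
  have e2 : (DCoh.HD ((DCoh.restrictD j).obj K) i) ≅ (DCoh.HD ((DCoh.tildeD R).obj ω) i) :=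
    (DerivedCategory.homologyFunctor _ i).mapIso e
  have e3 : (DCoh.HD ((DCoh.tildeD R).obj ω) i) ≅
      (tilde.functor R).obj ((DerivedCategory.homologyFunctor (ModuleCat.{u} R) i).obj ω) :=
    (mapDerivedHomologyIso (tilde.functor R) i).app ω
  apply isZero_of_faithful (tilde.functor R)
  have h1 : IsZero ((Scheme.Modules.restrictFunctor j).obj (DCoh.HD K i)) :=
    (Scheme.Modules.restrictFunctor j).map_isZero h
  exact h1.of_iso (e3.symm ≪≫ e2.symm ≪≫ e1)

/-- **a scheme whose dualizing complex is a module in degree 0 is Cohen–Macaulay** -/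
theorem cm_of_dualizing_module (ω : X.Modules)
    (hD : Dual2.IsDualizingSch X (DCoh.inD X ω)) (x : X) :
    LocCoh.IsCohenMacaulayLocalRing (X.presheaf.stalk x) := by
  let 𝒰 := X.affineOpenCover
  obtain ⟨y, hy⟩ := 𝒰.covers x
  let R : CommRingCat.{u} := 𝒰.X (𝒰.idx x)
  let j : AlgebraicGeometry.Spec (CommRingCat.of R) ⟶ X := 𝒰.f (𝒰.idx x)
  haveI : AlgebraicGeometry.IsOpenImmersion j := 𝒰.map_prop (𝒰.idx x)
  haveI : IsNoetherianRing R :=
    AlgebraicGeometry.isLocallyNoetherian_Spec.mp
      (AlgebraicGeometry.isLocallyNoetherian_of_isOpenImmersion j)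
  obtain ⟨ωA, hωA, ⟨e⟩⟩ := hD R j
  have hz : ∀ i : ℤ, i ≠ 0 → y ∉ Module.support R (Dual.HD R ωA i) := by
    intro i hi
    have h0 : IsZero (DCoh.HD (DCoh.inD X ω) i) := by
      rcases lt_or_gt_of_ne hi with h | h
      · exact DerivedCategory.isZero_of_isGE (DCoh.inD X ω) 0 i h
      · exact DerivedCategory.isZero_of_isLE (DCoh.inD X ω) 0 i h
    have h1 := isZero_HD_of_isZero R j (DCoh.inD X ω) ωA e i h0
    haveI : Subsingleton (Dual.HD R ωA i) := ModuleCat.subsingleton_of_isZero h1
    rw [Module.support_eq_empty]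
    exact Set.notMem_empty _
  have hcm : LocCoh.IsCohenMacaulayLocalRing (X.presheaf.stalk (j.base y)) := by
    rw [cm_stalk_iff j y, cm_at_iff_existsUnique ωA hωA y]
    obtain ⟨i, hi⟩ := exists_mem_support_HD ωA hωA y
    have hi0 : i = 0 := by
      by_contra hne
      exact hz i hne hi
    refine ⟨i, hi, fun i' hi' => ?_⟩
    have : i' = 0 := by
      by_contra hne
      exact hz i' hne hi'
    rw [this, hi0]
  rw [hy] at hcm
  exact hcm

end Sch

end Groth.Agent.Helper8.SCH
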