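import Groth.Agent.Lib.Helper8.SCH4
import Groth.Agent.Lib.Helper8.SCH5
import Groth.Agent.Lib.Helper13.InvGen
import Groth.Agent.Lib.Helper5.StalkCx5

/-!
# Stalks of the cohomology sheaves of a dualizing complex, as modules over the local rings
-/

set_option autoImplicit false
set_option linter.style.haveILetI false
set_option linter.unusedSectionVars false

open CategoryTheory CategoryTheory.Limits AlgebraicGeometry

universe u

attribute [local instance] HasDerivedCategory.standard

namespace Groth.Agent.Helper8.SCH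

/-- an `R`-linear map between modules over two models of a localization of `R` is semilinear
for the canonical isomorphism of the two models -/
theorem semilinear_of_isLocalization {R : Type*} [CommRing R] (T : Submonoid R) (S S' : Type*)
    [CommRing S] [CommRing S'] [Algebra R S] [Algebra R S'] [IsLocalization T S]
    [IsLocalization T S'] {L L' : Type*} [AddCommGroup L] [AddCommGroup L'] [Module R L]
    [Module S L] [IsScalarTower R S L] [Module R L'] [Module S' L'] [IsScalarTower R S' L']
    (g : L →ₗ[R] L') (s : S) (l : L) :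
    g (s • l) = (IsLocalization.algEquiv T S S' s) • g l := by
  letI : Module S L' := Module.compHom L' (IsLocalization.algEquiv T S S').toRingEquiv.toRingHom
  haveI : IsScalarTower R S L' :=
    ⟨fun r s n => by
      change (IsLocalization.algEquiv T S S' (r • s)) • n =
        r • ((IsLocalization.algEquiv T S S' s) • n)
      rw [Algebra.smul_def, map_mul, AlgEquiv.commutes, mul_smul, algebraMap_smul]⟩
  exact (LinearMap.extendScalarsOfIsLocalization T S g).map_smul s l

section Tilde

variable (R : CommRingCat.{u}) (z : PrimeSpectrum R) (H : ModuleCat.{u} R)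

/-- the local ring of `Spec R` at `z` -/
noncomputable abbrev Sz : Type u :=
  ((Spec (CommRingCat.of R)).presheaf.stalk z : CommRingCat.{u})

noncomputable instance algSz : Algebra R (Sz R z) :=
  (Groth.Agent.Helper5.TildeSt.φx R z).toAlgebra

instance locSz : IsLocalization.AtPrime (Sz R z) z.asIdeal :=
  AlgebraicGeometry.StructureSheaf.IsLocalization.to_stalk (R := R) z

instance towerSz : IsScalarTower R (Sz R z) ((tilde H).presheaf.stalk z) :=
  ⟨fun r s l => by
    rw [Algebra.smul_def, mul_smul]
    rfl⟩

/-- the local ring of `Spec R` at `z` is `R_z` -/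
noncomputable def σ₃ : Sz R z ≃+* Localization.AtPrime z.asIdeal :=
  (IsLocalization.algEquiv z.asIdeal.primeCompl (Sz R z)
    (Localization.AtPrime z.asIdeal)).toRingEquiv

/-- the stalk of `H~` at `z` is `H_z` -/
noncomputable def θ₃ : (tilde H).presheaf.stalk z ≃+ LocalizedModule z.asIdeal.primeCompl H :=
  (IsLocalizedModule.iso z.asIdeal.primeCompl (tilde.toStalk H z).hom).symm.toAddEquiv

theorem θ₃_smul (s : Sz R z) (l : (tilde H).presheaf.stalk z) :
    θ₃ R z H (s • l) = σ₃ R z s • θ₃ R z H l :=
  semilinear_of_isLocalization z.asIdeal.primeCompl (Sz R z) (Localization.AtPrime z.asIdeal)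
    (IsLocalizedModule.iso z.asIdeal.primeCompl (tilde.toStalk H z).hom).symm.toLinearMap s l

end Tilde


section Bridge

variable {X : Scheme.{u}}
  [∀ (U : Scheme.{u}) (j : U ⟶ X) [IsOpenImmersion j],
    PreservesFiniteLimits (Scheme.Modules.restrictFunctor j)]
  [∀ (R : CommRingCat.{u}), PreservesFiniteLimits (tilde.functor R)]

/-- **the stalks of the cohomology sheaves of `K` as modules over the local rings of `X`**:
if the restriction of `K` to the affine open `Spec R` is the derived tilde of `ω`, the stalk of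
`H^i(K)` at `j z` is, semilinearly over `O_{X, j z} ≅ R_z`, the localization of `H^i(ω)` -/
theorem exists_semilinear_stalk (R : CommRingCat.{u}) (j : Spec (CommRingCat.of R) ⟶ X)
    [IsOpenImmersion j] (K : DCoh.D X) (ω : DerivedCategory (ModuleCat.{u} R))
    (e : (DCoh.restrictD j).obj K ≅ (DCoh.tildeD R).obj ω) (z : PrimeSpectrum R) (i : ℤ) :
    ∃ (σ : X.presheaf.stalk (j.base z) ≃+* Localization.AtPrime z.asIdeal)
      (θ : (DCoh.HD K i).presheaf.stalk (j.base z) ≃+
        LocalizedModule z.asIdeal.primeCompl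
          ((DerivedCategory.homologyFunctor (ModuleCat.{u} R) i).obj ω)),
      ∀ (r : X.presheaf.stalk (j.base z)) (m : (DCoh.HD K i).presheaf.stalk (j.base z)),
        θ (r • m) = σ r • θ m := by
  let H : ModuleCat.{u} R := (DerivedCategory.homologyFunctor (ModuleCat.{u} R) i).obj ω
  have e1 : (DCoh.HD ((DCoh.restrictD j).obj K) i) ≅
      (Scheme.Modules.restrictFunctor j).obj (DCoh.HD K i) :=
    (mapDerivedHomologyIso (Scheme.Modules.restrictFunctor j) i).app K
  have e2 : (DCoh.HD ((DCoh.restrictD j).obj K) i) ≅ (DCoh.HD ((DCoh.tildeD R).obj ω) i) :=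
    (DerivedCategory.homologyFunctor _ i).mapIso e
  have e3 : (DCoh.HD ((DCoh.tildeD R).obj ω) i) ≅ tilde H :=
    (mapDerivedHomologyIso (tilde.functor R) i).app ω
  let e' : (Scheme.Modules.restrictFunctor j).obj (DCoh.HD K i) ≅ tilde H :=
    e1.symm ≪≫ e2 ≪≫ e3
  let θ₂ : ((Scheme.Modules.restrictFunctor j).obj (DCoh.HD K i)).presheaf.stalk z ≃ₗ[Sz R z]
      (tilde H).presheaf.stalk z :=
    ((DerSch.stalkFunctor (Spec (CommRingCat.of R)) z).mapIso e').toLinearEquiv
  let τ := Groth.Agent.Helper13.Inv.τ j (DCoh.HD K i) z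
  let σ₁ : X.presheaf.stalk (j.base z) ≃+* Sz R z :=
    (CategoryTheory.asIso (j.stalkMap z)).commRingCatIsoToRingEquiv
  refine ⟨σ₁.trans (σ₃ R z), (τ.symm.trans θ₂.toAddEquiv).trans (θ₃ R z H), ?_⟩
  intro r m
  have h1 : τ.symm (r • m) = σ₁ r • τ.symm m := by
    apply τ.injective
    rw [AddEquiv.apply_symm_apply]
    have := Groth.Agent.Helper13.Inv.τ_smul j (DCoh.HD K i) z r (τ.symm m)
    rw [AddEquiv.apply_symm_apply] at this
    exact this.symm
  change θ₃ R z H (θ₂ (τ.symm (r • m))) = σ₃ R z (σ₁ r) • θ₃ R z H (θ₂ (τ.symm m))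
  rw [h1, map_smul, θ₃_smul]

end Bridge

end Groth.Agent.Helper8.SCH
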