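import Groth.Agent.Lib.Helper8.LOC23
import Groth.Agent.Lib.Helper8.LCFalt2
import Groth.Agent.Lib.Lead.Fib2
import Groth.Agent.Lib.Lead.FinRes1

/-!
# The lowest cohomology module of a dualizing complex: `(S_2)` and torsion-freeness, locally
-/

set_option autoImplicit false
set_option linter.style.haveILetI false
set_option linter.unusedSectionVars false

open CategoryTheory CategoryTheory.Limits

universe u

attribute [local instance] HasDerivedCategory.standard

namespace Groth.Agent.Helper8.SCH

open DerivedCategory IsLocalRing Groth.Agent.Helper8.LOC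

section Local

variable {B : Type u} [CommRing B] [IsLocalRing B] [IsNoetherianRing B] (ν : Dual.D B)
  (hν : Dual.IsDualizing B ν) (hn : Dual.IsNormalized B ν)

include hν hn in
/-- the dualizing module is nonzero -/
theorem nontrivial_dualizingModule (d : ℕ) (hd : ringKrullDim B = d) :
    Nontrivial (Dual.HD B ν (-(d : ℤ))) := by
  have h1 := Groth.Agent.Helper8.LD.nontrivial_hom_supportDim ν hν hn B d
    (by rw [Module.supportDim_self_eq_ringKrullDim, hd])
  exact (Groth.Agent.Helper8.LD.homSelfEquiv ν (-(d : ℤ))).symm.toEquiv.nontrivial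

include hν hn in
/-- **the dualizing module of a local domain is torsion-free** -/
theorem isTorsionFree_dualizingModule [IsDomain B] (d : ℕ) (hd : ringKrullDim B = d) :
    Module.IsTorsionFree B (Dual.HD B ν (-(d : ℤ))) := by
  haveI := hν.finite_cohomology (-(d : ℤ))
  have hS2 := hasSk_two_dualizingModule ν hν hn d hd
  have hsupp := support_dualizingModule ν hν hn d hd
  -- the support is everything
  have hsupp' : ∀ p : PrimeSpectrum B, p ∈ Module.support B (Dual.HD B ν (-(d : ℤ))) := by
    intro p
    rw [hsupp]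
    simp only [Set.mem_ofPred_eq]
    refine ⟨⊥, ?_, bot_le, ?_⟩
    · show IsMinimalPrime (⊥ : Ideal B)
      rw [IsMinimalPrime.iff_minimal]
      exact ⟨Ideal.isPrime_bot, fun q _ _ => bot_le⟩
    · rw [← hd]
      exact (ringKrullDim_eq_of_ringEquiv (RingEquiv.quotientBot B))
  constructor
  intro r hr m₁ m₂ hm
  by_contra hne
  have hx : m₁ - m₂ ≠ 0 := sub_ne_zero.mpr hne
  have hrx : r • (m₁ - m₂) = 0 := by
    rw [smul_sub]
    exact sub_eq_zero.mpr hm
  obtain ⟨P, hP, hle⟩ := exists_le_isAssociatedPrime_of_isNoetherianRing B (m₁ - m₂) hx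
  have hrP : r ∈ P := hle (by rw [Submodule.mem_colon_singleton, Submodule.mem_bot]; exact hrx)
  haveI hpp : P.IsPrime := hP.isPrime
  have hdepth := Groth.Agent.Helper8.LC.depth_localizedModule_eq_zero_of_mem_associatedPrimes P
    (Dual.HD B ν (-(d : ℤ))) hP
  have h2 := hS2 P
  rw [hdepth] at h2
  have hPs : (⟨P, hpp⟩ : PrimeSpectrum B) ∈ Module.support B (Dual.HD B ν (-(d : ℤ))) :=
    hsupp' _
  have hdim := Groth.Agent.Lead.FinRes.supportDim_localizedModule_eq_height
    (N := Dual.HD B ν (-(d : ℤ))) (⟨P, hpp⟩ : PrimeSpectrum B) hPs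
  rw [hdim] at h2
  have hht : Order.height (⟨⟨P, hpp⟩, hPs⟩ : Module.support B (Dual.HD B ν (-(d : ℤ)))) = 0 := by
    by_contra hh
    have h1 : (1 : ℕ∞) ≤ Order.height
        (⟨⟨P, hpp⟩, hPs⟩ : Module.support B (Dual.HD B ν (-(d : ℤ)))) :=
      Order.one_le_iff_pos.mpr (pos_iff_ne_zero.mpr hh)
    have h3 : ((1 : ℕ∞) : WithBot ℕ∞) ≤ min ((2 : ℕ) : WithBot ℕ∞)
        ((Order.height (⟨⟨P, hpp⟩, hPs⟩ : Module.support B (Dual.HD B ν (-(d : ℤ)))) : ℕ∞) :
          WithBot ℕ∞) := by
      apply le_min
      · have h : ((1 : ℕ∞) : WithBot ℕ∞) = ((1 : ℕ) : WithBot ℕ∞) := rfl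
        rw [h]
        exact_mod_cast (by norm_num : (1 : ℕ) ≤ 2)
      · exact WithBot.coe_le_coe.mpr h1
    have h4 := le_trans h3 h2
    have h5 : (1 : ℕ∞) ≤ ((0 : ℕ∞)) := WithBot.coe_le_coe.mp h4
    simp at h5
  rw [Order.height_eq_zero] at hht
  have hbot : (⟨⟨⊥, Ideal.isPrime_bot⟩, hsupp' _⟩ :
      Module.support B (Dual.HD B ν (-(d : ℤ)))) ≤ ⟨⟨P, hpp⟩, hPs⟩ := by
    show (⊥ : Ideal B) ≤ P
    exact bot_le
  have h6 := hht hbot
  have h7 : P ≤ (⊥ : Ideal B) := h6
  have hr0 : r = 0 := by
    have := h7 hrP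
    simpa using this
  rw [hr0] at hr
  exact not_isRegular_zero hr

end Local


section General

variable {A : Type u} [CommRing A] [IsNoetherianRing A] (ω : Dual.D A)
  (hω : Dual.IsDualizing A ω)

include hω in
/-- the lowest cohomology module of a dualizing complex is, locally, zero or the dualizing
module of the local ring -/
theorem loc_lowest_HD (p : Ideal A) [p.IsPrime] (n : ℤ)
    (h : ∀ i : ℤ, i < n → Subsingleton (LocalizedModule p.primeCompl (Dual.HD A ω i))) :
    Subsingleton (LocalizedModule p.primeCompl (Dual.HD A ω n)) ∨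
      ∃ d : ℕ, ringKrullDim (Localization.AtPrime p) = d ∧
        Nonempty (LocalizedModule p.primeCompl (Dual.HD A ω n) ≃ₗ[Localization.AtPrime p]
          Dual.HD (Localization.AtPrime p) (nuAt ω hω p) (-(d : ℤ))) := by
  have hB : IsNoetherianRing (Localization.AtPrime p) :=
    IsLocalization.isNoetherianRing p.primeCompl _ inferInstance
  have hν := isDualizing_nuAt ω hω p
  have hnn := isNormalized_nuAt ω hω p
  by_cases hsub : Subsingleton (LocalizedModule p.primeCompl (Dual.HD A ω n))
  · exact Or.inl hsub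
  right
  rw [not_subsingleton_iff_nontrivial] at hsub
  obtain ⟨d, hd⟩ : ∃ r : ℕ, ringKrullDim (Localization.AtPrime p) = r := by
    obtain ⟨r, hr⟩ := Groth.Agent.Helper8.LC.exists_nat_supportDim_eq
      (R := Localization.AtPrime p) (Localization.AtPrime p)
    exact ⟨r, by rw [← Module.supportDim_self_eq_ringKrullDim, hr]⟩
  refine ⟨d, hd, ?_⟩
  -- `n - δ ≥ -d`
  have h1 : -(d : ℤ) ≤ n - degAt ω hω p := by
    by_contra hlt
    push Not at hlt
    have hz := isZero_homology_of_lt_neg_dim (nuAt ω hω p) hν hnn d hd _ hlt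
    have e := locHomologyIso ω hω p n (n - degAt ω hω p) (by omega)
    have : Subsingleton (LocalizedModule p.primeCompl (Dual.HD A ω n)) :=
      e.toLinearEquiv.toEquiv.subsingleton_congr.mpr (ModuleCat.subsingleton_of_isZero hz)
    exact (not_subsingleton_iff_nontrivial.mpr hsub) this
  -- `δ - d ≥ n`
  have h2 : n ≤ degAt ω hω p - d := by
    by_contra hlt
    push Not at hlt
    have hs := h _ hlt
    have e := locHomologyIso ω hω p (degAt ω hω p - d) (-(d : ℤ)) (by omega)
    have hnt := nontrivial_dualizingModule (nuAt ω hω p) hν hnn d hd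
    have : Subsingleton (Dual.HD (Localization.AtPrime p) (nuAt ω hω p) (-(d : ℤ))) :=
      e.toLinearEquiv.toEquiv.subsingleton_congr.mp hs
    exact (not_subsingleton_iff_nontrivial.mpr hnt) this
  have e := locHomologyIso ω hω p n (-(d : ℤ)) (by omega)
  exact ⟨e.toLinearEquiv⟩

include hω in
/-- **`(S_2)` for the localizations of the lowest cohomology module of a dualizing complex** -/
theorem hasSk_two_loc_HD (p : Ideal A) [p.IsPrime] (n : ℤ)
    (h : ∀ i : ℤ, i < n → Subsingleton (LocalizedModule p.primeCompl (Dual.HD A ω i))) :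
    LocCoh.HasSk 2 (Localization.AtPrime p) (LocalizedModule p.primeCompl (Dual.HD A ω n)) := by
  have hB : IsNoetherianRing (Localization.AtPrime p) :=
    IsLocalization.isNoetherianRing p.primeCompl _ inferInstance
  rcases loc_lowest_HD ω hω p n h with hsub | ⟨d, hd, ⟨e⟩⟩
  · intro P hP
    rw [Module.supportDim_eq_bot_of_subsingleton, min_eq_right bot_le]
    exact bot_le
  · rw [Groth.Agent.Lead.Fib.hasSk_congr 2 e]
    exact hasSk_two_dualizingModule (nuAt ω hω p) (isDualizing_nuAt ω hω p)
      (isNormalized_nuAt ω hω p) d hd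

include hω in
/-- **torsion-freeness of the localizations of the lowest cohomology module** at primes where
the local ring is a domain -/
theorem isTorsionFree_loc_HD (p : Ideal A) [p.IsPrime] [IsDomain (Localization.AtPrime p)]
    (n : ℤ)
    (h : ∀ i : ℤ, i < n → Subsingleton (LocalizedModule p.primeCompl (Dual.HD A ω i))) :
    Module.IsTorsionFree (Localization.AtPrime p)
      (LocalizedModule p.primeCompl (Dual.HD A ω n)) := by
  have hB : IsNoetherianRing (Localization.AtPrime p) :=
    IsLocalization.isNoetherianRing p.primeCompl _ inferInstance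
  rcases loc_lowest_HD ω hω p n h with hsub | ⟨d, hd, ⟨e⟩⟩
  · exact Subsingleton.to_moduleIsTorsionFree
  · haveI := isTorsionFree_dualizingModule (nuAt ω hω p) (isDualizing_nuAt ω hω p)
      (isNormalized_nuAt ω hω p) d hd
    exact Function.Injective.moduleIsTorsionFree e e.injective (fun r m => e.map_smul r m)

end General

end Groth.Agent.Helper8.SCH
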