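import Groth.Agent.Lib.Helper8.SCH6
import Groth.Agent.Lib.Helper8.SCH7

/-!
# The dualizing sheaf of a scheme: `(S_2)` and torsion-freeness of its stalks
-/

set_option autoImplicit false
set_option linter.style.haveILetI false
set_option linter.unusedSectionVars false

open CategoryTheory CategoryTheory.Limits AlgebraicGeometry

universe u

attribute [local instance] HasDerivedCategory.standard

namespace Groth.Agent.Helper8.SCH

/-- torsion-freeness is invariant under semilinear isomorphisms -/
theorem isTorsionFree_of_semilinear {R R' : Type*} [CommRing R] [CommRing R'] (σ : R ≃+* R')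
    {M M' : Type*} [AddCommGroup M] [Module R M] [AddCommGroup M'] [Module R' M']
    (θ : M ≃+ M') (hθ : ∀ (r : R) (m : M), θ (r • m) = σ r • θ m)
    [Module.IsTorsionFree R' M'] : Module.IsTorsionFree R M := by
  constructor
  intro r hr m₁ m₂ hm
  have hr' : IsRegular (σ r) := by
    constructor
    · intro a b hab
      have : r * σ.symm a = r * σ.symm b := by
        apply σ.injective
        simpa using hab
      exact σ.symm.injective (hr.1 this)
    · intro a b hab
      have : σ.symm a * r = σ.symm b * r := by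
        apply σ.injective
        simpa using hab
      exact σ.symm.injective (hr.2 this)
  have h1 : σ r • θ m₁ = σ r • θ m₂ := by
    rw [← hθ, ← hθ]
    exact congrArg θ hm
  exact θ.injective (hr'.isSMulRegular h1)

section Sch

variable {X : Scheme.{u}} [IsLocallyNoetherian X]
  [∀ (U : Scheme.{u}) (j : U ⟶ X) [IsOpenImmersion j],
    PreservesFiniteLimits (Scheme.Modules.restrictFunctor j)]
  [∀ (R : CommRingCat.{u}), PreservesFiniteLimits (tilde.functor R)]

/-- the lowest cohomology sheaf of a dualizing complex satisfies `(S_2)` at the points of an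
affine open -/
theorem hasSk_two_stalk_aux (K : DCoh.D X) (hK : Dual2.IsDualizingSch X K) (n : ℤ)
    (hlt : ∀ i : ℤ, i < n → IsZero (DCoh.HD K i))
    {R : CommRingCat.{u}} (j : Spec (CommRingCat.of R) ⟶ X) [IsOpenImmersion j]
    (z : PrimeSpectrum R) :
    LocCoh.HasSk 2 (X.presheaf.stalk (j.base z)) ((DCoh.HD K n).presheaf.stalk (j.base z)) ∧
      (IsDomain (X.presheaf.stalk (j.base z)) →
        Module.IsTorsionFree (X.presheaf.stalk (j.base z))
          ((DCoh.HD K n).presheaf.stalk (j.base z))) := by
  haveI : IsNoetherianRing R :=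
    AlgebraicGeometry.isLocallyNoetherian_Spec.mp
      (AlgebraicGeometry.isLocallyNoetherian_of_isOpenImmersion j)
  obtain ⟨ωA, hωA, ⟨e⟩⟩ := hK R j
  obtain ⟨σ, θ, hθ⟩ := exists_semilinear_stalk R j K ωA e z n
  have hB : IsNoetherianRing (Localization.AtPrime z.asIdeal) :=
    IsLocalization.isNoetherianRing z.asIdeal.primeCompl _ inferInstance
  haveI : IsNoetherianRing (X.presheaf.stalk (j.base z)) :=
    isNoetherianRing_of_ringEquiv _ σ.symm
  haveI := hωA.finite_cohomology n
  haveI : Module.Finite (Localization.AtPrime z.asIdeal)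
      (LocalizedModule z.asIdeal.primeCompl (Dual.HD R ωA n)) :=
    Module.Finite.of_isLocalizedModule z.asIdeal.primeCompl
      (LocalizedModule.mkLinearMap z.asIdeal.primeCompl _)
  have hsub : ∀ i : ℤ, i < n →
      Subsingleton (LocalizedModule z.asIdeal.primeCompl (Dual.HD R ωA i)) := by
    intro i hi
    have h1 := isZero_HD_of_isZero R j K ωA e i (hlt i hi)
    haveI : Subsingleton (Dual.HD R ωA i) := ModuleCat.subsingleton_of_isZero h1
    infer_instance
  constructor
  · exact hasSk_of_semilinear σ θ hθ 2 (hasSk_two_loc_HD ωA hωA z.asIdeal n hsub)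
  · intro hdom
    haveI : IsDomain (Localization.AtPrime z.asIdeal) := σ.symm.toMulEquiv.isDomain _
    haveI := isTorsionFree_loc_HD ωA hωA z.asIdeal n hsub
    exact isTorsionFree_of_semilinear σ θ hθ

/-- **the dualizing sheaf satisfies `(S_2)`, and is torsion-free at the points where the local
ring is a domain** -/
theorem hasSk_two_stalk (K : DCoh.D X) (hK : Dual2.IsDualizingSch X K) (n : ℤ)
    (hlt : ∀ i : ℤ, i < n → IsZero (DCoh.HD K i)) (x : X) :
    LocCoh.HasSk 2 (X.presheaf.stalk x) ((DCoh.HD K n).presheaf.stalk x) ∧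
      (IsDomain (X.presheaf.stalk x) →
        Module.IsTorsionFree (X.presheaf.stalk x) ((DCoh.HD K n).presheaf.stalk x)) := by
  let 𝒰 := X.affineOpenCover
  obtain ⟨y, hy⟩ := 𝒰.covers x
  haveI : AlgebraicGeometry.IsOpenImmersion (𝒰.f (𝒰.idx x)) := 𝒰.map_prop (𝒰.idx x)
  have h := hasSk_two_stalk_aux K hK n hlt (R := 𝒰.X (𝒰.idx x)) (𝒰.f (𝒰.idx x)) y
  rw [hy] at h
  exact h

end Sch

end Groth.Agent.Helper8.SCH
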