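import Groth.Agent.Lib.Helper8.SCH8
import Groth.Agent.S2054

/-!
# The dualizing sheaf of a normal scheme is reflexive
-/

set_option autoImplicit false
set_option linter.style.haveILetI false
set_option linter.unusedSectionVars false

open CategoryTheory CategoryTheory.Limits AlgebraicGeometry

universe u

attribute [local instance] HasDerivedCategory.standard

namespace Groth.Agent.Helper8.SCH

/-- finiteness is invariant under semilinear isomorphisms -/
theorem finite_of_semilinear {R R' : Type*} [CommRing R] [CommRing R'] (σ : R ≃+* R')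
    {M M' : Type*} [AddCommGroup M] [Module R M] [AddCommGroup M'] [Module R' M']
    (θ : M ≃+ M') (hθ : ∀ (r : R) (m : M), θ (r • m) = σ r • θ m)
    [Module.Finite R' M'] : Module.Finite R M := by
  let f : M' →ₛₗ[(σ.symm : R' →+* R)] M :=
    { toFun := θ.symm
      map_add' := θ.symm.map_add
      map_smul' := fun r m => by
        apply θ.injective
        rw [hθ]
        simp }
  exact Module.Finite.of_surjective f θ.symm.surjective

section Sch

variable {X : Scheme.{u}} [IsLocallyNoetherian X]
  [∀ (U : Scheme.{u}) (j : U ⟶ X) [IsOpenImmersion j],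
    PreservesFiniteLimits (Scheme.Modules.restrictFunctor j)]
  [∀ (R : CommRingCat.{u}), PreservesFiniteLimits (tilde.functor R)]

/-- the stalks of the cohomology sheaves of a dualizing complex are finite modules over
Noetherian local rings -/
theorem finite_stalk_aux (K : DCoh.D X) (hK : Dual2.IsDualizingSch X K) (n : ℤ)
    {R : CommRingCat.{u}} (j : Spec (CommRingCat.of R) ⟶ X) [IsOpenImmersion j]
    (z : PrimeSpectrum R) :
    IsNoetherianRing (X.presheaf.stalk (j.base z)) ∧
      Module.Finite (X.presheaf.stalk (j.base z)) ((DCoh.HD K n).presheaf.stalk (j.base z)) := by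
  haveI : IsNoetherianRing R :=
    AlgebraicGeometry.isLocallyNoetherian_Spec.mp
      (AlgebraicGeometry.isLocallyNoetherian_of_isOpenImmersion j)
  obtain ⟨ωA, hωA, ⟨e⟩⟩ := hK R j
  obtain ⟨σ, θ, hθ⟩ := exists_semilinear_stalk R j K ωA e z n
  have hB : IsNoetherianRing (Localization.AtPrime z.asIdeal) :=
    IsLocalization.isNoetherianRing z.asIdeal.primeCompl _ inferInstance
  haveI := hωA.finite_cohomology n
  haveI : Module.Finite (Localization.AtPrime z.asIdeal)
      (LocalizedModule z.asIdeal.primeCompl (Dual.HD R ωA n)) :=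
    Module.Finite.of_isLocalizedModule z.asIdeal.primeCompl
      (LocalizedModule.mkLinearMap z.asIdeal.primeCompl _)
  exact ⟨isNoetherianRing_of_ringEquiv _ σ.symm, finite_of_semilinear σ θ hθ⟩

theorem finite_stalk (K : DCoh.D X) (hK : Dual2.IsDualizingSch X K) (n : ℤ) (x : X) :
    IsNoetherianRing (X.presheaf.stalk x) ∧
      Module.Finite (X.presheaf.stalk x) ((DCoh.HD K n).presheaf.stalk x) := by
  let 𝒰 := X.affineOpenCover
  obtain ⟨y, hy⟩ := 𝒰.covers x
  haveI : AlgebraicGeometry.IsOpenImmersion (𝒰.f (𝒰.idx x)) := 𝒰.map_prop (𝒰.idx x)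
  have h := finite_stalk_aux K hK n (R := 𝒰.X (𝒰.idx x)) (𝒰.f (𝒰.idx x)) y
  rw [hy] at h
  exact h

/-- **the dualizing sheaf is reflexive at the normal points** -/
theorem isReflexive_stalk (K : DCoh.D X) (hK : Dual2.IsDualizingSch X K) (n : ℤ)
    (hlt : ∀ i : ℤ, i < n → IsZero (DCoh.HD K i)) (x : X)
    [IsDomain (X.presheaf.stalk x)] [IsIntegrallyClosed (X.presheaf.stalk x)] :
    Module.IsReflexive (X.presheaf.stalk x) ((DCoh.HD K n).presheaf.stalk x) := by
  obtain ⟨hN, hfin⟩ := finite_stalk K hK n x
  obtain ⟨hS2, htf⟩ := hasSk_two_stalk K hK n hlt x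
  haveI := htf inferInstance
  rw [Groth.Agent.S2054.result]
  refine ⟨?_, hS2⟩
  exact ⟨fun {c m} hcm => by
    by_cases hc : c = 0
    · exact Or.inl hc
    · right
      exact (smul_eq_zero_iff_right hc).mp hcm⟩

end Sch

end Groth.Agent.Helper8.SCH
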