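import Mathlib.RingTheory.Artinian.Module
import Mathlib.RingTheory.Ideal.Operations
import Mathlib.RingTheory.Nilpotent.Lemmas

/-!
# Secondary representations of Artinian modules (helper8)

Pure commutative algebra over Mathlib: every Artinian module is a finite sum of secondary
submodules; the radical of the annihilator of a secondary submodule is prime.
-/

universe u v

namespace Groth.Agent.Helper8.SecRep

variable {A : Type u} [CommRing A] {L : Type v} [AddCommGroup L] [Module A L]

/-- a submodule `S ≠ 0` on which every element of the ring acts surjectively or nilpotently -/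
def IsSecondary (S : Submodule A L) : Prop :=
  S ≠ ⊥ ∧ ∀ z : A, (∀ s ∈ S, ∃ t ∈ S, z • t = s) ∨ (∃ k : ℕ, ∀ s ∈ S, z ^ k • s = 0)

/-- the submodule `z^k N` -/
def powImage (z : A) (k : ℕ) (N : Submodule A L) : Submodule A L :=
  N.map ((z ^ k) • (LinearMap.id : L →ₗ[A] L))

theorem mem_powImage {z : A} {k : ℕ} {N : Submodule A L} {l : L} :
    l ∈ powImage z k N ↔ ∃ t ∈ N, z ^ k • t = l := by
  unfold powImage
  rw [Submodule.mem_map]
  rfl

theorem powImage_le (z : A) (k : ℕ) (N : Submodule A L) : powImage z k N ≤ N := by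
  intro l hl
  obtain ⟨t, ht, rfl⟩ := mem_powImage.mp hl
  exact N.smul_mem _ ht

theorem powImage_antitone (z : A) (N : Submodule A L) {k k' : ℕ} (h : k ≤ k') :
    powImage z k' N ≤ powImage z k N := by
  intro l hl
  obtain ⟨t, ht, rfl⟩ := mem_powImage.mp hl
  refine mem_powImage.mpr ⟨z ^ (k' - k) • t, N.smul_mem _ ht, ?_⟩
  rw [← mul_smul, ← pow_add, Nat.add_sub_cancel' h]

/-- the `z^k`-torsion of `N` -/
def powKer (z : A) (k : ℕ) (N : Submodule A L) : Submodule A L :=
  N ⊓ LinearMap.ker ((z ^ k) • (LinearMap.id : L →ₗ[A] L))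

theorem mem_powKer {z : A} {k : ℕ} {N : Submodule A L} {l : L} :
    l ∈ powKer z k N ↔ l ∈ N ∧ z ^ k • l = 0 := by
  unfold powKer
  rw [Submodule.mem_inf, LinearMap.mem_ker]
  rfl

/-- every submodule of an Artinian module is a finite sum of secondary submodules -/
theorem exists_secondary_rep [IsArtinian A L] (N : Submodule A L) :
    ∃ s : Finset (Submodule A L), (∀ S ∈ s, IsSecondary S) ∧ s.sup id = N := by
  classical
  induction N using IsArtinian.induction with
  | hgt N IH =>
    by_cases hN : N = ⊥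
    · exact ⟨∅, by simp, by simp [hN]⟩
    by_cases hsec : IsSecondary N
    · exact ⟨{N}, by simpa using hsec, by simp⟩
    have hex : ∃ z : A, ¬ (∀ s ∈ N, ∃ t ∈ N, z • t = s) ∧ ¬ (∃ k : ℕ, ∀ s ∈ N, z ^ k • s = 0) := by
      by_contra hcon
      apply hsec
      refine ⟨hN, fun z => ?_⟩
      by_cases h1 : ∀ s ∈ N, ∃ t ∈ N, z • t = s
      · exact Or.inl h1
      · by_cases h2 : ∃ k : ℕ, ∀ s ∈ N, z ^ k • s = 0
        · exact Or.inr h2
        · exact absurd ⟨z, h1, h2⟩ hcon
    obtain ⟨z, hz1, hz2⟩ := hex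
    let f : ℕ →o (Submodule A L)ᵒᵈ :=
      ⟨fun k => OrderDual.toDual (powImage z k N), fun k k' h => powImage_antitone z N h⟩
    obtain ⟨k0, hk0⟩ := IsArtinian.monotone_stabilizes f
    have hstab : powImage z (k0 + 1) N = powImage z (2 * (k0 + 1)) N := by
      have h1 : f k0 = f (k0 + 1) := hk0 (k0 + 1) (by omega)
      have h2 : f k0 = f (2 * (k0 + 1)) := hk0 (2 * (k0 + 1)) (by omega)
      have h3 : f (k0 + 1) = f (2 * (k0 + 1)) := h1.symm.trans h2
      exact h3
    have hlt1 : powImage z (k0 + 1) N < N := by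
      refine lt_of_le_of_ne (powImage_le z _ N) ?_
      intro heq
      apply hz1
      intro s hs
      rw [← heq] at hs
      obtain ⟨t, ht, rfl⟩ := mem_powImage.mp hs
      refine ⟨z ^ k0 • t, N.smul_mem _ ht, ?_⟩
      rw [← mul_smul, ← pow_succ']
    have hlt2 : powKer z (k0 + 1) N < N := by
      refine lt_of_le_of_ne inf_le_left ?_
      intro heq
      apply hz2
      refine ⟨k0 + 1, fun s hs => ?_⟩
      rw [← heq] at hs
      exact (mem_powKer.mp hs).2
    have hsup : powImage z (k0 + 1) N ⊔ powKer z (k0 + 1) N = N := by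
      apply le_antisymm
      · exact sup_le (powImage_le z _ N) inf_le_left
      · intro t ht
        have h1 : z ^ (k0 + 1) • t ∈ powImage z (2 * (k0 + 1)) N := by
          rw [← hstab]
          exact mem_powImage.mpr ⟨t, ht, rfl⟩
        obtain ⟨t', ht', h2⟩ := mem_powImage.mp h1
        have h3 : t = z ^ (k0 + 1) • t' + (t - z ^ (k0 + 1) • t') := by abel
        rw [h3]
        refine Submodule.add_mem_sup (mem_powImage.mpr ⟨t', ht', rfl⟩) ?_
        refine mem_powKer.mpr ⟨N.sub_mem ht (N.smul_mem _ ht'), ?_⟩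
        rw [smul_sub, ← mul_smul, ← pow_add, ← two_mul, h2, sub_self]
    obtain ⟨s1, hs1, hs1'⟩ := IH _ hlt1
    obtain ⟨s2, hs2, hs2'⟩ := IH _ hlt2
    refine ⟨s1 ∪ s2, fun S hS => ?_, ?_⟩
    · rcases Finset.mem_union.mp hS with h | h
      · exact hs1 S h
      · exact hs2 S h
    · rw [Finset.sup_union, hs1', hs2', hsup]

theorem mem_radical_annihilator_iff {S : Submodule A L} {z : A} :
    z ∈ (Module.annihilator A S).radical ↔ ∃ k : ℕ, ∀ s ∈ S, z ^ k • s = 0 := by
  constructor
  · rintro ⟨k, hk⟩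
    refine ⟨k, fun s hs => ?_⟩
    have := Module.mem_annihilator.mp hk ⟨s, hs⟩
    exact congrArg Subtype.val this
  · rintro ⟨k, hk⟩
    refine ⟨k, Module.mem_annihilator.mpr ?_⟩
    rintro ⟨s, hs⟩
    exact Subtype.ext (hk s hs)

theorem IsSecondary.pow_surjective {S : Submodule A L} {z : A}
    (h : ∀ s ∈ S, ∃ t ∈ S, z • t = s) (k : ℕ) : ∀ s ∈ S, ∃ t ∈ S, z ^ k • t = s := by
  induction k with
  | zero => intro s hs; exact ⟨s, hs, by simp⟩
  | succ k ih =>
    intro s hs
    obtain ⟨t, ht, rfl⟩ := ih s hs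
    obtain ⟨t', ht', rfl⟩ := h t ht
    exact ⟨t', ht', by rw [pow_succ, mul_smul]⟩

/-- the radical of the annihilator of a secondary submodule is prime -/
theorem IsSecondary.isPrime {S : Submodule A L} (h : IsSecondary S) :
    ((Module.annihilator A S).radical).IsPrime := by
  refine ⟨?_, ?_⟩
  · intro htop
    have h1 : (1 : A) ∈ (Module.annihilator A S).radical := by rw [htop]; trivial
    obtain ⟨k, hk⟩ := mem_radical_annihilator_iff.mp h1
    apply h.1
    rw [eq_bot_iff]
    intro s hs
    have := hk s hs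
    rw [one_pow, one_smul] at this
    rw [this]
    exact Submodule.zero_mem _
  · intro a b hab
    rcases h.2 a with ha | ha
    · right
      obtain ⟨k, hk⟩ := mem_radical_annihilator_iff.mp hab
      refine mem_radical_annihilator_iff.mpr ⟨k, fun s hs => ?_⟩
      obtain ⟨t, ht, rfl⟩ := IsSecondary.pow_surjective ha k s hs
      rw [← mul_smul, ← mul_pow, mul_comm]
      exact hk t ht
    · left
      exact mem_radical_annihilator_iff.mpr ha

/-- a secondary submodule is divisible by every element outside its prime -/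
theorem IsSecondary.surjective_of_notMem {S : Submodule A L} (h : IsSecondary S) {z : A}
    (hz : z ∉ (Module.annihilator A S).radical) : ∀ s ∈ S, ∃ t ∈ S, z • t = s := by
  rcases h.2 z with h1 | h1
  · exact h1
  · exact absurd (mem_radical_annihilator_iff.mpr h1) hz

/-- the key vanishing criterion: if `π : L → Q` is surjective and kills `x L`, `y` acts
surjectively on `Q`, and every secondary component of `L` is either `x`-divisible or `y`-nilpotent,
then `Q = 0` -/
theorem subsingleton_of_secondary_rep {Q : Type*} [AddCommGroup Q] [Module A Q]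
    (π : L →ₗ[A] Q) (hπ : Function.Surjective π) (x y : A) (hx : ∀ l : L, π (x • l) = 0)
    (hy : ∀ q : Q, ∃ q' : Q, y • q' = q)
    (s : Finset (Submodule A L)) (hs : ∀ S ∈ s, IsSecondary S) (htop : s.sup id = ⊤)
    (hxy : ∀ S ∈ s, x ∉ (Module.annihilator A S).radical ∨
      y ∈ (Module.annihilator A S).radical) : Subsingleton Q := by
  classical
  have h1 : ∀ S ∈ s, ∃ k : ℕ, ∀ t ∈ S, y ^ k • π t = 0 := by
    intro S hS
    rcases hxy S hS with h | h
    · refine ⟨0, fun t ht => ?_⟩
      obtain ⟨t', _, rfl⟩ := (hs S hS).surjective_of_notMem h t ht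
      rw [hx, smul_zero]
    · obtain ⟨k, hk⟩ := mem_radical_annihilator_iff.mp h
      exact ⟨k, fun t ht => by rw [← map_smul, hk t ht, map_zero]⟩
  choose! k hk using h1
  have h2 : ∀ l : L, y ^ (s.sup k) • π l = 0 := by
    have h3 : s.sup id ≤ LinearMap.ker ((y ^ (s.sup k)) • π) := by
      apply Finset.sup_le
      intro S hS t ht
      rw [LinearMap.mem_ker, LinearMap.smul_apply]
      have hle : k S ≤ s.sup k := Finset.le_sup hS
      obtain ⟨j, hj⟩ := Nat.exists_eq_add_of_le hle
      rw [hj, pow_add, mul_comm, mul_smul, hk S hS t ht, smul_zero]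
    intro l
    have : l ∈ LinearMap.ker ((y ^ (s.sup k)) • π) := h3 (by rw [htop]; trivial)
    exact this
  have h4 : ∀ (j : ℕ) (q : Q), ∃ q' : Q, y ^ j • q' = q := by
    intro j
    induction j with
    | zero => intro q; exact ⟨q, by simp⟩
    | succ j ih =>
      intro q
      obtain ⟨q1, rfl⟩ := ih q
      obtain ⟨q2, rfl⟩ := hy q1
      exact ⟨q2, by rw [pow_succ, mul_smul]⟩
  refine ⟨fun a b => ?_⟩
  have h0 : ∀ q : Q, q = 0 := by
    intro q
    obtain ⟨q', rfl⟩ := h4 (s.sup k) q
    obtain ⟨l, rfl⟩ := hπ q'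
    exact h2 l
  rw [h0 a, h0 b]

end Groth.Agent.Helper8.SecRep
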