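import Mathlib
import Groth.Agent.Lib.Lead.Depth5
import Groth.Agent.Lib.Lead.Depth13
import Groth.Agent.Lib.Helper1.LocalFlat

/-!
# Lifting depth from the closed fibre of a flat local homomorphism (helper8)

`R₀ → S` a local homomorphism of local rings, `S` Noetherian, `M` a finite `S`-module flat over
`R₀`.  If `J ≤ 𝔪_S` and `c ≤ depth_J (M / 𝔪₀ M)` then `c ≤ depth_J M`.
-/

set_option autoImplicit false

universe u

open LocCoh RingTheory.Sequence Pointwise IsLocalRing Groth.Agent.Lead.Depth

namespace Groth.Agent.Helper8.ShD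

section Swap

variable {S : Type u} [CommRing S] (I : Ideal S) (x : S) (M : Type u) [AddCommGroup M] [Module S M]

/-- `(M / xM) / I (M / xM) ≃ (M / I M) / x (M / I M)` -/
noncomputable def quotSwap :
    (QuotSMulTop x M ⧸ (I • (⊤ : Submodule S (QuotSMulTop x M)))) ≃ₗ[S]
      QuotSMulTop x (M ⧸ (I • (⊤ : Submodule S M))) := by
  have h1 : (I • (⊤ : Submodule S (QuotSMulTop x M))) =
      (I • (⊤ : Submodule S M)).map (x • (⊤ : Submodule S M)).mkQ := by
    rw [Submodule.map_smul'', Submodule.map_top, Submodule.range_mkQ]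
  have h2 : (x • (⊤ : Submodule S (M ⧸ (I • (⊤ : Submodule S M))))) =
      (x • (⊤ : Submodule S M)).map (I • (⊤ : Submodule S M)).mkQ := by
    rw [Submodule.map_pointwise_smul, Submodule.map_top, Submodule.range_mkQ]
  exact Submodule.quotEquivOfEq _ _ h1 ≪≫ₗ
    Submodule.quotientQuotientEquivQuotientSup (x • (⊤ : Submodule S M)) (I • (⊤ : Submodule S M)) ≪≫ₗ
    Submodule.quotEquivOfEq _ _ (sup_comm _ _) ≪≫ₗ
    (Submodule.quotientQuotientEquivQuotientSup (I • (⊤ : Submodule S M))
      (x • (⊤ : Submodule S M))).symm ≪≫ₗ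
    Submodule.quotEquivOfEq _ _ h2.symm

end Swap

section Lift

variable {R₀ : Type u} [CommRing R₀] [IsLocalRing R₀]
  (S : Type u) [CommRing S] [IsLocalRing S] [IsNoetherianRing S] [Algebra R₀ S]
  [IsLocalHom (algebraMap R₀ S)]

/-- Stacks 00ME for multiplication by `x`. -/
theorem isSMulRegular_and_flat_of_fibre (M : Type u) [AddCommGroup M] [Module R₀ M] [Module S M]
    [IsScalarTower R₀ S M] [Module.Finite S M] [Module.Flat R₀ M] (x : S)
    (hx : IsSMulRegular
      (M ⧸ ((maximalIdeal R₀).map (algebraMap R₀ S) • (⊤ : Submodule S M))) x) :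
    IsSMulRegular M x ∧ Module.Flat R₀ (QuotSMulTop x M) := by
  let u : M →ₗ[R₀] M := (LinearMap.lsmul S M x).restrictScalars R₀
  have hu : ∀ z : M, u z = x • z := fun z => rfl
  have hsub : ((maximalIdeal R₀).map (algebraMap R₀ S) • (⊤ : Submodule S M)).restrictScalars R₀ =
      maximalIdeal R₀ • (⊤ : Submodule R₀ M) := by
    rw [Ideal.smul_restrictScalars, Submodule.restrictScalars_top]
  have h : Function.Injective (u.lTensor (ResidueField R₀)) := by
    show Function.Injective (u.lTensor (R₀ ⧸ maximalIdeal R₀))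
    rw [Groth.Agent.Helper1.lTensor_quotient_injective_iff]
    intro z hz
    rw [← hsub] at hz ⊢
    rw [Submodule.restrictScalars_mem] at hz ⊢
    exact (isSMulRegular_quotient_iff_mem_of_smul_mem _ x).mp hx z hz
  refine ⟨Groth.Agent.Helper1.injective_of_injective_residueField S u h, ?_⟩
  have hfl := Groth.Agent.Helper1.flat_quotient_range_of_injective_residueField S u h
  have hr : (x • (⊤ : Submodule S M)).restrictScalars R₀ = LinearMap.range u := by
    ext z
    rw [Submodule.restrictScalars_mem, Submodule.mem_smul_pointwise_iff_exists, LinearMap.mem_range]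
    constructor
    · rintro ⟨y, -, rfl⟩
      exact ⟨y, rfl⟩
    · rintro ⟨y, rfl⟩
      exact ⟨y, Submodule.mem_top, rfl⟩
  let e : (M ⧸ LinearMap.range u) ≃ₗ[R₀] QuotSMulTop x M :=
    (Submodule.quotEquivOfEq _ _ hr.symm) ≪≫ₗ
      Submodule.Quotient.restrictScalarsEquiv R₀ (x • (⊤ : Submodule S M))
  exact Module.Flat.of_linearEquiv e.symm

end Lift

end Groth.Agent.Helper8.ShD
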