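import Groth.Agent.Lib.Helper8.ShD1

/-!
# Lifting depth from the closed fibre, main induction (helper8)
-/

set_option autoImplicit false

universe u

open LocCoh RingTheory.Sequence Pointwise IsLocalRing Groth.Agent.Lead.Depth

namespace Groth.Agent.Helper8.ShD

section Lift

variable {R₀ : Type u} [CommRing R₀] [IsLocalRing R₀]
  (S : Type u) [CommRing S] [IsLocalRing S] [IsNoetherianRing S] [Algebra R₀ S]
  [IsLocalHom (algebraMap R₀ S)]

theorem map_maximalIdeal_le : (maximalIdeal R₀).map (algebraMap R₀ S) ≤ maximalIdeal S := by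
  have h : IsLocalHom (algebraMap R₀ S) := inferInstance
  exact ((IsLocalRing.local_hom_TFAE (algebraMap R₀ S)).out 0 2).mp h

/-- if `J (M / I M) = M / I M` with `I, J` in the maximal ideal, then `J M = M` -/
theorem smul_top_eq_top_of_quotient (I J : Ideal S) (hI : I ≤ maximalIdeal S)
    (hJ : J ≤ maximalIdeal S) (M : Type u) [AddCommGroup M] [Module S M] [Module.Finite S M]
    (h : J • (⊤ : Submodule S (M ⧸ (I • (⊤ : Submodule S M)))) = ⊤) :
    J • (⊤ : Submodule S M) = ⊤ := by
  have h1 : (⊤ : Submodule S M) ≤ (J ⊔ I) • (⊤ : Submodule S M) := by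
    intro m _
    have hm : (I • (⊤ : Submodule S M)).mkQ m ∈
        J • (⊤ : Submodule S (M ⧸ (I • (⊤ : Submodule S M)))) := by rw [h]; trivial
    have h2 : J • (⊤ : Submodule S (M ⧸ (I • (⊤ : Submodule S M)))) =
        (J • (⊤ : Submodule S M)).map (I • (⊤ : Submodule S M)).mkQ := by
      rw [Submodule.map_smul'', Submodule.map_top, Submodule.range_mkQ]
    rw [h2] at hm
    obtain ⟨y, hy, hym⟩ := hm
    have h3 : m - y ∈ I • (⊤ : Submodule S M) := by
      rw [← Submodule.Quotient.mk_eq_zero, Submodule.Quotient.mk_sub]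
      have : (I • (⊤ : Submodule S M)).mkQ y = (I • (⊤ : Submodule S M)).mkQ m := hym
      simp only [Submodule.mkQ_apply] at this
      rw [this, sub_self]
    rw [Submodule.sup_smul]
    have : m = y + (m - y) := by abel
    rw [this]
    exact Submodule.add_mem_sup hy h3
  have h4 : (⊤ : Submodule S M) = ⊥ :=
    Submodule.eq_bot_of_le_smul_of_le_jacobson_bot (J ⊔ I) ⊤ Module.Finite.fg_top h1
      ((sup_le hJ hI).trans (IsLocalRing.maximalIdeal_le_jacobson ⊥))
  exact le_antisymm le_top (by rw [h4]; exact bot_le)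

/-- **Lifting depth from the closed fibre** of a flat local homomorphism. -/
theorem le_idealDepth_of_fibre (J : Ideal S) (hJ : J ≤ maximalIdeal S) :
    ∀ (c : ℕ) (M : Type u) [AddCommGroup M] [Module R₀ M] [Module S M] [IsScalarTower R₀ S M]
      [Module.Finite S M] [Module.Flat R₀ M],
      (c : ℕ∞) ≤ idealDepth J
        (M ⧸ ((maximalIdeal R₀).map (algebraMap R₀ S) • (⊤ : Submodule S M))) →
      (c : ℕ∞) ≤ idealDepth J M := by
  intro c
  induction c with
  | zero => intro M _ _ _ _ _ _ _; exact zero_le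
  | succ c ih =>
    intro M _ _ _ _ _ _ h
    by_cases hM : J • (⊤ : Submodule S M) = ⊤
    · rw [idealDepth_of_eq_top J M hM]; exact le_top
    have hF : J • (⊤ : Submodule S
        (M ⧸ ((maximalIdeal R₀).map (algebraMap R₀ S) • (⊤ : Submodule S M)))) ≠ ⊤ := fun hF =>
      hM (smul_top_eq_top_of_quotient S _ J (map_maximalIdeal_le S) hJ M hF)
    have h1 : ((1 : ℕ) : ℕ∞) ≤ idealDepth J
        (M ⧸ ((maximalIdeal R₀).map (algebraMap R₀ S) • (⊤ : Submodule S M))) := by
      refine le_trans ?_ h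
      exact_mod_cast Nat.succ_le_succ (Nat.zero_le c)
    obtain ⟨rs, hlen, hreg, hmem⟩ := exists_of_le_idealDepth J _ hF 1 h1
    obtain ⟨x, rfl⟩ : ∃ x, rs = [x] := List.length_eq_one_iff.mp hlen
    have hxJ : x ∈ J := hmem x (by simp)
    have hx : IsSMulRegular
        (M ⧸ ((maximalIdeal R₀).map (algebraMap R₀ S) • (⊤ : Submodule S M))) x :=
      ((isWeaklyRegular_cons_iff _ x []).mp hreg).1
    have e1 := idealDepth_quotSMulTop_add_one J
      (M ⧸ ((maximalIdeal R₀).map (algebraMap R₀ S) • (⊤ : Submodule S M))) hF x hxJ hx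
    obtain ⟨hxM, hflat⟩ := isSMulRegular_and_flat_of_fibre S M x hx
    have e2 := idealDepth_quotSMulTop_add_one J M hM x hxJ hxM
    have e3 := idealDepth_congr J
      (quotSwap ((maximalIdeal R₀).map (algebraMap R₀ S)) x M)
    have h2 : (c : ℕ∞) ≤ idealDepth J (QuotSMulTop x
        (M ⧸ ((maximalIdeal R₀).map (algebraMap R₀ S) • (⊤ : Submodule S M)))) := by
      rw [← e1] at h
      have h' : ((c : ℕ∞) + 1) ≤ idealDepth J (QuotSMulTop x
        (M ⧸ ((maximalIdeal R₀).map (algebraMap R₀ S) • (⊤ : Submodule S M)))) + 1 := by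
        exact_mod_cast h
      exact (ENat.add_le_add_iff_right ENat.one_ne_top).mp h'
    rw [← e3] at h2
    have h3 := ih (QuotSMulTop x M) h2
    rw [← e2]
    have : ((c + 1 : ℕ) : ℕ∞) = (c : ℕ∞) + 1 := by norm_cast
    rw [this]
    exact add_le_add_left h3 1

end Lift

end Groth.Agent.Helper8.ShD
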