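import Groth.Agent.Lib.Helper8.ShD2
import Groth.Agent.Lib.Lead.Depth15
import Groth.Agent.Lib.Helper21.DepthFin

/-!
# Depth of an ideal in a flat local algebra with Cohen–Macaulay closed fibre (helper8)
-/

set_option autoImplicit false

universe u

open LocCoh RingTheory.Sequence Pointwise IsLocalRing Groth.Agent.Lead.Depth

namespace Groth.Agent.Helper8.ShD

section CM

variable {R₀ : Type u} [CommRing R₀] [IsLocalRing R₀]
  (S : Type u) [CommRing S] [IsLocalRing S] [IsNoetherianRing S] [Algebra R₀ S]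
  [IsLocalHom (algebraMap R₀ S)] [Module.Flat R₀ S]

/-- `R₀ → S` flat local, closed fibre `S / 𝔪₀ S` Cohen–Macaulay of dimension `N`,
`dim S / (𝔪₀ S + J) = δ`: then `N - δ ≤ depth_J S`. -/
theorem le_idealDepth_of_CM_fibre (J : Ideal S) (hJ : J ≤ maximalIdeal S)
    (hloc : IsLocalRing (S ⧸ (maximalIdeal R₀).map (algebraMap R₀ S)))
    (hCM : Module.supportDim (S ⧸ (maximalIdeal R₀).map (algebraMap R₀ S))
        (S ⧸ (maximalIdeal R₀).map (algebraMap R₀ S)) =
      ((LocCoh.depth (S ⧸ (maximalIdeal R₀).map (algebraMap R₀ S))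
        (S ⧸ (maximalIdeal R₀).map (algebraMap R₀ S)) : ℕ∞) : WithBot ℕ∞))
    (N δ : ℕ) (hN : ringKrullDim (S ⧸ (maximalIdeal R₀).map (algebraMap R₀ S)) = N)
    (hδ : ringKrullDim (S ⧸ ((maximalIdeal R₀).map (algebraMap R₀ S) ⊔ J)) = δ) :
    ((N - δ : ℕ) : ℕ∞) ≤ idealDepth J S := by
  set I₀ : Ideal S := (maximalIdeal R₀).map (algebraMap R₀ S) with hI₀
  have hI₀le : I₀ ≤ maximalIdeal S := map_maximalIdeal_le S
  set K : Ideal (S ⧸ I₀) := J.map (Ideal.Quotient.mk I₀) with hK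
  have hKtop : K ≠ ⊤ := by
    intro h
    have h1 : (K.comap (Ideal.Quotient.mk I₀)) = ⊤ := by rw [h, Ideal.comap_top]
    rw [hK, Ideal.comap_map_of_surjective _ Ideal.Quotient.mk_surjective, ← RingHom.ker_eq_comap_bot,
      Ideal.mk_ker] at h1
    exact (maximalIdeal.isMaximal S).ne_top (top_le_iff.mp (h1 ▸ sup_le hJ hI₀le))
  have E1 := supportDim_eq_add_idealDepth_of_CM K hKtop (S ⧸ I₀) hCM
  rw [Module.supportDim_self_eq_ringKrullDim, hN] at E1
  have E2 : Module.supportDim (S ⧸ I₀)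
      ((S ⧸ I₀) ⧸ (K • (⊤ : Submodule (S ⧸ I₀) (S ⧸ I₀)))) = δ := by
    have h1 : (K • (⊤ : Submodule (S ⧸ I₀) (S ⧸ I₀))) = K := by
      rw [smul_eq_mul, Ideal.mul_top]
    rw [h1, Module.supportDim_quotient_eq_ringKrullDim,
      ringKrullDim_eq_of_ringEquiv (DoubleQuot.quotQuotEquivQuotSup I₀ J)]
    exact hδ
  rw [E2] at E1
  -- arithmetic
  have h3 : ((N - δ : ℕ) : ℕ∞) ≤ idealDepth K (S ⧸ I₀) := by
    generalize idealDepth K (S ⧸ I₀) = dd at E1
    induction dd using ENat.recTopCoe with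
    | top => exact le_top
    | coe d' =>
      have : ((N : ℕ) : WithBot ℕ∞) = ((δ + d' : ℕ) : WithBot ℕ∞) := by
        rw [E1]; push_cast; rfl
      have h4 : N = δ + d' := by exact_mod_cast this
      have : N - δ ≤ d' := by omega
      exact_mod_cast this
  -- transfer to `S`
  letI : Algebra S (S ⧸ I₀) := Ideal.Quotient.algebra S
  have h5 : idealDepth J (S ⧸ I₀) = idealDepth K (S ⧸ I₀) :=
    Groth.Agent.Helper21.DF.idealDepth_eq_map (A := S) (B := S ⧸ I₀) J (S ⧸ I₀)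
  have h6 : (I₀ • (⊤ : Submodule S S)) = I₀ := by
    rw [smul_eq_mul, Ideal.mul_top]
  have h7 : idealDepth J (S ⧸ (I₀ • (⊤ : Submodule S S))) = idealDepth J (S ⧸ I₀) :=
    idealDepth_congr J (Submodule.quotEquivOfEq _ _ h6)
  have key := le_idealDepth_of_fibre (R₀ := R₀) S J hJ (N - δ) S
  exact key (by rw [h7, h5]; exact h3)

end CM

end Groth.Agent.Helper8.ShD
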