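import Groth.Agent.Lib.Helper8.RFin3

/-!
# Cohomology classes of a right adjoint of restriction come from `Hom(B, K[j])` (helper8)
-/

set_option autoImplicit false
universe u

namespace Groth.Agent.Helper8.ShD

open CategoryTheory Abelian DerivedCategory Pretriangulated Limits Groth.Agent.Helper8.RFin

attribute [local instance] HasDerivedCategory.standard

variable {A B : Type u} [CommRing A] [CommRing B] [Algebra A B]

/-- every class in `H^0(R K)` comes from a map `B → K` in `D(A)`, semilinearly -/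
theorem exists_hom_of_H0 (R : Dual.D A ⥤ Dual.D B)
    (adj : DRing.restrictD (algebraMap A B) ⊣ R) (K : Dual.D A)
    (y : (homologyFunctor (ModuleCat.{u} B) 0).obj (R.obj K)) :
    ∃ g : (DRing.restrictD (algebraMap A B)).obj
        ((singleFunctor (ModuleCat.{u} B) 0).obj (ModuleCat.of B B)) ⟶ K,
      ∀ c : A, c • g = 0 → (algebraMap A B c) • y = 0 := by
  classical
  let φ : A →+* B := algebraMap A B
  let F := DRing.restrictD φ
  have hRadd : R.Additive := adj.right_adjoint_additive
  let PB : ModuleCat.{u} B := ModuleCat.of B B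
  let XB : Dual.D B := (singleFunctor (ModuleCat.{u} B) 0).obj PB
  let u : (homologyFunctor (ModuleCat.{u} B) 0).obj XB :=
    (Groth.Agent.Helper11.DC.iota PB).inv.hom (1 : B)
  let Λ : (F.obj XB ⟶ K) → (homologyFunctor (ModuleCat.{u} B) 0).obj (R.obj K) :=
    fun g => ((homologyFunctor (ModuleCat.{u} B) 0).map (adj.homEquiv XB K g)).hom u
  have hΛadd : ∀ g g', Λ (g + g') = Λ g + Λ g' := by
    intro g g'
    show ((homologyFunctor (ModuleCat.{u} B) 0).map (adj.homEquiv XB K (g + g'))).hom u = _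
    have h1 : adj.homEquiv XB K (g + g') = adj.homEquiv XB K g + adj.homEquiv XB K g' := by
      rw [Adjunction.homEquiv_unit, Adjunction.homEquiv_unit, Adjunction.homEquiv_unit,
        Functor.map_add, Preadditive.comp_add]
    rw [h1, Functor.map_add]
    rfl
  have hΛsmul : ∀ (c : A) g, Λ (c • g) = (φ c) • Λ g := by
    intro c g
    show ((homologyFunctor (ModuleCat.{u} B) 0).map (adj.homEquiv XB K (c • g))).hom u = _
    have h1 : c • g = F.map (φ c • 𝟙 XB) ≫ g := by
      rw [restrictD_map_smul_id, Linear.smul_comp, Category.id_comp]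
    have h2 : adj.homEquiv XB K (c • g) = φ c • adj.homEquiv XB K g := by
      rw [h1, Adjunction.homEquiv_naturality_left, Linear.smul_comp, Category.id_comp]
    rw [h2, homology_map_smul]
    rfl
  have hΛzero : Λ 0 = 0 := by
    have := hΛadd 0 0
    rw [add_zero] at this
    exact left_eq_add.mp this
  have hΛsurj : Function.Surjective Λ := by
    intro y
    have hb := Groth.Agent.Helper11.DC.psi_bijective PB (R.obj K)
    obtain ⟨g₀, hg₀⟩ := hb.2 ((Groth.Agent.Helper11.DC.iota PB).hom ≫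
      ModuleCat.ofHom (LinearMap.toSpanSingleton B _ y))
    refine ⟨(adj.homEquiv XB K).symm g₀, ?_⟩
    show ((homologyFunctor (ModuleCat.{u} B) 0).map
      (adj.homEquiv XB K ((adj.homEquiv XB K).symm g₀))).hom u = y
    rw [Equiv.apply_symm_apply]
    have hg₀' : (homologyFunctor (ModuleCat.{u} B) 0).map g₀ =
        (Groth.Agent.Helper11.DC.iota PB).hom ≫
          ModuleCat.ofHom (LinearMap.toSpanSingleton B _ y) := hg₀
    rw [hg₀']
    show (LinearMap.toSpanSingleton B _ y) ((Groth.Agent.Helper11.DC.iota PB).hom.hom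
      ((Groth.Agent.Helper11.DC.iota PB).inv.hom (1 : B))) = y
    have h2 : (Groth.Agent.Helper11.DC.iota PB).hom.hom
        ((Groth.Agent.Helper11.DC.iota PB).inv.hom (1 : B)) = (1 : B) := by
      rw [← LinearMap.comp_apply, ← ModuleCat.hom_comp, Iso.inv_hom_id]
      rfl
    rw [h2, LinearMap.toSpanSingleton_apply, one_smul]
  obtain ⟨g, rfl⟩ := hΛsurj y
  refine ⟨g, fun c hc => ?_⟩
  rw [← hΛsmul, hc, hΛzero]

/-- every class in `H^j(R K)` comes from a map `B → K⟦j⟧` in `D(A)`, semilinearly -/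
theorem exists_hom_of_HD (R : Dual.D A ⥤ Dual.D B)
    (adj : DRing.restrictD (algebraMap A B) ⊣ R) (K : Dual.D A) (j : ℤ)
    (y : (homologyFunctor (ModuleCat.{u} B) j).obj (R.obj K)) :
    ∃ g : (DRing.restrictD (algebraMap A B)).obj
        ((singleFunctor (ModuleCat.{u} B) 0).obj (ModuleCat.of B B)) ⟶ K⟦j⟧,
      ∀ c : A, c • g = 0 → (algebraMap A B c) • y = 0 := by
  have hRadd : R.Additive := adj.right_adjoint_additive
  let ρ : R.obj (K⟦j⟧) ≅ (R.obj K)⟦j⟧ := (Adjunction.RightAdjointCommShift.iso adj j).app K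
  let e1 : (homologyFunctor (ModuleCat.{u} B) 0).obj (R.obj (K⟦j⟧)) ≅
      (homologyFunctor (ModuleCat.{u} B) 0).obj ((R.obj K)⟦j⟧) :=
    (homologyFunctor (ModuleCat.{u} B) 0).mapIso ρ
  let e2 := Groth.Agent.Helper11.DC.sigma (R.obj K) j
  let e := e1 ≪≫ e2
  obtain ⟨g, hg⟩ := exists_hom_of_H0 R adj (K⟦j⟧) (e.inv.hom y)
  refine ⟨g, fun c hc => ?_⟩
  have h1 := hg c hc
  have h2 : e.hom.hom ((algebraMap A B c) • e.inv.hom y) = 0 := by rw [h1, map_zero]
  rw [map_smul] at h2
  have h3 : e.hom.hom (e.inv.hom y) = y := by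
    rw [← LinearMap.comp_apply, ← ModuleCat.hom_comp, Iso.inv_hom_id]
    rfl
  rw [h3] at h2
  exact h2

end Groth.Agent.Helper8.ShD
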