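import Groth.Agent.Lib.Helper8.ShD3
import Groth.Agent.Lib.Helper8.SmD1
import Groth.Agent.Lib.Helper8.SmD2
import Groth.Agent.Lib.Helper14.SmoothReg
import Groth.Agent.Lib.Lead.Fib3
import Groth.Agent.Lib.Lead.Depth4
import Groth.Agent.Lib.Helper16.Sch.RingFibDim

/-!
# `Ext^k_{P_Q}(A_q, P_Q) = 0` for `k < n - dim_q(fibre)` (helper8)

`P = R[x_1, …, x_n] → A` surjective, `q` a prime of `A`, `Q` its inverse image in `P`.
-/

set_option autoImplicit false

universe u

open LocCoh RingTheory.Sequence Pointwise IsLocalRing Groth.Agent.Lead.Depth Groth.Agent.Lead.Fib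
  CategoryTheory Abelian AlgebraicGeometry

namespace Groth.Agent.Helper8.ShD

theorem exists_nat_of_add_eq (x : WithBot ℕ∞) (t n : ℕ) (h : x + (t : WithBot ℕ∞) = (n : WithBot ℕ∞)) :
    ∃ N : ℕ, x = (N : WithBot ℕ∞) ∧ N + t = n := by
  induction x using WithBot.recBotCoe with
  | bot => simp at h
  | coe x =>
    induction x using ENat.recTopCoe with
    | top =>
      exfalso
      have h1 : ((⊤ : ℕ∞) : WithBot ℕ∞) + ((t : ℕ∞) : WithBot ℕ∞) = ((n : ℕ∞) : WithBot ℕ∞) := h
      rw [← WithBot.coe_add, WithBot.coe_inj, top_add] at h1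
      exact ENat.top_ne_coe n h1
    | coe N =>
      refine ⟨N, rfl, ?_⟩
      have h1 : (((N : ℕ∞)) : WithBot ℕ∞) + ((t : ℕ∞) : WithBot ℕ∞) = ((n : ℕ∞) : WithBot ℕ∞) := h
      rw [← WithBot.coe_add, WithBot.coe_inj] at h1
      exact_mod_cast h1

section Main

variable (R : Type u) [CommRing R] [IsNoetherianRing R] (n : ℕ) (A : Type u) [CommRing A]
  [Algebra R A] [Algebra (MvPolynomial (Fin n) R) A] [IsScalarTower R (MvPolynomial (Fin n) R) A]

theorem subsingleton_ext_of_fibreDim
    (hψ : Function.Surjective (algebraMap (MvPolynomial (Fin n) R) A))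
    (q : PrimeSpectrum A) (d : ℕ)
    (hd : FlatMor.fibreDimAt (Spec.map (CommRingCat.ofHom (algebraMap R A))) q = d)
    (k : ℕ) (hk : k < n - d) :
    Subsingleton (Ext
      (ModuleCat.of (Localization.AtPrime (q.asIdeal.comap (algebraMap (MvPolynomial (Fin n) R) A)))
        ((Localization.AtPrime (q.asIdeal.comap (algebraMap (MvPolynomial (Fin n) R) A))) ⧸
          RingHom.ker (Localization.localRingHom
            (q.asIdeal.comap (algebraMap (MvPolynomial (Fin n) R) A)) q.asIdeal
            (algebraMap (MvPolynomial (Fin n) R) A) rfl)))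
      (ModuleCat.of (Localization.AtPrime (q.asIdeal.comap (algebraMap (MvPolynomial (Fin n) R) A)))
        (Localization.AtPrime (q.asIdeal.comap (algebraMap (MvPolynomial (Fin n) R) A)))) k) := by
  classical
  set P := MvPolynomial (Fin n) R with hP
  set p : Ideal R := (PrimeSpectrum.comap (algebraMap R A) q).asIdeal with hp
  haveI : p.IsPrime := (PrimeSpectrum.comap (algebraMap R A) q).isPrime
  set Q : Ideal P := q.asIdeal.comap (algebraMap P A) with hQ
  haveI hQprime : Q.IsPrime := Ideal.comap_isPrime _ _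
  haveI hqp : q.asIdeal.LiesOver p := ⟨rfl⟩
  haveI hQp : Q.LiesOver p := ⟨by
    rw [Ideal.under_def, hQ, Ideal.comap_comap, ← IsScalarTower.algebraMap_eq]
    rfl⟩
  set S := Localization.AtPrime Q with hS
  set θ : S →+* Localization.AtPrime q.asIdeal :=
    Localization.localRingHom Q q.asIdeal (algebraMap P A) rfl with hθdef
  have hθ : Function.Surjective θ := RingHom.surjective_localRingHom_of_surjective _ hψ q.asIdeal
  set J : Ideal S := RingHom.ker θ with hJdef
  have hJ : J ≤ maximalIdeal S := IsLocalRing.le_maximalIdeal (RingHom.ker_ne_top θ)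
  haveI hSn : IsNoetherianRing S := IsLocalization.isNoetherianRing Q.primeCompl _ inferInstance
  letI : Algebra (Localization.AtPrime p) S := Localization.AtPrime.algebraOfLiesOver p Q
  haveI hloc : IsLocalHom (algebraMap (Localization.AtPrime p) S) :=
    Localization.isLocalHom_localRingHom _ _ _ _
  haveI : Module.Flat (Localization.AtPrime p) S := inferInstance
  have hmap : p.map (algebraMap R S) =
      (maximalIdeal (Localization.AtPrime p)).map (algebraMap (Localization.AtPrime p) S) := by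
    rw [← Localization.AtPrime.map_eq_maximalIdeal, Ideal.map_map, ← IsScalarTower.algebraMap_eq]
  have key := le_idealDepth_of_CM_fibre (R₀ := Localization.AtPrime p) S J hJ
  rw [← hmap] at key
  -- the fibre is Cohen–Macaulay
  haveI : Algebra.Smooth R P := {}
  haveI : IsRegularRing (p.Fiber P) :=
    Groth.Agent.Helper14.SmoothReg.isRegularRing_of_smooth p.ResidueField _
  have hCMfib : LocCoh.IsCohenMacaulayRing (p.Fiber P) := isCohenMacaulayRing_of_isRegularRing _
  have hhd := (isCohenMacaulayRing_fiber_iff (S := P) p).mp hCMfib Q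
  have hCM : Module.supportDim (FL p Q) (FL p Q) =
      ((LocCoh.depth (FL p Q) (FL p Q) : ℕ∞) : WithBot ℕ∞) := by
    rw [Module.supportDim_self_eq_ringKrullDim, ← hhd,
      IsLocalRing.maximalIdeal_height_eq_ringKrullDim]
  -- the transcendence degree
  haveI : Algebra.FiniteType R A :=
    Algebra.FiniteType.of_surjective (IsScalarTower.toAlgHom R P A) hψ
  haveI : Algebra.FiniteType R (A ⧸ q.asIdeal) :=
    Algebra.FiniteType.of_surjective (IsScalarTower.toAlgHom R A (A ⧸ q.asIdeal))
      Ideal.Quotient.mk_surjective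
  haveI : Algebra.FiniteType (R ⧸ p) (A ⧸ q.asIdeal) :=
    Algebra.FiniteType.of_restrictScalars_finiteType R (R ⧸ p) (A ⧸ q.asIdeal)
  obtain ⟨t, ht'⟩ := Cardinal.lt_aleph0.mp
    (_root_.trdeg_lt_aleph0_of_finiteType (R := R ⧸ p) (S := A ⧸ q.asIdeal))
  -- `P ⧸ Q ≃ A ⧸ q`
  let e0 : (P ⧸ Q) ≃+* (A ⧸ q.asIdeal) :=
    RingEquiv.ofBijective (Ideal.quotientMap q.asIdeal (algebraMap P A) (le_refl _))
      ⟨Ideal.quotientMap_injective, Ideal.quotientMap_surjective hψ⟩
  let e1 : (P ⧸ Q) ≃ₐ[R ⧸ p] (A ⧸ q.asIdeal) := AlgEquiv.ofRingEquiv (f := e0) (by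
    intro x
    obtain ⟨r, rfl⟩ := Ideal.Quotient.mk_surjective x
    show Ideal.quotientMap q.asIdeal (algebraMap P A) (le_refl _)
      (algebraMap (R ⧸ p) (P ⧸ Q) (Ideal.Quotient.mk p r)) = _
    rw [Ideal.Quotient.algebraMap_mk_of_liesOver, Ideal.Quotient.algebraMap_mk_of_liesOver,
      Ideal.quotientMap_mk, ← IsScalarTower.algebraMap_apply])
  have ht : Algebra.trdeg (R ⧸ p) (P ⧸ Q) = t := by rw [e1.trdeg_eq, ht']
  -- dimensions
  have hNt := Groth.Agent.Helper8.SmD.ringKrullDim_FL_add_trdeg R P n p Q t ht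
  obtain ⟨N, hN, hNn⟩ := exists_nat_of_add_eq _ t n hNt
  have hδt : ringKrullDim (FL p q.asIdeal) + (t : WithBot ℕ∞) = (d : WithBot ℕ∞) := by
    obtain ⟨Q', hQ'⟩ := exists_fiber_prime p q.asIdeal
    haveI : Q'.asIdeal.IsPrime := Q'.isPrime
    haveI : Algebra.FiniteType p.ResidueField (p.Fiber A) := inferInstance
    have h2 := Groth.Agent.Helper14.FibreGeneric.trdeg_fiber_quotient R A p Q'.asIdeal q.asIdeal hQ'
    have h3 := Groth.Agent.Helper14.LocalDimSpec.localDim_eq p.ResidueField (p.Fiber A) Q'.asIdeal t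
      (h2.trans ht')
    have h4 := Groth.Agent.Helper16.RingFibDim.localDim_eq_fibreDimAt R A q Q' hQ'
    rw [Groth.Agent.Helper8.SmD.ringKrullDim_FL_eq_height R A p Q'.asIdeal q.asIdeal hQ', ← h3]
    exact h4.trans hd
  obtain ⟨δ, hδ, hδd⟩ := exists_nat_of_add_eq _ t d hδt
  -- `S ⧸ (pS ⊔ J) ≃ A_q ⧸ p A_q`
  have hδ' : ringKrullDim (S ⧸ (p.map (algebraMap R S) ⊔ J)) = δ := by
    let π : Localization.AtPrime q.asIdeal →+* FL p q.asIdeal := Ideal.Quotient.mk _
    have hπθ : Function.Surjective (π.comp θ) := Ideal.Quotient.mk_surjective.comp hθ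
    have hθR : θ.comp (algebraMap R S) = algebraMap R (Localization.AtPrime q.asIdeal) := by
      ext r
      rw [RingHom.comp_apply, IsScalarTower.algebraMap_apply R P S, hθdef,
        Localization.localRingHom_to_map, ← IsScalarTower.algebraMap_apply,
        ← IsScalarTower.algebraMap_apply]
    have hker : RingHom.ker (π.comp θ) = p.map (algebraMap R S) ⊔ J := by
      rw [← RingHom.comap_ker, Ideal.mk_ker, ← hθR, ← Ideal.map_map,
        Ideal.comap_map_of_surjective θ hθ, ← RingHom.ker_eq_comap_bot]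
    rw [← hker, ringKrullDim_eq_of_ringEquiv (RingHom.quotientKerEquivOfSurjective hπθ)]
    exact hδ
  have hfin := key inferInstance hCM N δ hN hδ'
  have hk' : k < N - δ := by omega
  exact (le_idealDepth_iff_ext' J S (N - δ)).mp hfin k hk'

end Main

end Groth.Agent.Helper8.ShD
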