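import Mathlib

/-!
# Transferring localizations along a semilinear bijection (helper8)
-/

set_option autoImplicit false
universe u

namespace Groth.Agent.Helper8.ShE

variable {P A : Type u} [CommRing P] [CommRing A] [Algebra P A]

theorem subsingleton_localizedModule_of_semilinear
    (q : Ideal A) [q.IsPrime]
    {N : Type u} [AddCommGroup N] [Module A N] {X : Type u} [AddCommGroup X] [Module P X]
    (Φ : N ≃+ X) (hΦ : ∀ (p : P) y, Φ (algebraMap P A p • y) = p • Φ y)
    (h : Subsingleton (LocalizedModule (q.comap (algebraMap P A)).primeCompl X)) :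
    Subsingleton (LocalizedModule q.primeCompl N) := by
  rw [LocalizedModule.subsingleton_iff] at h ⊢
  intro y
  obtain ⟨s, hs, hsx⟩ := h (Φ y)
  refine ⟨algebraMap P A s, hs, ?_⟩
  apply Φ.injective
  rw [hΦ, hsx, map_zero]

theorem nonempty_localizedModule_equiv_of_semilinear
    (hψ : Function.Surjective (algebraMap P A)) (q : Ideal A) [q.IsPrime]
    {N : Type u} [AddCommGroup N] [Module A N] {X : Type u} [AddCommGroup X] [Module P X]
    (Φ : N ≃+ X) (hΦ : ∀ (p : P) y, Φ (algebraMap P A p • y) = p • Φ y)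
    (κ : X →ₗ[P] Localization.AtPrime q)
    [hκ : IsLocalizedModule (q.comap (algebraMap P A)).primeCompl κ] :
    Nonempty (LocalizedModule q.primeCompl N ≃ₗ[Localization.AtPrime q] Localization.AtPrime q) := by
  classical
  let κ' : N →ₗ[A] Localization.AtPrime q :=
    { toFun := fun y => κ (Φ y)
      map_add' := fun y y' => by rw [map_add, map_add]
      map_smul' := fun a y => by
        obtain ⟨p, rfl⟩ := hψ a
        rw [hΦ, map_smul, RingHom.id_apply, algebraMap_smul] }
  have hκ' : ∀ y, κ' y = κ (Φ y) := fun _ => rfl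
  haveI : IsLocalizedModule q.primeCompl κ' := by
    refine ⟨fun s => ?_, fun z => ?_, fun {y₁ y₂} h => ?_⟩
    · exact IsLocalizedModule.map_units (Algebra.linearMap A (Localization.AtPrime q)) s
    · obtain ⟨⟨x, s⟩, hx⟩ := IsLocalizedModule.surj (q.comap (algebraMap P A)).primeCompl κ z
      refine ⟨⟨Φ.symm x, ⟨algebraMap P A s.1, s.2⟩⟩, ?_⟩
      show (algebraMap P A s.1) • z = κ' (Φ.symm x)
      rw [hκ', AddEquiv.apply_symm_apply, algebraMap_smul]
      exact hx
    · rw [hκ', hκ'] at h
      obtain ⟨c, hc⟩ := IsLocalizedModule.exists_of_eq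
        (S := (q.comap (algebraMap P A)).primeCompl) (f := κ) h
      refine ⟨⟨algebraMap P A c.1, c.2⟩, ?_⟩
      show (algebraMap P A c.1) • y₁ = (algebraMap P A c.1) • y₂
      apply Φ.injective
      rw [hΦ, hΦ]
      exact hc
  exact ⟨(IsLocalizedModule.iso q.primeCompl κ').extendScalarsOfIsLocalization q.primeCompl
    (Localization.AtPrime q)⟩

end Groth.Agent.Helper8.ShE
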