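import Groth.Agent.Lib.Helper9.ExtReg2
import Groth.Agent.Lib.Helper8.ExtLoc1

/-!
# `Ext^j(T/(rs), T)` for a regular sequence, and its flat base change form (helper8)
-/

set_option autoImplicit false
universe u

namespace Groth.Agent.Helper8.ShE

open CategoryTheory Abelian RingTheory.Sequence TensorProduct

section Reg

variable {T : Type u} [CommRing T]

theorem ext_quotient_regular_self (rs : List T) (hreg : IsWeaklyRegular T rs) :
    (∀ j : ℕ, j ≠ rs.length →
      Subsingleton (Ext (ModuleCat.of T (T ⧸ Ideal.ofList rs)) (ModuleCat.of T T) j)) ∧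
    Nonempty (Ext (ModuleCat.of T (T ⧸ Ideal.ofList rs)) (ModuleCat.of T T) rs.length ≃ₗ[T]
      T ⧸ Ideal.ofList rs) := by
  have htop : (Ideal.ofList rs • ⊤ : Submodule T T) = Ideal.ofList rs := by
    rw [smul_eq_mul, Ideal.mul_top]
  let eA : ModuleCat.of T (T ⧸ Ideal.ofList rs) ≅
      ModuleCat.of T (T ⧸ (Ideal.ofList rs • ⊤ : Submodule T T)) :=
    (Submodule.quotEquivOfEq _ _ htop.symm).toModuleIso
  refine ⟨fun j hj => ?_, ?_⟩
  · rcases lt_or_gt_of_ne hj with hlt | hgt
    · have hK : ∀ x ∈ rs, x • (𝟙 (ModuleCat.of T (T ⧸ Ideal.ofList rs))) = 0 := by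
        intro x hx
        apply ModuleCat.hom_ext
        apply LinearMap.ext
        intro y
        obtain ⟨a, rfl⟩ := Ideal.Quotient.mk_surjective y
        show x • (Ideal.Quotient.mk (Ideal.ofList rs) a) = 0
        rw [Algebra.smul_def, Ideal.Quotient.algebraMap_eq, ← map_mul,
          Ideal.Quotient.eq_zero_iff_mem]
        exact Ideal.mul_mem_right _ _ (Ideal.subset_span hx)
      exact (Groth.Agent.Helper9.ExtReg2.main (ModuleCat.of T (T ⧸ Ideal.ofList rs)) rs hK T
        hreg).1 j hlt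
    · haveI : Projective (ModuleCat.of T T) := (IsProjective.iff_projective T).1 inferInstance
      have hvan : ∀ i, 0 < i → Subsingleton (Ext (ModuleCat.of T T) (ModuleCat.of T T) i) := by
        intro i hi
        obtain ⟨j, rfl⟩ : ∃ j, i = j + 1 := ⟨i - 1, by omega⟩
        exact subsingleton_of_forall_eq 0 (fun e => Ext.eq_zero_of_projective e)
      have h1 := (Groth.Agent.Helper9.ExtReg.main (ModuleCat.of T T) rs T hreg 0 hvan).1 j
        (by omega)
      exact (Groth.Agent.Helper9.ExtReg.extCongrLeft eA (ModuleCat.of T T) j).toEquiv.subsingleton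
  · obtain ⟨f⟩ := Groth.Agent.Helper9.ExtReg.ext_quotient_regular rs hreg T
    exact ⟨f ≪≫ₗ Submodule.quotEquivOfEq _ _ htop⟩

end Reg

section BC

variable (P : Type u) [CommRing P] [IsNoetherianRing P] (T : Type u) [CommRing T] [Algebra P T]
  [Module.Flat P T]

theorem baseChange_ext_quotient_regular (I : Ideal P) (rs : List T)
    (hreg : IsWeaklyRegular T rs) (hrs : Ideal.ofList rs = I.map (algebraMap P T)) :
    (∀ j : ℕ, j ≠ rs.length →
      Subsingleton (T ⊗[P] Ext (ModuleCat.of P (P ⧸ I)) (ModuleCat.of P P) j)) ∧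
    Nonempty ((T ⊗[P] Ext (ModuleCat.of P (P ⧸ I)) (ModuleCat.of P P) rs.length) ≃ₗ[T]
      T ⧸ I.map (algebraMap P T)) := by
  have key : ∀ c : ℕ, Nonempty ((T ⊗[P] Ext (ModuleCat.of P (P ⧸ I)) (ModuleCat.of P P) c) ≃ₗ[T]
      Ext (ModuleCat.of T (T ⧸ Ideal.ofList rs)) (ModuleCat.of T T) c) := by
    intro c
    rw [hrs]
    exact Groth.Agent.Helper8.ExtLoc.nonempty_baseChange_ext_quotient_equiv P T I c
  obtain ⟨h1, ⟨h2⟩⟩ := ext_quotient_regular_self rs hreg
  refine ⟨fun j hj => ?_, ?_⟩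
  · obtain ⟨e⟩ := key j
    haveI := h1 j hj
    exact e.toEquiv.subsingleton
  · obtain ⟨e⟩ := key rs.length
    rw [← hrs]
    exact ⟨e ≪≫ₗ h2⟩

end BC

end Groth.Agent.Helper8.ShE
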