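import Groth.Agent.Lib.Helper8.ShE2
import Groth.Agent.Lib.Helper8.ShE3
import Groth.Agent.Lib.Helper8.ShE4

/-!
# Local structure of `H^j(Rψ P)` at a prime where the kernel is generated by a regular
sequence (helper8)
-/

set_option autoImplicit false
universe u

namespace Groth.Agent.Helper8.ShE

open CategoryTheory Abelian DerivedCategory Pretriangulated Limits Groth.Agent.Helper8.RFin
  RingTheory.Sequence TensorProduct

attribute [local instance] HasDerivedCategory.standard

variable {P A : Type u} [CommRing P] [CommRing A] [Algebra P A] [IsNoetherianRing P]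

/-- the kernel of the local homomorphism -/
theorem ker_localRingHom (hψ : Function.Surjective (algebraMap P A)) (q : Ideal A) [q.IsPrime] :
    RingHom.ker (Localization.localRingHom (q.comap (algebraMap P A)) q (algebraMap P A) rfl) =
      (RingHom.ker (algebraMap P A)).map
        (algebraMap P (Localization.AtPrime (q.comap (algebraMap P A)))) := by
  have hT : Submonoid.map (algebraMap P A) (q.comap (algebraMap P A)).primeCompl = q.primeCompl :=
    Submonoid.map_comap_eq_of_surjective hψ q.primeCompl
  exact IsLocalization.ker_map (Localization.AtPrime q) (algebraMap P A) hT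

/-- `T / I T ≃ A_q`, `P`-linearly -/
theorem nonempty_quotient_map_equiv (hψ : Function.Surjective (algebraMap P A)) (q : Ideal A)
    [q.IsPrime] :
    Nonempty ((Localization.AtPrime (q.comap (algebraMap P A)) ⧸
      (RingHom.ker (algebraMap P A)).map
        (algebraMap P (Localization.AtPrime (q.comap (algebraMap P A))))) ≃ₗ[P]
      Localization.AtPrime q) := by
  classical
  set Q : Ideal P := q.comap (algebraMap P A) with hQ
  set S := Localization.AtPrime Q with hS
  set θ : S →+* Localization.AtPrime q :=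
    Localization.localRingHom Q q (algebraMap P A) rfl with hθdef
  have hθ : Function.Surjective θ := RingHom.surjective_localRingHom_of_surjective _ hψ q
  letI : Algebra S (Localization.AtPrime q) := θ.toAlgebra
  haveI : IsScalarTower P S (Localization.AtPrime q) := by
    refine IsScalarTower.of_algebraMap_eq (fun x => ?_)
    show algebraMap P (Localization.AtPrime q) x = θ (algebraMap P S x)
    rw [hθdef, Localization.localRingHom_to_map, ← IsScalarTower.algebraMap_apply]
  have hker : RingHom.ker θ = (RingHom.ker (algebraMap P A)).map (algebraMap P S) :=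
    ker_localRingHom hψ q
  let e1 : (S ⧸ RingHom.ker θ) ≃ₗ[S] Localization.AtPrime q :=
    (Ideal.quotientKerAlgEquivOfSurjective (f := Algebra.ofId S (Localization.AtPrime q))
      hθ).toLinearEquiv
  let e2 : (S ⧸ (RingHom.ker (algebraMap P A)).map (algebraMap P S)) ≃ₗ[S] (S ⧸ RingHom.ker θ) :=
    Submodule.quotEquivOfEq _ _ hker.symm
  exact ⟨(e2 ≪≫ₗ e1).restrictScalars P⟩

theorem local_structure (hψ : Function.Surjective (algebraMap P A))
    (Rψ : Dual.D P ⥤ Dual.D A) (adj : DRing.restrictD (algebraMap P A) ⊣ Rψ)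
    (W : Dual.D P) (ι : W ≅ Dual.inD P P) (q : Ideal A) [q.IsPrime]
    (rs : List (Localization.AtPrime (q.comap (algebraMap P A))))
    (hreg : IsWeaklyRegular (Localization.AtPrime (q.comap (algebraMap P A))) rs)
    (hrs : Ideal.ofList rs = (RingHom.ker (algebraMap P A)).map
      (algebraMap P (Localization.AtPrime (q.comap (algebraMap P A))))) :
    (∀ j : ℤ, j ≠ (rs.length : ℤ) → Subsingleton (LocalizedModule q.primeCompl
      ((homologyFunctor (ModuleCat.{u} A) j).obj (Rψ.obj W)))) ∧
    Nonempty (LocalizedModule q.primeCompl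
      ((homologyFunctor (ModuleCat.{u} A) (rs.length : ℤ)).obj (Rψ.obj W))
        ≃ₗ[Localization.AtPrime q] Localization.AtPrime q) := by
  classical
  obtain ⟨hvan, ⟨hiso⟩⟩ := baseChange_ext_quotient_regular P
    (Localization.AtPrime (q.comap (algebraMap P A))) (RingHom.ker (algebraMap P A)) rs hreg hrs
  let eA : ModuleCat.of P A ≅ ModuleCat.of P (P ⧸ RingHom.ker (algebraMap P A)) :=
    (Ideal.quotientKerAlgEquivOfSurjective (f := Algebra.ofId P A) hψ).toLinearEquiv.symm.toModuleIso
  have hΦ : ∀ k : ℕ, ∃ Φ : (homologyFunctor (ModuleCat.{u} A) (k : ℤ)).obj (Rψ.obj W) ≃+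
      Ext (ModuleCat.of P (P ⧸ RingHom.ker (algebraMap P A))) (ModuleCat.of P P) k,
      ∀ (p : P) y, Φ ((algebraMap P A p) • y) = p • Φ y := by
    intro k
    obtain ⟨Φ, hΦ⟩ := exists_semilinear_equiv_ext Rψ adj W ι k
    refine ⟨Φ.trans (Groth.Agent.Helper9.ExtReg.extCongrLeft eA (ModuleCat.of P P) k).toAddEquiv,
      fun p y => ?_⟩
    show (Groth.Agent.Helper9.ExtReg.extCongrLeft eA (ModuleCat.of P P) k) (Φ (algebraMap P A p • y)) =
      p • (Groth.Agent.Helper9.ExtReg.extCongrLeft eA (ModuleCat.of P P) k) (Φ y)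
    rw [hΦ, map_smul]
  refine ⟨fun j hj => ?_, ?_⟩
  · rcases lt_or_ge j 0 with hneg | hpos
    · obtain ⟨Λ, -⟩ := exists_semilinear_equiv_HD Rψ adj W j
      let εF : (DRing.restrictD (algebraMap P A)).obj
          ((singleFunctor (ModuleCat.{u} A) 0).obj (ModuleCat.of A A)) ≅ Dual.inD P A :=
        ((ModuleCat.restrictScalars.{u} (algebraMap P A)).mapDerivedCategorySingleFunctor 0).app
          (ModuleCat.of A A) ≪≫ (singleFunctor (ModuleCat.{u} P) 0).mapIso
            Groth.Agent.Helper8.ShD.restrictSelfIso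
      let ιj : W⟦j⟧ ≅ (Dual.inD P P)⟦j⟧ := (shiftFunctor _ j).mapIso ι
      haveI h0 : Subsingleton (Dual.inD P A ⟶ (Dual.inD P P)⟦j⟧) :=
        Groth.Agent.Helper8.DualMod.subsingleton_hom_inD_shift_of_neg P _ _ j hneg
      haveI h1 : Subsingleton ((DRing.restrictD (algebraMap P A)).obj
          ((singleFunctor (ModuleCat.{u} A) 0).obj (ModuleCat.of A A)) ⟶ W⟦j⟧) :=
        (Iso.homCongr εF ιj).subsingleton
      haveI h2 : Subsingleton ((homologyFunctor (ModuleCat.{u} A) j).obj (Rψ.obj W)) :=
        Λ.symm.toEquiv.subsingleton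
      infer_instance
    · obtain ⟨k, rfl⟩ := Int.eq_ofNat_of_zero_le hpos
      have hk : k ≠ rs.length := fun h => hj (by rw [h])
      obtain ⟨Φ, hΦ'⟩ := hΦ k
      haveI := hvan k hk
      have h3 : Subsingleton (LocalizedModule (q.comap (algebraMap P A)).primeCompl
          (Ext (ModuleCat.of P (P ⧸ RingHom.ker (algebraMap P A))) (ModuleCat.of P P) k)) :=
        (IsLocalizedModule.isBaseChange (q.comap (algebraMap P A)).primeCompl
          (Localization.AtPrime (q.comap (algebraMap P A)))
          (LocalizedModule.mkLinearMap (q.comap (algebraMap P A)).primeCompl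
            (Ext (ModuleCat.of P (P ⧸ RingHom.ker (algebraMap P A))) (ModuleCat.of P P)
              k))).equiv.symm.toEquiv.subsingleton
      exact subsingleton_localizedModule_of_semilinear q Φ hΦ' h3
  · obtain ⟨Φ, hΦ'⟩ := hΦ rs.length
    obtain ⟨e3⟩ := nonempty_quotient_map_equiv hψ q
    let κ₀ : Ext (ModuleCat.of P (P ⧸ RingHom.ker (algebraMap P A))) (ModuleCat.of P P) rs.length
        →ₗ[P] (Localization.AtPrime (q.comap (algebraMap P A))) ⊗[P]
          Ext (ModuleCat.of P (P ⧸ RingHom.ker (algebraMap P A))) (ModuleCat.of P P) rs.length :=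
      TensorProduct.mk P (Localization.AtPrime (q.comap (algebraMap P A))) _ 1
    haveI h0 : IsLocalizedModule (q.comap (algebraMap P A)).primeCompl κ₀ :=
      (isLocalizedModule_iff_isBaseChange (q.comap (algebraMap P A)).primeCompl
        (Localization.AtPrime (q.comap (algebraMap P A))) κ₀).mpr
        (TensorProduct.isBaseChange P _ (Localization.AtPrime (q.comap (algebraMap P A))))
    let e : ((Localization.AtPrime (q.comap (algebraMap P A))) ⊗[P]
          Ext (ModuleCat.of P (P ⧸ RingHom.ker (algebraMap P A))) (ModuleCat.of P P) rs.length)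
        ≃ₗ[P] Localization.AtPrime q := (hiso.restrictScalars P) ≪≫ₗ e3
    haveI h1 : IsLocalizedModule (q.comap (algebraMap P A)).primeCompl (e.toLinearMap ∘ₗ κ₀) :=
      IsLocalizedModule.of_linearEquiv (q.comap (algebraMap P A)).primeCompl κ₀ e
    exact nonempty_localizedModule_equiv_of_semilinear hψ q Φ hΦ' (e.toLinearMap ∘ₗ κ₀)

end Groth.Agent.Helper8.ShE
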