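import Mathlib
import Groth.Agent.Lib.Helper2.SyntLCI5

/-!
# Koszul-regular ideals of Noetherian rings: regular sequences of constant length near a prime
(helper8; uniform version of helper2's `exists_regular_of_kr`)
-/

set_option autoImplicit false
universe u

namespace Groth.Agent.Helper8.ShE

variable {D : Type u} [CommRing D] [IsNoetherianRing D]

theorem exists_uniform_regular_of_kr (K : Ideal D) (hK : LCI.IsKoszulRegularIdeal K)
    (𝔮₀ : Ideal D) [h𝔮₀ : 𝔮₀.IsPrime] (hle₀ : K ≤ 𝔮₀) :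
    ∃ g₀ : D, g₀ ∉ 𝔮₀ ∧ ∃ r : ℕ, ∀ (𝔮 : Ideal D) [𝔮.IsPrime], g₀ ∉ 𝔮 → K ≤ 𝔮 →
      ∃ rs : List (Localization.AtPrime 𝔮),
        RingTheory.Sequence.IsRegular (Localization.AtPrime 𝔮) rs ∧ rs.length = r ∧
        Ideal.ofList rs = K.map (algebraMap D (Localization.AtPrime 𝔮)) := by
  obtain ⟨g₀, hg₀', l, hl, hIl⟩ := hK ⟨𝔮₀, h𝔮₀⟩ hle₀
  refine ⟨g₀, hg₀', l.length, ?_⟩
  intro 𝔮 h𝔮 hg₀ hle
  have hu : IsUnit (algebraMap D (Localization.AtPrime 𝔮) g₀) :=
    IsLocalization.map_units (Localization.AtPrime 𝔮) (⟨g₀, hg₀⟩ : 𝔮.primeCompl)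
  letI alg : Algebra (Localization.Away g₀) (Localization.AtPrime 𝔮) :=
    (IsLocalization.Away.lift g₀ hu).toAlgebra
  haveI tower : IsScalarTower D (Localization.Away g₀) (Localization.AtPrime 𝔮) :=
    IsScalarTower.of_algebraMap_eq (fun a => (IsLocalization.Away.lift_eq g₀ hu a).symm)
  have hpow : Submonoid.powers g₀ ≤ 𝔮.primeCompl := by
    rintro _ ⟨m, rfl⟩
    exact fun h => hg₀ (h𝔮.mem_of_pow_mem m h)
  haveI hloc : IsLocalization (𝔮.primeCompl.map (algebraMap D (Localization.Away g₀)))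
      (Localization.AtPrime 𝔮) :=
    IsLocalization.isLocalization_of_submonoid_le (Localization.Away g₀) (Localization.AtPrime 𝔮)
      (Submonoid.powers g₀) 𝔮.primeCompl hpow
  haveI hflat : Module.Flat (Localization.Away g₀) (Localization.AtPrime 𝔮) :=
    IsLocalization.flat _ (𝔮.primeCompl.map (algebraMap D (Localization.Away g₀)))
  have hKR := Groth.Agent.Helper2.KosReg.isKoszulRegularSeq_baseChange
    (Localization.AtPrime 𝔮) l hl
  have hofl : Ideal.ofList (l.map (algebraMap (Localization.Away g₀) (Localization.AtPrime 𝔮))) =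
      K.map (algebraMap D (Localization.AtPrime 𝔮)) := by
    rw [← Ideal.map_ofList]
    have h1 : Ideal.ofList l = K.map (algebraMap D (Localization.Away g₀)) := hIl.symm
    rw [h1, Ideal.map_map, ← IsScalarTower.algebraMap_eq]
  have hmem : ∀ r ∈ l.map (algebraMap (Localization.Away g₀) (Localization.AtPrime 𝔮)),
      r ∈ IsLocalRing.maximalIdeal (Localization.AtPrime 𝔮) := by
    intro r hr
    have h1 : r ∈ Ideal.ofList (l.map (algebraMap (Localization.Away g₀)
        (Localization.AtPrime 𝔮))) := Ideal.subset_span hr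
    rw [hofl] at h1
    rw [← Localization.AtPrime.map_eq_maximalIdeal]
    exact Ideal.map_mono hle h1
  have hwr := Groth.Agent.Helper2.SyntLCI.isWeaklyRegular_of_kr_local _ hmem hKR
  exact ⟨_, RingTheory.Sequence.IsRegular.of_isWeaklyRegular_of_mem_maximalIdeal _ hmem hwr,
    List.length_map _, hofl⟩

end Groth.Agent.Helper8.ShE
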