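import Groth.Agent.Lib.Helper8.ShE5
import Groth.Agent.Lib.Helper8.ShE6
import Groth.Agent.Lib.Helper8.ShE7

/-!
# `RHom_P(A, P)` near a prime, for `P → A` onto with Koszul-regular kernel (helper8)
-/

set_option autoImplicit false
universe u

namespace Groth.Agent.Helper8.ShE

open CategoryTheory Abelian DerivedCategory Pretriangulated Limits Groth.Agent.Helper8.RFin
  RingTheory.Sequence TensorProduct

attribute [local instance] HasDerivedCategory.standard

variable {P A : Type u} [CommRing P] [CommRing A] [Algebra P A] [IsNoetherianRing P]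
  [IsNoetherianRing A]

theorem exists_away_structure (hψ : Function.Surjective (algebraMap P A))
    (hK : LCI.IsKoszulRegularIdeal (RingHom.ker (algebraMap P A)))
    (Rψ : Dual.D P ⥤ Dual.D A) (adj : DRing.restrictD (algebraMap P A) ⊣ Rψ)
    (W : Dual.D P) (ι : W ≅ Dual.inD P P) (q : Ideal A) [q.IsPrime] :
    ∃ f : A, f ∉ q ∧ ∃ r : ℕ,
      (∀ j : ℤ, j ≠ (r : ℤ) → Subsingleton (LocalizedModule (Submonoid.powers f)
        ((homologyFunctor (ModuleCat.{u} A) j).obj (Rψ.obj W)))) ∧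
      Nonempty (LocalizedModule (Submonoid.powers f)
        ((homologyFunctor (ModuleCat.{u} A) (r : ℤ)).obj (Rψ.obj W))
          ≃ₗ[Localization.Away f] Localization.Away f) := by
  classical
  have hle : ∀ 𝔮 : Ideal A, RingHom.ker (algebraMap P A) ≤ 𝔮.comap (algebraMap P A) :=
    fun 𝔮 => Ideal.comap_mono bot_le
  obtain ⟨g₀, hg₀, r, hunif⟩ := exists_uniform_regular_of_kr (RingHom.ker (algebraMap P A)) hK
    (q.comap (algebraMap P A)) (hle q)
  have hloc : ∀ (𝔮 : Ideal A) [𝔮.IsPrime], algebraMap P A g₀ ∉ 𝔮 →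
      (∀ j : ℤ, j ≠ (r : ℤ) → Subsingleton (LocalizedModule 𝔮.primeCompl
        ((homologyFunctor (ModuleCat.{u} A) j).obj (Rψ.obj W)))) ∧
      Nonempty (LocalizedModule 𝔮.primeCompl
        ((homologyFunctor (ModuleCat.{u} A) (r : ℤ)).obj (Rψ.obj W))
          ≃ₗ[Localization.AtPrime 𝔮] Localization.AtPrime 𝔮) := by
    intro 𝔮 _ hg
    obtain ⟨rs, hreg, hlen, hofl⟩ := hunif (𝔮.comap (algebraMap P A)) hg (hle 𝔮)
    subst hlen
    exact local_structure hψ Rψ adj W ι 𝔮 rs hreg.toIsWeaklyRegular hofl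
  haveI : Module.Finite P A := Module.Finite.of_surjective (Algebra.linearMap P A) hψ
  have hfin : ∀ j : ℤ, Module.Finite A
      ((homologyFunctor (ModuleCat.{u} A) j).obj (Rψ.obj W)) := by
    intro j
    refine finite_HD_rightAdjoint Rψ adj W 0 (fun i hi => ?_) (fun i => ?_) j
    · exact (isZero_of_isGE (Dual.inD P P) 0 i hi).of_iso
        ((homologyFunctor (ModuleCat.{u} P) i).mapIso ι)
    · haveI := Groth.Agent.Helper8.DualMod.finite_HD_inD P P i
      exact Module.Finite.equiv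
        ((homologyFunctor (ModuleCat.{u} P) i).mapIso ι).symm.toLinearEquiv
  have hgq : algebraMap P A g₀ ∉ q := hg₀
  obtain ⟨e⟩ := (hloc q hgq).2
  haveI := hfin (r : ℤ)
  obtain ⟨r₁, hr₁, H⟩ := exists_away_equiv
    ((homologyFunctor (ModuleCat.{u} A) (r : ℤ)).obj (Rψ.obj W)) q e
  refine ⟨r₁ * algebraMap P A g₀, fun h => ?_, r, fun j hj => ?_, H _ (dvd_mul_right _ _)⟩
  · rcases (inferInstance : q.IsPrime).mem_or_mem h with h1 | h1
    · exact hr₁ h1
    · exact hgq h1
  · exact subsingleton_away_of_forall_prime _ (algebraMap P A g₀) _ (dvd_mul_left _ _)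
      (fun 𝔮 _ hg => (hloc 𝔮 hg).1 j hj)

end Groth.Agent.Helper8.ShE
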