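import Groth.Agent.Lib.Helper8.BiDual4
import Mathlib.CategoryTheory.Abelian.Projective.Dimension
import Mathlib.LinearAlgebra.Dual.Lemmas

/-!
# Biduality for finite modules of finite projective dimension (helper8)

`P J M` (the biduality property of `BiDual3`) for `J` a termwise injective complex whose image in
the derived category behaves like the ring itself.
-/

set_option autoImplicit false

open CategoryTheory CategoryTheory.Limits MonoidalCategory Pretriangulated

universe u

namespace Groth.Agent.Helper8.ShG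

open DerivedCategory Groth.Agent.Helper8.BiDual

attribute [local instance] HasDerivedCategory.standard

variable {A : Type u} [CommRing A] (J : DRing.Cx A)

/-- the biduality property passes to retracts -/
theorem P_retract {M F : ModuleCat.{u} A} (i : M ⟶ F) (r : F ⟶ M) (hir : i ≫ r = 𝟙 M)
    (hF : P J F) : P J M := by
  have hZ : Zmap J r ≫ Zmap J i = 𝟙 (Z J M) := by
    rw [← Zmap_comp, hir, Zmap_id]
  have h2 : ∀ z : M, r.hom (i.hom z) = z := by
    intro z
    have := congrArg (fun g : M ⟶ M => g.hom z) hir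
    simpa using this
  refine ⟨fun k hk f => ?_, ⟨fun x y hxy => ?_, fun t => ?_⟩⟩
  · have h1 : Zmap J i ≫ f = 0 := hF.1 k hk _
    calc f = (Zmap J r ≫ Zmap J i) ≫ f := by rw [hZ, Category.id_comp]
      _ = Zmap J r ≫ (Zmap J i ≫ f) := Category.assoc _ _ _
      _ = 0 := by rw [h1, comp_zero]
  · have hxy' : evD J x = evD J y := hxy
    have h3 : evD J (i.hom x) = evD J (i.hom y) := by
      rw [evD_nat, evD_nat, hxy']
    have h4 : i.hom x = i.hom y := hF.2.1 h3
    calc x = r.hom (i.hom x) := (h2 x).symm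
      _ = r.hom (i.hom y) := by rw [h4]
      _ = y := h2 y
  · obtain ⟨y, hy⟩ := hF.2.2 (Zmap J i ≫ t)
    have hy' : evD J y = Zmap J i ≫ t := hy
    refine ⟨r.hom y, ?_⟩
    show evD J (r.hom y) = t
    rw [evD_nat, hy', ← Category.assoc, hZ, Category.id_comp]

/-- the biduality property passes to cokernels of monomorphisms -/
theorem P_coker (S : ShortComplex (ModuleCat.{u} A)) (hS : S.ShortExact)
    (hJ : ∀ n : ℤ, Injective (J.X n)) (h1 : P J S.X₁) (h2 : P J S.X₂) : P J S.X₃ := by
  obtain ⟨δ, hT⟩ := Z_triangle J S hS hJ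
  have hfinj : Function.Injective S.f.hom := hS.moduleCat_injective_f
  have hgsurj : Function.Surjective S.g.hom := hS.moduleCat_surjective_g
  have hex : Function.Exact S.f.hom S.g.hom :=
    (ShortComplex.ShortExact.moduleCat_exact_iff_function_exact S).mp hS.exact
  -- injectivity of `Hom(Z X₁, QJ) → Hom(Z X₂, QJ)`
  have hinj0 : ∀ t' : Z J S.X₁ ⟶ Q.obj J, Zmap J S.f ≫ t' = 0 → t' = 0 := by
    intro t' ht'
    obtain ⟨x', hx'⟩ := h1.2.2 t'
    have hx'' : evD J x' = t' := hx'
    have e2 : evD J (S.f.hom x') = 0 := by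
      rw [evD_nat, hx'', ht']
    have e3 : S.f.hom x' = 0 := h2.2.1 (e2.trans (evD_zero J).symm)
    have e4 : x' = 0 := hfinj (e3.trans (map_zero _).symm)
    rw [← hx'', e4]
    exact evD_zero J
  have hsurj : Function.Surjective (fun x : S.X₃ => evD J x) := by
    intro t
    have hV1 : V J 1 S.X₁ := h1.1 1 one_ne_zero
    obtain ⟨t₂, ht₂⟩ := surj_left _ _ _ hT (Iso.refl _) (fun t' _ => hV1 t') t
    obtain ⟨y, hy⟩ := h2.2.2 t₂
    have hy' : evD J y = t₂ := hy
    refine ⟨S.g.hom y, ?_⟩
    show evD J (S.g.hom y) = t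
    rw [evD_nat, hy', ← ht₂]
  have hzero : ∀ x : S.X₃, evD J x = 0 → x = 0 := by
    intro x hx
    obtain ⟨y, rfl⟩ := hgsurj x
    have e1 : Zmap J S.g ≫ evD J y = 0 := by
      rw [← evD_nat]
      exact hx
    obtain ⟨t', ht'⟩ := exact_mid _ _ _ hT _ e1
    obtain ⟨x', hx'⟩ := h1.2.2 t'
    have hx'' : evD J x' = t' := hx'
    have e2 : evD J y = evD J (S.f.hom x') := by
      rw [ht', ← hx'', evD_nat]
    have e3 : y = S.f.hom x' := h2.2.1 e2
    rw [e3]
    exact hex.apply_apply_eq_zero x'
  refine ⟨fun k hk s => ?_, ⟨fun x y hxy => ?_, hsurj⟩⟩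
  · by_cases hk1 : k = -1
    · subst hk1
      obtain ⟨t, ht⟩ := surj_left _ _ _ hT
        ((shiftFunctorCompIsoId (Dual.D A) (-1 : ℤ) 1 (by omega)).app (Q.obj J)) hinj0 s
      rw [ht, h2.1 (-1) (by omega) t, comp_zero]
    · have hV : V J (k + 1) S.X₁ := h1.1 (k + 1) (by omega)
      obtain ⟨t, ht⟩ := surj_left _ _ _ hT
        ((shiftFunctorAdd' (Dual.D A) k 1 (k + 1) rfl).app (Q.obj J)).symm (fun t' _ => hV t') s
      rw [ht, h2.1 k hk t, comp_zero]
  · have hxy' : evD J x = evD J y := hxy
    have h0 : evD J (x - y) = 0 := by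
      rw [sub_eq_add_neg, evD_add, ← neg_one_smul A y, evD_smul, hxy']
      simp
    exact sub_eq_zero.mp (hzero _ h0)

section Pd

variable [IsNoetherianRing A] (hJ : ∀ n : ℤ, Injective (J.X n))
  (hend : Function.Bijective (fun a : A => a • 𝟙 (Q.obj J)))
  (hext : ∀ i : ℤ, i ≠ 0 → ∀ f : Q.obj J ⟶ (Q.obj J)⟦i⟧, f = 0)

include hJ hend hext

omit [IsNoetherianRing A] in
theorem P_of_finite_projective (M : Type u) [AddCommGroup M] [Module A M] [Module.Finite A M]
    [Module.Projective A M] : P J (ModuleCat.of A M) := by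
  obtain ⟨n, f, g, -, -, hfg⟩ := Module.Finite.exists_comp_eq_id_of_projective A M
  refine P_retract J (ModuleCat.ofHom g) (ModuleCat.ofHom f) ?_
    (P_free J hJ (P_unit J hend hext) n)
  rw [← ModuleCat.ofHom_comp, hfg]
  rfl

theorem P_of_pdLT : ∀ (d : ℕ) (M : Type u) [AddCommGroup M] [Module A M] [Module.Finite A M],
    HasProjectiveDimensionLT (ModuleCat.of A M) (d + 1) → P J (ModuleCat.of A M) := by
  intro d
  induction d with
  | zero =>
    intro M _ _ _ h
    haveI : Projective (ModuleCat.of A M) :=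
      projective_iff_hasProjectiveDimensionLT_one.mpr h
    haveI : Module.Projective A M :=
      (IsProjective.iff_projective (R := A) M).mpr inferInstance
    exact P_of_finite_projective J hJ hend hext M
  | succ d ih =>
    intro M _ _ _ h
    obtain ⟨n, π, hπ⟩ := Module.Finite.exists_fin' A M
    have hS := LinearMap.shortExact_shortComplexKer hπ
    haveI : Projective (π.shortComplexKer).X₂ := by
      have : Module.Projective A (Fin n → A) := inferInstance
      exact (IsProjective.iff_projective (R := A) (Fin n → A)).mp this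
    have hK : HasProjectiveDimensionLT (π.shortComplexKer).X₁ (d + 1) :=
      (hS.hasProjectiveDimensionLT_X₃_iff d inferInstance).mp h
    have hPK : P J (ModuleCat.of A (LinearMap.ker π)) := ih (LinearMap.ker π) hK
    exact P_coker J π.shortComplexKer hS hJ hPK (P_free J hJ (P_unit J hend hext) n)

end Pd

end Groth.Agent.Helper8.ShG
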