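import Groth.Agent.Lib.Helper3.TM4

/-!
# `RHom(A, W) ≅ (W ⊗_R A) ⊗_A N` for `A` perfect over `R` and any complex `N` representing
`RHom(A, R)` (helper8; object-level variant of helper3's `TM.nonempty_RHomRel_iso` for an arbitrary
right adjoint of restriction and an arbitrary representative)
-/

set_option autoImplicit false

open CategoryTheory CategoryTheory.Limits MonoidalCategory

universe u

attribute [local instance] HasDerivedCategory.standard

namespace Groth.Agent.Helper8.ShH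

open Groth.Agent.Helper11.LDer Groth.Agent.Helper11.DC Groth.Agent.Helper11.Tel
open Groth.Agent.Helper3.HT Groth.Agent.Helper3.DT Groth.Agent.Helper3.RH Groth.Agent.Helper3.TH
open Groth.Agent.Helper3.BC Groth.Agent.Helper3.TB Groth.Agent.Helper3.KP
open Groth.Agent.Helper3.KF Groth.Agent.Helper3.TC Groth.Agent.Helper3.TM

variable {R A : Type u} [CommRing R] [CommRing A] (φ : R →+* A)

theorem nonempty_tensor_iso_rightAdj {Rφ : Dual.D R ⥤ Dual.D A} (adj : DRing.restrictD φ ⊣ Rφ)
    (hA : DRing.IsPerfect R ((DRing.restrictD φ).obj (DTen.unit A)))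
    (N : DRing.Cx A) (eN : (DerivedCategory.Q.obj N : Dual.D A) ≅ Rφ.obj (DTen.unit R))
    (W : DRing.Cx R) [W.IsKProjective] :
    Nonempty ((DerivedCategory.Q.obj ((DTen.extCx φ).obj W ⊗ N) : Dual.D A) ≅
      Rφ.obj (DerivedCategory.Q.obj W)) := by
  haveI : DRing.HasLBaseChange φ := Groth.Agent.Helper3.KP.hasLeftDerivedFunctor _
  haveI : DTen.HasLBase φ := ⟨(adjD φ).isRightAdjoint⟩
  obtain ⟨E, a, b, hE, hfp, ⟨eE⟩⟩ := hA
  haveI := isKProjective_of_bounded E a b hE hfp
  let i : (DerivedCategory.Q.obj E : Dual.D R) ≅ DerivedCategory.Q.obj (SB φ) :=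
    eE ≪≫ (DTen.resFactors φ).app (𝟙_ (DRing.Cx A)) ≪≫ DerivedCategory.Q.mapIso (resUnitIso φ)
  obtain ⟨p, hp⟩ := exists_lift_of_isKProjective E (SB φ) i.hom
  haveI : QuasiIso p := by
    rw [← DerivedCategory.isIso_Q_map_iff_quasiIso, hp]
    infer_instance
  obtain ⟨T, qN, hT, -, hqN⟩ := exists_kprojective_resolution ((DTen.resCx φ).obj N)
  haveI := hT
  haveI := hqN
  let εN : (DRing.restrictD φ).obj (DerivedCategory.Q.obj N) ⟶
      (DerivedCategory.Q.obj (𝟙_ (DRing.Cx R)) : Dual.D R) :=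
    (DRing.restrictD φ).map eN.hom ≫ adj.counit.app (DTen.unit R)
  obtain ⟨evT, hev⟩ := exists_lift_of_isKProjective T (𝟙_ (DRing.Cx R))
    (DerivedCategory.Q.map qN ≫ (DTen.resFactors φ).inv.app N ≫ εN)
  haveI := isKProjective_tensor T E
  obtain ⟨bN, hbN⟩ := exists_lift_of_isKProjective (T ⊗ E) (𝟙_ (DRing.Cx R))
    (DerivedCategory.Q.map ((qN ▷ E) ≫ actX p N) ≫ (DTen.resFactors φ).inv.app N ≫ εN)
  have hU : ∀ M : Dual.D R, Function.Bijective
      (Psi (DTen.baseAdj φ) (DerivedCategory.Q.obj N) εN M) := by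
    intro M
    have h1 : Psi (DTen.baseAdj φ) (DerivedCategory.Q.obj N) εN M =
        Psi (DTen.baseAdj φ) (Rφ.obj (DTen.unit R))
          (adj.counit.app (DTen.unit R)) M ∘
          (fun v => v ≫ (DRing.restrictD φ).map eN.hom) := by
      funext v
      exact Psi_transport (DTen.baseAdj φ) eN.hom (adj.counit.app (DTen.unit R)) M v
    rw [h1]
    exact (bijective_Psi adj (DTen.baseAdj φ) (DTen.unit R) M).comp
      (bijective_postcomp _)
  haveI : IsIso (θW φ adj N qN evT W) :=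
    isIso_θW φ adj p N qN evT bN W hev hbN hU a b hE hfp
  exact ⟨asIso (θW φ adj N qN evT W)⟩

end Groth.Agent.Helper8.ShH
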