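import Groth.Agent.Lib.Helper8.ShH1
import Groth.Agent.Lib.Helper8.ShG4
import Groth.Agent.Lib.Helper8.ShF3
import Groth.Agent.Lib.Helper3.BC8
import Groth.Agent.Lib.Helper5.KFlat4
import Groth.Agent.Lib.Helper11.LTen1
import Groth.Agent.Lib.Helper11.LocalPerf6

/-!
# `φ^!(K) ≅ (K ⊗^L_R A) ⊗^L_A ω_{A/R}` for `R → A` flat of finite type (helper8)
-/

set_option autoImplicit false

open CategoryTheory CategoryTheory.Limits MonoidalCategory

universe u

attribute [local instance] HasDerivedCategory.standard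

namespace Groth.Agent.Helper8.ShH

open DerivedCategory

section Perfect

variable {P A : Type u} [CommRing P] [CommRing A] [Algebra P A]

theorem nonempty_rightAdj_iso_tensor (hperf : DRing.IsPerfectModule P A)
    (Rψ : Dual.D P ⥤ Dual.D A) (adj : DRing.restrictD (algebraMap P A) ⊣ Rψ)
    (N : DRing.Cx A) (eN : (Q.obj N : Dual.D A) ≅ Rψ.obj (Dual.inD P P))
    (W : DRing.Cx P) [W.IsKProjective] :
    Nonempty (Rψ.obj (Q.obj W) ≅
      (Q.obj ((DTen.extCx (algebraMap P A)).obj W ⊗ N) : Dual.D A)) := by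
  have hA : DRing.IsPerfect P ((DRing.restrictD (algebraMap P A)).obj (DTen.unit A)) := by
    obtain ⟨E, a, b, hE, hfp, ⟨eE⟩⟩ := hperf
    exact ⟨E, a, b, hE, hfp, ⟨eE ≪≫ (Groth.Agent.Helper3.BC.eSB P A).symm ≪≫
      (Q.mapIso (Groth.Agent.Helper3.TC.resUnitIso (algebraMap P A))).symm ≪≫
      ((DTen.resFactors (algebraMap P A)).app (𝟙_ (DRing.Cx A))).symm⟩⟩
  let e0 : Dual.inD P P ≅ DTen.unit P :=
    (singleFunctorIsoCompQ (ModuleCat.{u} P) 0).app (ModuleCat.of P P)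
  obtain ⟨i⟩ := nonempty_tensor_iso_rightAdj (algebraMap P A) adj hA N
    (eN ≪≫ Rψ.mapIso e0) W
  exact ⟨i.symm⟩

end Perfect

section Main

open Groth.Agent.Helper11.LDer

variable (R A : Type u) [CommRing R] [CommRing A] [IsNoetherianRing R] [Algebra R A]
  [Module.Flat R A]

theorem nonempty_shriek_iso_tensor (n : ℕ) (ψ : MvPolynomial (Fin n) R →ₐ[R] A)
    (hψ : Function.Surjective ψ) [DRing.HasLBaseChange (algebraMap R (MvPolynomial (Fin n) R))]
    (Rψ : Dual.D (MvPolynomial (Fin n) R) ⥤ Dual.D A) (adj : DRing.restrictD ψ.toRingHom ⊣ Rψ)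
    (Wω : DRing.Cx A) (hW : Nonempty (DRing.toD Wω ≅ Dual2.shriekVia n Rψ (Dual.inD R R)))
    [DRing.HasLBaseChange (algebraMap R A)] [DRing.HasLTensorCx A Wω] (K : Dual.D R) :
    Nonempty (Dual2.shriekVia n Rψ K ≅
      (DRing.LTensorCx A Wω).obj ((DRing.LBaseChange (algebraMap R A)).obj K)) := by
  classical
  letI algPA : Algebra (MvPolynomial (Fin n) R) A := ψ.toRingHom.toAlgebra
  haveI t1 : IsScalarTower R (MvPolynomial (Fin n) R) A :=
    IsScalarTower.of_algebraMap_eq (fun r => (ψ.commutes r).symm)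
  haveI : Module.Finite (MvPolynomial (Fin n) R) A :=
    Module.Finite.of_surjective (Algebra.linearMap (MvPolynomial (Fin n) R) A) hψ
  obtain ⟨eW⟩ := hW
  obtain ⟨ι⟩ := Groth.Agent.Helper8.ShG.nonempty_LBaseChange_unit_iso R (MvPolynomial (Fin n) R)
  have hperf := Groth.Agent.Helper8.ShF.isPerfectModule_of_flat R n A
  -- a K-projective representative of `K`
  obtain ⟨WR, hWR, -, ⟨eK⟩⟩ := Groth.Agent.Helper11.Tel.exists_kprojective_rep K
  haveI := hWR
  let WP : DRing.Cx (MvPolynomial (Fin n) R) :=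
    (DTen.extCx (algebraMap R (MvPolynomial (Fin n) R))).obj WR
  -- the representative of `RHom_P(A, P)`
  let N : DRing.Cx A := Wω⟦(-(n : ℤ))⟧
  let eN : (Q.obj N : Dual.D A) ≅ Rψ.obj (Dual.inD (MvPolynomial (Fin n) R) (MvPolynomial (Fin n) R)) :=
    (Q.commShiftIso (-(n : ℤ))).app Wω ≪≫
      (shiftFunctor (Dual.D A) (-(n : ℤ))).mapIso eW ≪≫
      (shiftFunctorCompIsoId (Dual.D A) (n : ℤ) (-(n : ℤ)) (by omega)).app _ ≪≫
      Rψ.mapIso ι
  obtain ⟨i1⟩ := nonempty_rightAdj_iso_tensor hperf Rψ adj N eN WP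
  -- the left hand side
  let eNW : N⟦(n : ℤ)⟧ ≅ Wω :=
    (shiftFunctorCompIsoId (DRing.Cx A) (-(n : ℤ)) (n : ℤ) (by omega)).app Wω
  let X : DRing.Cx A := (DTen.extCx (algebraMap (MvPolynomial (Fin n) R) A)).obj WP
  let l1 : Dual2.shriekVia n Rψ K ≅ (Q.obj (X ⊗ Wω) : Dual.D A) :=
    (shiftFunctor (Dual.D A) (n : ℤ)).mapIso
        (Rψ.mapIso ((DRing.LBaseChange (algebraMap R (MvPolynomial (Fin n) R))).mapIso eK.symm ≪≫
          LBaseChangeIso (algebraMap R (MvPolynomial (Fin n) R)) WR) ≪≫ i1) ≪≫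
      ((Q.commShiftIso (n : ℤ)).app (X ⊗ N)).symm ≪≫
      Q.mapIso ((Groth.Agent.Helper5.KF.tensorShiftIso X N (n : ℤ)).symm ≪≫
        whiskerLeftIso X eNW)
  -- the right hand side
  let XA : DRing.Cx A := (DTen.extCx (algebraMap R A)).obj WR
  have hcomp : (algebraMap (MvPolynomial (Fin n) R) A).comp
      (algebraMap R (MvPolynomial (Fin n) R)) = algebraMap R A :=
    (IsScalarTower.algebraMap_eq R (MvPolynomial (Fin n) R) A).symm
  let eX : XA ≅ X :=
    eqToIso (by rw [hcomp]) ≪≫ Groth.Agent.Helper11.LocalPerf.esCCompIso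
      (algebraMap R (MvPolynomial (Fin n) R)) (algebraMap (MvPolynomial (Fin n) R) A) WR
  let r1 : (DRing.LTensorCx A Wω).obj ((DRing.LBaseChange (algebraMap R A)).obj K) ≅
      (Q.obj (XA ⊗ Wω) : Dual.D A) :=
    (DRing.LTensorCx A Wω).mapIso ((DRing.LBaseChange (algebraMap R A)).mapIso eK.symm ≪≫
      LBaseChangeIso (algebraMap R A) WR) ≪≫ Groth.Agent.Helper11.LTen.LTensorCxIso Wω XA
  exact ⟨l1 ≪≫ Q.mapIso (whiskerRightIso eX.symm Wω) ≪≫ r1.symm⟩

end Main

end Groth.Agent.Helper8.ShH
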