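import Groth.Agent.Lib.Helper11.Shr15
import Groth.Agent.Lib.Helper3.KP2

/-!
# `RHom_{A⊗A}(A, -)` of the two base changes `A → A ⊗_R A` agree (helper8)
-/

set_option autoImplicit false

open CategoryTheory CategoryTheory.Limits

universe u

attribute [local instance] HasDerivedCategory.standard

namespace Groth.Agent.Helper8.ShI

open DerivedCategory TensorProduct Groth.Agent.Helper11.Shr Groth.Agent.Helper11.TorsBC

section Swap

variable (R A : Type u) [CommRing R] [CommRing A] [Algebra R A]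

/-- the swap of `A ⊗_R A` -/
noncomputable def swapHom : A ⊗[R] A →+* A ⊗[R] A :=
  (Algebra.TensorProduct.comm R A A).toAlgHom.toRingHom

theorem swapHom_tmul (a b : A) : swapHom R A (a ⊗ₜ[R] b) = b ⊗ₜ[R] a := rfl

theorem swap_comp_swap : RingHom.id (A ⊗[R] A) = (swapHom R A).comp (swapHom R A) := by
  apply RingHom.ext
  intro t
  induction t using TensorProduct.induction_on with
  | zero => rw [map_zero, map_zero]
  | tmul a b => rfl
  | add x y hx hy => rw [map_add, map_add, ← hx, ← hy]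

theorem swap_comp_incR :
    (Algebra.TensorProduct.includeLeftRingHom : A →+* A ⊗[R] A) =
      (swapHom R A).comp (Algebra.TensorProduct.includeRight : A →ₐ[R] A ⊗[R] A).toRingHom := by
  apply RingHom.ext
  intro a
  rfl

theorem mu_comp_swap :
    (Algebra.TensorProduct.lmul' R (S := A)).toRingHom =
      (Algebra.TensorProduct.lmul' R (S := A)).toRingHom.comp (swapHom R A) := by
  apply RingHom.ext
  intro t
  induction t using TensorProduct.induction_on with
  | zero => rw [map_zero, map_zero]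
  | tmul a b =>
    show Algebra.TensorProduct.lmul' R (a ⊗ₜ[R] b) = Algebra.TensorProduct.lmul' R (b ⊗ₜ[R] a)
    rw [Algebra.TensorProduct.lmul'_apply_tmul, Algebra.TensorProduct.lmul'_apply_tmul, mul_comm]
  | add x y hx hy => rw [map_add, map_add, hx, hy]

theorem nonempty_Rmu_incL_iso_incR
    [DRing.HasLBaseChange (Algebra.TensorProduct.includeLeftRingHom : A →+* A ⊗[R] A)]
    [DRing.HasLBaseChange (Algebra.TensorProduct.includeRight : A →ₐ[R] A ⊗[R] A).toRingHom]
    (Rμ : Dual.D (A ⊗[R] A) ⥤ Dual.D A)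
    (adjμ : DRing.restrictD (Algebra.TensorProduct.lmul' R (S := A)).toRingHom ⊣ Rμ)
    (X : Dual.D A) :
    Nonempty (Rμ.obj ((DRing.LBaseChange
        (Algebra.TensorProduct.includeLeftRingHom : A →+* A ⊗[R] A)).obj X) ≅
      Rμ.obj ((DRing.LBaseChange
        (Algebra.TensorProduct.includeRight : A →ₐ[R] A ⊗[R] A).toRingHom).obj X)) := by
  let σ := swapHom R A
  let iL : A →+* A ⊗[R] A := Algebra.TensorProduct.includeLeftRingHom
  let iR : A →+* A ⊗[R] A := (Algebra.TensorProduct.includeRight : A →ₐ[R] A ⊗[R] A).toRingHom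
  let μ : A ⊗[R] A →+* A := (Algebra.TensorProduct.lmul' R (S := A)).toRingHom
  let E : Dual.D (A ⊗[R] A) ≌ Dual.D (A ⊗[R] A) :=
    resDEquiv σ σ (swap_comp_swap R A) (swap_comp_swap R A)
  have adjE : resD σ ⊣ resD σ := E.toAdjunction
  -- `L_{iL} ≅ L_{iR} ⋙ resD σ`
  have adj1 : DRing.LBaseChange iR ⋙ resD σ ⊣ resD σ ⋙ resD iR :=
    (Groth.Agent.Helper3.KP.adjD iR).comp adjE
  have adj2 : DRing.LBaseChange iR ⋙ resD σ ⊣ resD iL :=
    adj1.ofNatIsoRight (resDComp iR σ iL (swap_comp_incR R A)).symm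
  let e1 : DRing.LBaseChange iL ≅ DRing.LBaseChange iR ⋙ resD σ :=
    Adjunction.leftAdjointUniq (Groth.Agent.Helper3.KP.adjD iL) adj2
  -- `resD σ ⋙ Rμ ≅ Rμ`
  have adj3 : resD μ ⋙ resD σ ⊣ resD σ ⋙ Rμ := adjμ.comp adjE
  have adj4 : resD μ ⊣ resD σ ⋙ Rμ :=
    adj3.ofNatIsoLeft (resDComp σ μ μ (mu_comp_swap R A)).symm
  let e2 : resD σ ⋙ Rμ ≅ Rμ := Adjunction.rightAdjointUniq adj4 adjμ
  exact ⟨Rμ.mapIso (e1.app X) ≪≫ e2.app _⟩

end Swap

end Groth.Agent.Helper8.ShI
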