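import Mathlib.CategoryTheory.EquivalenceRelation
import Mathlib.CategoryTheory.Limits.FunctorCategory.Basic
import Mathlib.CategoryTheory.Limits.FunctorCategory.EpiMono
import Mathlib.CategoryTheory.Functor.RegularEpi
import Mathlib.CategoryTheory.Limits.ConcreteCategory.Basic
import Mathlib.CategoryTheory.Limits.Types.Pullbacks
import Mathlib.CategoryTheory.Sites.RegularEpi
import Mathlib.CategoryTheory.Sites.LocallySurjective
import Mathlib.CategoryTheory.Sites.Limits

set_option autoImplicit false
open CategoryTheory CategoryTheory.Limits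
universe w v₁ u₁

namespace Groth.Agent.Helper8.ShfQuot

section Presheaf

variable {C : Type u₁} [Category.{v₁} C] {R X : C ⥤ Type w} (P₁ P₂ : R ⟶ X)

/-- the pointwise relation of a pair of maps of presheaves. -/
def rel (U : C) (x y : X.obj U) : Prop := ∃ r : R.obj U, P₁.app U r = x ∧ P₂.app U r = y

variable {P₁ P₂}

theorem rel_map {U V : C} (f : U ⟶ V) {x y : X.obj U} (h : rel P₁ P₂ U x y) :
    rel P₁ P₂ V (X.map f x) (X.map f y) := by
  obtain ⟨r, rfl, rfl⟩ := h
  exact ⟨R.map f r, NatTrans.naturality_apply P₁ f r, NatTrans.naturality_apply P₂ f r⟩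

variable (heqv : ∀ U, Equivalence (rel P₁ P₂ U))

/-- the setoid. -/
def setoid (U : C) : Setoid (X.obj U) := ⟨rel P₁ P₂ U, heqv U⟩

/-- the pointwise quotient presheaf. -/
def Q : C ⥤ Type w where
  obj U := Quotient (setoid heqv U)
  map {U V} f := TypeCat.ofHom (Quotient.map' (s₁ := setoid heqv U) (s₂ := setoid heqv V) (X.map f)
    (fun _ _ h => rel_map f h))
  map_id U := by
    ext x
    induction x using Quotient.inductionOn' with
    | h x => simp [Quotient.map'_mk'']
  map_comp f g := by
    ext x
    induction x using Quotient.inductionOn' with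
    | h x => simp [Quotient.map'_mk'']

/-- the quotient map. -/
def π : X ⟶ Q heqv where
  app U := TypeCat.ofHom (Quotient.mk'' (s₁ := setoid heqv U))
  naturality U V f := by
    ext x
    rfl

theorem π_eq_iff {U : C} (x y : X.obj U) :
    (π heqv).app U x = (π heqv).app U y ↔ rel P₁ P₂ U x y :=
  Quotient.eq''

theorem isPullback
    (hinj : ∀ U (u v : R.obj U), P₁.app U u = P₁.app U v → P₂.app U u = P₂.app U v → u = v) :
    IsPullback P₁ P₂ (π heqv) (π heqv) := by
  apply IsPullback.of_forall_isPullback_app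
  intro U
  rw [Limits.Types.isPullback_iff]
  refine ⟨?_, ?_, ?_⟩
  · ext r
    exact (π_eq_iff heqv _ _).2 ⟨r, rfl, rfl⟩
  · rintro u v ⟨h1, h2⟩
    exact hinj U u v h1 h2
  · intro x y hxy
    exact (π_eq_iff heqv x y).1 hxy

theorem isPushout : IsPushout P₁ P₂ (π heqv) (π heqv) := by
  apply IsPushout.of_forall_isPushout_app
  intro U
  have hw : P₁.app U ≫ (π heqv).app U = P₂.app U ≫ (π heqv).app U := by
    ext r
    exact (π_eq_iff heqv _ _).2 ⟨r, rfl, rfl⟩
  have key : ∀ (s : PushoutCocone (P₁.app U) (P₂.app U)) (x y : X.obj U), rel P₁ P₂ U x y →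
      s.inl x = s.inr y := by
    rintro s x y ⟨r, rfl, rfl⟩
    exact ConcreteCategory.congr_hom s.condition r
  have key2 : ∀ (s : PushoutCocone (P₁.app U) (P₂.app U)) (x : X.obj U), s.inl x = s.inr x :=
    fun s x => key s x x ((heqv U).refl x)
  refine ⟨⟨hw⟩, ⟨PushoutCocone.IsColimit.mk _
    (fun s => TypeCat.ofHom (Quotient.lift (s := setoid heqv U) (fun x => s.inl x)
      (fun x y h => (key s x y h).trans (key2 s y).symm))) ?_ ?_ ?_⟩⟩
  · intro s
    ext x
    rfl
  · intro s
    ext x
    exact key2 s x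
  · intro s m h1 h2
    ext x
    induction x using Quotient.inductionOn' with
    | h x => exact ConcreteCategory.congr_hom h1 x

end Presheaf

section General

variable {D : Type*} [Category D] {R X : D} {p₁ p₂ : R ⟶ X} (Φ : D ⥤ Type w)

theorem map_injective_of_jointlyMono [HasBinaryProducts D]
    [PreservesLimitsOfShape (Discrete WalkingPair) Φ] [Φ.PreservesMonomorphisms]
    [JointlyMono₂ p₁ p₂] (u v : Φ.obj R)
    (h1 : Φ.map p₁ u = Φ.map p₁ v) (h2 : Φ.map p₂ u = Φ.map p₂ v) : u = v := by
  have hm : Mono (prod.lift p₁ p₂) := ⟨fun f g h => JointlyMono₂.right_cancellation f g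
    (by have := h =≫ prod.fst; rw [Category.assoc, Category.assoc, prod.lift_fst] at this; exact this)
    (by have := h =≫ prod.snd; rw [Category.assoc, Category.assoc, prod.lift_snd] at this; exact this)⟩
  have hm' : Mono (Φ.map (prod.lift p₁ p₂)) := inferInstance
  apply (mono_iff_injective _).1 hm'
  apply Concrete.isLimit_ext _ (isLimitOfPreserves Φ (limit.isLimit (pair X X)))
  rintro ⟨j⟩
  cases j
  · change Φ.map prod.fst (Φ.map (prod.lift p₁ p₂) u) = Φ.map prod.fst (Φ.map (prod.lift p₁ p₂) v)
    rw [← Functor.map_comp_apply, ← Functor.map_comp_apply, prod.lift_fst]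
    exact h1
  · change Φ.map prod.snd (Φ.map (prod.lift p₁ p₂) u) = Φ.map prod.snd (Φ.map (prod.lift p₁ p₂) v)
    rw [← Functor.map_comp_apply, ← Functor.map_comp_apply, prod.lift_snd]
    exact h2

theorem equivalence_of_equivalenceRelation [PreservesLimitsOfShape WalkingCospan Φ]
    (e : EquivalenceRelation p₁ p₂) :
    Equivalence (fun x y : Φ.obj X => ∃ r : Φ.obj R, Φ.map p₁ r = x ∧ Φ.map p₂ r = y) := by
  refine ⟨?_, ?_, ?_⟩
  · intro x
    refine ⟨Φ.map e.r x, ?_, ?_⟩
    · rw [← Functor.map_comp_apply, e.reflexivity₁]; simp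
    · rw [← Functor.map_comp_apply, e.reflexivity₂]; simp
  · rintro x y ⟨r, rfl, rfl⟩
    refine ⟨Φ.map e.s r, ?_, ?_⟩
    · rw [← Functor.map_comp_apply, e.symmetry₁]
    · rw [← Functor.map_comp_apply, e.symmetry₂]
  · rintro x y z ⟨r, rfl, rfl⟩ ⟨r', hr', rfl⟩
    have hpb : IsPullback (Φ.map e.c.fst) (Φ.map e.c.snd) (Φ.map p₂) (Φ.map p₁) :=
      (IsPullback.of_isLimit e.isLimit).map Φ
    obtain ⟨z, hz1, hz2⟩ := Limits.Types.exists_of_isPullback hpb r r' hr'.symm
    refine ⟨Φ.map e.t z, ?_, ?_⟩
    · rw [← Functor.map_comp_apply, e.transitivity₁, Functor.map_comp_apply, hz1]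
    · rw [← Functor.map_comp_apply, e.transitivity₂, Functor.map_comp_apply, hz2]

end General

section PresheafMain

variable {C : Type u₁} [Category.{v₁} C] {R X : C ⥤ Type w} {p₁ p₂ : R ⟶ X}

theorem heqv_of (e : EquivalenceRelation p₁ p₂) (U : C) : Equivalence (rel p₁ p₂ U) :=
  equivalence_of_equivalenceRelation ((evaluation C (Type w)).obj U) e

theorem hinj_of (e : EquivalenceRelation p₁ p₂) (U : C) (u v : R.obj U)
    (h1 : p₁.app U u = p₁.app U v) (h2 : p₂.app U u = p₂.app U v) : u = v := by
  have : JointlyMono₂ p₁ p₂ := e.toReflexiveRelation.toJointlyMono₂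
  exact map_injective_of_jointlyMono ((evaluation C (Type w)).obj U) (p₁ := p₁) (p₂ := p₂) u v h1 h2

theorem π_app_surjective (heqv : ∀ U, Equivalence (rel p₁ p₂ U)) (U : C) :
    Function.Surjective ((π heqv).app U) := by
  intro q
  induction q using Quotient.inductionOn' with
  | h x => exact ⟨x, rfl⟩

/-- epimorphisms of presheaves of sets are universally effective. -/
theorem universally_effectiveEpi_of_epi {A B : C ⥤ Type w} (f : A ⟶ B) [Epi f] :
    (MorphismProperty.universally (fun (A B : C ⥤ Type w) (p : A ⟶ B) => EffectiveEpi p)) f := by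
  intro A' B' i₁ i₂ f' h
  have : Epi f' := by
    rw [NatTrans.epi_iff_epi_app]
    intro U
    rw [epi_iff_surjective]
    intro y'
    have hs : Function.Surjective (f.app U) := (epi_iff_surjective _).1 inferInstance
    obtain ⟨x, hx⟩ := hs (i₂.app U y')
    obtain ⟨x', hx'1, -⟩ := Limits.Types.exists_of_isPullback (h.app U) y' x hx.symm
    exact ⟨x', hx'1⟩
  have : IsRegularEpi f' := IsRegularEpiCategory.regularEpiOfEpi f'
  infer_instance

/-- equivalence relations on presheaves of sets are universally effective. -/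
noncomputable def universallyEffective (e : EquivalenceRelation p₁ p₂) :
    UniversallyEffectiveEquivalenceRelation p₁ p₂ where
  toEquivalenceRelation := e
  B := Q (heqv_of e)
  π := π (heqv_of e)
  isKernelPair := isPullback (heqv_of e) (hinj_of e)
  isPushout := isPushout (heqv_of e)
  universally_effectiveEpi_π := by
    have : Epi (π (heqv_of e)) := by
      rw [NatTrans.epi_iff_epi_app]
      intro U
      rw [epi_iff_surjective]
      exact π_app_surjective _ U
    exact universally_effectiveEpi_of_epi _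

end PresheafMain

section SheafMain

open Opposite

variable {C : Type u₁} [Category.{v₁} C] (J : GrothendieckTopology C) [HasSheafify J (Type w)]

/-- Epimorphisms of sheaves of sets are stable under base change. -/
theorem sheaf_epi_of_isPullback
    {X Y X' Y' : Sheaf J (Type w)} (f : X ⟶ Y) [Epi f] (i₁ : X' ⟶ X) (i₂ : Y' ⟶ Y) (f' : X' ⟶ Y')
    (h : IsPullback f' i₁ i₂ f) : Epi f' := by
  have hf : Sheaf.IsLocallySurjective f := (Sheaf.isLocallySurjective_iff_epi f).2 inferInstance
  rw [← Sheaf.isLocallySurjective_iff_epi]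
  refine ⟨?_⟩
  intro U y'
  have hmem := Presheaf.imageSieve_mem J f.hom (U := op U) (i₂.hom.app (op U) y')
  refine J.superset_covering ?_ hmem
  rintro V g ⟨x, hx⟩
  have hpb : IsPullback (f'.hom.app (op V)) (i₁.hom.app (op V)) (i₂.hom.app (op V)) (f.hom.app (op V)) :=
    (h.map (sheafToPresheaf J (Type w))).map ((evaluation Cᵒᵖ (Type w)).obj (op V))
  have hnat := ConcreteCategory.congr_hom (i₂.hom.naturality g.op) y'
  dsimp at hnat
  obtain ⟨x', hx'1, hx'2⟩ := Limits.Types.exists_of_isPullback hpb (Y'.obj.map g.op y') x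
    (hnat.trans hx.symm)
  exact ⟨x', hx'1⟩

theorem sheaf_universally_effectiveEpi_of_epi
    {X Y : Sheaf J (Type w)} (f : X ⟶ Y) [Epi f] :
    (MorphismProperty.universally (fun (A B : Sheaf J (Type w)) (p : A ⟶ B) => EffectiveEpi p)) f := by
  intro X' Y' i₁ i₂ f' h
  have : Epi f' := sheaf_epi_of_isPullback J f i₁ i₂ f' h
  have : IsRegularEpi f' := IsRegularEpiCategory.regularEpiOfEpi f'
  infer_instance

variable {J} {R X : Sheaf J (Type w)} {p₁ p₂ : R ⟶ X}

omit [HasSheafify J (Type w)] in
theorem sheaf_heqv_of (e : EquivalenceRelation p₁ p₂) (U : Cᵒᵖ) :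
    Equivalence (rel p₁.hom p₂.hom U) :=
  equivalence_of_equivalenceRelation (sheafToPresheaf J (Type w) ⋙ (evaluation Cᵒᵖ (Type w)).obj U) e

omit [HasSheafify J (Type w)] in
theorem sheaf_hinj_of (e : EquivalenceRelation p₁ p₂) (U : Cᵒᵖ) (u v : R.obj.obj U)
    (h1 : p₁.hom.app U u = p₁.hom.app U v) (h2 : p₂.hom.app U u = p₂.hom.app U v) : u = v := by
  have : JointlyMono₂ p₁ p₂ := e.toReflexiveRelation.toJointlyMono₂
  exact map_injective_of_jointlyMono (sheafToPresheaf J (Type w) ⋙ (evaluation Cᵒᵖ (Type w)).obj U)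
    (p₁ := p₁) (p₂ := p₂) u v h1 h2

/-- the quotient sheaf. -/
noncomputable abbrev sheafB (e : EquivalenceRelation p₁ p₂) : Sheaf J (Type w) :=
  (presheafToSheaf J (Type w)).obj (Q (sheaf_heqv_of e))

/-- the quotient map of sheaves. -/
noncomputable def sheafπ (e : EquivalenceRelation p₁ p₂) : X ⟶ sheafB e :=
  inv ((sheafificationAdjunction J (Type w)).counit.app X) ≫
    (presheafToSheaf J (Type w)).map (π (sheaf_heqv_of e))

theorem counit_nat (f : R ⟶ X) :
    (presheafToSheaf J (Type w)).map f.hom ≫ (sheafificationAdjunction J (Type w)).counit.app X =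
      (sheafificationAdjunction J (Type w)).counit.app R ≫ f :=
  (sheafificationAdjunction J (Type w)).counit.naturality f

theorem sheaf_isPullback (e : EquivalenceRelation p₁ p₂) :
    IsPullback p₁ p₂ (sheafπ e) (sheafπ e) := by
  have h := (isPullback (sheaf_heqv_of e) (sheaf_hinj_of e)).map (presheafToSheaf J (Type w))
  refine h.of_iso (asIso ((sheafificationAdjunction J (Type w)).counit.app R))
    (asIso ((sheafificationAdjunction J (Type w)).counit.app X))
    (asIso ((sheafificationAdjunction J (Type w)).counit.app X)) (Iso.refl _)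
    (counit_nat p₁) (counit_nat p₂) ?_ ?_
  · rw [Iso.refl_hom, Category.comp_id, asIso_hom, sheafπ, IsIso.hom_inv_id_assoc]
  · rw [Iso.refl_hom, Category.comp_id, asIso_hom, sheafπ, IsIso.hom_inv_id_assoc]

theorem sheaf_isPushout (e : EquivalenceRelation p₁ p₂) :
    IsPushout p₁ p₂ (sheafπ e) (sheafπ e) := by
  have : PreservesColimitsOfSize.{0, 0} (presheafToSheaf J (Type w)) :=
    (sheafificationAdjunction J (Type w)).leftAdjoint_preservesColimits
  have h := (isPushout (sheaf_heqv_of e)).map (presheafToSheaf J (Type w))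
  refine h.of_iso (asIso ((sheafificationAdjunction J (Type w)).counit.app R))
    (asIso ((sheafificationAdjunction J (Type w)).counit.app X))
    (asIso ((sheafificationAdjunction J (Type w)).counit.app X)) (Iso.refl _)
    (counit_nat p₁) (counit_nat p₂) ?_ ?_
  · rw [Iso.refl_hom, Category.comp_id, asIso_hom, sheafπ, IsIso.hom_inv_id_assoc]
  · rw [Iso.refl_hom, Category.comp_id, asIso_hom, sheafπ, IsIso.hom_inv_id_assoc]

/-- equivalence relations on sheaves of sets are effective. -/
noncomputable def sheafEffective (e : EquivalenceRelation p₁ p₂) :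
    EffectiveEquivalenceRelation p₁ p₂ where
  toEquivalenceRelation := e
  B := sheafB e
  π := sheafπ e
  isKernelPair := sheaf_isPullback e
  isPushout := sheaf_isPushout e

/-- equivalence relations on sheaves of sets are universally effective. -/
noncomputable def sheafUniversallyEffective (e : EquivalenceRelation p₁ p₂) :
    UniversallyEffectiveEquivalenceRelation p₁ p₂ where
  toEffectiveEquivalenceRelation := sheafEffective e
  universally_effectiveEpi_π := by
    have : IsRegularEpi (sheafEffective e).π := inferInstance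
    have : Epi (sheafEffective e).π := inferInstance
    exact sheaf_universally_effectiveEpi_of_epi J (sheafEffective e).π

end SheafMain

end Groth.Agent.Helper8.ShfQuot
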