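import Groth.Agent.Lib.Helper8.Gor8

/-!
# Top local duality for cyclic modules over Gorenstein local rings (helper8)
Part 1: right exactness lemmas.
-/

set_option autoImplicit false
universe u

namespace Groth.Agent.Helper8.TLD

open IsLocalRing CategoryTheory Abelian Groth.Agent.Helper8 Groth.Agent.Helper8.LC
  Groth.Agent.Helper8.Canon Groth.Agent.Helper8.Gor
open scoped Pointwise

variable {R : Type u} [CommRing R]

section QuotCongr

/-- a linear equivalence induces one on quotients by `J • ⊤` -/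
noncomputable def quotSMulTopCongr {X Y : Type u} [AddCommGroup X] [Module R X] [AddCommGroup Y]
    [Module R Y] (e : X ≃ₗ[R] Y) (J : Ideal R) :
    (X ⧸ (J • ⊤ : Submodule R X)) ≃ₗ[R] (Y ⧸ (J • ⊤ : Submodule R Y)) :=
  Submodule.Quotient.equiv _ _ e (by
    rw [Submodule.map_smul'', Submodule.map_top, LinearMap.range_eq_top.mpr e.surjective])

/-- a linear equivalence induces one on quotients by `a • ⊤` -/
noncomputable def quotSMulTopCongr' {X Y : Type u} [AddCommGroup X] [Module R X] [AddCommGroup Y]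
    [Module R Y] (e : X ≃ₗ[R] Y) (a : R) :
    (X ⧸ (a • ⊤ : Submodule R X)) ≃ₗ[R] (Y ⧸ (a • ⊤ : Submodule R Y)) :=
  Submodule.Quotient.equiv _ _ e (by
    rw [Submodule.map_pointwise_smul, Submodule.map_top, LinearMap.range_eq_top.mpr e.surjective])

end QuotCongr

section RightExactH

variable [IsNoetherianRing R] (J : Ideal R) (d : ℕ)

/-- right exactness of `H^d_J` on modules of dimension `≤ d`, one element -/
theorem nonempty_H_quot_equiv_single (N : Type u) [AddCommGroup N] [Module R N]
    (hN : Module.supportDim R N < ((d + 1 : ℕ) : WithBot ℕ∞)) (a : R) :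
    Nonempty (H J d (N ⧸ (a • ⊤ : Submodule R N)) ≃ₗ[R]
      (H J d N ⧸ (a • ⊤ : Submodule R (H J d N)))) := by
  have hvan : ∀ N' : Submodule R N, Subsingleton (H J (d + 1) N') := fun N' =>
    H_subsingleton_of_supportDim_lt J N' (d + 1)
      (lt_of_le_of_lt (Module.supportDim_le_of_injective N'.subtype N'.injective_subtype) hN)
  let aN : Submodule R N := a • ⊤
  have hS1 := isSES_subtype_mkQ aN
  haveI := hvan aN
  have hπ : Function.Surjective (Hmap J d aN.mkQ) := hS1.Hmap_g_surjective J d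
  -- the map `N → aN`
  let q : N →ₗ[R] aN := (a • (LinearMap.id : N →ₗ[R] N)).codRestrict aN (fun n =>
    Submodule.smul_mem_pointwise_smul n a ⊤ Submodule.mem_top)
  have hq : Function.Surjective q := by
    rintro ⟨y, hy⟩
    obtain ⟨n, -, rfl⟩ := (Submodule.mem_smul_pointwise_iff_exists _ _ _).mp hy
    exact ⟨n, rfl⟩
  have hS2 := isSES_of_surjective hq
  haveI := hvan (LinearMap.ker q)
  have hHq : Function.Surjective (Hmap J d q) := hS2.Hmap_g_surjective J d
  have hcomp : aN.subtype ∘ₗ q = a • (LinearMap.id : N →ₗ[R] N) := rfl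
  have hker : LinearMap.ker (Hmap J d aN.mkQ) = (a • ⊤ : Submodule R (H J d N)) := by
    rw [(LinearMap.exact_iff.mp (hS1.exact_Hmap J d))]
    ext y
    constructor
    · rintro ⟨z, rfl⟩
      obtain ⟨w, rfl⟩ := hHq z
      rw [← Hmap_comp_apply, hcomp, Hmap_smul_id]
      exact Submodule.smul_mem_pointwise_smul w a ⊤ Submodule.mem_top
    · intro hy
      obtain ⟨w, -, rfl⟩ := (Submodule.mem_smul_pointwise_iff_exists _ _ _).mp hy
      refine ⟨Hmap J d q w, ?_⟩
      rw [← Hmap_comp_apply, hcomp, Hmap_smul_id]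
  exact ⟨((Hmap J d aN.mkQ).quotKerEquivOfSurjective hπ).symm ≪≫ₗ
    Submodule.quotEquivOfEq _ _ hker⟩

/-- right exactness of `H^d_J` on modules of dimension `≤ d`, lists -/
theorem nonempty_H_quot_equiv : ∀ (as : List R) (N : Type u) [AddCommGroup N] [Module R N],
    Module.supportDim R N < ((d + 1 : ℕ) : WithBot ℕ∞) →
    Nonempty (H J d (N ⧸ (Ideal.ofList as • ⊤ : Submodule R N)) ≃ₗ[R]
      (H J d N ⧸ (Ideal.ofList as • ⊤ : Submodule R (H J d N)))) := by
  intro as
  induction as with
  | nil =>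
    intro N _ _ _
    have h0 : (Ideal.ofList ([] : List R) • ⊤ : Submodule R N) = ⊥ := by
      rw [Ideal.ofList_nil, Submodule.bot_smul]
    have h0' : (Ideal.ofList ([] : List R) • ⊤ : Submodule R (H J d N)) = ⊥ := by
      rw [Ideal.ofList_nil, Submodule.bot_smul]
    exact ⟨Hcongr J d (Submodule.quotEquivOfEqBot _ h0) ≪≫ₗ
      (Submodule.quotEquivOfEqBot _ h0').symm⟩
  | cons a as ih =>
    intro N _ _ hN
    obtain ⟨e1⟩ := nonempty_H_quot_equiv_single J d N hN a
    have hN' : Module.supportDim R (QuotSMulTop a N) < ((d + 1 : ℕ) : WithBot ℕ∞) :=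
      lt_of_le_of_lt (Module.supportDim_le_of_surjective (Submodule.mkQ _)
        (Submodule.mkQ_surjective _)) hN
    obtain ⟨e2⟩ := ih (QuotSMulTop a N) hN'
    exact ⟨Hcongr J d (Submodule.quotOfListConsSMulTopEquivQuotSMulTopInner N a as) ≪≫ₗ e2 ≪≫ₗ
      quotSMulTopCongr e1 (Ideal.ofList as) ≪≫ₗ
      (Submodule.quotOfListConsSMulTopEquivQuotSMulTopInner (H J d N) a as).symm⟩

end RightExactH

section RightExactDual

variable (E : Type u) [AddCommGroup E] [Module R E] [Module.Injective R E]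

/-- duals of torsion: one element -/
theorem nonempty_dual_ker_equiv (N : Type u) [AddCommGroup N] [Module R N] (a : R) :
    Nonempty ((LinearMap.ker (a • (LinearMap.id : N →ₗ[R] N)) →ₗ[R] E) ≃ₗ[R]
      ((N →ₗ[R] E) ⧸ (a • ⊤ : Submodule R (N →ₗ[R] E)))) := by
  let Ka : Submodule R N := LinearMap.ker (a • (LinearMap.id : N →ₗ[R] N))
  let ρ : (N →ₗ[R] E) →ₗ[R] (Ka →ₗ[R] E) := LinearMap.lcomp R E Ka.subtype
  have hρ : Function.Surjective ρ := by
    intro ψ
    obtain ⟨φ, hφ⟩ := Module.Injective.extension_property R E Ka N Ka.subtype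
      Ka.injective_subtype ψ
    exact ⟨φ, hφ⟩
  have hker : LinearMap.ker ρ = (a • ⊤ : Submodule R (N →ₗ[R] E)) := by
    ext φ
    constructor
    · intro hφ
      rw [LinearMap.mem_ker] at hφ
      -- `φ` vanishes on `Ka`, so factors through `a • : N → N`
      let aN : Submodule R N := LinearMap.range (a • (LinearMap.id : N →ₗ[R] N))
      have hle : Ka ≤ LinearMap.ker φ := by
        intro x hx
        rw [LinearMap.mem_ker]
        exact LinearMap.congr_fun hφ ⟨x, hx⟩
      -- define `ψ : aN → E`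
      let q : N →ₗ[R] aN := (a • (LinearMap.id : N →ₗ[R] N)).rangeRestrict
      have hq : Function.Surjective q := LinearMap.surjective_rangeRestrict _
      have hkq : LinearMap.ker q = Ka := LinearMap.ker_rangeRestrict _
      let ψ : aN →ₗ[R] E :=
        (Ka.liftQ φ hle) ∘ₗ (Submodule.quotEquivOfEq _ _ hkq).toLinearMap ∘ₗ
          (q.quotKerEquivOfSurjective hq).symm.toLinearMap
      have hψ : ∀ n : N, ψ (q n) = φ n := by
        intro n
        have h1 : (q.quotKerEquivOfSurjective hq).symm (q n) = (LinearMap.ker q).mkQ n := by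
          rw [LinearEquiv.symm_apply_eq]
          rfl
        change (Ka.liftQ φ hle) ((Submodule.quotEquivOfEq _ _ hkq)
          ((q.quotKerEquivOfSurjective hq).symm (q n))) = φ n
        rw [h1]
        rfl
      obtain ⟨ψ', hψ'⟩ := Module.Injective.extension_property R E aN N aN.subtype
        aN.injective_subtype ψ
      have : φ = a • ψ' := by
        refine LinearMap.ext fun n => ?_
        rw [LinearMap.smul_apply, ← map_smul, ← hψ n, ← hψ']
        rfl
      rw [this]
      exact Submodule.smul_mem_pointwise_smul ψ' a ⊤ Submodule.mem_top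
    · intro hφ
      obtain ⟨ψ, -, rfl⟩ := (Submodule.mem_smul_pointwise_iff_exists _ _ _).mp hφ
      rw [LinearMap.mem_ker]
      refine LinearMap.ext fun x => ?_
      change (a • ψ) x.1 = 0
      rw [LinearMap.smul_apply, ← map_smul]
      have : a • (x.1 : N) = 0 := LinearMap.mem_ker.mp x.2
      rw [this, map_zero]
  exact ⟨(Submodule.quotEquivOfEq _ _ hker).symm ≪≫ₗ ρ.quotKerEquivOfSurjective hρ |>.symm⟩

/-- duals of torsion: lists -/
theorem nonempty_dual_torsion_equiv : ∀ (as : List R) (N : Type u) [AddCommGroup N] [Module R N],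
    Nonempty ((Submodule.torsionBySet R N {y | y ∈ as} →ₗ[R] E) ≃ₗ[R]
      ((N →ₗ[R] E) ⧸ (Ideal.ofList as • ⊤ : Submodule R (N →ₗ[R] E)))) := by
  intro as
  induction as with
  | nil =>
    intro N _ _
    have h0 : (Ideal.ofList ([] : List R) • ⊤ : Submodule R (N →ₗ[R] E)) = ⊥ := by
      rw [Ideal.ofList_nil, Submodule.bot_smul]
    exact ⟨LinearEquiv.congrLeft E R (torsionNilEquiv N) ≪≫ₗ
      (Submodule.quotEquivOfEqBot _ h0).symm⟩
  | cons a as ih =>
    intro N _ _
    obtain ⟨e1⟩ := nonempty_dual_ker_equiv E N a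
    obtain ⟨e2⟩ := ih (LinearMap.ker (a • (LinearMap.id : N →ₗ[R] N)))
    exact ⟨LinearEquiv.congrLeft E R (torsionConsEquiv N a as) ≪≫ₗ e2 ≪≫ₗ
      quotSMulTopCongr e1 (Ideal.ofList as) ≪≫ₗ
      (Submodule.quotOfListConsSMulTopEquivQuotSMulTopInner (N →ₗ[R] E) a as).symm⟩

end RightExactDual

end Groth.Agent.Helper8.TLD
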