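import Groth.Agent.Lib.Helper8.TLD1

/-!
# Top local duality for cyclic modules over Gorenstein local rings (helper8)
Part 2: the duality.
-/

set_option autoImplicit false
universe u

namespace Groth.Agent.Helper8.TLD

open IsLocalRing CategoryTheory Abelian Groth.Agent.Helper8 Groth.Agent.Helper8.LC
  Groth.Agent.Helper8.Canon Groth.Agent.Helper8.Gor Groth.Agent.Helper8.Uniq
open scoped Pointwise

section Lists

variable {R : Type u} [CommRing R]

theorem exists_ofList_eq [IsNoetherianRing R] (I : Ideal R) : ∃ as : List R, Ideal.ofList as = I := by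
  obtain ⟨S, hS⟩ := (isNoetherianRing_iff_ideal_fg R).mp inferInstance I
  refine ⟨S.toList, ?_⟩
  rw [← hS, Ideal.ofList]
  congr 1
  ext y
  simp

/-- torsion by an ideal is torsion by a generating list -/
noncomputable def torsionOfListEquiv (N : Type u) [AddCommGroup N] [Module R N] (as : List R) :
    Submodule.torsionBySet R N ((Ideal.ofList as : Ideal R) : Set R) ≃ₗ[R]
      Submodule.torsionBySet R N {y | y ∈ as} :=
  LinearEquiv.ofEq _ _ (by
    rw [Submodule.torsionBySet_eq_torsionBySet_span {y | y ∈ as}])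

/-- `(R/(rs))/I(R/(rs)) ≃ R/I` when `(rs) ⊆ I` -/
noncomputable def quotQuotEquiv (I : Ideal R) (rs : List R) (hrs : ∀ r ∈ rs, r ∈ I) :
    ((R ⧸ (Ideal.ofList rs • ⊤ : Submodule R R)) ⧸
      (I • ⊤ : Submodule R (R ⧸ (Ideal.ofList rs • ⊤ : Submodule R R)))) ≃ₗ[R] (R ⧸ I) :=
  Submodule.quotEquivOfEq _ _ (by
      rw [Submodule.map_smul'', Submodule.map_top, Submodule.range_mkQ]) ≪≫ₗ
    Submodule.quotientQuotientEquivQuotientSup (Ideal.ofList rs • ⊤ : Submodule R R)
      (I • ⊤ : Submodule R R) ≪≫ₗ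
    Submodule.quotEquivOfEq _ _ (by
      have h1 : (I • ⊤ : Submodule R R) = I := by
        change I • (⊤ : Ideal R) = I
        rw [smul_eq_mul, Ideal.mul_top]
      have h2 : (Ideal.ofList rs • ⊤ : Submodule R R) ≤ I := by
        change Ideal.ofList rs • (⊤ : Ideal R) ≤ I
        rw [smul_eq_mul, Ideal.mul_top, Ideal.ofList, Ideal.span_le]
        exact fun x hx => hrs x hx
      rw [h1]
      exact sup_eq_right.mpr h2)

end Lists

section Main

variable {R : Type u} [CommRing R] [hG : LocCoh.IsGorensteinLocalRing R] {s : ℕ}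
  {E : Type u} [AddCommGroup E] [Module R E] {f : ResidueField R →ₗ[R] E}

/-- **top local duality** for `R/I` over a Gorenstein local ring, in terms of the `I`-torsion of
`R/(rs)` for a maximal regular sequence `rs` in `I` -/
theorem nonempty_dual_torsion_equiv_H (hs : ringKrullDim R = s) (hf : InjHull.IsInjectiveHull f)
    (I : Ideal R) (d c : ℕ) (hd : ringKrullDim (R ⧸ I) = d) (hsc : s = c + d)
    (rs : List R) (hlen : rs.length = c) (hreg : RingTheory.Sequence.IsWeaklyRegular R rs)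
    (hmem : ∀ r ∈ rs, r ∈ I) (hI : I ≠ ⊤) :
    Nonempty ((Submodule.torsionBySet R (R ⧸ (Ideal.ofList rs • ⊤ : Submodule R R)) (I : Set R)
        →ₗ[R] E) ≃ₗ[R] H (maximalIdeal R) d (R ⧸ I)) := by
  haveI hCM := Groth.Agent.Lead.Depth.isCohenMacaulayLocalRing_of_isGorensteinLocalRing R
  haveI := hf.isInjective
  have hhi := Groth.Agent.Lead.Depth.gorenstein_ext_residueField_subsingleton (R := R) s hs
    (s + 1) le_rfl
  obtain ⟨eH⟩ := nonempty_H_equiv_hull hs hf hhi
  have hIm : I ≤ maximalIdeal R := IsLocalRing.le_maximalIdeal hI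
  have hmem' : ∀ r ∈ rs, r ∈ maximalIdeal R := fun r hr => hIm (hmem r hr)
  have hreg' : RingTheory.Sequence.IsRegular R rs :=
    RingTheory.Sequence.IsRegular.of_isWeaklyRegular_of_mem_maximalIdeal R hmem' hreg
  -- dimension of `R/(rs)`
  have hdimQ : Module.supportDim R (R ⧸ (Ideal.ofList rs • ⊤ : Submodule R R)) <
      ((d + 1 : ℕ) : WithBot ℕ∞) := by
    have h1 := Module.supportDim_add_length_eq_supportDim_of_isRegular (M := R) rs hreg'
    rw [Module.supportDim_self_eq_ringKrullDim, hs, hlen, hsc] at h1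
    induction hh : Module.supportDim R (R ⧸ (Ideal.ofList rs • ⊤ : Submodule R R)) with
    | bot => exact WithBot.bot_lt_coe _
    | coe x =>
      rw [hh] at h1
      have h2 : x + (c : ℕ∞) = ((c + d : ℕ) : ℕ∞) := by
        have : ((x + (c : ℕ∞) : ℕ∞) : WithBot ℕ∞) = (((c + d : ℕ) : ℕ∞) : WithBot ℕ∞) := by
          rw [WithBot.coe_add]
          exact h1
        exact WithBot.coe_injective this
      have h3 : x = (d : ℕ∞) := by
        have h4 : x + (c : ℕ∞) = (d : ℕ∞) + (c : ℕ∞) := by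
          rw [h2]; push_cast; ring
        exact ENat.add_left_injective_of_ne_top (ENat.natCast_ne_top c) h4
      rw [h3]
      exact_mod_cast Nat.lt_succ_self d
  -- Step A
  have hvan : ∀ l < s, Subsingleton (H (maximalIdeal R) l R) := fun l hl =>
    H_subsingleton_of_lt_depth R s (depth_eq_of_CM hs) l hl
  obtain ⟨eA⟩ := nonempty_torsion_H_equiv (maximalIdeal R) rs R d s (by rw [hlen, hsc]) hvan hreg
  -- generators of `I`
  obtain ⟨as, rfl⟩ := exists_ofList_eq I
  -- Step B
  obtain ⟨eB⟩ := nonempty_H_quot_equiv (maximalIdeal R) d as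
    (R ⧸ (Ideal.ofList rs • ⊤ : Submodule R R)) hdimQ
  -- Step C
  obtain ⟨eC⟩ := nonempty_dual_torsion_equiv E as (R ⧸ (Ideal.ofList rs • ⊤ : Submodule R R))
  -- Step D: `Hom(R/(rs), E) ≃ H^d(R/(rs))`
  have hspan : Ideal.span {y | y ∈ rs} = (Ideal.ofList rs • ⊤ : Submodule R R) := by
    change Ideal.ofList rs = Ideal.ofList rs • (⊤ : Ideal R)
    rw [smul_eq_mul, Ideal.mul_top]
  have htorsEq : Submodule.torsionBySet R E ((Ideal.ofList rs • ⊤ : Submodule R R) : Set R) =
      Submodule.torsionBySet R E {y | y ∈ rs} := by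
    rw [Submodule.torsionBySet_eq_torsionBySet_span {y | y ∈ rs}, hspan]
  have eD : ((R ⧸ (Ideal.ofList rs • ⊤ : Submodule R R)) →ₗ[R] E) ≃ₗ[R]
      H (maximalIdeal R) d (R ⧸ (Ideal.ofList rs • ⊤ : Submodule R R)) :=
    homQuotEquivTorsion (Ideal.ofList rs • ⊤ : Submodule R R) E ≪≫ₗ
      LinearEquiv.ofEq _ _ htorsEq ≪≫ₗ torsionBySetCongr eH.symm _ ≪≫ₗ eA
  exact ⟨LinearEquiv.congrLeft E R (torsionOfListEquiv _ as) ≪≫ₗ eC ≪≫ₗ
    quotSMulTopCongr eD (Ideal.ofList as) ≪≫ₗ eB.symm ≪≫ₗ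
    Hcongr (maximalIdeal R) d (quotQuotEquiv (Ideal.ofList as) rs hmem)⟩

end Main

end Groth.Agent.Helper8.TLD
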