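import Groth.Agent.Lib.Helper8.TLD2

/-!
# Top local duality for cyclic modules over Gorenstein local rings (helper8)
Part 3: the `Ext` form.
-/

set_option autoImplicit false
universe u

namespace Groth.Agent.Helper8.TLD

open IsLocalRing CategoryTheory Abelian Groth.Agent.Helper8 Groth.Agent.Helper8.LC
  Groth.Agent.Helper8.Canon Groth.Agent.Helper8.Gor Groth.Agent.Helper8.Uniq
open scoped Pointwise

variable {R : Type u} [CommRing R] [hG : LocCoh.IsGorensteinLocalRing R] {s : ℕ}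

/-- in a Gorenstein (CM) local ring, an ideal `I` with `dim R/I = d` contains a regular sequence of
length `dim R - d`, and `Ext^i(R/I, R) = 0` below that length -/
theorem exists_regular_sequence (hs : ringKrullDim R = s) (I : Ideal R) (hI : I ≠ ⊤) (d : ℕ)
    (hd : ringKrullDim (R ⧸ I) = d) :
    ∃ (c : ℕ) (rs : List R), s = c + d ∧ rs.length = c ∧
      RingTheory.Sequence.IsWeaklyRegular R rs ∧ (∀ r ∈ rs, r ∈ I) ∧
      ∀ i < c, Subsingleton (Ext (ModuleCat.of R (R ⧸ I)) (ModuleCat.of R R) i) := by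
  haveI hCM := Groth.Agent.Lead.Depth.isCohenMacaulayLocalRing_of_isGorensteinLocalRing R
  have hM : LocCoh.IsCohenMacaulayModule R R :=
    LocCoh.IsCohenMacaulayLocalRing.supportDim_eq_depth (R := R)
  have h1 := Groth.Agent.Lead.Depth.supportDim_eq_add_idealDepth_of_CM I hI R hM
  have hIeq : (I • ⊤ : Submodule R R) = I := by
    change I • (⊤ : Ideal R) = I
    rw [smul_eq_mul, Ideal.mul_top]
  have htop : I • (⊤ : Submodule R R) ≠ ⊤ := by
    rw [hIeq]; exact hI
  rw [Module.supportDim_eq_of_equiv (Submodule.quotEquivOfEq _ _ hIeq),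
    Module.supportDim_quotient_eq_ringKrullDim, Module.supportDim_self_eq_ringKrullDim, hs, hd] at h1
  have hfin : LocCoh.idealDepth I R ≠ ⊤ :=
    ne_top_of_le_ne_top (Groth.Agent.Lead.Depth.depth_ne_top (R := R) R)
      (Groth.Agent.Lead.Depth.idealDepth_le_depth R I hI)
  obtain ⟨c, hc⟩ := ENat.ne_top_iff_exists.mp hfin
  rw [← hc] at h1
  have hsc : s = c + d := by
    have h2 : ((s : ℕ∞) : WithBot ℕ∞) = (((d + c : ℕ) : ℕ∞) : WithBot ℕ∞) := by
      push_cast
      exact h1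
    have h3 : (s : ℕ∞) = ((d + c : ℕ) : ℕ∞) := WithBot.coe_injective h2
    have h4 : s = d + c := by exact_mod_cast h3
    omega
  have hle : (c : ℕ∞) ≤ LocCoh.idealDepth I R := by rw [← hc]
  obtain ⟨rs, hlen, hreg, hmem⟩ := Groth.Agent.Lead.Depth.exists_of_le_idealDepth I R htop c hle
  exact ⟨c, rs, hsc, hlen, hreg, hmem,
    (Groth.Agent.Lead.Depth.le_idealDepth_iff_ext I R htop c).mp hle⟩

variable {E : Type u} [AddCommGroup E] [Module R E] {f : ResidueField R →ₗ[R] E}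

/-- **top local duality** for cyclic modules over a Gorenstein local ring -/
theorem nonempty_dual_ext_equiv_H (hs : ringKrullDim R = s) (hf : InjHull.IsInjectiveHull f)
    (I : Ideal R) (hI : I ≠ ⊤) (d : ℕ) (hd : ringKrullDim (R ⧸ I) = d) :
    ∃ c : ℕ, s = c + d ∧
      Nonempty ((Ext (ModuleCat.of R (R ⧸ I)) (ModuleCat.of R R) c →ₗ[R] E) ≃ₗ[R]
        H (maximalIdeal R) d (R ⧸ I)) := by
  obtain ⟨c, rs, hsc, hlen, hreg, hmem, hvan⟩ := exists_regular_sequence hs I hI d hd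
  obtain ⟨e1⟩ := nonempty_dual_torsion_equiv_H hs hf I d c hd hsc rs hlen hreg hmem hI
  have hkill : ∀ r ∈ rs, ∀ y : R ⧸ I, r • y = 0 := by
    intro r hr y
    obtain ⟨x, rfl⟩ := Ideal.Quotient.mk_surjective y
    change Ideal.Quotient.mk I (r * x) = 0
    rw [Ideal.Quotient.eq_zero_iff_mem]
    exact Ideal.mul_mem_right _ _ (hmem r hr)
  obtain ⟨e2⟩ := rees rs R (R ⧸ I) hreg hkill (by rw [hlen]; exact hvan)
  rw [hlen] at e2
  have e3 := e2 ≪≫ₗ homQuotEquivTorsion I (R ⧸ (Ideal.ofList rs • ⊤ : Submodule R R))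
  exact ⟨c, hsc, ⟨LinearEquiv.congrLeft E R e3 ≪≫ₗ e1⟩⟩

end Groth.Agent.Helper8.TLD
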