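import Groth.Agent.Lib.Helper8.TLD3

/-!
# Height and dimension of quotients; `Ext^{ht I}(R/I, R)` as canonical module (helper8)
-/

set_option autoImplicit false
universe u

namespace Groth.Agent.Helper8.TLD

open IsLocalRing CategoryTheory Abelian Groth.Agent.Helper8 Groth.Agent.Helper8.LC
  Groth.Agent.Helper8.Canon Groth.Agent.Helper8.Gor Groth.Agent.Helper8.Uniq
open scoped Pointwise

section Height

variable {R : Type u} [CommRing R]

/-- `ht I + dim R/I ≤ dim R` -/
theorem height_add_le (I : Ideal R) (d s : ℕ) (hd : ringKrullDim (R ⧸ I) = d)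
    (hs : ringKrullDim R = s) : I.height + (d : ℕ∞) ≤ (s : ℕ∞) := by
  have h1 : Module.supportDim R (R ⧸ I) = d := by
    rw [Module.supportDim_quotient_eq_ringKrullDim, hd]
  have h2 : ((d : ℕ) : WithBot ℕ∞) ≤ Order.krullDim (Module.support R (R ⧸ I)) := by
    change _ ≤ Module.supportDim R (R ⧸ I)
    rw [h1]
  obtain ⟨l, hl⟩ := Order.le_krullDim_iff.mp h2
  let l' : LTSeries (PrimeSpectrum R) := l.map Subtype.val (fun _ _ h => h)
  have hlen : l'.length = d := hl
  have hhead : l'.head = l.head.1 := rfl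
  have hIp : I ≤ l.head.1.asIdeal := by
    have := l.head.2
    rw [Module.mem_support_iff_of_finite, Ideal.annihilator_quotient] at this
    exact this
  have h3 : (d : ℕ∞) ≤ Order.coheight l'.head := by
    rw [← hlen]
    exact Order.length_le_coheight_head
  have h4 : Order.height l'.head + Order.coheight l'.head ≤ (s : ℕ∞) := by
    have h5 : Order.krullDim (PrimeSpectrum R) = (s : WithBot ℕ∞) := hs
    haveI : Nonempty (PrimeSpectrum R) := ⟨l'.head⟩
    rw [Order.krullDim_eq_iSup_height_add_coheight_of_nonempty] at h5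
    have h6 : (⨆ a : PrimeSpectrum R, Order.height a + Order.coheight a) = (s : ℕ∞) :=
      WithBot.coe_injective h5
    rw [← h6]
    exact le_iSup (fun a : PrimeSpectrum R => Order.height a + Order.coheight a) l'.head
  have h7 : I.height ≤ Order.height l'.head := by
    rw [← PrimeSpectrum.height_eq_orderHeight, hhead]
    exact Ideal.height_mono hIp
  exact le_trans (add_le_add h7 h3) h4

end Height

section Canon

variable {R : Type u} [CommRing R] [hG : LocCoh.IsGorensteinLocalRing R] {s : ℕ}
  {E : Type u} [AddCommGroup E] [Module R E] {f : ResidueField R →ₗ[R] E}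

/-- **top local duality** with `c = ht I` -/
theorem nonempty_dual_ext_height_equiv_H (hs : ringKrullDim R = s) (hf : InjHull.IsInjectiveHull f)
    (I : Ideal R) (hI : I ≠ ⊤) (d : ℕ) (hd : ringKrullDim (R ⧸ I) = d) (g : ℕ)
    (hg : I.height = g) :
    Nonempty ((Ext (ModuleCat.of R (R ⧸ I)) (ModuleCat.of R R) g →ₗ[R] E) ≃ₗ[R]
      H (maximalIdeal R) d (R ⧸ I)) := by
  obtain ⟨c, rs, hsc, hlen, hreg, hmem, -⟩ := exists_regular_sequence hs I hI d hd
  obtain ⟨c', hsc', e⟩ := nonempty_dual_ext_equiv_H hs hf I hI d hd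
  have hcc : c' = c := by omega
  subst hcc
  have hIeq : (I • ⊤ : Submodule R R) = I := by
    change I • (⊤ : Ideal R) = I
    rw [smul_eq_mul, Ideal.mul_top]
  have htop : I • (⊤ : Submodule R R) ≠ ⊤ := by
    rw [hIeq]; exact hI
  have h1 : (c' : ℕ∞) ≤ LocCoh.idealDepth I R :=
    (Groth.Agent.Lead.Depth.le_idealDepth_iff I R htop c').mpr ⟨rs, hlen, hreg, hmem⟩
  have h2 := Groth.Agent.Lead.Depth.idealDepth_self_le_height I
  have h3 : c' ≤ g := by
    have : (c' : ℕ∞) ≤ (g : ℕ∞) := by rw [← hg]; exact h1.trans h2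
    exact_mod_cast this
  have h4 := height_add_le I d s hd hs
  rw [hg] at h4
  have h5 : g + d ≤ s := by exact_mod_cast h4
  have h6 : g = c' := by omega
  rw [h6]
  exact e

end Canon

end Groth.Agent.Helper8.TLD
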