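import Mathlib.RingTheory.IntegralClosure.GoingDown
import Mathlib.RingTheory.IntegralClosure.IntegrallyClosed
import Mathlib.RingTheory.Ideal.GoingUp
import Mathlib.RingTheory.Localization.FractionRing
import Mathlib.RingTheory.LocalRing.MaximalIdeal.Basic

/-!
# Going down from a unibranch local domain

If `A` is a local domain whose integral closure in its fraction field is local, and `B` is a domain
integral over `A`, `n` a prime of `B` over the maximal ideal, then every prime of `A` is the
contraction of a prime contained in `n`.
-/

set_option autoImplicit false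
universe u v w

namespace Groth.Agent.Helper8.Unibranch

open IsLocalRing

theorem exists_le_comap_eq {A : Type u} {B : Type v} {K : Type w} [CommRing A] [IsDomain A]
    [IsLocalRing A] [Field K] [Algebra A K] [IsFractionRing A K]
    (hloc : IsLocalRing (integralClosure A K))
    [CommRing B] [IsDomain B] [Algebra A B]
    (hinj : Function.Injective (algebraMap A B)) [Algebra.IsIntegral A B] (n : Ideal B) [n.IsPrime]
    (hn : n.comap (algebraMap A B) = maximalIdeal A) (p : Ideal A) [p.IsPrime] :
    ∃ q : Ideal B, q.IsPrime ∧ q ≤ n ∧ q.comap (algebraMap A B) = p := by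
  classical
  let L := FractionRing B
  have hBL : Function.Injective (algebraMap B L) := IsFractionRing.injective B L
  have hAL : Function.Injective (algebraMap A L) := by
    rw [IsScalarTower.algebraMap_eq A B L]
    exact hBL.comp hinj
  let iKL : K →+* L := IsFractionRing.lift (g := algebraMap A L) hAL
  let _ : Algebra K L := iKL.toAlgebra
  have : IsScalarTower A K L := IsScalarTower.of_algebraMap_eq fun x => by
    change _ = iKL _
    exact (IsFractionRing.lift_algebraMap hAL x).symm
  let A' := integralClosure A K
  let C := integralClosure A L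
  let f : A' →ₐ[A] C := (IsScalarTower.toAlgHom A K L).mapIntegralClosure
  let g : B →ₐ[A] C := (IsScalarTower.toAlgHom A B L).codRestrict C fun b =>
    (Algebra.IsIntegral.isIntegral (R := A) b).map (IsScalarTower.toAlgHom A B L)
  have hf : Function.Injective f := by
    intro x y hxy
    apply Subtype.ext
    have h1 : ((f x : C) : L) = ((f y : C) : L) := by rw [hxy]
    exact (algebraMap K L).injective h1
  have hg : Function.Injective g := by
    intro x y hxy
    have h1 : ((g x : C) : L) = ((g y : C) : L) := by rw [hxy]
    exact hBL h1
  let _ : Algebra A' C := f.toRingHom.toAlgebra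
  let _ : Algebra B C := g.toRingHom.toAlgebra
  have : IsScalarTower A A' C := IsScalarTower.of_algebraMap_eq fun x => (f.commutes x).symm
  have : IsScalarTower A B C := IsScalarTower.of_algebraMap_eq fun x => (g.commutes x).symm
  have hfa : Function.Injective (algebraMap A' C) := hf
  have hga : Function.Injective (algebraMap B C) := hg
  have : Algebra.IsIntegral A C := inferInstance
  have : Algebra.IsIntegral A' C := Algebra.IsIntegral.tower_top (R := A)
  have : Algebra.IsIntegral B C := Algebra.IsIntegral.tower_top (R := A)
  have : IsIntegrallyClosed A' := integralClosure.isIntegrallyClosedOfFiniteExtension (R := A) K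
  have : FaithfulSMul A' C := (faithfulSMul_iff_algebraMap_injective A' C).mpr hfa
  have : IsLocalRing A' := hloc
  have hGD : Algebra.HasGoingDown A' C := inferInstance
  -- a prime `N` of `C` over `n`
  obtain ⟨N, hNprime, hNn⟩ := Ideal.exists_ideal_over_prime_of_isIntegral_of_isDomain
    (R := B) (S := C) n
    (by rw [(RingHom.injective_iff_ker_eq_bot _).mp hga]; exact bot_le)
  -- its contraction to `A'` is the maximal ideal
  have hNA : (N.comap (algebraMap A' C)).comap (algebraMap A A') = maximalIdeal A := by
    rw [Ideal.comap_comap, ← IsScalarTower.algebraMap_eq, IsScalarTower.algebraMap_eq A B C,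
      ← Ideal.comap_comap, hNn, hn]
  have hM'max : (N.comap (algebraMap A' C)).IsMaximal := by
    apply Ideal.isMaximal_of_isIntegral_of_isMaximal_comap (R := A)
    rw [hNA]; infer_instance
  have hM' : N.comap (algebraMap A' C) = maximalIdeal A' := IsLocalRing.eq_maximalIdeal hM'max
  -- a prime `p'` of `A'` over `p`
  have hAA' : Function.Injective (algebraMap A A') := by
    intro x y hxy
    have h1 : ((algebraMap A A' x : A') : K) = ((algebraMap A A' y : A') : K) := by rw [hxy]
    exact IsFractionRing.injective A K h1
  obtain ⟨p', hp'prime, hp'p⟩ := Ideal.exists_ideal_over_prime_of_isIntegral_of_isDomain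
    (R := A) (S := A') p
    (by rw [(RingHom.injective_iff_ker_eq_bot _).mp hAA']; exact bot_le)
  have hp'le : p' ≤ N.comap (algebraMap A' C) := by
    rw [hM']; exact IsLocalRing.le_maximalIdeal hp'prime.ne_top
  have : N.LiesOver (N.comap (algebraMap A' C)) := ⟨rfl⟩
  obtain ⟨Q, hQN, hQprime, hQp'⟩ := Ideal.exists_ideal_le_liesOver_of_le (R := A') (S := C)
    (p := p') (q := N.comap (algebraMap A' C)) N hp'le
  refine ⟨Q.comap (algebraMap B C), Ideal.comap_isPrime _ _, ?_, ?_⟩
  · rw [← hNn]; exact Ideal.comap_mono hQN
  · rw [Ideal.comap_comap, ← IsScalarTower.algebraMap_eq, IsScalarTower.algebraMap_eq A A' C,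
      ← Ideal.comap_comap, ← hp'p]
    congr 1
    exact (hQp'.over).symm

end Groth.Agent.Helper8.Unibranch
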