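import Groth.Prelude.Def_EGA43
import Mathlib.AlgebraicGeometry.PullbackCarrier
import Mathlib.AlgebraicGeometry.Morphisms.UniversallyClosed

/-!
# Maps open at a point, morphisms universally open at a point
-/

set_option autoImplicit false
universe u
open CategoryTheory CategoryTheory.Limits AlgebraicGeometry

namespace Groth.Agent.Helper8.UOA

section top

variable {α β γ : Type*} [TopologicalSpace α] [TopologicalSpace β] [TopologicalSpace γ]

theorem isOpenAt_comp {f : α → β} {g : β → γ} {x : α} (hf : EGA43.IsOpenAt f x)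
    (hg : EGA43.IsOpenAt g (f x)) : EGA43.IsOpenAt (g ∘ f) x := by
  intro U hU
  rw [Set.image_comp]
  exact hg _ (hf U hU)

theorem isOpenAt_of_isOpenMap {f : α → β} (hf : IsOpenMap f) (x : α) : EGA43.IsOpenAt f x :=
  fun _ hU => hf.image_mem_nhds hU

theorem isOpenAt_of_comp {f : α → β} {g : β → γ} {x : α} (hf : Continuous f)
    (h : EGA43.IsOpenAt (g ∘ f) x) : EGA43.IsOpenAt g (f x) := by
  intro V hV
  have h1 : f ⁻¹' V ∈ nhds x := hf.continuousAt hV
  have h2 := h _ h1
  refine Filter.mem_of_superset h2 ?_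
  rintro _ ⟨a, ha, rfl⟩
  exact ⟨f a, ha, rfl⟩

theorem isOpenAt_congr {f g : α → β} (h : f = g) {x : α} (hf : EGA43.IsOpenAt f x) :
    EGA43.IsOpenAt g x := h ▸ hf

end top

variable {X Y : Scheme.{u}}

/-- `IsUnivOpenAt` can be tested on any pullback square. -/
theorem of_isPullback {f : X ⟶ Y} {x : X} (h : EGA43.IsUnivOpenAt f x) {P Y' : Scheme.{u}}
    {fst : P ⟶ X} {snd : P ⟶ Y'} {g : Y' ⟶ Y} (hpb : IsPullback fst snd f g) (p : P)
    (hp : fst.base p = x) : EGA43.IsOpenAt snd.base p := by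
  have h1 : (pullback.fst f g).base (hpb.isoPullback.hom.base p) = x := by
    rw [← Scheme.Hom.comp_apply, hpb.isoPullback_hom_fst]; exact hp
  have h2 := h Y' g _ h1
  have h3 : EGA43.IsOpenAt hpb.isoPullback.hom.base p :=
    isOpenAt_of_isOpenMap (hpb.isoPullback.hom.homeomorph.isOpenMap) p
  have h4 := isOpenAt_comp h3 h2
  refine isOpenAt_congr ?_ h4
  funext a
  rw [Function.comp_apply, ← Scheme.Hom.comp_apply, hpb.isoPullback_hom_snd]

/-- `IsUnivOpenAt` is stable under base change. -/
theorem baseChange {f : X ⟶ Y} {x : X} (h : EGA43.IsUnivOpenAt f x) {P Y' : Scheme.{u}}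
    {fst : P ⟶ X} {snd : P ⟶ Y'} {g : Y' ⟶ Y} (hpb : IsPullback fst snd f g) (p : P)
    (hp : fst.base p = x) : EGA43.IsUnivOpenAt snd p := by
  intro Y'' k p' hp'
  have hbig : IsPullback (pullback.fst snd k ≫ fst) (pullback.snd snd k) f (k ≫ g) :=
    (IsPullback.of_hasPullback snd k).paste_horiz hpb
  refine of_isPullback h hbig p' ?_
  rw [Scheme.Hom.comp_apply, hp', hp]

/-- Openness at a point descends along a closed surjective base change. -/
theorem isOpenAt_of_baseChange_closed {Y₁ : Scheme.{u}} (v : Y₁ ⟶ Y) (hv : IsClosedMap v.base)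
    (hsurj : Function.Surjective v.base) (f : X ⟶ Y) (x : X)
    (h : ∀ x₁ : ↥(pullback f v), (pullback.fst f v).base x₁ = x →
      EGA43.IsOpenAt (pullback.snd f v).base x₁) :
    EGA43.IsOpenAt f.base x := by
  intro U hU
  have hA : (pullback.snd f v).base '' ((pullback.fst f v).base ⁻¹' U) =
      v.base ⁻¹' (f.base '' U) := by
    ext y₁
    constructor
    · rintro ⟨x₁, hx₁, rfl⟩
      refine ⟨(pullback.fst f v).base x₁, hx₁, ?_⟩
      rw [← Scheme.Hom.comp_apply, ← Scheme.Hom.comp_apply, pullback.condition]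
    · rintro ⟨u, hu, huy⟩
      obtain ⟨x₁, hx1, hx2⟩ := Scheme.Pullback.exists_preimage_pullback (f := f) (g := v) u y₁ huy
      exact ⟨x₁, by simpa [hx1] using hu, hx2⟩
  have hB : v.base ⁻¹' {f.base x} ⊆ interior (v.base ⁻¹' (f.base '' U)) := by
    intro y₁ hy₁
    obtain ⟨x₁, hx1, hx2⟩ := Scheme.Pullback.exists_preimage_pullback (f := f) (g := v) x y₁
      hy₁.symm
    have hU₁ : (pullback.fst f v).base ⁻¹' U ∈ nhds x₁ := by
      apply (pullback.fst f v).continuous.continuousAt
      rw [hx1]; exact hU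
    have := h x₁ hx1 _ hU₁
    rw [hA, hx2] at this
    exact mem_interior_iff_mem_nhds.mpr this
  have hTo : IsOpen ((v.base '' (interior (v.base ⁻¹' (f.base '' U)))ᶜ)ᶜ) :=
    (hv _ isOpen_interior.isClosed_compl).isOpen_compl
  have hxT : f.base x ∈ (v.base '' (interior (v.base ⁻¹' (f.base '' U)))ᶜ)ᶜ := by
    rintro ⟨y₁, hy₁, hy⟩
    exact hy₁ (hB hy)
  have hTsub : (v.base '' (interior (v.base ⁻¹' (f.base '' U)))ᶜ)ᶜ ⊆ f.base '' U := by
    intro y hy
    obtain ⟨y₁, rfl⟩ := hsurj y
    have hy₁ : y₁ ∈ interior (v.base ⁻¹' (f.base '' U)) := by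
      by_contra hcon
      exact hy ⟨y₁, hcon, rfl⟩
    have hsub : interior (v.base ⁻¹' (f.base '' U)) ⊆ v.base ⁻¹' (f.base '' U) :=
      interior_subset
    exact hsub hy₁
  exact Filter.mem_of_superset (hTo.mem_nhds hxT) hTsub

/-- Openness at a point can be checked on a finite jointly surjective family of closed
immersions. -/
theorem isOpenAt_of_finite_closed_cover {ι : Type*} [Finite ι] (T : ι → Scheme.{u})
    (v : ∀ i, T i ⟶ Y) [∀ i, IsClosedImmersion (v i)]
    (hcov : ⋃ i, Set.range (v i).base = Set.univ) (f : X ⟶ Y) (x : X)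
    (h : ∀ i, ∀ p : ↥(pullback f (v i)), (pullback.fst f (v i)).base p = x →
      EGA43.IsOpenAt (pullback.snd f (v i)).base p) :
    EGA43.IsOpenAt f.base x := by
  classical
  intro U hU
  -- for each `i`, a neighbourhood `M i` of `f x`
  have hM : ∀ i, ∃ M ∈ nhds (f.base x), ∀ s : T i, (v i).base s ∈ M →
      ∃ q : ↥(pullback f (v i)), (pullback.fst f (v i)).base q ∈ U ∧
        (pullback.snd f (v i)).base q = s := by
    intro i
    by_cases hy : f.base x ∈ Set.range (v i).base
    · obtain ⟨t, ht⟩ := hy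
      obtain ⟨p, hp1, hp2⟩ := Scheme.Pullback.exists_preimage_pullback (f := f) (g := v i) x t
        ht.symm
      have hU₁ : (pullback.fst f (v i)).base ⁻¹' U ∈ nhds p := by
        apply (pullback.fst f (v i)).continuous.continuousAt
        rw [hp1]; exact hU
      have h1 := h i p hp1 _ hU₁
      rw [hp2, (v i).isEmbedding.isInducing.nhds_eq_comap, ht] at h1
      obtain ⟨N, hN, hNsub⟩ := Filter.mem_comap.mp h1
      refine ⟨N, hN, fun s hs => ?_⟩
      obtain ⟨q, hq, rfl⟩ := hNsub hs
      exact ⟨q, hq, rfl⟩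
    · refine ⟨(Set.range (v i).base)ᶜ,
        ((v i).isClosedEmbedding.isClosed_range.isOpen_compl).mem_nhds hy, fun s hs => ?_⟩
      exact absurd ⟨s, rfl⟩ hs
  choose M hMnhds hMprop using hM
  have hInter : (⋂ i, M i) ∈ nhds (f.base x) := Filter.iInter_mem.mpr hMnhds
  refine Filter.mem_of_superset hInter ?_
  intro y hy
  have hyu : y ∈ ⋃ i, Set.range (v i).base := by rw [hcov]; exact Set.mem_univ y
  obtain ⟨j, s, rfl⟩ := Set.mem_iUnion.mp hyu
  obtain ⟨q, hq, hqs⟩ := hMprop j s (Set.mem_iInter.mp hy j)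
  refine ⟨_, hq, ?_⟩
  rw [← hqs, ← Scheme.Hom.comp_apply, ← Scheme.Hom.comp_apply, pullback.condition]

/-- Base changing a base change: the square comparing `X' ×_{Y'} (Y' ×_Y T)` with `X ×_Y T`. -/
theorem isPullback_cube {Y' T : Scheme.{u}} (f : X ⟶ Y) (k : Y' ⟶ Y) (v : T ⟶ Y)
    (hcomm : (pullback.fst (pullback.snd f k) (pullback.fst k v) ≫ pullback.fst f k) ≫ f =
      (pullback.snd (pullback.snd f k) (pullback.fst k v) ≫ pullback.snd k v) ≫ v) :
    IsPullback (pullback.lift _ _ hcomm)
      (pullback.snd (pullback.snd f k) (pullback.fst k v)) (pullback.snd f v)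
      (pullback.snd k v) := by
  have hbig : IsPullback
      (pullback.fst (pullback.snd f k) (pullback.fst k v) ≫ pullback.fst f k)
      (pullback.snd (pullback.snd f k) (pullback.fst k v)) f (pullback.fst k v ≫ k) :=
    (IsPullback.of_hasPullback (pullback.snd f k) (pullback.fst k v)).paste_horiz
      (IsPullback.of_hasPullback f k)
  have hbig' : IsPullback
      (pullback.lift _ _ hcomm ≫ pullback.fst f v)
      (pullback.snd (pullback.snd f k) (pullback.fst k v)) f (pullback.snd k v ≫ v) := by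
    rw [pullback.lift_fst, ← pullback.condition]
    exact hbig
  exact IsPullback.of_right hbig' (pullback.lift_snd _ _ _) (IsPullback.of_hasPullback f v)

theorem cube_comm {Y' T : Scheme.{u}} (f : X ⟶ Y) (k : Y' ⟶ Y) (v : T ⟶ Y) :
    (pullback.fst (pullback.snd f k) (pullback.fst k v) ≫ pullback.fst f k) ≫ f =
      (pullback.snd (pullback.snd f k) (pullback.fst k v) ≫ pullback.snd k v) ≫ v := by
  rw [Category.assoc, pullback.condition, ← Category.assoc, pullback.condition, Category.assoc,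
    pullback.condition, Category.assoc]

end Groth.Agent.Helper8.UOA
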