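import Mathlib.AlgebraicGeometry.Morphisms.FormallyUnramified
import Mathlib.AlgebraicGeometry.Morphisms.Separated
import Mathlib.AlgebraicGeometry.Fiber

/-!
# Equalizers of maps into a scheme with open diagonal
-/

set_option autoImplicit false
universe u
open CategoryTheory CategoryTheory.Limits AlgebraicGeometry TopologicalSpace

namespace Groth.Agent.Helper8.UnramEq

set_option backward.isDefEq.respectTransparency false in
theorem isOpenImmersion_equalizer_ι_left {S : Scheme.{u}} {X Y : Over S}
    [IsOpenImmersion (pullback.diagonal Y.hom)]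
    (f g : X ⟶ Y) : IsOpenImmersion (equalizer.ι f g).left := by
  refine MorphismProperty.of_isPullback
    ((Limits.isPullback_equalizer_prod f g).map (Over.forget _)).flip ?_
  rw [← MorphismProperty.cancel_right_of_respectsIso @IsOpenImmersion _
    (Over.prodLeftIsoPullback Y Y).hom]
  convert! (inferInstance : IsOpenImmersion (pullback.diagonal Y.hom))
  ext1 <;> simp [← Over.comp_left]

/-- The equalizer locus of two `S`-morphisms into `Y` with open diagonal is an open subscheme. -/
theorem exists_open {X Y S : Scheme.{u}} (h : Y ⟶ S) [IsOpenImmersion (pullback.diagonal h)]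
    (f g : X ⟶ Y) (w : g ≫ h = f ≫ h) :
    ∃ U : X.Opens, U.ι ≫ f = U.ι ≫ g ∧
      (∀ (T : Scheme.{u}) (t : T ⟶ X), t ≫ f = t ≫ g → Set.range t.base ⊆ (U : Set X)) ∧
      (IsSeparated h → IsClosed (U : Set X)) := by
  let X' : Over S := Over.mk (f ≫ h)
  let Y' : Over S := Over.mk h
  let f' : X' ⟶ Y' := Over.homMk f rfl
  let g' : X' ⟶ Y' := Over.homMk g w
  haveI : IsOpenImmersion (pullback.diagonal Y'.hom) := ‹_›
  haveI : IsOpenImmersion (equalizer.ι f' g').left := isOpenImmersion_equalizer_ι_left f' g'
  have hcond : (equalizer.ι f' g').left ≫ f = (equalizer.ι f' g').left ≫ g :=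
    congr($(equalizer.condition f' g').left)
  refine ⟨(equalizer.ι f' g').left.opensRange, ?_, ?_, ?_⟩
  · rw [← cancel_epi (Scheme.Hom.isoOpensRange (equalizer.ι f' g').left).hom]
    simp only [Scheme.Hom.isoOpensRange_hom_ι_assoc]
    exact hcond
  · intro T t ht
    let T' : Over S := Over.mk (t ≫ f ≫ h)
    let t' : T' ⟶ X' := Over.homMk t rfl
    have ht' : t' ≫ f' = t' ≫ g' := by
      ext1
      simpa [t', f', g'] using ht
    have hl : (equalizer.lift t' ht').left ≫ (equalizer.ι f' g').left = t := by
      rw [← Over.comp_left, equalizer.lift_ι]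
      rfl
    rintro _ ⟨y, rfl⟩
    refine ⟨(equalizer.lift t' ht').left.base y, ?_⟩
    rw [← hl]
    rfl
  · intro hsep
    haveI : IsSeparated Y'.hom := hsep
    haveI : IsClosedImmersion (equalizer.ι f' g').left := inferInstance
    exact (equalizer.ι f' g').left.isClosedEmbedding.isClosed_range

end Groth.Agent.Helper8.UnramEq
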