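import Mathlib
import Groth.Agent.Lib.Helper8.FracDual8
import Groth.Agent.Lib.Helper19.TFCurv.Lattice2

/-!
# Duality for lattices in `K^n` over a one-dimensional Gorenstein local domain (helper8)

`dl N = {y | ∀ x ∈ N, x ⬝ᵥ y ∈ O}`; `ℓ(dl I / dl J) = ℓ(J / I)`.
-/

namespace Groth.Agent.Helper8.VDual

universe u

open Groth.Agent.Helper8.FracDual Matrix

section Ext

variable {O : Type u} [CommRing O] [IsDomain O] {K : Type u} [Field K] [Algebra O K]
  [IsFractionRing O K]

/-- An `O`-linear map from a full `O`-submodule of a `K`-vector space extends `K`-linearly. -/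
theorem ext_lin {V₁ V₂ : Type u} [AddCommGroup V₁] [Module O V₁] [Module K V₁]
    [IsScalarTower O K V₁] [AddCommGroup V₂] [Module O V₂] [Module K V₂] [IsScalarTower O K V₂]
    (N : Submodule O V₁) (hN : Submodule.span K (N : Set V₁) = ⊤) (θ : ↥N →ₗ[O] V₂) :
    ∃ g : V₁ →ₗ[K] V₂, ∀ x : ↥N, g (x : V₁) = θ x := by
  have hunit : ∀ (W : Type u) [AddCommGroup W] [Module O W] [Module K W] [IsScalarTower O K W]
      (s : nonZeroDivisors O), IsUnit (algebraMap O (Module.End O W) s) := by
    intro W _ _ _ _ s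
    have hs0 : algebraMap O K (s : O) ≠ 0 :=
      IsFractionRing.to_map_ne_zero_of_mem_nonZeroDivisors s.2
    rw [Module.End.isUnit_iff]
    constructor
    · intro a b hab
      have h1 : (s : O) • a = (s : O) • b := hab
      rw [← IsScalarTower.algebraMap_smul K (s : O) a,
        ← IsScalarTower.algebraMap_smul K (s : O) b] at h1
      exact smul_right_injective _ hs0 h1
    · intro b
      refine ⟨(algebraMap O K (s : O))⁻¹ • b, ?_⟩
      show (s : O) • ((algebraMap O K (s : O))⁻¹ • b) = b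
      rw [← IsScalarTower.algebraMap_smul K (s : O), smul_smul, mul_inv_cancel₀ hs0, one_smul]
  haveI : IsLocalizedModule (nonZeroDivisors O) N.subtype := by
    refine ⟨hunit V₁, ?_, ?_⟩
    · intro y
      obtain ⟨d, hd, hdy⟩ :=
        Groth.Agent.Helper19.TFCurv.exists_smul_mem_of_span_eq_top N hN y
      exact ⟨(⟨d • y, hdy⟩, ⟨d, hd⟩), rfl⟩
    · intro x₁ x₂ h
      exact ⟨1, by rw [Submodule.injective_subtype N h]⟩
  let g0 := IsLocalizedModule.lift (nonZeroDivisors O) N.subtype θ (hunit V₂)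
  refine ⟨g0.extendScalarsOfIsLocalization (nonZeroDivisors O) K, fun x => ?_⟩
  exact IsLocalizedModule.lift_apply (nonZeroDivisors O) N.subtype θ (hunit V₂) x

end Ext

section Dual

variable {O : Type u} [CommRing O] [IsDomain O] {K : Type u} [Field K] [Algebra O K]
  [IsFractionRing O K] {n : ℕ}

/-- The dual lattice with respect to the dot product. -/
def dl (N : Submodule O (Fin n → K)) : Submodule O (Fin n → K) where
  carrier := {y | ∀ x ∈ N, x ⬝ᵥ y ∈ (1 : Submodule O K)}
  add_mem' := by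
    intro a b ha hb x hx
    rw [dotProduct_add]
    exact Submodule.add_mem _ (ha x hx) (hb x hx)
  zero_mem' := by
    intro x hx
    rw [dotProduct_zero]
    exact Submodule.zero_mem _
  smul_mem' := by
    intro c y hy x hx
    rw [dotProduct_smul]
    exact Submodule.smul_mem _ c (hy x hx)

theorem mem_dl {N : Submodule O (Fin n → K)} {y : Fin n → K} :
    y ∈ dl N ↔ ∀ x ∈ N, x ⬝ᵥ y ∈ (1 : Submodule O K) := Iff.rfl

theorem dl_anti {I J : Submodule O (Fin n → K)} (h : I ≤ J) : dl J ≤ dl I :=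
  fun _ hy x hx => hy x (h hx)

theorem le_dl_dl (N : Submodule O (Fin n → K)) : N ≤ dl (dl N) := by
  intro x hx y hy
  rw [dotProduct_comm]
  exact hy x hx

/-- `x ↦ x ⬝ᵥ y` as an `O`-linear map. -/
noncomputable def dotL (y : Fin n → K) : (Fin n → K) →ₗ[O] K where
  toFun x := x ⬝ᵥ y
  map_add' a b := add_dotProduct a b y
  map_smul' c a := smul_dotProduct c a y

theorem dotL_apply (y x : Fin n → K) : dotL (O := O) y x = x ⬝ᵥ y := rfl

/-- `y ↦ (j ↦ [j ⬝ᵥ y]) : V → Hom(J, K/O)`. -/
noncomputable def PhiV (J : Submodule O (Fin n → K)) :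
    (Fin n → K) →ₗ[O] (↥J →ₗ[O] K ⧸ (1 : Submodule O K)) where
  toFun y := (1 : Submodule O K).mkQ ∘ₗ dotL y ∘ₗ J.subtype
  map_add' y z := by
    ext j
    simp [dotL_apply, dotProduct_add]
  map_smul' a y := by
    ext j
    simp [dotL_apply, dotProduct_smul]

theorem PhiV_apply (J : Submodule O (Fin n → K)) (y : Fin n → K) (j : ↥J) :
    PhiV J y j = Submodule.Quotient.mk ((j : Fin n → K) ⬝ᵥ y) := rfl

theorem PhiV_eq_zero_iff (J : Submodule O (Fin n → K)) (y : Fin n → K) :
    PhiV J y = 0 ↔ y ∈ dl J := by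
  constructor
  · intro h x hx
    have := LinearMap.congr_fun h ⟨x, hx⟩
    rw [PhiV_apply, LinearMap.zero_apply, Submodule.Quotient.mk_eq_zero] at this
    exact this
  · intro h
    ext j
    rw [PhiV_apply, LinearMap.zero_apply, Submodule.Quotient.mk_eq_zero]
    exact h j j.2

/-- bounded denominators -/
def BD (J : Submodule O (Fin n → K)) : Prop :=
  ∃ d : O, d ≠ 0 ∧ ∀ x ∈ J, ∀ i, algebraMap O K d * x i ∈ (1 : Submodule O K)

theorem BD.mono {I J : Submodule O (Fin n → K)} (h : I ≤ J) (hJ : BD J) : BD I := by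
  obtain ⟨d, hd, hdJ⟩ := hJ
  exact ⟨d, hd, fun x hx => hdJ x (h hx)⟩

theorem PhiV_surjective (hE : Module.Baer O (K ⧸ (1 : Submodule O K)))
    {J : Submodule O (Fin n → K)} (hJ : BD J) : Function.Surjective (PhiV J) := by
  classical
  intro ψ
  obtain ⟨d, hd, hdJ⟩ := hJ
  have hd0 : algebraMap O K d ≠ 0 := algebraMap_ne_zero' hd
  obtain ⟨Ψ, hΨ⟩ := hE.extension_property J.subtype (Submodule.injective_subtype J) ψ
  choose y hy using fun i : Fin n => Submodule.Quotient.mk_surjective (1 : Submodule O K)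
    (Ψ (Pi.single i (algebraMap O K d)⁻¹))
  refine ⟨fun i => y i * algebraMap O K d, ?_⟩
  ext j
  rw [PhiV_apply]
  choose a ha using fun i => mem_one'.mp (hdJ j j.2 i)
  have h1 : (j : Fin n → K) = ∑ i, a i • (Pi.single i (algebraMap O K d)⁻¹ : Fin n → K) := by
    ext t
    rw [Finset.sum_apply]
    simp only [Pi.smul_apply, Pi.single_apply, smul_ite, smul_zero]
    rw [Finset.sum_ite_eq Finset.univ t]
    simp only [Finset.mem_univ, if_true]
    rw [Algebra.smul_def, ha t]
    field_simp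
  have h2 : ψ j = Ψ (j : Fin n → K) := by
    rw [← hΨ]; rfl
  have h3 : Ψ (j : Fin n → K) = ∑ i, a i • Ψ (Pi.single i (algebraMap O K d)⁻¹) := by
    conv_lhs => rw [h1]
    rw [map_sum]
    simp only [map_smul]
  have h4 : ((j : Fin n → K) ⬝ᵥ fun i => y i * algebraMap O K d) = ∑ i, a i • y i := by
    rw [dotProduct]
    refine Finset.sum_congr rfl (fun i _ => ?_)
    rw [Algebra.smul_def, ha i]
    ring
  rw [h2, h3, h4]
  have h5 : (Submodule.Quotient.mk (∑ i, a i • y i) : K ⧸ (1 : Submodule O K)) =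
      (1 : Submodule O K).mkQ (∑ i, a i • y i) := rfl
  rw [h5, map_sum]
  refine Finset.sum_congr rfl (fun i _ => ?_)
  rw [map_smul, Submodule.mkQ_apply, hy i]

/-- The comparison map `dl I → Hom(J/I, K/O)`. -/
noncomputable def PsiV {I J : Submodule O (Fin n → K)} :
    ↥(dl I) →ₗ[O] ((↥J ⧸ I.submoduleOf J) →ₗ[O] K ⧸ (1 : Submodule O K)) where
  toFun y := (I.submoduleOf J).liftQ (PhiV J (y : Fin n → K)) (by
    intro j hj
    rw [LinearMap.mem_ker, PhiV_apply, Submodule.Quotient.mk_eq_zero]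
    exact y.2 _ hj)
  map_add' x y := by
    apply Submodule.linearMap_qext
    ext j
    simp [PhiV_apply]
  map_smul' a x := by
    apply Submodule.linearMap_qext
    ext j
    simp [PhiV_apply]

theorem PsiV_apply {I J : Submodule O (Fin n → K)} (y : ↥(dl I)) (j : ↥J) :
    PsiV (I := I) (J := J) y (Submodule.Quotient.mk j) =
      Submodule.Quotient.mk ((j : Fin n → K) ⬝ᵥ (y : Fin n → K)) := rfl

theorem ker_PsiV {I J : Submodule O (Fin n → K)} :
    LinearMap.ker (PsiV (I := I) (J := J)) = (dl J).submoduleOf (dl I) := by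
  ext x
  rw [LinearMap.mem_ker]
  show _ ↔ (x : Fin n → K) ∈ dl J
  rw [← PhiV_eq_zero_iff]
  constructor
  · intro h
    ext j
    have := LinearMap.congr_fun h (Submodule.Quotient.mk j)
    rw [PsiV_apply] at this
    rw [PhiV_apply]
    exact this
  · intro h
    apply Submodule.linearMap_qext
    ext j
    show PsiV (I := I) (J := J) x (Submodule.Quotient.mk j) = 0
    rw [PsiV_apply]
    have := LinearMap.congr_fun h j
    rw [PhiV_apply] at this
    exact this

theorem PsiV_surjective (hE : Module.Baer O (K ⧸ (1 : Submodule O K)))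
    {I J : Submodule O (Fin n → K)} (hIJ : I ≤ J) (hJ : BD J) :
    Function.Surjective (PsiV (I := I) (J := J)) := by
  intro ψ
  obtain ⟨x, hx⟩ := PhiV_surjective hE hJ (ψ ∘ₗ (I.submoduleOf J).mkQ)
  have hxI : x ∈ dl I := by
    intro i hi
    have := LinearMap.congr_fun hx ⟨i, hIJ hi⟩
    rw [PhiV_apply, LinearMap.comp_apply, Submodule.mkQ_apply,
      (Submodule.Quotient.mk_eq_zero _).mpr (show (⟨i, hIJ hi⟩ : ↥J) ∈ I.submoduleOf J from hi),
      map_zero, Submodule.Quotient.mk_eq_zero] at this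
    exact this
  refine ⟨⟨x, hxI⟩, ?_⟩
  apply Submodule.linearMap_qext
  ext j
  show PsiV (I := I) (J := J) ⟨x, hxI⟩ (Submodule.Quotient.mk j) = _
  rw [PsiV_apply]
  have := LinearMap.congr_fun hx j
  rw [PhiV_apply] at this
  exact this

variable [IsLocalRing O]

/-- **Duality preserves lengths** (rank `n`). -/
theorem qlen_dl (hE : Module.Baer O (K ⧸ (1 : Submodule O K)))
    (htyp : typ (1 : Submodule O K) = 1)
    {I J : Submodule O (Fin n → K)} (hIJ : I ≤ J) (hJ : BD J) (hfin : qlen I J ≠ ⊤) :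
    qlen (dl J) (dl I) = qlen I J := by
  have e := LinearMap.quotKerEquivOfSurjective _ (PsiV_surjective hE hIJ hJ)
  have e' := (Submodule.quotEquivOfEq _ _ (ker_PsiV (I := I) (J := J))).symm.trans e
  have h1 : qlen (dl J) (dl I) = typ (1 : Submodule O K) * qlen I J := by
    unfold qlen typ
    rw [e'.length_eq]
    exact length_hom_eq (K ⧸ (1 : Submodule O K)) hE _ (Module.length_ne_top_iff.mp hfin)
  rw [h1, htyp, one_mul]

end Dual

section Pi

variable {O : Type u} [CommRing O] [IsDomain O] {K : Type u} [Field K] [Algebra O K]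
  [IsFractionRing O K] {n : ℕ}

/-- `I^n ⊆ K^n`. -/
abbrev pw (n : ℕ) (I : Submodule O K) : Submodule O (Fin n → K) :=
  Submodule.pi Set.univ (fun _ : Fin n => I)

theorem mem_pw {I : Submodule O K} {x : Fin n → K} : x ∈ pw n I ↔ ∀ i, x i ∈ I := by
  simp [pw, Submodule.mem_pi]

theorem dl_pw (I : Submodule O K) : dl (pw n I) = pw n ((1 : Submodule O K) / I) := by
  classical
  ext y
  rw [mem_dl, mem_pw]
  constructor
  · intro h i
    rw [Submodule.mem_div_iff_forall_mul_mem]
    intro a ha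
    have h1 : (Pi.single i a : Fin n → K) ∈ pw n I := by
      rw [mem_pw]
      intro t
      by_cases hti : t = i
      · subst hti; rw [Pi.single_eq_same]; exact ha
      · rw [Pi.single_eq_of_ne hti]; exact Submodule.zero_mem _
    have h2 := h _ h1
    rw [single_dotProduct, mul_comm] at h2
    exact h2
  · intro h x hx
    rw [dotProduct]
    refine Submodule.sum_mem _ (fun i _ => ?_)
    rw [mul_comm]
    exact (Submodule.mem_div_iff_forall_mul_mem.mp (h i)) _ (mem_pw.mp hx i)

theorem pw_mono {I J : Submodule O K} (h : I ≤ J) : pw n I ≤ pw n J :=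
  fun _ hx => mem_pw.mpr (fun i => h (mem_pw.mp hx i))

/-- `ℓ(J^n/I^n) = n ℓ(J/I)`. -/
theorem qlen_pw {I J : Submodule O K} (hIJ : I ≤ J) :
    qlen (pw n I) (pw n J) = (n : ℕ∞) * qlen I J := by
  unfold qlen
  -- (J^n)/(I^n) ≃ (J/I)^n
  let f : ↥(pw n J) →ₗ[O] (Fin n → (↥J ⧸ I.submoduleOf J)) :=
    LinearMap.pi (fun i => (I.submoduleOf J).mkQ ∘ₗ
      LinearMap.codRestrict J (LinearMap.proj i ∘ₗ (pw n J).subtype)
        (fun x => mem_pw.mp x.2 i))
  have hf : Function.Surjective f := by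
    intro q
    choose z hz using fun i => Submodule.Quotient.mk_surjective _ (q i)
    refine ⟨⟨fun i => (z i : K), mem_pw.mpr (fun i => (z i).2)⟩, ?_⟩
    funext i
    rw [← hz i]
    rfl
  have hker : LinearMap.ker f = (pw n I).submoduleOf (pw n J) := by
    ext x
    rw [LinearMap.mem_ker]
    show _ ↔ (x : Fin n → K) ∈ pw n I
    rw [mem_pw]
    constructor
    · intro h i
      have := congrFun h i
      have h2 : f x i = Submodule.Quotient.mk (⟨(x : Fin n → K) i, mem_pw.mp x.2 i⟩ : ↥J) := rfl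
      rw [h2, Pi.zero_apply, Submodule.Quotient.mk_eq_zero] at this
      exact this
    · intro h
      funext i
      have h2 : f x i = Submodule.Quotient.mk (⟨(x : Fin n → K) i, mem_pw.mp x.2 i⟩ : ↥J) := rfl
      rw [h2, Pi.zero_apply, Submodule.Quotient.mk_eq_zero]
      exact h i
  have e := LinearMap.quotKerEquivOfSurjective f hf
  have e' := (Submodule.quotEquivOfEq _ _ hker).symm.trans e
  rw [e'.length_eq, Module.length_pi_of_fintype]
  simp

end Pi

section Transpose

variable {K : Type u} [Field K] {n : ℕ}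

theorem exists_transpose (h : (Fin n → K) →ₗ[K] (Fin n → K)) :
    ∃ hT : (Fin n → K) →ₗ[K] (Fin n → K), ∀ x y, h x ⬝ᵥ y = x ⬝ᵥ hT y := by
  refine ⟨Matrix.toLin' (LinearMap.toMatrix' h)ᵀ, fun x y => ?_⟩
  rw [Matrix.toLin'_apply, Matrix.dotProduct_mulVec, Matrix.vecMul_transpose,
    LinearMap.toMatrix'_mulVec]

theorem transpose_injective {h hT : (Fin n → K) →ₗ[K] (Fin n → K)}
    (hh : Function.Surjective h) (hT' : ∀ x y, h x ⬝ᵥ y = x ⬝ᵥ hT y) :
    Function.Injective hT := by
  rw [← LinearMap.ker_eq_bot, LinearMap.ker_eq_bot']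
  intro y hy
  apply dotProduct_eq_zero
  intro u
  obtain ⟨x, rfl⟩ := hh u
  rw [dotProduct_comm, hT', hy, dotProduct_zero]

end Transpose

end Groth.Agent.Helper8.VDual
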