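import Mathlib
import Groth.Agent.Lib.Helper8.VDual1

/-!
# `O~`-stable lattices: chains with successive `O`-colength one (helper8)
-/

namespace Groth.Agent.Helper8.VDual

universe u

open Groth.Agent.Helper8.FracDual

section Residue

variable (O : Type u) [CommRing O] [IsDomain O] [IsLocalRing O] (K : Type u) [Field K]
  [Algebra O K] [IsFractionRing O K]

/-- With algebraically closed residue field, `O → O~/𝔫` is onto for every maximal `𝔫`. -/
theorem exists_sub_mem_of_isMaximal [IsAlgClosed (IsLocalRing.ResidueField O)]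
    (𝔫 : Ideal ↥(integralClosure O K)) [h𝔫 : 𝔫.IsMaximal] (a : ↥(integralClosure O K)) :
    ∃ r : O, a - algebraMap O ↥(integralClosure O K) r ∈ 𝔫 := by
  have hmax : (𝔫.comap (algebraMap O ↥(integralClosure O K))).IsMaximal :=
    Ideal.isMaximal_comap_of_isIntegral_of_isMaximal 𝔫
  have hm : 𝔫.comap (algebraMap O ↥(integralClosure O K)) = IsLocalRing.maximalIdeal O :=
    IsLocalRing.eq_maximalIdeal hmax
  letI : Field (O ⧸ 𝔫.comap (algebraMap O ↥(integralClosure O K))) := Ideal.Quotient.field _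
  letI : Field (↥(integralClosure O K) ⧸ 𝔫) := Ideal.Quotient.field _
  letI : Field (O ⧸ IsLocalRing.maximalIdeal O) := Ideal.Quotient.field _
  haveI : IsAlgClosed (O ⧸ 𝔫.comap (algebraMap O ↥(integralClosure O K))) := by
    have h0 : IsAlgClosed (O ⧸ IsLocalRing.maximalIdeal O) :=
      inferInstanceAs (IsAlgClosed (IsLocalRing.ResidueField O))
    let e : (O ⧸ IsLocalRing.maximalIdeal O) ≃+*
        (O ⧸ 𝔫.comap (algebraMap O ↥(integralClosure O K))) :=
      Ideal.quotEquivOfEq hm.symm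
    exact IsAlgClosed.of_ringEquiv _ _ e
  have hint : (algebraMap O ↥(integralClosure O K)).IsIntegral :=
    algebraMap_isIntegral_iff.mpr inferInstance
  have hq := RingHom.IsIntegral.quotient (algebraMap O ↥(integralClosure O K)) (I := 𝔫) hint
  have hbij := IsAlgClosed.ringHom_bijective_of_isIntegral _ hq
  obtain ⟨z, hz⟩ := hbij.2 (Ideal.Quotient.mk 𝔫 a)
  obtain ⟨r, rfl⟩ := Ideal.Quotient.mk_surjective z
  refine ⟨r, ?_⟩
  rw [← Ideal.Quotient.eq]
  rw [← hz]
  rfl

end Residue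

section Stable

variable {O : Type u} [CommRing O] [IsDomain O] {K : Type u} [Field K] [Algebra O K]
  [IsFractionRing O K]
  {V : Type u} [AddCommGroup V] [Module O V] [Module K V] [IsScalarTower O K V]

/-- stability under the integral closure -/
def St (N : Submodule O V) : Prop :=
  ∀ a : K, a ∈ integralClosure O K → ∀ x ∈ N, a • x ∈ N

theorem St.sup {P Q : Submodule O V} (hP : St (K := K) P) (hQ : St (K := K) Q) :
    St (K := K) (P ⊔ Q) := by
  intro a ha x hx
  obtain ⟨p, hp, q, hq, rfl⟩ := Submodule.mem_sup.mp hx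
  rw [smul_add]
  exact Submodule.add_mem_sup (hP a ha p hp) (hQ a ha q hq)

theorem St.ideal_smul (I : Ideal O) {Q : Submodule O V} (hQ : St (K := K) Q) :
    St (K := K) (I • Q) := by
  intro a ha x hx
  refine Submodule.smul_induction_on hx (fun r hr q hq => ?_) (fun x y hx hy => ?_)
  · rw [smul_comm]
    exact Submodule.smul_mem_smul hr (hQ a ha q hq)
  · rw [smul_add]
    exact Submodule.add_mem _ hx hy

/-- `a ↦ a • q` on `O~`. -/
noncomputable def rho (q : V) : ↥(integralClosure O K) →ₗ[O] V where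
  toFun a := (a : K) • q
  map_add' a b := by
    show ((a : K) + (b : K)) • q = _
    rw [add_smul]
  map_smul' r a := by
    show ((r • a : ↥(integralClosure O K)) : K) • q = r • ((a : K) • q)
    have : ((r • a : ↥(integralClosure O K)) : K) = r • (a : K) := rfl
    rw [this, smul_assoc]

theorem rho_apply (q : V) (a : ↥(integralClosure O K)) : rho q a = (a : K) • q := rfl

/-- `𝔟 q` as an `O`-submodule. -/
noncomputable def mulq (𝔟 : Ideal ↥(integralClosure O K)) (q : V) : Submodule O V :=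
  (𝔟.restrictScalars O).map (rho q)

theorem mem_mulq {𝔟 : Ideal ↥(integralClosure O K)} {q x : V} :
    x ∈ mulq 𝔟 q ↔ ∃ a ∈ 𝔟, (a : K) • q = x := by
  unfold mulq
  rw [Submodule.mem_map]
  rfl

theorem St_mulq (𝔟 : Ideal ↥(integralClosure O K)) (q : V) : St (K := K) (mulq 𝔟 q) := by
  intro c hc x hx
  obtain ⟨a, ha, rfl⟩ := mem_mulq.mp hx
  refine mem_mulq.mpr ⟨⟨c, hc⟩ * a, 𝔟.mul_mem_left _ ha, ?_⟩
  show (c * (a : K)) • q = _
  rw [mul_smul]

theorem mulq_le {𝔟 : Ideal ↥(integralClosure O K)} {q : V} {Q : Submodule O V}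
    (hQ : St (K := K) Q) (hq : q ∈ Q) : mulq 𝔟 q ≤ Q := by
  intro x hx
  obtain ⟨a, _, rfl⟩ := mem_mulq.mp hx
  exact hQ _ a.2 q hq

variable [IsLocalRing O]

/-- A maximal stable submodule has colength one. -/
theorem qlen_eq_one_of_maximal [IsAlgClosed (IsLocalRing.ResidueField O)]
    {P Q : Submodule O V} (hP : St (K := K) P)
    (hQ : St (K := K) Q) (hPQ : P ≤ Q) (hne : P ≠ Q) (hfg : Q.FG)
    (hmax : ∀ P' : Submodule O V, St (K := K) P' → P ≤ P' → P' ≤ Q → P' = P ∨ P' = Q) :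
    qlen P Q = 1 := by
  classical
  set m := IsLocalRing.maximalIdeal O with hmdef
  -- step 1: m Q ≤ P
  have h1 : m • Q ≤ P := by
    have hle : P ⊔ m • Q ≤ Q := sup_le hPQ Submodule.smul_le_right
    rcases hmax _ (hP.sup (hQ.ideal_smul m)) le_sup_left hle with h | h
    · rw [← h]; exact le_sup_right
    · exfalso
      apply hne
      refine le_antisymm hPQ ?_
      refine Submodule.le_of_le_smul_of_le_jacobson_bot hfg
        (IsLocalRing.maximalIdeal_le_jacobson ⊥) ?_
      rw [h]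
  -- step 2: q ∈ Q \ P
  obtain ⟨q, hqQ, hqP⟩ := SetLike.exists_of_lt (lt_of_le_of_ne hPQ hne)
  -- the annihilator ideal
  let 𝔞 : Ideal ↥(integralClosure O K) :=
    { carrier := {a | (a : K) • q ∈ P}
      add_mem' := by
        intro a b ha hb
        show ((a : K) + (b : K)) • q ∈ P
        rw [add_smul]
        exact P.add_mem ha hb
      zero_mem' := by
        show ((0 : K)) • q ∈ P
        rw [zero_smul]
        exact P.zero_mem
      smul_mem' := by
        intro c a ha
        show ((c : K) * (a : K)) • q ∈ P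
        rw [mul_smul]
        exact hP _ c.2 _ ha }
  have h𝔞 : 𝔞 ≠ ⊤ := by
    intro h
    have : (1 : ↥(integralClosure O K)) ∈ 𝔞 := by rw [h]; exact Submodule.mem_top
    have h2 : ((1 : K)) • q ∈ P := this
    rw [one_smul] at h2
    exact hqP h2
  obtain ⟨𝔫, h𝔫max, h𝔞𝔫⟩ := Ideal.exists_le_maximal 𝔞 h𝔞
  -- step 3: 𝔫 q ⊆ P
  have h3 : mulq 𝔫 q ≤ P := by
    have hle : P ⊔ mulq 𝔫 q ≤ Q := sup_le hPQ (mulq_le hQ hqQ)
    rcases hmax _ (hP.sup (St_mulq 𝔫 q)) le_sup_left hle with h | h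
    · rw [← h]; exact le_sup_right
    · exfalso
      have hq' : q ∈ P ⊔ mulq 𝔫 q := by rw [h]; exact hqQ
      obtain ⟨p, hp, y, hy, hpy⟩ := Submodule.mem_sup.mp hq'
      obtain ⟨a, ha, rfl⟩ := mem_mulq.mp hy
      have h4 : (1 - a : ↥(integralClosure O K)) ∈ 𝔞 := by
        show ((1 : K) - (a : K)) • q ∈ P
        rw [sub_smul, one_smul]
        have : q - (a : K) • q = p := sub_eq_of_eq_add hpy.symm
        rw [this]
        exact hp
      have h5 : (1 : ↥(integralClosure O K)) ∈ 𝔫 := by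
        have := 𝔫.add_mem (h𝔞𝔫 h4) ha
        rwa [sub_add_cancel] at this
      exact h𝔫max.ne_top ((Ideal.eq_top_iff_one 𝔫).mpr h5)
  -- step 4: Q = P ⊔ O~ q
  have h4 : P ⊔ mulq (⊤ : Ideal ↥(integralClosure O K)) q = Q := by
    have hle : P ⊔ mulq (⊤ : Ideal ↥(integralClosure O K)) q ≤ Q := sup_le hPQ (mulq_le hQ hqQ)
    rcases hmax _ (hP.sup (St_mulq (⊤ : Ideal ↥(integralClosure O K)) q)) le_sup_left hle with h | h
    · exfalso
      apply hqP
      rw [← h]
      refine Submodule.mem_sup_right (mem_mulq.mpr ⟨1, Submodule.mem_top, ?_⟩)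
      show (1 : K) • q = q
      rw [one_smul]
    · exact h
  -- step 5: Q ≤ P ⊔ O q
  have h5 : ∀ x ∈ Q, ∃ r : O, x - r • q ∈ P := by
    intro x hx
    rw [← h4] at hx
    obtain ⟨p, hp, y, hy, rfl⟩ := Submodule.mem_sup.mp hx
    obtain ⟨a, _, rfl⟩ := mem_mulq.mp hy
    haveI := h𝔫max
    obtain ⟨r, hr⟩ := exists_sub_mem_of_isMaximal O K 𝔫 a
    refine ⟨r, ?_⟩
    have h6 : ((a - algebraMap O ↥(integralClosure O K) r : ↥(integralClosure O K)) : K) • q ∈ P :=
      h3 (mem_mulq.mpr ⟨_, hr, rfl⟩)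
    have h7 : ((a - algebraMap O ↥(integralClosure O K) r : ↥(integralClosure O K)) : K) =
        (a : K) - algebraMap O K r := rfl
    rw [h7, sub_smul, IsScalarTower.algebraMap_smul] at h6
    have h8 : p + (a : K) • q - r • q = p + ((a : K) • q - r • q) := by abel
    rw [h8]
    exact P.add_mem hp h6
  -- step 6: the quotient is simple
  unfold qlen
  rw [Module.length_eq_one_iff]
  let f : O →ₗ[O] (↥Q ⧸ P.submoduleOf Q) :=
    LinearMap.toSpanSingleton O _ (Submodule.Quotient.mk ⟨q, hqQ⟩)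
  have hf : Function.Surjective f := by
    intro z
    obtain ⟨⟨x, hx⟩, rfl⟩ := Submodule.Quotient.mk_surjective _ z
    obtain ⟨r, hr⟩ := h5 x hx
    refine ⟨r, ?_⟩
    show r • (Submodule.Quotient.mk ⟨q, hqQ⟩ : ↥Q ⧸ P.submoduleOf Q) = _
    rw [← Submodule.Quotient.mk_smul, eq_comm, Submodule.Quotient.eq]
    exact hr
  have hker : LinearMap.ker f = m := by
    symm
    refine Ideal.IsMaximal.eq_of_le (IsLocalRing.maximalIdeal.isMaximal O) ?_ ?_
    · intro h
      have h1' : (1 : O) ∈ LinearMap.ker f := by rw [h]; exact Submodule.mem_top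
      rw [LinearMap.mem_ker] at h1'
      have h2' : f 1 = (Submodule.Quotient.mk ⟨q, hqQ⟩ : ↥Q ⧸ P.submoduleOf Q) := by
        show (1 : O) • (Submodule.Quotient.mk ⟨q, hqQ⟩ : ↥Q ⧸ P.submoduleOf Q) = _
        rw [one_smul]
      rw [h2', Submodule.Quotient.mk_eq_zero] at h1'
      exact hqP h1'
    · intro r hr
      rw [LinearMap.mem_ker]
      show r • (Submodule.Quotient.mk ⟨q, hqQ⟩ : ↥Q ⧸ P.submoduleOf Q) = 0
      rw [← Submodule.Quotient.mk_smul, Submodule.Quotient.mk_eq_zero]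
      exact h1 (Submodule.smul_mem_smul hr hqQ)
  have e := LinearMap.quotKerEquivOfSurjective f hf
  rw [isSimpleModule_iff_quot_maximal]
  refine ⟨m, IsLocalRing.maximalIdeal.isMaximal O, ⟨?_⟩⟩
  exact e.symm.trans (Submodule.quotEquivOfEq _ _ hker)

/-- Between stable `P < Q` there is a stable `P'` of colength one in `Q`. -/
theorem exists_colength_one [IsAlgClosed (IsLocalRing.ResidueField O)]
    {Q : Submodule O V} (hQ : St (K := K) Q) (hfg : Q.FG) :
    ∀ (k : ℕ) (P : Submodule O V), St (K := K) P → P ≤ Q → P ≠ Q → qlen P Q = k →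
      ∃ P' : Submodule O V, St (K := K) P' ∧ P ≤ P' ∧ P' ≤ Q ∧ qlen P' Q = 1 := by
  intro k
  induction k using Nat.strong_induction_on with
  | _ k ih =>
    intro P hP hPQ hne hk
    by_cases hmax : ∀ P' : Submodule O V, St (K := K) P' → P ≤ P' → P' ≤ Q → P' = P ∨ P' = Q
    · exact ⟨P, hP, le_rfl, hPQ, qlen_eq_one_of_maximal hP hQ hPQ hne hfg hmax⟩
    · push Not at hmax
      obtain ⟨P', hP', hPP', hP'Q, hne1, hne2⟩ := hmax
      have hadd := qlen_add hPP' hP'Q
      have hpos : qlen P P' ≠ 0 := by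
        rw [Ne, qlen_eq_zero_iff hPP']
        exact fun h => hne1 h.symm
      have hfin' : qlen P' Q ≠ ⊤ := by
        intro h
        rw [h, add_top, hk] at hadd
        exact ENat.coe_ne_top k hadd
      obtain ⟨k', hk'⟩ := ENat.ne_top_iff_exists.mp hfin'
      have hlt : k' < k := by
        rw [hk, ← hk'] at hadd
        by_contra hcon
        push Not at hcon
        have h2 : qlen P P' + (k' : ℕ∞) ≤ (k' : ℕ∞) := by
          rw [← hadd]; exact_mod_cast hcon
        have h3 : qlen P P' = 0 := by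
          by_contra h0
          have h4 : (1 : ℕ∞) ≤ qlen P P' := Order.one_le_iff_pos.mpr (pos_iff_ne_zero.mpr h0)
          have h5 : (1 : ℕ∞) + (k' : ℕ∞) ≤ (k' : ℕ∞) := le_trans (add_le_add_left h4 _) h2
          have h6 : ((1 + k' : ℕ) : ℕ∞) ≤ (k' : ℕ∞) := by push_cast; exact h5
          have h7 : 1 + k' ≤ k' := by exact_mod_cast h6
          omega
        exact hpos h3
      obtain ⟨P'', hP'', h1, h2, h3⟩ := ih k' hlt P' hP' hP'Q hne2 hk'.symm
      exact ⟨P'', hP'', hPP'.trans h1, h2, h3⟩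

/-- Chains: every colength `b ≤ ℓ(Q/P)` is realised by a stable intermediate module. -/
theorem exists_colength [IsAlgClosed (IsLocalRing.ResidueField O)] [IsNoetherianRing O]
    {P Q : Submodule O V} (hP : St (K := K) P) (hQ : St (K := K) Q) (hPQ : P ≤ Q) (hfg : Q.FG)
    (hfin : qlen P Q ≠ ⊤) :
    ∀ b : ℕ, (b : ℕ∞) ≤ qlen P Q →
      ∃ P' : Submodule O V, St (K := K) P' ∧ P ≤ P' ∧ P' ≤ Q ∧ qlen P' Q = b := by
  intro b
  induction b with
  | zero =>
    intro _
    exact ⟨Q, hQ, hPQ, le_rfl, by rw [qlen_self]; rfl⟩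
  | succ b ih =>
    intro hb
    have hb' : (b : ℕ∞) ≤ qlen P Q := le_trans (by exact_mod_cast Nat.le_succ b) hb
    obtain ⟨P₁, hP₁, hPP₁, hP₁Q, hlen⟩ := ih hb'
    have hne : P ≠ P₁ := by
      rintro rfl
      rw [hlen] at hb
      have : b + 1 ≤ b := by exact_mod_cast hb
      omega
    have hfg₁ : P₁.FG := by
      haveI : Module.Finite O ↥Q := Module.Finite.iff_fg.mpr hfg
      haveI : IsNoetherian O ↥Q := isNoetherian_of_isNoetherianRing_of_finite O _
      exact (isNoetherian_submodule (N := Q)).mp inferInstance P₁ hP₁Q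
    have hfin₁ : qlen P P₁ ≠ ⊤ := by
      intro h
      apply hfin
      rw [qlen_add hPP₁ hP₁Q, h, top_add]
    obtain ⟨k, hk⟩ := ENat.ne_top_iff_exists.mp hfin₁
    obtain ⟨P₂, hP₂, h1, h2, h3⟩ := exists_colength_one hP₁ hfg₁ k P hP hPP₁ hne hk.symm
    refine ⟨P₂, hP₂, h1, h2.trans hP₁Q, ?_⟩
    rw [qlen_add h2 hP₁Q, h3, hlen]
    push_cast
    ring

end Stable

end Groth.Agent.Helper8.VDual
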