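import Mathlib
import Groth.Agent.Lib.Helper8.VDual2

/-!
# Normalised embeddings of torsion-free modules over a Gorenstein curve singularity (helper8)
-/

namespace Groth.Agent.Helper8.VDual

universe u

open Groth.Agent.Helper8.FracDual Matrix

section Normalize

variable {O : Type u} [CommRing O] [IsDomain O] [IsNoetherianRing O] [IsLocalRing O]
  {K : Type u} [Field K] [Algebra O K] [IsFractionRing O K] {n : ℕ}

theorem single_mem_pw_one (i : Fin n) : (Pi.single i 1 : Fin n → K) ∈ pw n (1 : Submodule O K) := by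
  classical
  rw [mem_pw]
  intro t
  by_cases hti : t = i
  · subst hti; rw [Pi.single_eq_same]; exact Submodule.one_le.mp le_rfl
  · rw [Pi.single_eq_of_ne hti]; exact Submodule.zero_mem _

/-- automorphism form of "`O^n ⊆ M' ⊆ O~^n`" -/
theorem exists_normalize (hdim : ringKrullDim O = 1) [Infinite (IsLocalRing.ResidueField O)]
    (hfin : Module.Finite O ↥(integralClosure O K)) (N : Submodule O (Fin n → K)) (hfg : N.FG)
    (hspan : Submodule.span K (N : Set (Fin n → K)) = ⊤) :
    ∃ g : (Fin n → K) →ₗ[K] (Fin n → K), Function.Bijective g ∧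
      pw n (1 : Submodule O K) ≤ N.map (g.restrictScalars O) ∧
      N.map (g.restrictScalars O) ≤ pw n (Subalgebra.toSubmodule (integralClosure O K)) := by
  classical
  haveI : Module.Finite O ↥N := Module.Finite.iff_fg.mpr hfg
  have hn : Module.finrank K (Fin n → K) = n := by simp
  have hspan' : Submodule.span K (LinearMap.range N.subtype : Set (Fin n → K)) = ⊤ := by
    rw [Submodule.range_subtype]; exact hspan
  obtain ⟨M', h1, h2, ⟨θ⟩⟩ := Groth.Agent.Helper19.TFCurv.exists_lattice O K N.subtype
    (Submodule.injective_subtype N) hspan' hdim hfin n hn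
  obtain ⟨g, hg⟩ := ext_lin N hspan (M'.subtype ∘ₗ θ.toLinearMap)
  have hmap : N.map (g.restrictScalars O) = M' := by
    ext y
    constructor
    · rintro ⟨x, hx, rfl⟩
      have := hg ⟨x, hx⟩
      show g x ∈ M'
      rw [this]
      exact (θ ⟨x, hx⟩).2
    · intro hy
      refine ⟨(θ.symm ⟨y, hy⟩ : Fin n → K), (θ.symm ⟨y, hy⟩).2, ?_⟩
      show g _ = y
      rw [hg]
      simp
  have hsurj : Function.Surjective g := by
    intro v
    have he : ∀ i : Fin n, ∃ x : Fin n → K, g x = Pi.single i 1 := by
      intro i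
      have : (Pi.single i 1 : Fin n → K) ∈ N.map (g.restrictScalars O) := by
        rw [hmap]; exact h1 (single_mem_pw_one i)
      obtain ⟨x, _, hx⟩ := this
      exact ⟨x, hx⟩
    choose x hx using he
    refine ⟨∑ i, v i • x i, ?_⟩
    rw [map_sum]
    simp only [map_smul, hx]
    exact (pi_eq_sum_univ' v).symm
  have hinj := (LinearMap.injective_iff_surjective).mpr hsurj
  exact ⟨g, ⟨hinj, hsurj⟩, by rw [hmap]; exact h1, by rw [hmap]; exact h2⟩

/-- `O~^n` is stable. -/
theorem St_pw_B : St (K := K) (pw n (Subalgebra.toSubmodule (integralClosure O K))) := by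
  intro a ha x hx
  rw [mem_pw] at hx ⊢
  intro i
  exact (integralClosure O K).mul_mem ha (hx i)

/-- a stable module containing `O^n` contains `O~^n`. -/
theorem pw_B_le_of_St {N : Submodule O (Fin n → K)} (hN : St (K := K) N)
    (h1 : pw n (1 : Submodule O K) ≤ N) :
    pw n (Subalgebra.toSubmodule (integralClosure O K)) ≤ N := by
  classical
  intro x hx
  rw [pi_eq_sum_univ' x]
  refine Submodule.sum_mem _ (fun i _ => ?_)
  exact hN _ (mem_pw.mp hx i) _ (h1 (single_mem_pw_one i))

/-- stability is preserved by `K`-linear maps and their preimages -/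
theorem St.map {N : Submodule O (Fin n → K)} (hN : St (K := K) N)
    (g : (Fin n → K) →ₗ[K] (Fin n → K)) : St (K := K) (N.map (g.restrictScalars O)) := by
  rintro a ha _ ⟨x, hx, rfl⟩
  refine ⟨a • x, hN a ha x hx, ?_⟩
  show g (a • x) = a • g x
  rw [map_smul]

theorem St.comap {N : Submodule O (Fin n → K)} (hN : St (K := K) N)
    (g : (Fin n → K) →ₗ[K] (Fin n → K)) : St (K := K) (N.comap (g.restrictScalars O)) := by
  intro a ha x hx
  show g (a • x) ∈ N
  rw [map_smul]
  exact hN a ha _ hx

/-- the stable hull -/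
noncomputable def hull (D : Submodule O (Fin n → K)) : Submodule O (Fin n → K) :=
  sInf {N | St (K := K) N ∧ D ≤ N}

theorem le_hull (D : Submodule O (Fin n → K)) : D ≤ hull D :=
  le_sInf (fun _ hN => hN.2)

theorem hull_le {D N : Submodule O (Fin n → K)} (hN : St (K := K) N) (hD : D ≤ N) : hull D ≤ N :=
  sInf_le ⟨hN, hD⟩

theorem St_hull (D : Submodule O (Fin n → K)) : St (K := K) (hull D) := by
  intro a ha x hx
  unfold hull at hx ⊢
  rw [Submodule.mem_sInf] at hx ⊢
  intro N hN
  exact hN.1 a ha x (hx N hN)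

/-- `dl` of an image. -/
theorem dl_map {h hT : (Fin n → K) →ₗ[K] (Fin n → K)}
    (hT' : ∀ x y, h x ⬝ᵥ y = x ⬝ᵥ hT y) (L : Submodule O (Fin n → K)) :
    dl (L.map (h.restrictScalars O)) = (dl L).comap (hT.restrictScalars O) := by
  ext y
  constructor
  · intro hy z hz
    have := hy (h z) ⟨z, hz, rfl⟩
    rw [hT'] at this
    exact this
  · rintro hy _ ⟨z, hz, rfl⟩
    show h z ⬝ᵥ y ∈ _
    rw [hT']
    exact hy z hz

end Normalize

end Groth.Agent.Helper8.VDual
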