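import Mathlib
import Groth.Agent.Lib.Helper8.VDual3

/-!
# Rank-`n` torsion-free modules over a Gorenstein curve singularity: normalised embeddings (helper8)

Every torsion-free module of rank `n` is isomorphic to some `M'` with `C^n ⊆ M' ⊆ O~^n` and
`ℓ(M'/C^n) = n ℓ(O/C)`.
-/

namespace Groth.Agent.Helper8.VDual

universe u

open Groth.Agent.Helper8.FracDual Matrix

section Main

variable {O : Type u} [CommRing O] [IsDomain O] {K : Type u} [Field K] [Algebra O K]
  [IsFractionRing O K] {n : ℕ}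

theorem single_mem_pw {I : Submodule O K} {a : K} (ha : a ∈ I) (i : Fin n) :
    (Pi.single i a : Fin n → K) ∈ pw n I := by
  classical
  rw [mem_pw]
  intro t
  by_cases hti : t = i
  · subst hti; rw [Pi.single_eq_same]; exact ha
  · rw [Pi.single_eq_of_ne hti]; exact Submodule.zero_mem _

theorem main [LocCoh.IsGorensteinLocalRing O] (hdim : ringKrullDim O = 1)
    [IsAlgClosed (IsLocalRing.ResidueField O)]
    (hfin : Module.Finite O ↥(integralClosure O K))
    (M : Type u) [AddCommGroup M] [Module O M] [Module.Finite O M] [NoZeroSMulDivisors O M]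
    (n : ℕ) (hn : Module.finrank K (TensorProduct O K M) = n) :
    ∃ M' : Submodule O (Fin n → K),
      pw n ((1 : Submodule O K) / Subalgebra.toSubmodule (integralClosure O K)) ≤ M' ∧
      M' ≤ pw n (Subalgebra.toSubmodule (integralClosure O K)) ∧ Nonempty (M ≃ₗ[O] ↥M') ∧
      qlen (pw n ((1 : Submodule O K) / Subalgebra.toSubmodule (integralClosure O K))) M' =
        (n : ℕ∞) * qlen ((1 : Submodule O K) / Subalgebra.toSubmodule (integralClosure O K)) 1 := by
  classical
  have hFL : FL O K := fl_of_dim hdim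
  have hnf := exists_nf (O := O) hdim
  have hE := baer_one (O := O) (K := K) hdim
  have htyp : typ (1 : Submodule O K) = 1 := typ_eq_one hFL hnf isLat_one hE
  set B : Submodule O K := Subalgebra.toSubmodule (integralClosure O K) with hB
  have h1B : (1 : Submodule O K) ≤ B := by
    rw [Submodule.one_le]; exact (integralClosure O K).one_mem
  have hBfg : B.FG := by
    have h0 : Module.Finite O ↥B := hfin
    exact Module.Finite.iff_fg.mp h0
  have hBne : B ≠ ⊥ := by
    intro h
    have : (1 : K) ∈ B := h1B (Submodule.one_le.mp le_rfl)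
    rw [h] at this
    exact one_ne_zero ((Submodule.mem_bot O).mp this)
  have hBlat : IsLat B := isLat_of_fg hBfg hBne
  have hBmul : ∀ x ∈ B, ∀ y ∈ B, x * y ∈ B := fun x hx y hy =>
    (integralClosure O K).mul_mem hx hy
  set CK : Submodule O K := (1 : Submodule O K) / B with hCK
  have hCKlat : IsLat CK := IsLat.div isLat_one hBlat
  have hCK1 : CK ≤ 1 := by
    intro x hx
    have := (Submodule.mem_div_iff_forall_mul_mem.mp hx) 1 (h1B (Submodule.one_le.mp le_rfl))
    rwa [mul_one] at this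
  have hdivCK : (1 : Submodule O K) / CK = B := div_div_eq hFL hnf isLat_one hE hBlat
  -- the standard lattices
  have hdlL : dl (pw n B) = pw n CK := dl_pw B
  have hdlC : dl (pw n CK) = pw n B := by rw [dl_pw, hdivCK]
  have hdlO : dl (pw n (1 : Submodule O K)) = pw n (1 : Submodule O K) := by rw [dl_pw, div_one']
  have hCO : pw n CK ≤ pw n (1 : Submodule O K) := pw_mono hCK1
  have hOL : pw n (1 : Submodule O K) ≤ pw n B := pw_mono h1B
  have hBD : BD (pw n B) := by
    obtain ⟨d, hd, hdB⟩ := hBlat.2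
    exact ⟨d, hd, fun x hx i => hdB _ (mem_pw.mp hx i)⟩
  have hfinCL : qlen (pw n CK) (pw n B) ≠ ⊤ := by
    rw [qlen_pw (hCK1.trans h1B)]
    exact WithTop.mul_ne_top (ENat.coe_ne_top n) (qlen_ne_top hFL hCKlat hBlat (hCK1.trans h1B))
  have hfinq : ∀ {I J : Submodule O (Fin n → K)}, pw n CK ≤ I → I ≤ J → J ≤ pw n B →
      qlen I J ≠ ⊤ := fun h1 h2 h3 => ne_top_of_le_ne_top hfinCL (qlen_mono h1 h2 h3)
  have hLfg : (pw n B).FG := Submodule.fg_pi (fun _ => hBfg)
  haveI : Module.Finite O ↥(pw n B) := Module.Finite.iff_fg.mpr hLfg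
  haveI : IsNoetherian O ↥(pw n B) := isNoetherian_of_isNoetherianRing_of_finite O _
  have hfg_of_le : ∀ {N : Submodule O (Fin n → K)}, N ≤ pw n B → N.FG :=
    fun h => (isNoetherian_submodule (N := pw n B)).mp inferInstance _ h
  have hspan_of_ge : ∀ {N : Submodule O (Fin n → K)}, pw n CK ≤ N →
      Submodule.span K (N : Set (Fin n → K)) = ⊤ := by
    intro N hN
    obtain ⟨a, ha, haC⟩ := hCKlat.1
    have ha0 := algebraMap_ne_zero' (K := K) ha
    rw [eq_top_iff]
    intro v _
    rw [pi_eq_sum_univ' v]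
    refine Submodule.sum_mem _ (fun i _ => ?_)
    have h1 : (Pi.single i (algebraMap O K a) : Fin n → K) ∈ N := hN (single_mem_pw haC i)
    have h2 : (v i • Pi.single i 1 : Fin n → K) =
        (v i * (algebraMap O K a)⁻¹) • (Pi.single i (algebraMap O K a) : Fin n → K) := by
      ext t
      by_cases hti : t = i
      · subst hti
        simp only [Pi.smul_apply, Pi.single_eq_same, smul_eq_mul]
        field_simp
      · simp only [Pi.smul_apply, Pi.single_eq_of_ne hti, smul_eq_mul, mul_zero]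
    rw [h2]
    exact Submodule.smul_mem _ _ (Submodule.subset_span h1)
  -- step 1: the embedding
  obtain ⟨M₁, hOM, hML, ⟨θ⟩⟩ := Groth.Agent.Helper19.TFCurv.main_lattice O K M hdim hfin n hn
  obtain ⟨D, hD⟩ : ∃ D, D = dl M₁ := ⟨_, rfl⟩
  have hCD : pw n CK ≤ D := by rw [hD, ← hdlL]; exact dl_anti hML
  have hDO : D ≤ pw n (1 : Submodule O K) := by rw [hD, ← hdlO]; exact dl_anti hOM
  have hb1 : qlen D (pw n (1 : Submodule O K)) = qlen (pw n (1 : Submodule O K)) M₁ := by
    have := qlen_dl hE htyp hOM (hBD.mono hML) (hfinq hCO hOM hML)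
    rwa [hdlO, ← hD] at this
  -- reflexivity
  have hMDD : M₁ ≤ dl D := by rw [hD]; exact le_dl_dl M₁
  have hrefl : dl D = M₁ := by
    have e1 := qlen_dl hE htyp hDO (hBD.mono hOL) (hfinq hCD hDO hOL)
    rw [hdlO] at e1
    have e2 := qlen_add hOM hMDD
    rw [e1, hb1] at e2
    have hf : qlen (pw n (1 : Submodule O K)) M₁ ≠ ⊤ := hfinq hCO hOM hML
    have e3 : qlen M₁ (dl D) = 0 := by
      have : qlen (pw n (1 : Submodule O K)) M₁ + 0 =
          qlen (pw n (1 : Submodule O K)) M₁ + qlen M₁ (dl D) := by rw [add_zero]; exact e2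
      exact (ENat.add_right_injective_of_ne_top hf this).symm
    exact ((qlen_eq_zero_iff hMDD).mp e3).symm
  -- step 2: the hull of D
  have hDL' : D ≤ hull (K := K) D := le_hull D
  have hL'L : hull (K := K) D ≤ pw n B := hull_le St_pw_B (hDO.trans hOL)
  have hStL' : St (K := K) (hull (K := K) D) := St_hull D
  obtain ⟨g, hgbij, hg1, hg2⟩ := exists_normalize hdim hfin D (hfg_of_le (hDO.trans hOL))
    (hspan_of_ge hCD)
  have hA : qlen D (hull (K := K) D) ≤ qlen (pw n (1 : Submodule O K)) (pw n B) := by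
    have h3 : (hull (K := K) D).map (g.restrictScalars O) ≤ pw n B := by
      rw [Submodule.map_le_iff_le_comap]
      exact hull_le (St_pw_B.comap g) (Submodule.map_le_iff_le_comap.mp hg2)
    rw [← qlen_map (g.restrictScalars O) hgbij.1 D (hull (K := K) D)]
    exact qlen_mono hg1 (Submodule.map_mono hDL') h3
  have hbfin : qlen D (pw n (1 : Submodule O K)) ≠ ⊤ := hfinq hCD hDO hOL
  obtain ⟨b, hb⟩ := ENat.ne_top_iff_exists.mp hbfin
  have hnδfin : qlen (pw n (1 : Submodule O K)) (pw n B) ≠ ⊤ := hfinq hCO hOL le_rfl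
  have e1 : qlen D (pw n B) = qlen D (pw n (1 : Submodule O K)) +
      qlen (pw n (1 : Submodule O K)) (pw n B) := qlen_add hDO hOL
  have e2 : qlen D (pw n B) = qlen D (hull (K := K) D) + qlen (hull (K := K) D) (pw n B) :=
    qlen_add hDL' hL'L
  have hble : (b : ℕ∞) ≤ qlen (hull (K := K) D) (pw n B) := by
    rw [hb]
    have h4 : qlen D (pw n (1 : Submodule O K)) + qlen (pw n (1 : Submodule O K)) (pw n B) ≤
        qlen (pw n (1 : Submodule O K)) (pw n B) + qlen (hull (K := K) D) (pw n B) := by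
      rw [← e1, e2]; exact add_le_add_left hA _
    rw [add_comm] at h4
    exact (ENat.add_le_add_iff_left hnδfin).mp h4
  -- step 3: the chain
  obtain ⟨L'', hStL'', hL'L'', hL''L, hlen⟩ := exists_colength hStL' St_pw_B hL'L hLfg
    (hfinq (hCD.trans hDL') hL'L le_rfl) b hble
  have hDL'' : D ≤ L'' := hDL'.trans hL'L''
  -- step 4: L'' = h(L)
  obtain ⟨g₂, hg₂bij, hg₂1, hg₂2⟩ := exists_normalize hdim hfin L'' (hfg_of_le hL''L)
    (hspan_of_ge (hCD.trans hDL''))
  have hg₂L : L''.map (g₂.restrictScalars O) = pw n B :=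
    le_antisymm hg₂2 (pw_B_le_of_St (hStL''.map g₂) hg₂1)
  let e₂ := LinearEquiv.ofBijective g₂ hg₂bij
  let h : (Fin n → K) →ₗ[K] (Fin n → K) := e₂.symm.toLinearMap
  have hhL : (pw n B).map (h.restrictScalars O) = L'' := by
    rw [← hg₂L]
    ext y
    constructor
    · rintro ⟨_, ⟨x, hx, rfl⟩, rfl⟩
      show e₂.symm (g₂ x) ∈ L''
      have : e₂.symm (g₂ x) = x := e₂.symm_apply_apply x
      rw [this]; exact hx
    · intro hy
      exact ⟨g₂ y, ⟨y, hy, rfl⟩, e₂.symm_apply_apply y⟩
  have hhsurj : Function.Surjective h := e₂.symm.surjective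
  obtain ⟨hT, hT'⟩ := exists_transpose h
  have hTinj : Function.Injective hT := transpose_injective hhsurj hT'
  have hTsurj : Function.Surjective hT := LinearMap.injective_iff_surjective.mp hTinj
  have hdlL'' : dl L'' = (pw n CK).comap (hT.restrictScalars O) := by
    rw [← hhL, dl_map hT', hdlL]
  have hhmem : ∀ z ∈ pw n B, h z ∈ pw n B := by
    intro z hz
    apply hL''L
    rw [← hhL]
    exact ⟨z, hz, rfl⟩
  refine ⟨M₁.map (hT.restrictScalars O), ?_, ?_,
    ⟨θ.trans (Submodule.equivMapOfInjective (hT.restrictScalars O) hTinj M₁)⟩, ?_⟩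
  · -- C^n ≤ M'
    intro c hc
    obtain ⟨y, rfl⟩ := hTsurj c
    refine ⟨y, ?_, rfl⟩
    rw [← hrefl]
    apply dl_anti hDL''
    rw [hdlL'']
    exact hc
  · -- M' ≤ L = dl C^n
    rw [← hdlC]
    rintro _ ⟨x, hx, rfl⟩
    intro c hc
    show c ⬝ᵥ hT x ∈ _
    rw [← hT']
    have hhc : h c ∈ pw n CK := by
      rw [pi_eq_sum_univ' c, map_sum]
      refine Submodule.sum_mem _ (fun i _ => ?_)
      rw [map_smul]
      have h5 : h (Pi.single i 1) ∈ pw n B := hhmem _ (hOL (single_mem_pw_one i))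
      rw [mem_pw]
      intro t
      show c i * h (Pi.single i 1) t ∈ CK
      rw [hCK, Submodule.mem_div_iff_forall_mul_mem]
      intro b' hb'
      rw [mul_assoc]
      exact (Submodule.mem_div_iff_forall_mul_mem.mp (mem_pw.mp hc i)) _
        (hBmul _ (mem_pw.mp h5 t) _ hb')
    have hx' : x ∈ dl (pw n CK) := by rw [hdlC]; exact hML hx
    exact hx' (h c) hhc
  · -- the length
    have hCn_eq : pw n CK = (dl L'').map (hT.restrictScalars O) := by
      rw [hdlL'', Submodule.map_comap_eq_of_surjective (f := hT.restrictScalars O) hTsurj]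
    rw [hCn_eq, qlen_map (hT.restrictScalars O) hTinj, ← hrefl,
      qlen_dl hE htyp hDL'' (hBD.mono hL''L) (hfinq hCD hDL'' hL''L)]
    have e3 : qlen D (pw n B) = qlen D L'' + qlen L'' (pw n B) := qlen_add hDL'' hL''L
    rw [hlen, e1, ← hb] at e3
    have e4 : qlen D L'' = qlen (pw n (1 : Submodule O K)) (pw n B) := by
      rw [add_comm] at e3
      exact (ENat.add_left_injective_of_ne_top (ENat.coe_ne_top b) e3).symm
    rw [e4, qlen_pw h1B]
    have e5 := qlen_div hFL hnf isLat_one hE isLat_one hBlat h1B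
    rw [div_one'] at e5
    rw [← e5]

end Main

end Groth.Agent.Helper8.VDual
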